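import Mathlib
import Cfsg.Prelude.Def_FusionComponents
import Cfsg.Prelude.Def_CaseTheorems
import Cfsg.Prelude.Def_Local
import Cfsg.Prelude.Def_Transfer
import Cfsg.Prelude.Def_Classical
import Cfsg.Prelude.Def_Spor_J3
import Cfsg.Agent.H802.FusBasic
import Cfsg.Prelude.Def_BaumannBlocks
import Cfsg.Agent.Transfer.Residual
import Cfsg.Agent.Lib.Cores
import Cfsg.Agent.H894.Orbit
import Cfsg.Agent.TwoFusion.PResidual
import Cfsg.Agent.H794.FusTop
import Cfsg.Agent.H802.FusNorm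
import Mathlib.LinearAlgebra.Matrix.SpecialLinearGroup
import Mathlib.Algebra.Group.End
import Mathlib.Data.Matrix.Basis
import Mathlib.Tactic
import Cfsg.Agent.H752.Mp
import Cfsg.Agent.H802.FusCentric
import Mathlib.Algebra.CharP.Two
import Mathlib.GroupTheory.PGroup
import Cfsg.Agent.Lib.AutSL2Out
import Cfsg.Agent.H259.Block
import Cfsg.Agent.H752.Ext
import Cfsg.Agent.H781.NormSys
import Cfsg.Agent.H802.FusKSat
import Cfsg.Agent.H759.FusSolvable
import Cfsg.Agent.H802.FusEss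
import Cfsg.Agent.H781.Transport
import Cfsg.Agent.H753.NormModel
import Cfsg.Agent.H771.ModelUnique
import Cfsg.Agent.H802.FusKNorm
import Cfsg.Agent.S5098
import Cfsg.Agent.H781.Realized
import Cfsg.Agent.FastGrp
import Cfsg.Agent.Prune
set_option linter.all false

section
prune_inst 0x7f00000000000000000000000000000000000000000000000000000000000000000000000000000000000000000000000000000000000000000000000000000000000000000000000000000000000000003fffffffffffffffffffffffffffbeffbdffffffff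

section
prune_inst 0xb0fcfb0ff83ddfdfff7e7fffd5dffc39905fffefdff94bffe0e9ff0f9f03020de52b858de010ff1ef6629410b87853fdffca3fea6bdc7ffffd5ff45ffbee0fe5f6bd0851968c340f380fff03f06f8e7f000000000000000000000000000000004200000000

-- part: H756/HM/Defs
section
set_option linter.all false
open scoped Cfsg.Agent.FastGrp

/-!
# S5175 (Henke's theorem): common definitions

Plan: `outputs/live/tools/plans/S5175.md`.
-/

set_option autoImplicit false

namespace Cfsg.Agent.H756.HM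

open Cfsg Cfsg.FusionSystem
open scoped commutatorElement

universe u

/-! ### The hypotheses and the conclusion of S5175 -/

section
variable {Ω : Type*} [Group Ω] {S : Subgroup Ω}

/-- all local subsystems are solvable -/
def HMin (F : FusionSystem S) : Prop :=
  ∀ U : Subgroup Ω, U ≠ ⊥ → F.IsFullyNormalized U →
    ∀ E : FusionSystem (normalizerIn S U), F.IsNormalizerSystem U E → E.IsSolvableSystem

/-- `N` contains the full parabolics of `F` -/
def HPar (F N : FusionSystem S) : Prop :=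
  ∀ R : Subgroup Ω, R ≠ ⊥ → R ≤ S → S ≤ Subgroup.normalizer (R : Set Ω) →
    (∀ P : Subgroup Ω, F.normalizerHom S P ⊆ F.normalizerHom R P) →
    ∀ P : Subgroup Ω, F.normalizerHom R P ⊆ N.Hom P

/-- `N_F(C) ≤ N` -/
def NN (F N : FusionSystem S) (C : Subgroup Ω) : Prop :=
  ∀ P : Subgroup Ω, F.normalizerHom C P ⊆ N.Hom P

/-- conjugate `x V x⁻¹` -/
abbrev cj (x : Ω) (V : Subgroup Ω) : Subgroup Ω := V.map (MulAut.conj x).toMonoidHom

/-- the fixed points in `V` of a group `E` of automorphisms of `V`, as a subgroup of `Ω` -/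
def fixS (V : Subgroup Ω) (E : Subgroup (MulAut V)) : Subgroup Ω :=
  ({ carrier := {v : V | ∀ e ∈ E, e v = v}
     one_mem' := fun e _ => map_one e
     mul_mem' := fun {a b} ha hb e he => by rw [map_mul, ha e he, hb e he]
     inv_mem' := fun {a} ha e he => by rw [map_inv, ha e he] } : Subgroup V).map V.subtype

/-- `[V, E]`, as a subgroup of `Ω` -/
def comS (V : Subgroup Ω) (E : Subgroup (MulAut V)) : Subgroup Ω :=
  (Subgroup.closure {y : V | ∃ v : V, ∃ e ∈ E, y = v⁻¹ * e v}).map V.subtype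

end

/-- The conclusion of S5175. -/
def Concl {Ω : Type u} [Group Ω] {S : Subgroup Ω} (F : FusionSystem S) : Prop :=
    ∃ (G : Type u) (_ : Group G) (_ : Finite G) (ι : ↥S →* G),
      F.IsRealizedBy ι ∧ (∃ T : Sylow 2 G, (T : Subgroup G) = ι.range) ∧
      (((∃ m : ℕ, 8 ≤ m ∧ Nonempty (↥S ≃* DihedralGroup m)) ∧
          ∃ (K : Type) (_ : Field K) (_ : Fintype K), Odd (Fintype.card K) ∧
            (Nonempty (G ≃* Matrix.ProjectiveSpecialLinearGroup (Fin 2) K) ∨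
              Nonempty (G ≃* GL (Fin 2) K ⧸ Subgroup.center (GL (Fin 2) K)))) ∨
        (Cfsg.IsQuasiDihedral ↥S ∧
          ∃ (K : Type) (_ : Field K) (_ : Fintype K) (r : ℕ), Odd r ∧ Fintype.card K = r ^ 2 ∧
            ∃ L : Subgroup G, L.Normal ∧ L.index = 2 ∧ Subgroup.centralizer (L : Set G) = ⊥ ∧
              Nonempty (↥L ≃* Matrix.ProjectiveSpecialLinearGroup (Fin 2) K)) ∨
        (Cfsg.IsQuasiDihedral ↥S ∧ Nat.card S = 16 ∧
          Nonempty (G ≃* Matrix.ProjectiveSpecialLinearGroup (Fin 3) (ZMod 3))) ∨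
        (Nat.card S = 32 ∧ (Nonempty (G ≃* MulAut ↥(alternatingGroup (Fin 6))) ∨
          Nonempty (G ≃* MulAut (Matrix.ProjectiveSpecialLinearGroup (Fin 3) (ZMod 3))))) ∨
        (Nat.card S = 2 ^ 7 ∧ Cfsg.Spor.IsoJ3 G) ∨
        (∃ (K : Type) (_ : Field K) (_ : Fintype K),
          (Nonempty (↥(Cfsg.generalizedFittingSubgroup G) ≃* Matrix.ProjectiveSpecialLinearGroup (Fin 3) K) ∨
            (Nonempty (↥(Cfsg.generalizedFittingSubgroup G) ≃* Cfsg.PSp 2 K) ∧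
              ∃ e : ℕ, Odd e ∧ Fintype.card K = 2 ^ e)) ∧
          Cfsg.generalizedFittingSubgroup G ≤ Cfsg.pResidual 2 G ∧
          Odd ((Cfsg.generalizedFittingSubgroup G).subgroupOf (Cfsg.pResidual 2 G)).index ∧
          (Cfsg.pResidual 2 G).index = 2))

/-! ### Output of the first local analysis (fusion side) -/

/-- `T ≤ S`, `P` a finite 2-minimal group of characteristic 2 with Sylow 2-subgroup `T` whose fusion on `T` lies in `F`
(but not in `N`), no nontrivial characteristic subgroup of `T` is normal in `P`, and the pushing-up conditions. -/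
structure Sit {Ω : Type u} [Group Ω] {S : Subgroup Ω} (F : FusionSystem S) (T : Subgroup Ω)
    (P : Type u) [Group P] where
  fin : Finite P
  T_le : T ≤ S
  T_ne : T ≠ ⊥
  ι : T →* P
  inj : Function.Injective ι
  syl : ∃ R : Sylow 2 P, (R : Subgroup P) = ι.range
  char2 : Subgroup.centralizer (pCore 2 P : Set P) ≤ pCore 2 P
  pmin : IsPMinimal 2 P
  /-- the fusion of `P` on `T` is in `F` -/
  fus : ∀ (A : Subgroup Ω) (hA : A ≤ T) (g : P) (φ : A →* Ω) (hφ : ∀ a : A, φ a ∈ T),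
    (∀ a : A, ι ⟨φ a, hφ a⟩ = g * ι ⟨a, hA a.2⟩ * g⁻¹) → φ ∈ F.Hom A
  /-- no nontrivial characteristic subgroup of `T` is normal in `P` -/
  nchar : ∀ C : Subgroup T, C.Characteristic → C ≠ ⊥ → ¬ (C.map ι).Normal
  /-- nontrivial subgroups of `T` normal in `P` are fully normalized in `F` with normalizer `T` -/
  fnorm : ∀ D : Subgroup Ω, D ≤ T → D ≠ ⊥ → ((D.subgroupOf T).map ι).Normal →
    F.IsFullyNormalized D ∧ normalizerIn S D = T
  /-- the two cases -/
  alt : (T = S ∧ ∀ D : Subgroup T, D ≠ ⊥ →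
        (∀ β : MulAut T, T.subtype.comp β.toMonoidHom ∈ F.Hom T → D.map β.toMonoidHom = D) →
        ¬ (D.map ι).Normal) ∨
    ((∃ x ∈ S, x ∈ Subgroup.normalizer (T : Set Ω) ∧ x ∉ T ∧ x ^ 2 ∈ T) ∧
      ∀ x ∈ S, x ∈ Subgroup.normalizer (T : Set Ω) → x ∉ T →
        ∀ D : Subgroup Ω, D ≤ T → D ≠ ⊥ → cj x D = D → ¬ ((D.subgroupOf T).map ι).Normal)

/-! ### Output of the block analysis (group side) -/

/-- Basic facts on `W = [O_2(P), O²(P)]`: it is elementary abelian, central in `O_2(P)`, and `C_T(W) = O_2(P)`. -/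
structure BW {P : Type*} [Group P] (T : Subgroup P) : Prop where
  W_comm : ∀ w ∈ ⁅pCore 2 P, pResidual 2 P⁆, ∀ g ∈ pCore 2 P, w * g = g * w
  W_sq : ∀ w ∈ ⁅pCore 2 P, pResidual 2 P⁆, w ^ 2 = 1
  CTW : T ⊓ Subgroup.centralizer (⁅pCore 2 P, pResidual 2 P⁆ : Subgroup P) = pCore 2 P

/-- The blocks of `P`: `O²(P)` is the product of the pairwise commuting subgroups `E i`, transitively permuted by `T`,
with `W_i = [O_2(P), E_i] = O_2(E_i)`, all linear over the same field with at least 4 elements, or all symmetric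
(degree `2m+1 ≥ 3`; degree 3 is the linear case over the field with 2 elements). -/
structure Blk {P : Type*} [Group P] (T : Subgroup P) where
  I : Type
  fin : Finite I
  ne : Nonempty I
  E : I → Subgroup P
  inj : Function.Injective E
  comm : ∀ i j, i ≠ j → ⁅E i, E j⁆ = ⊥
  sup : (⨆ i, E i) = pResidual 2 P
  perm : ∀ t ∈ T, ∀ i, ∃ j, (E i).map (MulAut.conj t).toMonoidHom = E j
  trans : ∀ i j, ∃ t ∈ T, (E i).map (MulAut.conj t).toMonoidHom = E j
  core : ∀ i, pCoreOf 2 (E i) = ⁅pCore 2 P, E i⁆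
  perf : ∀ i, ⁅⁅pCore 2 P, E i⁆, E i⁆ = ⁅pCore 2 P, E i⁆
  two : ∀ i, pResidualOf 2 (E i) = E i
  bw : BW T
  /-- `T / O_2(P)` acts faithfully on `W / C_W(O²(P))` -/
  faith : ∀ t ∈ T, (∀ w ∈ ⁅pCore 2 P, pResidual 2 P⁆, ⁅t, w⁆ ∈ Subgroup.centralizer (pResidual 2 P : Set P)) →
    t ∈ pCore 2 P
  typ : (∃ (K : Type) (_ : Field K) (_ : Fintype K) (n : ℕ), 2 ≤ n ∧ Fintype.card K = 2 ^ n ∧
      ∀ i, ∃ (ρ : ↥(E i) →* Matrix.SpecialLinearGroup (Fin 2) K)
        (ψ : ↥(⁅pCore 2 P, E i⁆ : Subgroup P) →* Multiplicative (Fin 2 → K)),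
        Function.Surjective ρ ∧
        (∀ e, ρ e = 1 ↔ (e : P) ∈ ⁅pCore 2 P, E i⁆) ∧ Function.Surjective ψ ∧
        (∀ w, ψ w = 1 ↔ (w : P) ∈ Subgroup.centralizer (E i : Set P)) ∧
        ∀ (e : E i) (w w' : ↥(⁅pCore 2 P, E i⁆ : Subgroup P)), (w' : P) = (e : P) * w * (e : P)⁻¹ →
          Multiplicative.toAdd (ψ w') =
            ((ρ e : Matrix.SpecialLinearGroup (Fin 2) K) : Matrix (Fin 2) (Fin 2) K).mulVec
              (Multiplicative.toAdd (ψ w))) ∨
    (∃ m : ℕ, 1 ≤ m ∧ (∃ k : ℕ, 2 * m = 2 ^ k) ∧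
      ∀ i, ∃ (ρ : ↥(E i) →* Equiv.Perm (Fin (2 * m + 1)))
        (ψ : ↥(⁅pCore 2 P, E i⁆ : Subgroup P) →* Multiplicative (Fin (2 * m + 1) → ZMod 2)),
        ρ.range = alternatingGroup (Fin (2 * m + 1)) ∧
        (∀ e, ρ e = 1 ↔ (e : P) ∈ ⁅pCore 2 P, E i⁆) ∧
        (∀ w, ∑ k, Multiplicative.toAdd (ψ w) k = 0) ∧
        (∀ v : Fin (2 * m + 1) → ZMod 2, ∑ k, v k = 0 → ∃ w, Multiplicative.toAdd (ψ w) = v) ∧
        (∀ w, ψ w = 1 ↔ (w : P) ∈ Subgroup.centralizer (E i : Set P)) ∧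
        ∀ (e : E i) (w w' : ↥(⁅pCore 2 P, E i⁆ : Subgroup P)), (w' : P) = (e : P) * w * (e : P)⁻¹ →
          ∀ k, Multiplicative.toAdd (ψ w') k = Multiplicative.toAdd (ψ w) ((ρ e)⁻¹ k))

/-- Linear rank one data: `E T₀` acts on `W / C_W(E)` as `SL₂(K)` on its natural module, `E = O²(P)`. -/
def LinOne (P : Type*) [Group P] (W T0 : Subgroup P) (q : ℕ) : Prop :=
  ∃ (K : Type) (_ : Field K) (_ : Fintype K) (n : ℕ), 1 ≤ n ∧ Fintype.card K = 2 ^ n ∧ Fintype.card K = q ∧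
    ∃ (ρ : ↥(pResidual 2 P ⊔ T0) →* Matrix.SpecialLinearGroup (Fin 2) K)
      (ψ : ↥W →* Multiplicative (Fin 2 → K)),
      Function.Surjective ρ ∧ (∀ g, ρ g = 1 ↔ (g : P) ∈ pCore 2 P) ∧
      Function.Surjective ψ ∧
      (∀ w : W, ψ w = 1 ↔ (w : P) ∈ Subgroup.centralizer (pResidual 2 P : Set P)) ∧
      ∀ (e : ↥(pResidual 2 P ⊔ T0)) (w w' : ↥W), (w' : P) = (e : P) * (w : P) * (e : P)⁻¹ →
        Multiplicative.toAdd (ψ w') =
          ((ρ e : Matrix.SpecialLinearGroup (Fin 2) K) : Matrix (Fin 2) (Fin 2) K).mulVec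
            (Multiplicative.toAdd (ψ w))

/-- Block data of a 2-minimal group `P` of characteristic 2 with Sylow 2-subgroup `T`, in which no nontrivial
characteristic subgroup of `T` is normal. `Q = O_2(P)`, `K = O^2(P)`. -/
structure BD {P : Type*} [Group P] (T : Subgroup P) where
  W : Subgroup P
  hW : W = ⁅pCore 2 P, pResidual 2 P⁆
  T0 : Subgroup P
  q : ℕ
  q_ge : 2 ≤ q
  W_le : W ≤ pCore 2 P
  W_normal : W.Normal
  W_comm : ∀ w ∈ W, ∀ g ∈ pCore 2 P, w * g = g * w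
  W_sq : ∀ w ∈ W, w ^ 2 = 1
  /-- `[Q, O²(P)] ≤ W` -/
  QK : ⁅pCore 2 P, pResidual 2 P⁆ ≤ W
  /-- `C_T(W) = Q` -/
  CTW : T ⊓ Subgroup.centralizer (W : Set P) = pCore 2 P
  Q_le_T0 : pCore 2 P ≤ T0
  T0_le : T0 ≤ T
  T0_ne : T0 ≠ pCore 2 P
  /-- offender bound for elementary abelian normal subgroups `X` of `T` -/
  off : ∀ X : Subgroup P, X ≤ T → T ≤ Subgroup.normalizer (X : Set P) →
    (∀ a ∈ X, ∀ b ∈ X, a * b = b * a) → (∀ a ∈ X, a ^ 2 = 1) →
    (pCore 2 P ⊓ X).relIndex X ≤ (W ⊓ Subgroup.centralizer (X : Set P)).relIndex W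
  /-- equality only for `X ≤ Q` or `X Q = T₀` -/
  off_eq : ∀ X : Subgroup P, X ≤ T → T ≤ Subgroup.normalizer (X : Set P) →
    (∀ a ∈ X, ∀ b ∈ X, a * b = b * a) → (∀ a ∈ X, a ^ 2 = 1) →
    (W ⊓ Subgroup.centralizer (X : Set P)).relIndex W ≤ (pCore 2 P ⊓ X).relIndex X →
    X ≤ pCore 2 P ∨ X ⊔ pCore 2 P = T0
  /-- `C_{T/Q}(T₀/Q) ≤ T₀/Q` -/
  cent : ∀ t ∈ T, (∀ a ∈ T0, ⁅t, a⁆ ∈ pCore 2 P) → t ∈ T0
  /-- one coordinate: if `[w, t]` is centralized by `O²(P)` then the `W`-coordinate of `w` or the coordinate of `t`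
  vanishes -/
  coord : ∃ Wu Ta : Subgroup P, W ⊓ Subgroup.centralizer (T0 : Set P) ≤ Wu ∧ ¬ W ≤ Wu ∧
    pCore 2 P ≤ Ta ∧ ¬ T0 ≤ Ta ∧
    ∀ w ∈ W, ∀ t ∈ T0, ⁅w, t⁆ ∈ Subgroup.centralizer (pResidual 2 P : Set P) → w ∈ Wu ∨ t ∈ Ta
  J : Type
  A : J → Subgroup P
  B : J → Subgroup P
  E : J → Subgroup P
  Jne : Nonempty J
  QA : ∀ j, pCore 2 P ≤ A j
  QB : ∀ j, pCore 2 P ≤ B j
  AB : ∀ j, A j ⊔ B j = T0
  Acard : ∀ j, (pCore 2 P).relIndex (A j) = q
  Bcard : ∀ j, (B j).relIndex T0 = q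
  E_le : ∀ j, E j ≤ pResidual 2 P
  /-- `[W_j, B_j] = 1` where `W_j = [Q, E_j]` -/
  WB : ∀ j, ∀ w ∈ ⁅pCore 2 P, E j⁆, ∀ b ∈ B j, w * b = b * w
  /-- `E_j` centralizes `[W, B_j]` -/
  EB : ∀ j, ∀ w ∈ W, ∀ b ∈ B j, ∀ e ∈ E j, e * ⁅w, b⁆ = ⁅w, b⁆ * e
  /-- for `a ∈ A_j \ Q`: `W = W_j C_W(a)` and `|W : C_W(a)| = q` -/
  Aa : ∀ j, ∀ a ∈ A j, a ∉ pCore 2 P →
    W ≤ ⁅pCore 2 P, E j⁆ ⊔ (W ⊓ Subgroup.centralizer ({a} : Set P)) ∧
      (W ⊓ Subgroup.centralizer ({a} : Set P)).relIndex W = q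
  /-- for `w ∈ W_j \ C(T₀)` and `a ∈ A_j \ Q` the commutator `[w, a]` is not centralized by `E_j` -/
  wa : ∀ j, ∀ w ∈ ⁅pCore 2 P, E j⁆, w ∉ Subgroup.centralizer (T0 : Set P) → ∀ a ∈ A j, a ∉ pCore 2 P →
    ⁅w, a⁆ ∉ Subgroup.centralizer (E j : Set P)
  /-- irreducibility: an `E_j`-invariant subgroup of `Q` not centralized by `E_j` contains `W_j` -/
  irr : ∀ j, ∀ X : Subgroup P, X ≤ pCore 2 P → E j ≤ Subgroup.normalizer (X : Set P) →
    ¬ X ≤ Subgroup.centralizer (E j : Set P) → ⁅pCore 2 P, E j⁆ ≤ X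
  /-- `W = C_W(T₀) ∏ W_j` -/
  Wsup : W ≤ (W ⊓ Subgroup.centralizer (T0 : Set P)) ⊔ ⨆ j, ⁅pCore 2 P, E j⁆
  dich : (∀ j, B j ≠ pCore 2 P) ∨ LinOne P W T0 q

/-! ### The configuration after the local analysis -/

/-- The main configuration: `V` elementary abelian, `C_S(V) = V`, `N_S(V) = T < S`, `x ∈ N_S(T) \ T`, and a subgroup
`E ≅ SL₂(K)` of `Aut_F(V)` acting naturally on `V / C_V(E)`, with `V^x` inducing a Sylow 2-subgroup of `E` on `V`. -/
structure Conf {Ω : Type*} [Group Ω] {S : Subgroup Ω} (F : FusionSystem S) (K : Type) [Field K] [Fintype K]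
    (V T : Subgroup Ω) (x : Ω) where
  n : ℕ
  hn : 1 ≤ n
  hK : Fintype.card K = 2 ^ n
  V_le : V ≤ S
  fn : F.IsFullyNormalized V
  nor : normalizerIn S V = T
  cent : centralizerIn S V = V
  el : ∀ v ∈ V, v ^ 2 = 1
  x_mem : x ∈ S
  x_nor : x ∈ Subgroup.normalizer (T : Set Ω)
  x_not : x ∉ T
  x_sq : x ^ 2 ∈ T
  E : Subgroup (MulAut V)
  E_le : E ≤ F.autGroup V
  ρ : E ≃* Matrix.SpecialLinearGroup (Fin 2) K
  ψ : V →* Multiplicative (Fin 2 → K)
  ψ_surj : Function.Surjective ψ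
  ψ_ker : ∀ v : V, ψ v = 1 ↔ (v : Ω) ∈ fixS V E
  ψ_eq : ∀ (e : E) (v : V), Multiplicative.toAdd (ψ ((e : MulAut V) v)) =
    ((ρ e : Matrix.SpecialLinearGroup (Fin 2) K) : Matrix (Fin 2) (Fin 2) K).mulVec (Multiplicative.toAdd (ψ v))
  A_le : autInducedBy (cj x V) V ≤ E
  A_card : Nat.card (autInducedBy (cj x V) V) = Fintype.card K
  T_nor : ∀ t ∈ autInducedBy T V, ∀ e ∈ E, t * e * t⁻¹ ∈ E
  DD : fixS V E ⊓ cj x (fixS V E) = ⊥

/-- The configuration for `q ≥ 4` after excluding field automorphisms in `T`. -/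
structure Big {Ω : Type*} [Group Ω] {S : Subgroup Ω} (F : FusionSystem S) (K : Type) [Field K] [Fintype K]
    (V T : Subgroup Ω) (x : Ω) extends Conf F K V T x where
  q4 : 4 ≤ Fintype.card K
  T_eq : T = V ⊔ cj x V
  S_idx : T.relIndex S = 2
  E_nor : ∀ a ∈ F.autGroup V, ∀ e ∈ toConf.E, a * e * a⁻¹ ∈ toConf.E
  typ : fixS V toConf.E = ⊥ ∨ (Nat.card (fixS V toConf.E) = Fintype.card K ∧ comS V toConf.E = V)

end Cfsg.Agent.H756.HM
end

-- part: H756/HM/Stmts
section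
set_option linter.all false

/-!
# S5175: the exact statements of the tasks, as propositions

Each task proves one `St...` (a theorem `foo : St...`, any universe). The assembly uses only these.
-/

set_option autoImplicit false

namespace Cfsg.Agent.H756.HM

open Cfsg Cfsg.FusionSystem
open scoped commutatorElement

universe u

/-! ### T1 -/

/-- T1: the situation. -/
def StSit : Prop :=
  ∀ {Ω : Type u} [Group Ω] {S : Subgroup Ω} [Finite S], IsPGroup 2 S →
    ∀ (F : FusionSystem S), F.IsSaturated 2 → HMin F →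
    ∀ (N : FusionSystem S), N.IsSaturated 2 → N ≤ F → N ≠ F → HPar F N →
    ∃ (T : Subgroup Ω) (P : Type u) (_ : Group P), Nonempty (Sit F T P)

/-! ### T2 -/

/-- T2a: chains in centralizers. -/
def StChain : Prop :=
  ∀ {Ω : Type u} [Group Ω] {S : Subgroup Ω} [Finite S], IsPGroup 2 S →
    ∀ (F : FusionSystem S), F.IsSaturated 2 → HMin F →
    ∀ U : Subgroup Ω, U ≤ S → U ≠ ⊥ →
    ∃ (n : ℕ) (C : ℕ → Subgroup Ω), C 0 = ⊥ ∧ C n = centralizerIn S U ∧ Monotone C ∧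
      (∀ i, ⁅C (i + 1), C (i + 1)⁆ ≤ C i) ∧
      ∀ i, ∀ P : Subgroup Ω, P ≤ C i → ∀ φ ∈ F.centralizerHom U P, ∀ x : P, φ x ∈ C i

/-- T2b: chains in normalizers of fully normalized subgroups. -/
def StChainN : Prop :=
  ∀ {Ω : Type u} [Group Ω] {S : Subgroup Ω} [Finite S], IsPGroup 2 S →
    ∀ (F : FusionSystem S), F.IsSaturated 2 → HMin F →
    ∀ U : Subgroup Ω, F.IsFullyNormalized U → U ≠ ⊥ →
    ∃ (n : ℕ) (C : ℕ → Subgroup Ω), C 0 = ⊥ ∧ C n = normalizerIn S U ∧ Monotone C ∧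
      (∀ i, ⁅C (i + 1), C (i + 1)⁆ ≤ C i) ∧
      ∀ i, ∀ P : Subgroup Ω, P ≤ C i → ∀ φ ∈ F.normalizerHom U P, ∀ x : P, φ x ∈ C i

/-! ### T3 - T5: the group `P` -/

/-- T3: blocks. -/
def StBlk : Prop :=
  ∀ {P : Type u} [Group P] [Finite P] (T : Sylow 2 P), IsPMinimal 2 P →
    Subgroup.centralizer (pCore 2 P : Set P) ≤ pCore 2 P →
    (∀ C : Subgroup ↥(T : Subgroup P), C.Characteristic → C ≠ ⊥ → ¬ (C.map (T : Subgroup P).subtype).Normal) →
    Nonempty (Blk (T : Subgroup P))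

/-- T4: the offender bound. -/
def StOff : Prop :=
  ∀ {P : Type u} [Group P] [Finite P] (T : Sylow 2 P), Blk (T : Subgroup P) →
    ∀ X : Subgroup P, X ≤ T → (T : Subgroup P) ≤ Subgroup.normalizer (X : Set P) →
    (∀ a ∈ X, ∀ b ∈ X, a * b = b * a) → (∀ a ∈ X, a ^ 2 = 1) →
    (pCore 2 P ⊓ X).relIndex X ≤
      (⁅pCore 2 P, pResidual 2 P⁆ ⊓ Subgroup.centralizer (X : Set P)).relIndex ⁅pCore 2 P, pResidual 2 P⁆

/-- T5: the block data, once there is an offender with equality not contained in `O_2(P)`. -/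
def StBD : Prop :=
  ∀ {P : Type u} [Group P] [Finite P] (T : Sylow 2 P), Blk (T : Subgroup P) →
    ∀ X : Subgroup P, X ≤ T → (T : Subgroup P) ≤ Subgroup.normalizer (X : Set P) →
    (∀ a ∈ X, ∀ b ∈ X, a * b = b * a) → (∀ a ∈ X, a ^ 2 = 1) → ¬ X ≤ pCore 2 P →
    (⁅pCore 2 P, pResidual 2 P⁆ ⊓ Subgroup.centralizer (X : Set P)).relIndex ⁅pCore 2 P, pResidual 2 P⁆ ≤
      (pCore 2 P ⊓ X).relIndex X →
    Nonempty (BD (T : Subgroup P))

/-! ### T6, T7 -/

/-- T6: the case `T = S`: there is a nontrivial `𝔸`-invariant subgroup of `T` normal in `P`. -/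
def StTop : Prop :=
  ∀ {P : Type u} [Group P] [Finite P] (T : Sylow 2 P), (T : Subgroup P) ≠ ⊥ → BW (T : Subgroup P) →
    (∀ β : MulAut ↥(T : Subgroup P),
      (∃ w : ↥(T : Subgroup P), (w : P) ∈ ⁅pCore 2 P, pResidual 2 P⁆ ∧ ((β w : ↥(T : Subgroup P)) : P) ∉ pCore 2 P) →
      Nonempty (BD (T : Subgroup P))) →
    ∀ 𝔸 : Subgroup (MulAut ↥(T : Subgroup P)), (MulAut.conj : ↥(T : Subgroup P) →* MulAut ↥(T : Subgroup P)).range ≤ 𝔸 →
    Odd ((MulAut.conj : ↥(T : Subgroup P) →* MulAut ↥(T : Subgroup P)).range.relIndex 𝔸) →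
    ⁅pCore 2 P, pResidual 2 P⁆ ≠ ⊥ →
    ∃ D : Subgroup ↥(T : Subgroup P), D ≠ ⊥ ∧ (D.map (T : Subgroup P).subtype).Normal ∧
      ∀ β ∈ 𝔸, D.map β.toMonoidHom = D

/-- two directions: `E₁` acting on `V` and `E₂` acting on `V` (so `E₂^ξ` on `V^ξ`), both centralizing `U ≠ 1` -/
def TwoDir {P : Type*} [Group P] (T : Subgroup P) (ξ : MulAut T) : Prop :=
  ∃ (E₁ E₂ : Subgroup P) (U : Subgroup T), U ≠ ⊥ ∧
    U ≤ (pCore 2 P).subgroupOf T ∧ U ≤ ((pCore 2 P).subgroupOf T).map ξ.toMonoidHom ∧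
    (∀ u ∈ U, ∀ e ∈ E₁, e * (u : P) = u * e) ∧
    (∀ u ∈ U, ∀ e ∈ E₂, e * ((ξ⁻¹ u : T) : P) = (ξ⁻¹ u : T) * e) ∧
    (∀ X : Subgroup P, X ≤ pCore 2 P → E₁ ≤ Subgroup.normalizer (X : Set P) →
      ¬ X ≤ Subgroup.centralizer (E₁ : Set P) → ⁅pCore 2 P, E₁⁆ ≤ X) ∧
    (∀ X : Subgroup P, X ≤ pCore 2 P → E₂ ≤ Subgroup.normalizer (X : Set P) →
      ¬ X ≤ Subgroup.centralizer (E₂ : Set P) → ⁅pCore 2 P, E₂⁆ ≤ X) ∧
    ∃ w₁ w₂ : T, (w₁ : P) ∈ ⁅pCore 2 P, E₁⁆ ∧ (w₂ : P) ∈ ⁅pCore 2 P, E₂⁆ ∧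
      ((⁅w₁, ξ w₂⁆ : T) : P) ∉ Subgroup.centralizer (E₁ : Set P) ∧
      ((ξ⁻¹ ⁅w₁, ξ w₂⁆ : T) : P) ∉ Subgroup.centralizer (E₂ : Set P)

/-- the result of the swap analysis for `P`, `T`, `ξ` -/
structure Swap {P : Type*} [Group P] (T : Subgroup P) (ξ : MulAut T) (d : BD T) : Prop where
  comm : ∀ a ∈ pCore 2 P, ∀ b ∈ pCore 2 P, a * b = b * a
  sq : ∀ a ∈ pCore 2 P, a ^ 2 = 1
  CT : T ⊓ Subgroup.centralizer (pCore 2 P : Set P) = pCore 2 P
  T0 : (pCore 2 P).subgroupOf T ⊔ ((pCore 2 P).subgroupOf T).map ξ.toMonoidHom = d.T0.subgroupOf T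
  /-- `D ∩ D^ξ = 1` for `D = C_{O_2(P)}(O²(P))` -/
  DD : (pCore 2 P ⊓ Subgroup.centralizer (pResidual 2 P : Set P)).subgroupOf T ⊓
    ((pCore 2 P ⊓ Subgroup.centralizer (pResidual 2 P : Set P)).subgroupOf T).map ξ.toMonoidHom = ⊥

/-- T7a: swap, first part. -/
def StSwap : Prop :=
  ∀ {P : Type u} [Group P] [Finite P] (T : Sylow 2 P), BW (T : Subgroup P) → ∀ d : BD (T : Subgroup P),
    ∀ ξ : MulAut ↥(T : Subgroup P), (∃ t : ↥(T : Subgroup P), ξ * ξ = MulAut.conj t) →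
    (∀ D : Subgroup ↥(T : Subgroup P), D ≠ ⊥ → (D.map (T : Subgroup P).subtype).Normal →
      D.map ξ.toMonoidHom ≠ D) →
    Swap (T : Subgroup P) ξ d

/-- T7b: two directions if the block data do not have rank one. -/
def StTwoDir : Prop :=
  ∀ {P : Type u} [Group P] [Finite P] (T : Sylow 2 P) (d : BD (T : Subgroup P))
    (ξ : MulAut ↥(T : Subgroup P)), (∃ t : ↥(T : Subgroup P), ξ * ξ = MulAut.conj t) →
    Swap (T : Subgroup P) ξ d → (∀ j, d.B j ≠ pCore 2 P) → TwoDir (T : Subgroup P) ξ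

/-- T7c: two directions contradict solvability of the local subsystems. -/
def StKill : Prop :=
  ∀ {Ω : Type u} [Group Ω] {S : Subgroup Ω} [Finite S], IsPGroup 2 S →
    ∀ (F : FusionSystem S), F.IsSaturated 2 → HMin F →
    ∀ (T : Subgroup Ω) (P : Type u) [Group P] (s : Sit F T P) (x : Ω), x ∈ S →
    x ∈ Subgroup.normalizer (T : Set Ω) → x ∉ T → x ^ 2 ∈ T →
    (∀ a ∈ pCore 2 P, ∀ b ∈ pCore 2 P, a * b = b * a) →
    ∀ ξ : MulAut ↥(s.ι.range), (∀ t : T, ∀ h : x * t * x⁻¹ ∈ T, ((ξ ⟨s.ι t, ⟨t, rfl⟩⟩ : ↥(s.ι.range)) : P) =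
      s.ι ⟨x * t * x⁻¹, h⟩) → ¬ TwoDir s.ι.range ξ

/-- T7d: the configuration, from rank one linear block data. -/
def StConf : Prop :=
  ∀ {Ω : Type u} [Group Ω] {S : Subgroup Ω} [Finite S], IsPGroup 2 S →
    ∀ (F : FusionSystem S), F.IsSaturated 2 →
    ∀ (T : Subgroup Ω) (P : Type u) [Group P] (s : Sit F T P) (x : Ω), x ∈ S →
    x ∈ Subgroup.normalizer (T : Set Ω) → x ∉ T → x ^ 2 ∈ T →
    ∀ ξ : MulAut ↥(s.ι.range), (∀ t : T, ∀ h : x * t * x⁻¹ ∈ T, ((ξ ⟨s.ι t, ⟨t, rfl⟩⟩ : ↥(s.ι.range)) : P) =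
      s.ι ⟨x * t * x⁻¹, h⟩) →
    ∀ d : BD s.ι.range, Swap s.ι.range ξ d → LinOne P d.W d.T0 d.q →
    ∃ (K : Type) (_ : Field K) (_ : Fintype K) (V : Subgroup Ω), Nonempty (Conf F K V T x)

/-! ### q ≥ 4 -/

/-- T8 -/
def StNor : Prop :=
  ∀ {Ω : Type u} [Group Ω] {S : Subgroup Ω} [Finite S], IsPGroup 2 S →
    ∀ (F : FusionSystem S), F.IsSaturated 2 → HMin F →
    ∀ (K : Type) [Field K] [Fintype K] (V T : Subgroup Ω) (x : Ω) (c : Conf F K V T x), 4 ≤ Fintype.card K →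
    ∀ a ∈ F.autGroup V, ∀ e ∈ c.E, a * e * a⁻¹ ∈ c.E

/-- T9 -/
def StTyp : Prop :=
  ∀ {Ω : Type u} [Group Ω] {S : Subgroup Ω} [Finite S], IsPGroup 2 S →
    ∀ (F : FusionSystem S), F.IsSaturated 2 →
    ∀ (K : Type) [Field K] [Fintype K] (V T : Subgroup Ω) (x : Ω) (c : Conf F K V T x), 4 ≤ Fintype.card K →
    (∀ a ∈ F.autGroup V, ∀ e ∈ c.E, a * e * a⁻¹ ∈ c.E) →
    fixS V c.E = ⊥ ∨ (Nat.card (fixS V c.E) = Fintype.card K ∧ comS V c.E = V)

/-- T10 -/
def StField : Prop :=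
  ∀ {Ω : Type u} [Group Ω] {S : Subgroup Ω} [Finite S], IsPGroup 2 S →
    ∀ (F : FusionSystem S), F.IsSaturated 2 → HMin F →
    ∀ (K : Type) [Field K] [Fintype K] (V T : Subgroup Ω) (x : Ω) (c : Conf F K V T x), 4 ≤ Fintype.card K →
    (∀ a ∈ F.autGroup V, ∀ e ∈ c.E, a * e * a⁻¹ ∈ c.E) →
    (fixS V c.E = ⊥ ∨ (Nat.card (fixS V c.E) = Fintype.card K ∧ comS V c.E = V)) →
    T = V ⊔ cj x V

/-- T11 -/
def StIdx : Prop :=
  ∀ {Ω : Type u} [Group Ω] {S : Subgroup Ω} [Finite S], IsPGroup 2 S →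
    ∀ (F : FusionSystem S), F.IsSaturated 2 →
    ∀ (K : Type) [Field K] [Fintype K] (V T : Subgroup Ω) (x : Ω) (c : Conf F K V T x), 4 ≤ Fintype.card K →
    T = V ⊔ cj x V → (fixS V c.E = ⊥ ∨ (Nat.card (fixS V c.E) = Fintype.card K ∧ comS V c.E = V)) →
    T.relIndex S = 2

/-- T12: essential subgroups not contained in `T` occur only for `q = 4`, `|V| = 16`; then they have order 32. -/
def StEss : Prop :=
  ∀ {Ω : Type u} [Group Ω] {S : Subgroup Ω} [Finite S], IsPGroup 2 S →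
    ∀ (F : FusionSystem S), F.IsSaturated 2 →
    ∀ (K : Type) [Field K] [Fintype K] (V T : Subgroup Ω) (x : Ω) (b : Big F K V T x) (R : Subgroup Ω),
    F.IsEssential 2 R → ¬ R ≤ T →
    Fintype.card K = 4 ∧ fixS V b.E = ⊥ ∧ Nat.card R = 32 ∧ V ⊓ cj x V ≤ R ∧
      S ≤ Subgroup.normalizer (R : Set Ω) ∧ Nat.card (Subgroup.center R) = 2 ∧
      (∃ α ∈ F.autGroup R, ∃ z : R, (z : Ω) ∈ V ⊓ cj x V ∧ ((α z : R) : Ω) ∉ T)

/-- T12': essential subgroups inside `T`. -/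
def StEssT : Prop :=
  ∀ {Ω : Type u} [Group Ω] {S : Subgroup Ω} [Finite S], IsPGroup 2 S →
    ∀ (F : FusionSystem S), F.IsSaturated 2 →
    ∀ (K : Type) [Field K] [Fintype K] (V T : Subgroup Ω) (x : Ω), Big F K V T x → ∀ (R : Subgroup Ω),
    F.IsEssential 2 R → R ≤ T → R = V ∨ R = cj x V ∨ R = T

/-- L -/
def StL : Prop :=
  ∀ {Ω : Type u} [Group Ω] {S : Subgroup Ω} [Finite S], IsPGroup 2 S →
    ∀ (F : FusionSystem S), F.IsSaturated 2 →
    ∀ (K : Type) [Field K] [Fintype K] (V T : Subgroup Ω) (x : Ω) (b : Big F K V T x),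
    fixS V b.E = ⊥ → (∀ R : Subgroup Ω, F.IsEssential 2 R → R ≤ T) → Concl F

/-- SP -/
def StSP : Prop :=
  ∀ {Ω : Type u} [Group Ω] {S : Subgroup Ω} [Finite S], IsPGroup 2 S →
    ∀ (F : FusionSystem S), F.IsSaturated 2 →
    ∀ (K : Type) [Field K] [Fintype K] (V T : Subgroup Ω) (x : Ω) (b : Big F K V T x),
    Nat.card (fixS V b.E) = Fintype.card K → comS V b.E = V →
    (∀ R : Subgroup Ω, F.IsEssential 2 R → R ≤ T) → Concl F

/-- J3 -/
def StJ : Prop :=
  ∀ {Ω : Type u} [Group Ω] {S : Subgroup Ω} [Finite S], IsPGroup 2 S →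
    ∀ (F : FusionSystem S), F.IsSaturated 2 →
    ∀ (K : Type) [Field K] [Fintype K] (V T : Subgroup Ω) (x : Ω) (b : Big F K V T x),
    Fintype.card K = 4 → fixS V b.E = ⊥ → (∃ R : Subgroup Ω, F.IsEssential 2 R ∧ ¬ R ≤ T) → Concl F

/-! ### q = 2 -/

/-- Q2a: structure for `q = 2`. -/
def StQ : Prop :=
  ∀ {Ω : Type u} [Group Ω] {S : Subgroup Ω} [Finite S], IsPGroup 2 S →
    ∀ (F : FusionSystem S), F.IsSaturated 2 →
    ∀ (K : Type) [Field K] [Fintype K] (V T : Subgroup Ω) (x : Ω), Conf F K V T x → Fintype.card K = 2 →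
    (Nat.card V = 4 ∧ ∃ α ∈ F.autGroup V, orderOf α = 3) ∨
    (Nat.card S = 32 ∧ ∃ r w d : Ω, Subgroup.closure {r, w, d} = S ∧ orderOf r = 8 ∧ w ^ 2 = 1 ∧ d ^ 2 = 1 ∧
      w * r * w⁻¹ = r⁻¹ ∧ d * r * d⁻¹ = r ^ 5 ∧ w * d = d * w ∧ V = Subgroup.closure {r ^ 4, w, d} ∧
      ∃ α ∈ F.autGroup V, orderOf α = 3 ∧ (∀ v : V, (v : Ω) = d → α v = v) ∧
        ∀ v : V, (v : Ω) ∈ Subgroup.closure {r ^ 4, w} → ((α v : V) : Ω) ∈ Subgroup.closure {r ^ 4, w})

/-- Q2b: self-centralizing four-group, `S` dihedral. -/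
def StDih : Prop :=
  ∀ {Ω : Type u} [Group Ω] {S : Subgroup Ω} [Finite S], IsPGroup 2 S →
    ∀ (F : FusionSystem S), F.IsSaturated 2 →
    ∀ m : ℕ, 8 ≤ m → Nonempty (↥S ≃* DihedralGroup m) →
    ∀ V : Subgroup Ω, V ≤ S → Nat.card V = 4 → (∀ v ∈ V, v ^ 2 = 1) → (∃ α ∈ F.autGroup V, orderOf α = 3) → Concl F

/-- Q2c: self-centralizing four-group, `S` quasi-dihedral. -/
def StSD : Prop :=
  ∀ {Ω : Type u} [Group Ω] {S : Subgroup Ω} [Finite S], IsPGroup 2 S →
    ∀ (F : FusionSystem S), F.IsSaturated 2 → HMin F → Cfsg.IsQuasiDihedral ↥S →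
    ∀ V : Subgroup Ω, V ≤ S → Nat.card V = 4 → (∀ v ∈ V, v ^ 2 = 1) → (∃ α ∈ F.autGroup V, orderOf α = 3) → Concl F

/-- Q2d: `S = Hol(C_8)`, order 32. -/
def StHol : Prop :=
  ∀ {Ω : Type u} [Group Ω] {S : Subgroup Ω} [Finite S], IsPGroup 2 S →
    ∀ (F : FusionSystem S), F.IsSaturated 2 → Nat.card S = 32 →
    ∀ r w d : Ω, Subgroup.closure {r, w, d} = S → orderOf r = 8 → w ^ 2 = 1 → d ^ 2 = 1 →
      w * r * w⁻¹ = r⁻¹ → d * r * d⁻¹ = r ^ 5 → w * d = d * w →
      ∀ V : Subgroup Ω, V = Subgroup.closure {r ^ 4, w, d} →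
      (∃ α ∈ F.autGroup V, orderOf α = 3 ∧ (∀ v : V, (v : Ω) = d → α v = v) ∧
        ∀ v : V, (v : Ω) ∈ Subgroup.closure {r ^ 4, w} → ((α v : V) : Ω) ∈ Subgroup.closure {r ^ 4, w}) → Concl F

/-- Q2e: a 2-group with a self-centralizing four-group `V` which is properly contained in a proper subgroup
`N_S(V) < S` is dihedral or quasi-dihedral of order at least 16. -/
def StMax : Prop :=
  ∀ {Ω : Type u} [Group Ω] {S : Subgroup Ω} [Finite S], IsPGroup 2 S →
    ∀ V : Subgroup Ω, V ≤ S → Nat.card V = 4 → (∀ v ∈ V, v ^ 2 = 1) → centralizerIn S V = V →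
    normalizerIn S V ≠ S →
    (∃ m : ℕ, 8 ≤ m ∧ Nonempty (↥S ≃* DihedralGroup m)) ∨ Cfsg.IsQuasiDihedral ↥S

end Cfsg.Agent.H756.HM
end

-- part: H124/SP/Defs
section
set_option linter.all false

/-!
# S5175, SP: the interface between the fusion side (SP1, helper869) and the group side (SP2, helper124)

`SpCo S T V K θ` : coordinates of `S` (Sylow 2-subgroup of `PSp₄(K)` extended by the polarity), `θ² = Frobenius`.
`StSP2` : coordinates with `Aut_F(V)` of the standard form give `Concl F`.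
-/

set_option autoImplicit false

namespace Cfsg.Agent.H124.SP

open Cfsg Cfsg.FusionSystem Cfsg.Agent.H756.HM

universe u

/-- the relations of the Sylow 2-subgroup of `PSp₄(K)` extended by a polarity -/
structure SpRel (H : Type*) [Group H] (K : Type*) [Field K] (θ : K ≃+* K) where
  xa : K → H
  xb : K → H
  xc : K → H
  xd : K → H
  y : H
  xa_add : ∀ s t, xa (s + t) = xa s * xa t
  xb_add : ∀ s t, xb (s + t) = xb s * xb t
  xc_add : ∀ s t, xc (s + t) = xc s * xc t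
  xd_add : ∀ s t, xd (s + t) = xd s * xd t
  ab : ∀ t u, xa t * xb u = xb u * xa t * xc (t * u) * xd (t ^ 2 * u)
  ac : ∀ t v, xa t * xc v = xc v * xa t
  ad : ∀ t w, xa t * xd w = xd w * xa t
  bc : ∀ u v, xb u * xc v = xc v * xb u
  bd : ∀ u w, xb u * xd w = xd w * xb u
  cd : ∀ v w, xc v * xd w = xd w * xc v
  y_sq : y * y = 1
  ya : ∀ t, y * xa t * y = xb (θ t)
  yc : ∀ v, y * xc v * y = xd (θ v)

/-- coordinates of `S` -/
structure SpCo {Ω : Type*} [Group Ω] (S T V : Subgroup Ω) (K : Type*) [Field K] (θ : K ≃+* K) extends SpRel Ω K θ where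
  inj : ∀ t u v w, xa t * xb u * xc v * xd w = 1 → t = 0 ∧ u = 0 ∧ v = 0 ∧ w = 0
  y_mem : y ∈ S
  y_not : y ∉ T
  hS : ∀ g, g ∈ S ↔ ∃ t u v w, g = xa t * xb u * xc v * xd w ∨ g = xa t * xb u * xc v * xd w * y
  hT : ∀ g, g ∈ T ↔ ∃ t u v w, g = xa t * xb u * xc v * xd w
  hV : ∀ g, g ∈ V ↔ ∃ u v w, g = xb u * xc v * xd w

/-- `g ∘ φ` in coordinates: symmetric matrices `X = [[w, v], [v, u]]`, `X ↦ g φ(X) gᵀ`; the triple is `(u, v, w)` -/
def act {K : Type*} [Field K] (g : GL (Fin 2) K) (φ : K ≃+* K) (m : K × K × K) : K × K × K :=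
  (g 1 0 ^ 2 * φ m.2.2 + g 1 1 ^ 2 * φ m.1,
   g 0 0 * g 1 0 * φ m.2.2 + g 0 1 * g 1 1 * φ m.1 + (g 0 0 * g 1 1 + g 0 1 * g 1 0) * φ m.2.1,
   g 0 0 ^ 2 * φ m.2.2 + g 0 1 ^ 2 * φ m.1)

/-- the automorphism `α` of `V` is `X ↦ g φ(X) gᵀ` in the coordinates `co` -/
def IsAct {Ω : Type*} [Group Ω] {S T V : Subgroup Ω} {K : Type*} [Field K] {θ : K ≃+* K} (co : SpCo S T V K θ)
    (g : GL (Fin 2) K) (φ : K ≃+* K) (α : MulAut V) : Prop :=
  ∀ (u v w : K) (h : co.xb u * co.xc v * co.xd w ∈ V),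
    ((α ⟨co.xb u * co.xc v * co.xd w, h⟩ : V) : Ω) =
      co.xb (act g φ (u, v, w)).1 * co.xc (act g φ (u, v, w)).2.1 * co.xd (act g φ (u, v, w)).2.2

/-- SP2: coordinates for `S` and the standard form of `Aut_F(V)` give the conclusion. -/
def StSP2 : Prop :=
  ∀ {Ω : Type u} [Group Ω] {S : Subgroup Ω} [Finite S], IsPGroup 2 S →
    ∀ (F : FusionSystem S), F.IsSaturated 2 →
    ∀ (K : Type) [Field K] [Fintype K] (V T : Subgroup Ω) (x : Ω) (_ : Big F K V T x),
    (∀ R : Subgroup Ω, F.IsEssential 2 R → R ≤ T) →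
    ∀ (k : ℕ), 1 ≤ k → Fintype.card K = 2 ^ (2 * k + 1) →
    ∀ (θ : K ≃+* K), (∀ t, θ (θ t) = t ^ 2) → ∀ (co : SpCo S T V K θ) (Φ : Subgroup (K ≃+* K)),
    (∀ α : MulAut V, α ∈ F.autGroup V ↔ ∃ g : GL (Fin 2) K, ∃ φ ∈ Φ, IsAct co g φ α) →
    Concl F

end Cfsg.Agent.H124.SP
end

-- part: H647/HM/Swap
section
prune_inst 0x4f0200b000c00020000180002a0003c66fa000102006b0001f1600f0606c6df212d07a721fce00e101912ae74003a8000015c00590038000020008a00411901a0942a72c69308b10c67000fc0f907180c00000000000000000000000000041000000000000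
set_option linter.all false
open scoped Cfsg.Agent.FastGrp

/-!
# S5175, T7a: the swap (helper647)
-/

set_option autoImplicit false
set_option linter.unusedSectionVars false

namespace Cfsg.Agent.H647.HM

open Cfsg Cfsg.Agent.H756.HM Subgroup
open scoped commutatorElement

universe u

/-! ### automorphisms of a group whose square is inner -/

section aut

variable {Γ : Type*} [Group Γ] {ξ : MulAut Γ} {t₀ : Γ} (hξ : ξ * ξ = MulAut.conj t₀)

theorem mem_tw {Y : Subgroup Γ} {y : Γ} : y ∈ Y.map ξ.toMonoidHom ↔ ξ⁻¹ y ∈ Y := by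
  constructor
  · rintro ⟨z, hz, rfl⟩
    have : ξ⁻¹ (ξ z) = z := MulAut.inv_apply_self Γ ξ z
    exact this.symm ▸ hz
  · intro h
    exact ⟨ξ⁻¹ y, h, MulAut.apply_inv_self Γ ξ y⟩

theorem ap_mem_tw {Y : Subgroup Γ} {y : Γ} : ξ y ∈ Y.map ξ.toMonoidHom ↔ y ∈ Y := by
  rw [mem_tw, MulAut.inv_apply_self]

include hξ

theorem ap_ap (y : Γ) : ξ (ξ y) = t₀ * y * t₀⁻¹ := by
  have := congrArg (fun f : MulAut Γ => f y) hξ
  simpa using this

/-- on normal subgroups `ξ` and `ξ⁻¹` agree -/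
theorem inv_mem_iff {Y : Subgroup Γ} (hY : Y.Normal) {y : Γ} : ξ⁻¹ y ∈ Y ↔ ξ y ∈ Y := by
  have h1 : ξ y = t₀ * ξ⁻¹ y * t₀⁻¹ := by
    rw [← ap_ap hξ, MulAut.apply_inv_self]
  rw [h1]
  constructor
  · intro h
    exact hY.conj_mem _ h t₀
  · intro h
    have h2 := hY.conj_mem _ h t₀⁻¹
    simpa [mul_assoc] using h2

theorem tw_tw {Y : Subgroup Γ} (hY : Y.Normal) : (Y.map ξ.toMonoidHom).map ξ.toMonoidHom = Y := by
  ext y
  rw [mem_tw, mem_tw, inv_mem_iff hξ hY, MulAut.apply_inv_self]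

end aut

theorem tw_normal {Γ : Type*} [Group Γ] {ξ : MulAut Γ} {Y : Subgroup Γ} (hY : Y.Normal) :
    (Y.map ξ.toMonoidHom).Normal :=
  hY.map _ ξ.surjective

theorem cm_left {Γ : Type*} [Group Γ] {N : Subgroup Γ} (hN : N.Normal) {a : Γ} (ha : a ∈ N) (b : Γ) : ⁅a, b⁆ ∈ N := by
  rw [commutatorElement_def, mul_assoc, mul_assoc, ← mul_assoc b]
  exact N.mul_mem ha (hN.conj_mem _ (N.inv_mem ha) b)

/-! ### a Sylow subgroup `T` of `P`, as a group -/

section basic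

variable {P : Type u} [Group P] [Finite P] {T : Sylow 2 P}

theorem normal_of {X : Subgroup P} (hK : pResidual 2 P ≤ normalizer (X : Set P))
    (hT : (T : Subgroup P) ≤ normalizer (X : Set P)) : X.Normal := by
  rw [← normalizer_eq_top_iff, eq_top_iff, ← Cfsg.Agent.Transfer.Residual.pResidual_sup_sylow T]
  exact sup_le hK hT

theorem le_norm_map {X : Subgroup ↥(T : Subgroup P)} (hX : X.Normal) :
    (T : Subgroup P) ≤ normalizer (X.map (T : Subgroup P).subtype : Set P) := by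
  rw [le_normalizer_iff]
  rintro t ht _ ⟨x, hx, rfl⟩
  exact ⟨⟨t, ht⟩ * x * ⟨t, ht⟩⁻¹, hX.conj_mem x hx _, rfl⟩

theorem map_sub {X : Subgroup P} (hX : X ≤ T) : (X.subgroupOf (T : Subgroup P)).map (T : Subgroup P).subtype = X := by
  rw [subgroupOf_map_subtype, inf_of_le_left hX]

theorem cent_map (X Y : Subgroup ↥(T : Subgroup P)) :
    (X ⊓ centralizer (Y : Set ↥(T : Subgroup P))).map (T : Subgroup P).subtype =
      X.map (T : Subgroup P).subtype ⊓ centralizer (Y.map (T : Subgroup P).subtype : Set P) := by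
  ext z
  constructor
  · rintro ⟨x, ⟨hx, hx2⟩, rfl⟩
    refine ⟨⟨x, hx, rfl⟩, ?_⟩
    refine mem_centralizer_iff.2 ?_
    rintro _ ⟨y, hy, rfl⟩
    exact congrArg Subtype.val (mem_centralizer_iff.1 hx2 y hy)
  · rintro ⟨⟨x, hx, rfl⟩, h2⟩
    refine ⟨x, ⟨hx, ?_⟩, rfl⟩
    refine mem_centralizer_iff.2 ?_
    intro y hy
    exact Subtype.ext (mem_centralizer_iff.1 h2 y ⟨y, hy, rfl⟩)

theorem relIndex_sub (X Y : Subgroup ↥(T : Subgroup P)) :
    (X.map (T : Subgroup P).subtype).relIndex (Y.map (T : Subgroup P).subtype) = X.relIndex Y :=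
  relIndex_map_map_of_injective X Y (T : Subgroup P).subtype_injective

theorem Q_le : pCore 2 P ≤ (T : Subgroup P) := Cfsg.Agent.Lib.Cores.pCore_le_sylow T

theorem Q_normal : (pCore 2 P).Normal := Cfsg.Agent.Lib.Cores.pCore_normal 2

theorem K_normal : (pResidual 2 P).Normal := Cfsg.Agent.Transfer.Residual.pResidual_normal 2

/-- the subgroup `Q` inside `T` -/
abbrev Qs (T : Sylow 2 P) : Subgroup ↥(T : Subgroup P) := (pCore 2 P).subgroupOf (T : Subgroup P)

theorem Qs_normal : (Qs T).Normal := Q_normal.subgroupOf _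

end basic

/-! ### the first part of the swap analysis -/

section swap

variable {P : Type u} [Group P] [Finite P] {T : Sylow 2 P} (d : BD (T : Subgroup P))

theorem W_le_T : d.W ≤ (T : Subgroup P) := d.W_le.trans Q_le

/-- the subgroup `W` inside `T` -/
abbrev Ws : Subgroup ↥(T : Subgroup P) := d.W.subgroupOf (T : Subgroup P)

variable {ξ : MulAut ↥(T : Subgroup P)} {t₀ : ↥(T : Subgroup P)} (hξ : ξ * ξ = MulAut.conj t₀)
  (hD : ∀ D : Subgroup ↥(T : Subgroup P), D ≠ ⊥ → (D.map (T : Subgroup P).subtype).Normal →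
      D.map ξ.toMonoidHom ≠ D)

/-- the subgroup `T₀` inside `T` -/
abbrev T0s : Subgroup ↥(T : Subgroup P) := d.T0.subgroupOf (T : Subgroup P)

theorem Ws_le : Ws d ≤ Qs T := comap_mono d.W_le

/-- the subgroup `C_Q(O²(P))` -/
abbrev Ds (T : Sylow 2 P) : Subgroup ↥(T : Subgroup P) :=
  (pCore 2 P ⊓ centralizer (pResidual 2 P : Set P)).subgroupOf (T : Subgroup P)

theorem cK_normal : (centralizer (pResidual 2 P : Set P)).Normal := by
  have := K_normal (P := P)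
  infer_instance

theorem Ds_normal : (Ds T).Normal := by
  have h1 := Q_normal (P := P)
  have h2 := cK_normal (P := P)
  exact (normal_inf_normal (pCore 2 P) (centralizer (pResidual 2 P : Set P))).subgroupOf _

include hξ hD in
theorem DD : Ds T ⊓ (Ds T).map ξ.toMonoidHom = ⊥ := by
  by_contra h
  have hn := Ds_normal (T := T)
  refine hD _ h ?_ ?_
  · refine normal_of (T := T) ?_ (le_norm_map (@normal_inf_normal _ _ _ _ hn (tw_normal hn)))
    rw [le_normalizer_iff]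
    rintro k hk _ ⟨z, hz, rfl⟩
    have h1 : k * z = z * k := mem_centralizer_iff.1 hz.1.2 k hk
    have h2 : k * (T : Subgroup P).subtype z * k⁻¹ = (T : Subgroup P).subtype z := by
      show k * (z : P) * k⁻¹ = z
      rw [h1, mul_inv_cancel_right]
    rw [h2]
    exact ⟨z, hz, rfl⟩
  · rw [Subgroup.map_inf _ _ _ ξ.injective, tw_tw hξ hn, inf_comm]

end swap

end Cfsg.Agent.H647.HM
end

-- part: H41/HM/Full
section
prune_inst 0x4903001004c2202000018000220001c46ba00000000280000d0600400048e5f202d03a121f4200c0008128a4420380000031800000200000000000000010101a0800852049308a10c66000f80a106000000000000000000000000000000041000000000000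
set_option linter.all false
open scoped Cfsg.Agent.FastGrp

-- part: H41/HM/PermRec
section
/-!
# S5175, symmetric blocks: recovering the points (helper41)

An automorphism of the even-weight module over `F₂`, compatible with the alternating group, is induced by a permutation
of the points.
-/

set_option autoImplicit false
set_option linter.unusedSimpArgs false
set_option linter.unusedSectionVars false

namespace Cfsg.Agent.H41.HM

variable {X : Type*} [Fintype X] [DecidableEq X]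

/-- the even vectors -/
def Ev (X : Type*) [Fintype X] : AddSubgroup (X → ZMod 2) where
  carrier := {v | ∑ k, v k = 0}
  zero_mem' := by simp only [_root_.Set.mem_ofPred_eq, _root_.Pi.zero_apply, _root_.Finset.sum_const_zero]
  add_mem' := fun {a b} ha hb => by
    rw [Set.mem_ofPred_eq] at ha hb ⊢
    simp only [Pi.add_apply]
    rw [Finset.sum_add_distrib, ha, hb, add_zero]
  neg_mem' := fun {a} ha => by
    rw [Set.mem_ofPred_eq] at ha ⊢
    simp only [Pi.neg_apply]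
    rw [Finset.sum_neg_distrib, ha, neg_zero]

omit [DecidableEq X] in
theorem mem_Ev {v : X → ZMod 2} : v ∈ Ev X ↔ ∑ k, v k = 0 := Iff.rfl

/-- the action of a permutation -/
def pa (h : Equiv.Perm X) (v : X → ZMod 2) : X → ZMod 2 := fun k => v (h⁻¹ k)

omit [DecidableEq X] in
theorem pa_mem (h : Equiv.Perm X) {v : X → ZMod 2} (hv : v ∈ Ev X) : pa h v ∈ Ev X := by
  rw [mem_Ev] at hv ⊢
  rw [← hv]
  exact Equiv.sum_comp (h⁻¹ : Equiv.Perm X) v

/-- the vector `e_a + e_b` -/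
def e2 (a b : X) : X → ZMod 2 := fun k => (if k = a then 1 else 0) + (if k = b then 1 else 0)

theorem two2 (a : ZMod 2) : a + a = 0 := CharTwo.add_self_eq_zero a

theorem e2_mem (a b : X) : e2 a b ∈ Ev X := by
  rw [mem_Ev]
  unfold e2
  rw [Finset.sum_add_distrib, Finset.sum_ite_eq' Finset.univ a, Finset.sum_ite_eq' Finset.univ b]
  simp only [Finset.mem_univ, if_true]
  exact two2 1

omit [Fintype X] in
theorem e2_comm (a b : X) : e2 a b = e2 b a := by
  funext k; exact add_comm _ _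

omit [Fintype X] in
theorem e2_self (a : X) : e2 a a = 0 := by
  funext k; exact two2 _

omit [Fintype X] in
theorem e2_add (a b c : X) : e2 a b + e2 a c = e2 b c := by
  funext k
  show ((if k = a then (1 : ZMod 2) else 0) + (if k = b then 1 else 0)) + ((if k = a then 1 else 0) + (if k = c then 1 else 0)) = _
  have h := two2 (if k = a then (1 : ZMod 2) else 0)
  unfold e2
  linear_combination h

omit [Fintype X] in
theorem pa_e2 (h : Equiv.Perm X) (a b : X) : pa h (e2 a b) = e2 (h a) (h b) := by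
  funext k
  unfold pa e2
  simp only [Equiv.Perm.inv_eq_iff_eq]

omit [Fintype X] in
theorem e2_ne {a b : X} (hab : a ≠ b) : e2 a b ≠ 0 := by
  intro h
  have h1 := congrFun h a
  simp only [e2, hab, ↓ _root_.reduceIte, _root_.add_zero, _root_.Pi.zero_apply, _root_.one_ne_zero] at h1

/-- **L1** -/
theorem weight_two {h : Equiv.Perm X} (h3 : h ^ 3 = 1) (S : Finset (X → ZMod 2)) (hS : ∀ v ∈ Ev X, v + pa h v ∈ S)
    (hc : S.card ≤ 4) {v : X → ZMod 2} (_hv : v ∈ Ev X) (h0 : v + pa h v ≠ 0) :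
    ∃ a b, a ≠ b ∧ v + pa h v = e2 a b := by
  have hh : ∀ x, h (h (h x)) = x := fun x => by
    have := DFunLike.congr_fun h3 x
    simpa only [pow_succ, _root_.pow_zero, _root_.one_mul, _root_.Equiv.Perm.coe_mul, _root_.Function.comp_apply, _root_.Equiv.Perm.coe_one, _root_.id_eq] using this
  have hinv : ∀ x, h⁻¹ x = h (h x) := fun x => by
    rw [Equiv.Perm.inv_eq_iff_eq]; exact (hh x).symm
  obtain ⟨a, ha⟩ : ∃ a, h a ≠ a := by
    by_contra hcon
    push Not at hcon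
    apply h0
    funext k
    show v k + v (h⁻¹ k) = 0
    rw [hinv, hcon, hcon]
    exact two2 _
  set b := h a with hb
  set c := h b with hcc
  have hca : h c = a := hh a
  have hbc : b ≠ c := fun e => ha (h.injective (by rw [← hcc, ← e]))
  have hac : a ≠ c := fun e => by
    have : h a = h c := by rw [← e]
    rw [hca] at this
    exact ha this
  have hfix : ∀ d, d ≠ a → d ≠ b → d ≠ c → h d = d := by
    intro d hda hdb hdc
    by_contra hd
    have h1 : h d ≠ a := fun e => hdc (h.injective (by rw [e, hca]))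
    have h2 : h d ≠ b := fun e => hda (h.injective (by rw [e]))
    have h3' : h d ≠ c := fun e => hdb (h.injective (by rw [e]))
    let ev : (X → ZMod 2) → ZMod 2 × ZMod 2 × ZMod 2 × ZMod 2 := fun f => (f a, f b, f c, f d)
    have hsub : ({(0, 0, 0, 0), (1, 0, 1, 0), (1, 1, 0, 0), (0, 1, 1, 0), (1, 1, 0, 1)} :
        Finset (ZMod 2 × ZMod 2 × ZMod 2 × ZMod 2)) ⊆ S.image ev := by
      intro y hy
      simp only [Finset.mem_insert, Finset.mem_singleton] at hy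
      rw [Finset.mem_image]
      rcases hy with rfl | rfl | rfl | rfl | rfl
      · refine ⟨_, hS 0 (zero_mem _), ?_⟩
        simp [ev, pa]
      · refine ⟨_, hS (e2 a b) (e2_mem a b), ?_⟩
        rw [pa_e2, ← hb, ← hcc]
        simp only [ev, e2, ha, ha.symm, hbc, hbc.symm, hac, hac.symm, hda, hdb, hdc, _root_.Pi.add_apply, ↓ _root_.reduceIte, _root_.add_zero, _root_.zero_add, _root_.Prod.mk.injEq, _root_.and_true, _root_.true_and]
        decide
      · refine ⟨_, hS (e2 b c) (e2_mem b c), ?_⟩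
        rw [pa_e2, ← hcc, hca]
        simp only [ev, e2, ha, ha.symm, hbc, hbc.symm, hac, hac.symm, hda, hdb, hdc, _root_.Pi.add_apply, ↓ _root_.reduceIte, _root_.add_zero, _root_.zero_add, _root_.Prod.mk.injEq, _root_.and_true, _root_.true_and]
        decide
      · refine ⟨_, hS (e2 c a) (e2_mem c a), ?_⟩
        rw [pa_e2, hca, ← hb]
        simp only [ev, e2, ha, ha.symm, hbc, hbc.symm, hac, hac.symm, hda, hdb, hdc, _root_.Pi.add_apply, ↓ _root_.reduceIte, _root_.zero_add, _root_.add_zero, _root_.Prod.mk.injEq, _root_.and_true]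
        decide
      · refine ⟨_, hS (e2 a d) (e2_mem a d), ?_⟩
        rw [pa_e2, ← hb]
        simp [ev, e2, ha, ha.symm, hbc, hbc.symm, hac, hac.symm, hda, hdb, hdc, h1, h1.symm, h2, h2.symm, h3', h3'.symm,
          Ne.symm hd, Ne.symm hda, Ne.symm hdb, Ne.symm hdc]
    have h4 := Finset.card_le_card hsub
    have h5 : (({(0, 0, 0, 0), (1, 0, 1, 0), (1, 1, 0, 0), (0, 1, 1, 0), (1, 1, 0, 1)} :
        Finset (ZMod 2 × ZMod 2 × ZMod 2 × ZMod 2))).card = 5 := by decide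
    have h6 : (S.image ev).card ≤ S.card := Finset.card_image_le
    omega
  have hfix' : ∀ d, d ≠ a → d ≠ b → d ≠ c → (v + pa h v) d = 0 := by
    intro d hda hdb hdc
    show v d + v (h⁻¹ d) = 0
    rw [hinv, hfix d hda hdb hdc, hfix d hda hdb hdc]
    exact two2 _
  have va : (v + pa h v) a = v a + v c := by
    show v a + v (h⁻¹ a) = _
    rw [hinv]
  have vb : (v + pa h v) b = v b + v a := by
    show v b + v (h⁻¹ b) = _
    rw [hinv, ← hcc, hca]
  have vc : (v + pa h v) c = v c + v b := by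
    show v c + v (h⁻¹ c) = _
    rw [hinv, hca]
  have key : ∀ x y : X, (∀ d, d ≠ x → d ≠ y → (v + pa h v) d = 0) → (v + pa h v) x = 1 → (v + pa h v) y = 1 →
      x ≠ y → v + pa h v = e2 x y := by
    intro x y h1 h2 h3 hxy
    funext d
    by_cases hdx : d = x
    · rw [hdx, h2]
      simp [e2, hxy]
    · by_cases hdy : d = y
      · rw [hdy, h3]
        simp [e2, hxy.symm]
      · rw [h1 d hdx hdy]
        simp [e2, hdx, hdy]
  have hw : ((v + pa h v) a = 0 ∧ (v + pa h v) b = 0 ∧ (v + pa h v) c = 0) ∨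
      ((v + pa h v) a = 1 ∧ (v + pa h v) b = 1 ∧ (v + pa h v) c = 0) ∨
      ((v + pa h v) a = 1 ∧ (v + pa h v) b = 0 ∧ (v + pa h v) c = 1) ∨
      ((v + pa h v) a = 0 ∧ (v + pa h v) b = 1 ∧ (v + pa h v) c = 1) := by
    rw [va, vb, vc]
    generalize v a = x
    generalize v b = y
    generalize v c = z
    revert x y z
    decide
  rcases hw with ⟨wa, wb, wc⟩ | ⟨wa, wb, wc⟩ | ⟨wa, wb, wc⟩ | ⟨wa, wb, wc⟩
  · exfalso
    apply h0
    funext d
    by_cases hda : d = a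
    · rw [hda]; exact wa
    · by_cases hdb : d = b
      · rw [hdb]; exact wb
      · by_cases hdc : d = c
        · rw [hdc]; exact wc
        · exact hfix' d hda hdb hdc
  · refine ⟨a, b, ha.symm, key a b (fun d h1 h2 => ?_) wa wb ha.symm⟩
    by_cases hdc : d = c
    · rw [hdc]; exact wc
    · exact hfix' d h1 h2 hdc
  · refine ⟨a, c, hac, key a c (fun d h1 h2 => ?_) wa wc hac⟩
    by_cases hdb : d = b
    · rw [hdb]; exact wb
    · exact hfix' d h1 hdb h2
  · refine ⟨b, c, hbc, key b c (fun d h1 h2 => ?_) wb wc hbc⟩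
    by_cases hda : d = a
    · rw [hda]; exact wa
    · exact hfix' d hda h1 h2

/-- the 3-cycle -/
def c3 (a b c : X) : Equiv.Perm X := Equiv.swap a b * Equiv.swap b c

omit [Fintype X] in
theorem c3_a {a b c : X} (hab : a ≠ b) (hac : a ≠ c) : c3 a b c a = b := by
  unfold c3
  rw [Equiv.Perm.mul_apply, Equiv.swap_apply_of_ne_of_ne hab hac, Equiv.swap_apply_left]

omit [Fintype X] in
theorem c3_b {a b c : X} (hac : a ≠ c) (hbc : b ≠ c) : c3 a b c b = c := by
  unfold c3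
  rw [Equiv.Perm.mul_apply, Equiv.swap_apply_left, Equiv.swap_apply_of_ne_of_ne hac.symm hbc.symm]

omit [Fintype X] in
theorem c3_c {a b c : X} : c3 a b c c = a := by
  unfold c3
  rw [Equiv.Perm.mul_apply, Equiv.swap_apply_right, Equiv.swap_apply_right]

omit [Fintype X] in
theorem c3_d {a b c d : X} (hda : d ≠ a) (hdb : d ≠ b) (hdc : d ≠ c) : c3 a b c d = d := by
  unfold c3
  rw [Equiv.Perm.mul_apply, Equiv.swap_apply_of_ne_of_ne hdb hdc, Equiv.swap_apply_of_ne_of_ne hda hdb]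

omit [Fintype X] in
theorem c3_pow {a b c : X} (hab : a ≠ b) (hac : a ≠ c) (hbc : b ≠ c) : c3 a b c ^ 3 = 1 := by
  ext d
  rw [pow_succ, pow_succ, pow_one]
  simp only [Equiv.Perm.mul_apply, Equiv.Perm.one_apply]
  by_cases hda : d = a
  · rw [hda, c3_a hab hac, c3_b hac hbc, c3_c]
  · by_cases hdb : d = b
    · rw [hdb, c3_b hac hbc, c3_c, c3_a hab hac]
    · by_cases hdc : d = c
      · rw [hdc, c3_c, c3_a hab hac, c3_b hac hbc]
      · rw [c3_d hda hdb hdc, c3_d hda hdb hdc, c3_d hda hdb hdc]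

theorem c3_sign {a b c : X} (hab : a ≠ b) (hbc : b ≠ c) : c3 a b c ∈ alternatingGroup X := by
  rw [Equiv.Perm.mem_alternatingGroup]
  unfold c3
  rw [map_mul, Equiv.Perm.sign_swap hab, Equiv.Perm.sign_swap hbc]
  decide

theorem c3_comm {a b c : X} (hab : a ≠ b) (hac : a ≠ c) (hbc : b ≠ c) (v : X → ZMod 2) :
    v + pa (c3 a b c) v = 0 ∨ v + pa (c3 a b c) v = e2 a b ∨ v + pa (c3 a b c) v = e2 b c ∨
      v + pa (c3 a b c) v = e2 a c := by
  have hinv : ∀ x, (c3 a b c)⁻¹ x = c3 a b c (c3 a b c x) := fun x => by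
    rw [Equiv.Perm.inv_eq_iff_eq]
    have := DFunLike.congr_fun (c3_pow hab hac hbc) x
    rw [pow_succ, pow_succ, pow_one] at this
    simp only [Equiv.Perm.mul_apply, Equiv.Perm.one_apply] at this
    exact this.symm
  have hfix' : ∀ d, d ≠ a → d ≠ b → d ≠ c → (v + pa (c3 a b c) v) d = 0 := by
    intro d hda hdb hdc
    show v d + v ((c3 a b c)⁻¹ d) = 0
    rw [hinv, c3_d hda hdb hdc, c3_d hda hdb hdc]
    exact two2 _
  have va : (v + pa (c3 a b c) v) a = v a + v c := by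
    show v a + v ((c3 a b c)⁻¹ a) = _
    rw [hinv, c3_a hab hac, c3_b hac hbc]
  have vb : (v + pa (c3 a b c) v) b = v b + v a := by
    show v b + v ((c3 a b c)⁻¹ b) = _
    rw [hinv, c3_b hac hbc, c3_c]
  have vc : (v + pa (c3 a b c) v) c = v c + v b := by
    show v c + v ((c3 a b c)⁻¹ c) = _
    rw [hinv, c3_c, c3_a hab hac]
  have hw : ((v + pa (c3 a b c) v) a = 0 ∧ (v + pa (c3 a b c) v) b = 0 ∧ (v + pa (c3 a b c) v) c = 0) ∨
      ((v + pa (c3 a b c) v) a = 1 ∧ (v + pa (c3 a b c) v) b = 1 ∧ (v + pa (c3 a b c) v) c = 0) ∨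
      ((v + pa (c3 a b c) v) a = 1 ∧ (v + pa (c3 a b c) v) b = 0 ∧ (v + pa (c3 a b c) v) c = 1) ∨
      ((v + pa (c3 a b c) v) a = 0 ∧ (v + pa (c3 a b c) v) b = 1 ∧ (v + pa (c3 a b c) v) c = 1) := by
    rw [va, vb, vc]
    generalize v a = x
    generalize v b = y
    generalize v c = z
    revert x y z
    decide
  have key : ∀ f : X → ZMod 2, (v + pa (c3 a b c) v) a = f a → (v + pa (c3 a b c) v) b = f b →
      (v + pa (c3 a b c) v) c = f c → (∀ d, d ≠ a → d ≠ b → d ≠ c → f d = 0) → v + pa (c3 a b c) v = f := by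
    intro f h1 h2 h3 h4
    funext d
    by_cases hda : d = a
    · rw [hda]; exact h1
    · by_cases hdb : d = b
      · rw [hdb]; exact h2
      · by_cases hdc : d = c
        · rw [hdc]; exact h3
        · rw [hfix' d hda hdb hdc, h4 d hda hdb hdc]
  rcases hw with ⟨wa, wb, wc⟩ | ⟨wa, wb, wc⟩ | ⟨wa, wb, wc⟩ | ⟨wa, wb, wc⟩
  · left
    exact key 0 wa wb wc fun _ _ _ _ => rfl
  · right; left
    refine key _ ?_ ?_ ?_ ?_
    · rw [wa]; simp [e2, hab]
    · rw [wb]; simp [e2, hab.symm]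
    · rw [wc]; simp [e2, hac.symm, hbc.symm]
    · intro d h1 h2 h3
      simp [e2, h1, h2]
  · right; right; right
    refine key _ ?_ ?_ ?_ ?_
    · rw [wa]; simp [e2, hac]
    · rw [wb]; simp [e2, hab.symm, hbc]
    · rw [wc]; simp [e2, hac.symm]
    · intro d h1 h2 h3
      simp [e2, h1, h3]
  · right; right; left
    refine key _ ?_ ?_ ?_ ?_
    · rw [wa]; simp [e2, hab, hac]
    · rw [wb]; simp [e2, hbc]
    · rw [wc]; simp [e2, hbc.symm]
    · intro d h1 h2 h3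
      simp [e2, h2, h3]

/-- the action on even vectors -/
def paE (h : Equiv.Perm X) (v : Ev X) : Ev X := ⟨pa h v, pa_mem h v.2⟩

/-- weight two vectors -/
def w2 (a b : X) : Ev X := ⟨e2 a b, e2_mem a b⟩

theorem coe_w2 (a b : X) : (w2 a b : X → ZMod 2) = e2 a b := rfl

theorem w2_add (a b c : X) : w2 a b + w2 a c = w2 b c := Subtype.ext (e2_add a b c)

theorem w2_comm (a b : X) : w2 a b = w2 b a := Subtype.ext (e2_comm a b)

theorem w2_self (a : X) : w2 a a = 0 := Subtype.ext (e2_self a)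

theorem w2_ne {a b : X} (hab : a ≠ b) : w2 a b ≠ 0 := fun h => e2_ne hab (congrArg Subtype.val h)

/-- even vectors separate the points -/
theorem perm_eq_one (h3 : 3 ≤ Fintype.card X) {h : Equiv.Perm X} (hv : ∀ v : Ev X, pa h v = v) : h = 1 := by
  ext a
  by_contra hne
  rw [Equiv.Perm.one_apply] at hne
  have hia : h⁻¹ (h a) = a := by rw [Equiv.Perm.inv_eq_iff_eq]
  obtain ⟨c, hc⟩ : ∃ c, c ∉ ({a, h a} : Finset X) := by
    by_contra hcon
    push Not at hcon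
    have h1 : (Finset.univ : Finset X) ⊆ {a, h a} := fun x _ => hcon x
    have h2 := Finset.card_le_card h1
    rw [Finset.card_univ] at h2
    have h4 := Finset.card_le_two (a := a) (b := h a)
    omega
  simp only [Finset.mem_insert, Finset.mem_singleton, not_or] at hc
  have h1 := congrFun (hv (w2 a c)) (h a)
  have h2 : pa h (w2 a c) (h a) = e2 a c a := by
    show e2 a c (h⁻¹ (h a)) = _
    rw [hia]
  rw [h2] at h1
  have h3 : (w2 a c : X → ZMod 2) (h a) = 0 := by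
    rw [coe_w2]
    simp [e2, hne, Ne.symm hc.2]
  rw [h3] at h1
  simp only [e2, Ne.symm hc.1, ↓ _root_.reduceIte, _root_.add_zero, _root_.one_ne_zero] at h1

theorem pa_mul (h g : Equiv.Perm X) (v : X → ZMod 2) : pa (h * g) v = pa h (pa g v) := by
  funext k
  show v ((h * g)⁻¹ k) = v (g⁻¹ (h⁻¹ k))
  rw [mul_inv_rev]
  rfl

theorem pa_one (v : X → ZMod 2) : pa 1 v = v := rfl

/-- every even vector is a sum of vectors of weight two -/
theorem sum_w2 (a : X) (v : Ev X) : v = ∑ l, ((v : X → ZMod 2) l).val • w2 a l := by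
  apply Subtype.ext
  rw [AddSubgroup.val_finsetSum]
  funext k
  rw [Finset.sum_apply]
  have h1 : ∀ l, (((((v : X → ZMod 2) l).val • w2 a l : Ev X) : X → ZMod 2)) k = (v : X → ZMod 2) l * e2 a l k := by
    intro l
    rw [AddSubgroup.coe_nsmul, coe_w2, Pi.smul_apply, nsmul_eq_mul, ZMod.natCast_zmod_val]
  rw [Finset.sum_congr rfl fun l _ => h1 l]
  unfold e2
  simp only [mul_add]
  rw [Finset.sum_add_distrib, ← Finset.sum_mul, mem_Ev.1 v.2, zero_mul, zero_add]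
  simp only [_root_.mul_ite, _root_.mul_one, _root_.MulZeroClass.mul_zero, _root_.Finset.sum_ite_eq, _root_.Finset.mem_univ, ↓ _root_.reduceIte]

variable (β : Ev X →+ Ev X) (hβ : Function.Injective β) (h3 : 3 ≤ Fintype.card X)
  (hc : ∀ h ∈ alternatingGroup X, ∃ h' : Equiv.Perm X, ∀ v : Ev X, (β (paE h v) : X → ZMod 2) = pa h' (β v))

include hβ h3 hc

theorem exists_third (a b : X) : ∃ c : X, c ≠ a ∧ c ≠ b := by
  obtain ⟨c, hc⟩ : ∃ c, c ∉ ({a, b} : Finset X) := by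
    by_contra hcon
    push Not at hcon
    have h1 : (Finset.univ : Finset X) ⊆ {a, b} := fun x _ => hcon x
    have h2 := Finset.card_le_card h1
    rw [Finset.card_univ] at h2
    have h4 := Finset.card_le_two (a := a) (b := b)
    omega
  simp only [Finset.mem_insert, Finset.mem_singleton, not_or] at hc
  exact ⟨c, hc.1, hc.2⟩

/-- **L2** -/
theorem beta_w2 {a b : X} (hab : a ≠ b) : ∃ x y : X, x ≠ y ∧ β (w2 a b) = w2 x y := by
  have hbj : Function.Bijective β := Finite.injective_iff_bijective.1 hβ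
  obtain ⟨c, hca, hcb⟩ := exists_third β hβ h3 hc a b
  obtain ⟨h', hh'⟩ := hc (c3 a b c) (c3_sign hab hcb.symm)
  have hpow : h' ^ 3 = 1 := by
    apply perm_eq_one h3
    intro v
    obtain ⟨u, rfl⟩ := hbj.2 v
    have e1 : pa (h' ^ 3) (β u) = pa h' (pa h' (pa h' (β u))) := by
      rw [pow_succ, pow_succ, pow_one, pa_mul, pa_mul]
    rw [e1, ← hh' u, ← hh' (paE (c3 a b c) u), ← hh' (paE (c3 a b c) (paE (c3 a b c) u))]
    congr 2
    apply Subtype.ext
    show pa (c3 a b c) (pa (c3 a b c) (pa (c3 a b c) u)) = u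
    rw [← pa_mul, ← pa_mul]
    have : c3 a b c * c3 a b c * c3 a b c = 1 := by
      rw [← c3_pow hab hca.symm hcb.symm, pow_succ, pow_succ, pow_one]
    rw [this, pa_one]
  let S : Finset (X → ZMod 2) := {(β 0 : X → ZMod 2), (β (w2 a b) : X → ZMod 2), (β (w2 b c) : X → ZMod 2),
    (β (w2 a c) : X → ZMod 2)}
  have hS : ∀ v ∈ Ev X, v + pa h' v ∈ S := by
    intro v hv
    obtain ⟨u, hu⟩ := hbj.2 ⟨v, hv⟩
    have hu' : (β u : X → ZMod 2) = v := congrArg Subtype.val hu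
    rw [← hu', ← hh' u, ← AddSubgroup.coe_add, ← map_add]
    have h4 := c3_comm hab hca.symm hcb.symm (u : X → ZMod 2)
    simp only [S, Finset.mem_insert, Finset.mem_singleton]
    rcases h4 with h4 | h4 | h4 | h4
    · left; congr 2; exact Subtype.ext h4
    · right; left; congr 2; exact Subtype.ext h4
    · right; right; left; congr 2; exact Subtype.ext h4
    · right; right; right; congr 2; exact Subtype.ext h4
  have hSc : S.card ≤ 4 := Finset.card_le_four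
  -- `w2 a b = u + h u` for `u = w2 b c`
  have hu : w2 b c + paE (c3 a b c) (w2 b c) = w2 a b := by
    apply Subtype.ext
    show e2 b c + pa (c3 a b c) (e2 b c) = e2 a b
    rw [pa_e2, c3_b hca.symm hcb.symm, c3_c, e2_comm b c, e2_add c b a, e2_comm]
  have h5 : (β (w2 b c) : X → ZMod 2) + pa h' (β (w2 b c)) = β (w2 a b) := by
    rw [← hh', ← AddSubgroup.coe_add, ← map_add, hu]
  have h6 : (β (w2 b c) : X → ZMod 2) + pa h' (β (w2 b c)) ≠ 0 := by
    rw [h5]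
    intro h
    have h7 : β (w2 a b) = β 0 := by rw [map_zero]; exact Subtype.ext h
    exact w2_ne hab (hβ h7)
  obtain ⟨x, y, hxy, h7⟩ := weight_two hpow S hS hSc (β (w2 b c)).2 h6
  refine ⟨x, y, hxy, Subtype.ext ?_⟩
  rw [← h5, h7, coe_w2]

/-- the common point of a star -/
theorem star (k : X) : ∃ x : X, ∀ l, l ≠ k → (β (w2 k l) : X → ZMod 2) x = 1 := by
  obtain ⟨l₁, hl₁, -⟩ := exists_third β hβ h3 hc k k
  obtain ⟨l₂, hl₂, hl₁₂⟩ := exists_third β hβ h3 hc k l₁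
  obtain ⟨x₁, y₁, hxy₁, h1⟩ := beta_w2 β hβ h3 hc hl₁.symm
  obtain ⟨x₂, y₂, hxy₂, h2⟩ := beta_w2 β hβ h3 hc hl₂.symm
  obtain ⟨x₀, y₀, hxy₀, h0⟩ := beta_w2 β hβ h3 hc hl₁₂.symm
  have hsum : w2 x₁ y₁ + w2 x₂ y₂ = w2 x₀ y₀ := by
    rw [← h1, ← h2, ← h0, ← map_add, w2_add]
  -- a common point
  have hcomm : ∃ x y z : X, x ≠ y ∧ x ≠ z ∧ y ≠ z ∧ β (w2 k l₁) = w2 x y ∧ β (w2 k l₂) = w2 x z := by
    have hne : w2 x₁ y₁ ≠ w2 x₂ y₂ := by
      rw [← h1, ← h2]
      intro h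
      have h4 := hβ h
      have h5 : w2 l₁ l₂ = 0 := by
        rw [← w2_add k l₁ l₂, h4]
        exact Subtype.ext (funext fun _ => two2 _)
      exact w2_ne hl₁₂.symm h5
    by_cases e1 : x₁ = x₂
    · subst e1
      refine ⟨x₁, y₁, y₂, hxy₁, hxy₂, fun e => hne (by rw [e]), h1, h2⟩
    · by_cases e2' : x₁ = y₂
      · subst e2'
        refine ⟨x₁, y₁, x₂, hxy₁, e1, fun e => hne (by rw [e, w2_comm]), h1, by rw [h2, w2_comm]⟩
      · by_cases e3 : y₁ = x₂
        · subst e3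
          refine ⟨y₁, x₁, y₂, hxy₁.symm, hxy₂, fun e => hne (by rw [e, w2_comm]), by rw [h1, w2_comm], h2⟩
        · by_cases e4 : y₁ = y₂
          · subst e4
            refine ⟨y₁, x₁, x₂, hxy₁.symm, hxy₂.symm, e1, by rw [h1, w2_comm], by rw [h2, w2_comm]⟩
          · -- disjoint: the sum has weight four
            exfalso
            have v1 := congrFun (congrArg Subtype.val hsum) x₁
            have v2 := congrFun (congrArg Subtype.val hsum) y₁
            have v3 := congrFun (congrArg Subtype.val hsum) x₂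
            rw [AddSubgroup.coe_add, coe_w2, coe_w2, coe_w2, Pi.add_apply] at v1 v2 v3
            simp only [e2, if_pos rfl, if_neg hxy₁, if_neg e1, if_neg e2', add_zero] at v1
            simp only [e2, if_pos rfl, if_neg hxy₁.symm, if_neg e3, if_neg e4, add_zero, zero_add] at v2
            simp only [e2, if_pos rfl, if_neg hxy₂, if_neg (Ne.symm e1), if_neg (Ne.symm e3), add_zero, zero_add] at v3
            -- three distinct points in the support of `w2 x₀ y₀`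
            have hin : ∀ x, (1 : ZMod 2) = (if x = x₀ then 1 else 0) + (if x = y₀ then 1 else 0) → x = x₀ ∨ x = y₀ := by
              intro x hx
              by_contra hcon
              rw [not_or] at hcon
              rw [if_neg hcon.1, if_neg hcon.2, add_zero] at hx
              exact absurd hx (by decide)
            rcases hin _ v1 with a1 | a1 <;> rcases hin _ v2 with a2 | a2 <;> rcases hin _ v3 with a3 | a3
            · exact hxy₁ (a1.trans a2.symm)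
            · exact hxy₁ (a1.trans a2.symm)
            · exact e1 (a1.trans a3.symm)
            · exact e3 (a2.trans a3.symm)
            · exact e3 (a2.trans a3.symm)
            · exact e1 (a1.trans a3.symm)
            · exact hxy₁ (a1.trans a2.symm)
            · exact hxy₁ (a1.trans a2.symm)
  obtain ⟨x, y, z, hxy, hxz, hyz, h4, h5⟩ := hcomm
  refine ⟨x, fun l hl => ?_⟩
  rw [h4] at h1
  by_cases hll₁ : l = l₁
  · rw [hll₁, h4, coe_w2]
    simp [e2, hxy]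
  by_cases hll₂ : l = l₂
  · rw [hll₂, h5, coe_w2]
    simp [e2, hxz]
  obtain ⟨x', y', hxy', h6⟩ := beta_w2 β hβ h3 hc hl.symm
  obtain ⟨x₃, y₃, hxy₃, h7⟩ := beta_w2 β hβ h3 hc hll₁
  obtain ⟨x₄, y₄, hxy₄, h8⟩ := beta_w2 β hβ h3 hc hll₂
  -- `w2 x' y' + w2 x y` has weight two
  have s1 : w2 x' y' + w2 x y = w2 x₃ y₃ := by rw [← h6, ← h4, ← h7, ← map_add, w2_add]
  have s2 : w2 x' y' + w2 x z = w2 x₄ y₄ := by rw [← h6, ← h5, ← h8, ← map_add, w2_add]
  rw [h6, coe_w2]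
  by_contra hne
  have hx' : x ≠ x' ∧ x ≠ y' := by
    constructor
    · intro e
      apply hne
      rw [e]; simp [e2, hxy']
    · intro e
      apply hne
      rw [e]; simp [e2, hxy'.symm]
  -- then `{x', y'} = {y, z}`
  have hmeet : ∀ u v p q r s : X, u ≠ v → p ≠ q → r ≠ s → w2 u v + w2 p q = w2 r s → w2 u v ≠ w2 p q →
      u = p ∨ u = q ∨ v = p ∨ v = q := by
    intro u v p q r s huv hpq hrs hs _
    by_contra hcon
    simp only [not_or] at hcon
    obtain ⟨c1, c2, c3', c4⟩ := hcon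
    have v1 := congrFun (congrArg Subtype.val hs) u
    have v2 := congrFun (congrArg Subtype.val hs) v
    have v3 := congrFun (congrArg Subtype.val hs) p
    rw [AddSubgroup.coe_add, coe_w2, coe_w2, coe_w2, Pi.add_apply] at v1 v2 v3
    simp only [e2, if_pos rfl, if_neg huv, if_neg c1, if_neg c2, add_zero] at v1
    simp only [e2, if_pos rfl, if_neg huv.symm, if_neg c3', if_neg c4, add_zero, zero_add] at v2
    simp only [e2, if_pos rfl, if_neg hpq, if_neg (Ne.symm c1), if_neg (Ne.symm c3'), add_zero, zero_add] at v3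
    have hin : ∀ x, (1 : ZMod 2) = (if x = r then 1 else 0) + (if x = s then 1 else 0) → x = r ∨ x = s := by
      intro x hx
      by_contra hcon
      rw [not_or] at hcon
      rw [if_neg hcon.1, if_neg hcon.2, add_zero] at hx
      exact absurd hx (by decide)
    rcases hin _ v1 with a1 | a1 <;> rcases hin _ v2 with a2 | a2 <;> rcases hin _ v3 with a3 | a3
    · exact huv (a1.trans a2.symm)
    · exact huv (a1.trans a2.symm)
    · exact c1 (a1.trans a3.symm)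
    · exact c3' (a2.trans a3.symm)
    · exact c3' (a2.trans a3.symm)
    · exact c1 (a1.trans a3.symm)
    · exact huv (a1.trans a2.symm)
    · exact huv (a1.trans a2.symm)
  have n1 : w2 x' y' ≠ w2 x y := fun h => by
    have h9 := congrFun (congrArg Subtype.val h) x
    rw [coe_w2, coe_w2] at h9
    simp only [e2, hx'.1, hx'.2, hxy, ↓ _root_.reduceIte, _root_.add_zero, _root_.zero_ne_one] at h9
  have n2 : w2 x' y' ≠ w2 x z := fun h => by
    have h9 := congrFun (congrArg Subtype.val h) x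
    rw [coe_w2, coe_w2] at h9
    simp only [e2, hx'.1, hx'.2, hxz, ↓ _root_.reduceIte, _root_.add_zero, _root_.zero_ne_one] at h9
  have m1 := hmeet _ _ _ _ _ _ hxy' hxy hxy₃ s1 n1
  have m2 := hmeet _ _ _ _ _ _ hxy' hxz hxy₄ s2 n2
  have hyzs : w2 x' y' = w2 y z := by
    rcases m1 with m1 | m1 | m1 | m1
    · exact absurd m1.symm hx'.1
    · rcases m2 with m2 | m2 | m2 | m2
      · exact absurd m2.symm hx'.1
      · exact absurd (m1.symm.trans m2) hyz
      · exact absurd m2.symm hx'.2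
      · rw [m1, m2]
    · exact absurd m1.symm hx'.2
    · rcases m2 with m2 | m2 | m2 | m2
      · exact absurd m2.symm hx'.1
      · rw [m1, m2, w2_comm]
      · exact absurd m2.symm hx'.2
      · exact absurd (m1.symm.trans m2) hyz
  -- contradiction
  have h9 : β (w2 k l) = β (w2 k l₁ + w2 k l₂) := by
    rw [h6, hyzs, map_add, h4, h5, w2_add]
  have h10 := hβ h9
  rw [w2_add] at h10
  have h11 := congrFun (congrArg Subtype.val h10) k
  rw [coe_w2, coe_w2] at h11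
  simp [e2, hl.symm, hl₁.symm, hl₂.symm] at h11

/-- **the points are recovered** -/
theorem exists_perm : ∃ π : Equiv.Perm X, ∀ (v : Ev X) (k : X), (β v : X → ZMod 2) (π k) = (v : X → ZMod 2) k := by
  choose π hπ using star β hβ h3 hc
  have hinj : Function.Injective π := by
    intro k k' hk
    by_contra hne
    obtain ⟨l, hlk, hlk'⟩ := exists_third β hβ h3 hc k k'
    have h1 := hπ k l hlk
    have h2 := hπ k' l hlk'
    have h4 := hπ k k' (Ne.symm hne)
    rw [← hk] at h2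
    have h5 : w2 l k + w2 l k' = w2 k k' := w2_add l k k'
    rw [← h5, map_add, AddSubgroup.coe_add, Pi.add_apply, w2_comm l k, w2_comm l k', h1, h2] at h4
    have h6 : ¬ ((1 : ZMod 2) + 1 = 1) := by decide
    exact h6 h4
  have hw : ∀ k l, β (w2 k l) = w2 (π k) (π l) := by
    intro k l
    by_cases hkl : k = l
    · rw [hkl, w2_self, w2_self, map_zero]
    · obtain ⟨x, y, hxy, h1⟩ := beta_w2 β hβ h3 hc hkl
      have h2 := hπ k l (Ne.symm hkl)
      have h4 := hπ l k hkl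
      rw [w2_comm l k] at h4
      rw [h1, coe_w2] at h2 h4
      have hin : ∀ z, e2 x y z = 1 → z = x ∨ z = y := by
        intro z hz
        by_contra hcon
        rw [not_or] at hcon
        simp only [e2, hcon.1, hcon.2, ↓ _root_.reduceIte, _root_.add_zero, _root_.zero_ne_one] at hz
      rw [h1]
      rcases hin _ h2 with a1 | a1 <;> rcases hin _ h4 with a2 | a2
      · exact absurd (hinj (a1.trans a2.symm)) hkl
      · rw [a1, a2]
      · rw [a1, a2, w2_comm]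
      · exact absurd (hinj (a1.trans a2.symm)) hkl
  refine ⟨Equiv.ofBijective π (Finite.injective_iff_bijective.1 hinj), fun v k => ?_⟩
  show (β v : X → ZMod 2) (π k) = _
  have h1 := sum_w2 k v
  conv_lhs => rw [h1]
  conv_rhs => rw [h1]
  rw [map_sum, AddSubgroup.val_finsetSum, AddSubgroup.val_finsetSum, Finset.sum_apply, Finset.sum_apply]
  refine Finset.sum_congr rfl fun l _ => ?_
  rw [map_nsmul, hw, AddSubgroup.coe_nsmul, AddSubgroup.coe_nsmul, Pi.smul_apply, Pi.smul_apply, coe_w2, coe_w2]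
  congr 1
  simp only [e2, hinj.eq_iff]

end Cfsg.Agent.H41.HM
end

-- part: H41/HM/Setup
section
/-!
# S5175, symmetric blocks: the permutation action of `P` on the points of all blocks (helper41)
-/

set_option autoImplicit false
set_option linter.unusedSimpArgs false
set_option linter.unusedSectionVars false

namespace Cfsg.Agent.H41.HM

open Cfsg Cfsg.Agent.H756.HM
open scoped commutatorElement

variable {P : Type*} [Group P]

theorem mem_sup_comm {H L : Subgroup P} (hc : ∀ a ∈ H, ∀ b ∈ L, a * b = b * a) {g : P} (hg : g ∈ H ⊔ L) :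
    ∃ a ∈ H, ∃ b ∈ L, g = a * b := by
  let M : Subgroup P :=
    { carrier := {g | ∃ a ∈ H, ∃ b ∈ L, g = a * b}
      one_mem' := ⟨1, H.one_mem, 1, L.one_mem, (mul_one 1).symm⟩
      mul_mem' := by
        rintro _ _ ⟨a, ha, b, hb, rfl⟩ ⟨a', ha', b', hb', rfl⟩
        refine ⟨a * a', H.mul_mem ha ha', b * b', L.mul_mem hb hb', ?_⟩
        rw [mul_assoc, ← mul_assoc b, ← hc a' ha' b hb]
        simp only [mul_assoc]
      inv_mem' := by
        rintro _ ⟨a, ha, b, hb, rfl⟩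
        refine ⟨a⁻¹, H.inv_mem ha, b⁻¹, L.inv_mem hb, ?_⟩
        rw [mul_inv_rev, hc _ (H.inv_mem ha) _ (L.inv_mem hb)] }
  have h1 : H ⊔ L ≤ M := sup_le (fun a ha => ⟨a, ha, 1, L.one_mem, (mul_one a).symm⟩)
    fun b hb => ⟨1, H.one_mem, b, hb, (one_mul b).symm⟩
  exact h1 hg

/-- symmetric block data -/
structure SBl {P : Type*} [Group P] (T : Subgroup P) (I : Type) (n : ℕ) where
  E : I → Subgroup P
  inj : Function.Injective E
  comm : ∀ i j, i ≠ j → ∀ a ∈ E i, ∀ b ∈ E j, a * b = b * a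
  sup : (⨆ i, E i) = pResidual 2 P
  perm : ∀ t ∈ T, ∀ i, ∃ j, (E i).map (MulAut.conj t).toMonoidHom = E j
  trans : ∀ i j, ∃ t ∈ T, (E i).map (MulAut.conj t).toMonoidHom = E j
  core : ∀ i, ⁅pCore 2 P, E i⁆ ≤ E i
  bw : BW T
  n3 : 3 ≤ n
  f : I → P → (Fin n → ZMod 2)
  r : I → P → Equiv.Perm (Fin n)
  f_mul : ∀ i, ∀ u ∈ (⁅pCore 2 P, E i⁆ : Subgroup P), ∀ u' ∈ (⁅pCore 2 P, E i⁆ : Subgroup P), f i (u * u') = f i u + f i u'
  f_even : ∀ i, ∀ u ∈ (⁅pCore 2 P, E i⁆ : Subgroup P), ∑ k, f i u k = 0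
  f_surj : ∀ i, ∀ v : Fin n → ZMod 2, ∑ k, v k = 0 → ∃ u ∈ (⁅pCore 2 P, E i⁆ : Subgroup P), f i u = v
  f_ker : ∀ i, ∀ u ∈ (⁅pCore 2 P, E i⁆ : Subgroup P), f i u = 0 ↔ u ∈ Subgroup.centralizer (E i : Set P)
  f_conj : ∀ i, ∀ e ∈ E i, ∀ u ∈ (⁅pCore 2 P, E i⁆ : Subgroup P), ∀ k, f i (e * u * e⁻¹) k = f i u ((r i e)⁻¹ k)
  r_surj : ∀ i, ∀ h ∈ alternatingGroup (Fin n), ∃ e ∈ E i, r i e = h
  r_ker : ∀ i, ∀ e ∈ E i, r i e = 1 ↔ e ∈ (⁅pCore 2 P, E i⁆ : Subgroup P)

namespace SBl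

variable {T : Subgroup P} {I : Type} {n : ℕ} (B : SBl T I n)

theorem E_le (i : I) : B.E i ≤ pResidual 2 P := by
  rw [← B.sup]; exact le_iSup B.E i

theorem W_le (i : I) : ⁅pCore 2 P, B.E i⁆ ≤ ⁅pCore 2 P, pResidual 2 P⁆ := Subgroup.commutator_mono le_rfl (B.E_le i)

theorem WQ (i : I) : ⁅pCore 2 P, B.E i⁆ ≤ pCore 2 P := by
  have := Lib.Cores.pCore_normal (G := P) 2
  exact Subgroup.commutator_le_left _ _

theorem WWQ : ⁅pCore 2 P, pResidual 2 P⁆ ≤ pCore 2 P := by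
  have := Lib.Cores.pCore_normal (G := P) 2
  exact Subgroup.commutator_le_left _ _

theorem norW (i : I) {e u : P} (he : e ∈ B.E i) (hu : u ∈ ⁅pCore 2 P, B.E i⁆) : e * u * e⁻¹ ∈ ⁅pCore 2 P, B.E i⁆ := by
  have h1 : ⁅u⁻¹, e⁆ ∈ ⁅pCore 2 P, B.E i⁆ := Subgroup.commutator_mem_commutator (inv_mem (B.WQ i hu)) he
  have h2 : e * u * e⁻¹ = u * ⁅u⁻¹, e⁆ := by
    rw [commutatorElement_def]; group
  rw [h2]
  exact mul_mem hu h1

/-- conjugation between blocks -/
theorem conjW {t : P} {i j : I} (h : (B.E i).map (MulAut.conj t).toMonoidHom = B.E j) {u : P}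
    (hu : u ∈ ⁅pCore 2 P, B.E i⁆) : t * u * t⁻¹ ∈ ⁅pCore 2 P, B.E j⁆ := by
  have := Lib.Cores.pCore_normal (G := P) 2
  have h1 : (⁅pCore 2 P, B.E i⁆ : Subgroup P).map (MulAut.conj t).toMonoidHom = ⁅pCore 2 P, B.E j⁆ := by
    rw [Subgroup.map_commutator, h]
    congr 1
    exact Subgroup.Normal.map_conj_eq _ t
  rw [← h1]
  exact ⟨u, hu, rfl⟩

theorem conjE {t : P} {i j : I} (h : (B.E i).map (MulAut.conj t).toMonoidHom = B.E j) {u : P}
    (hu : u ∈ B.E i) : t * u * t⁻¹ ∈ B.E j := by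
  rw [← h]
  exact ⟨u, hu, rfl⟩

theorem conjC {t : P} {i j : I} (h : (B.E i).map (MulAut.conj t).toMonoidHom = B.E j) {u : P}
    (hu : u ∈ Subgroup.centralizer (B.E i : Set P)) : t * u * t⁻¹ ∈ Subgroup.centralizer (B.E j : Set P) := by
  rw [Subgroup.mem_centralizer_iff] at hu ⊢
  intro b hb
  rw [← h] at hb
  obtain ⟨a, ha, rfl⟩ := hb
  show t * a * t⁻¹ * (t * u * t⁻¹) = t * u * t⁻¹ * (t * a * t⁻¹)
  have h1 := hu a ha
  calc t * a * t⁻¹ * (t * u * t⁻¹) = t * (a * u) * t⁻¹ := by group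
    _ = t * (u * a) * t⁻¹ := by rw [h1]
    _ = _ := by group

theorem conj_eq_inv {t : P} {i j : I} (h : (B.E i).map (MulAut.conj t).toMonoidHom = B.E j) :
    (B.E j).map (MulAut.conj t⁻¹).toMonoidHom = B.E i := by
  rw [← h, Subgroup.map_map]
  convert Subgroup.map_id _
  ext x
  show t⁻¹ * (t * x * t⁻¹) * t⁻¹⁻¹ = x
  group

theorem E_cent {i j : I} (hij : i ≠ j) : B.E i ≤ Subgroup.centralizer (B.E j : Set P) := fun a ha => by
  rw [Subgroup.mem_centralizer_iff]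
  intro b hb
  exact (B.comm i j hij a ha b hb).symm

theorem mem_cent {i : I} {c e : P} (hc : c ∈ Subgroup.centralizer (B.E i : Set P)) (he : e ∈ B.E i) : e * c = c * e :=
  (Subgroup.mem_centralizer_iff.1 hc) e he

theorem exists_dec (i : I) {g : P} (hg : g ∈ pResidual 2 P) :
    ∃ e ∈ B.E i, ∃ c ∈ Subgroup.centralizer (B.E i : Set P), g = e * c := by
  apply mem_sup_comm (fun a ha b hb => B.mem_cent hb ha)
  rw [← B.sup] at hg
  refine (iSup_le fun j => ?_ : (⨆ j, B.E j) ≤ _) hg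
  by_cases hij : j = i
  · rw [hij]; exact le_sup_left
  · exact (B.E_cent hij).trans le_sup_right

theorem comm_cent (i : I) {q c : P} (hq : q ∈ pCore 2 P) (hc : c ∈ Subgroup.centralizer (B.E i : Set P)) :
    ⁅q, c⁆ ∈ Subgroup.centralizer (B.E i : Set P) := by
  rw [Subgroup.mem_centralizer_iff]
  intro e he
  have hec := B.mem_cent hc he
  have hu : ⁅q⁻¹, e⁆ ∈ ⁅pCore 2 P, B.E i⁆ := Subgroup.commutator_mem_commutator (inv_mem hq) he
  have huc := B.mem_cent hc (B.core i hu)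
  have h1 : e * q * e⁻¹ = q * ⁅q⁻¹, e⁆ := by
    rw [commutatorElement_def]; group
  rw [commutatorElement_def]
  set u := ⁅q⁻¹, e⁆
  have h2 : e * c * e⁻¹ = c := by rw [hec]; group
  have h3 : e * c⁻¹ * e⁻¹ = c⁻¹ := by
    have := congrArg (·⁻¹) h2
    simpa only [mul_assoc, _root_.mul_inv_rev, _root_.inv_inv] using this
  have h4 : u * c * u⁻¹ = c := by rw [huc]; group
  have h5 : e * (q * c * q⁻¹ * c⁻¹) * e⁻¹ = q * c * q⁻¹ * c⁻¹ := by
    calc e * (q * c * q⁻¹ * c⁻¹) * e⁻¹ = (e * q * e⁻¹) * (e * c * e⁻¹) * (e * q * e⁻¹)⁻¹ * (e * c⁻¹ * e⁻¹) := by group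
      _ = q * (u * c * u⁻¹) * q⁻¹ * c⁻¹ := by rw [h1, h2, h3]; group
      _ = _ := by rw [h4]
  calc e * (q * c * q⁻¹ * c⁻¹) = e * (q * c * q⁻¹ * c⁻¹) * e⁻¹ * e := by group
    _ = _ := by rw [h5]

/-- the component of an element of `W` -/
theorem exists_comp (i : I) {w : P} (hw : w ∈ ⁅pCore 2 P, pResidual 2 P⁆) :
    ∃ u ∈ (⁅pCore 2 P, B.E i⁆ : Subgroup P), u⁻¹ * w ∈ Subgroup.centralizer (B.E i : Set P) := by
  have h1 : ⁅pCore 2 P, pResidual 2 P⁆ ≤ ⁅pCore 2 P, B.E i⁆ ⊔ Subgroup.centralizer (B.E i : Set P) := by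
    rw [Subgroup.commutator_le]
    intro q hq g hg
    obtain ⟨e, he, c, hc, rfl⟩ := B.exists_dec i hg
    have h2 := B.comm_cent i hq hc
    have h3 := B.mem_cent h2 he
    have h4 : ⁅q, e * c⁆ = ⁅q, e⁆ * ⁅q, c⁆ := by
      have h5 : ⁅q, e * c⁆ = ⁅q, e⁆ * (e * ⁅q, c⁆ * e⁻¹) := by
        rw [commutatorElement_def, commutatorElement_def, commutatorElement_def]; group
      rw [h5, h3]; group
    rw [h4]
    exact mul_mem (Subgroup.mem_sup_left (Subgroup.commutator_mem_commutator hq he)) (Subgroup.mem_sup_right h2)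
  obtain ⟨u, hu, c, hc, rfl⟩ := mem_sup_comm (fun a ha b hb => B.mem_cent hb (B.core i ha)) (h1 hw)
  exact ⟨u, hu, by rwa [inv_mul_cancel_left]⟩

open Classical in
/-- the coordinate map -/
noncomputable def Ψ (w : P) (x : I × Fin n) : ZMod 2 :=
  if h : ∃ u, u ∈ (⁅pCore 2 P, B.E x.1⁆ : Subgroup P) ∧ u⁻¹ * w ∈ Subgroup.centralizer (B.E x.1 : Set P) then
    B.f x.1 h.choose x.2 else 0

theorem f_one (i : I) : B.f i 1 = 0 := by
  have h := B.f_mul i 1 (one_mem _) 1 (one_mem _)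
  rw [mul_one] at h
  exact left_eq_add.1 h

theorem Ψ_eq {w u : P} {i : I} (hu : u ∈ (⁅pCore 2 P, B.E i⁆ : Subgroup P))
    (hc : u⁻¹ * w ∈ Subgroup.centralizer (B.E i : Set P)) (k : Fin n) : B.Ψ w (i, k) = B.f i u k := by
  have h : ∃ u, u ∈ (⁅pCore 2 P, B.E i⁆ : Subgroup P) ∧ u⁻¹ * w ∈ Subgroup.centralizer (B.E i : Set P) := ⟨u, hu, hc⟩
  have h1 : B.Ψ w (i, k) = B.f i h.choose k := by
    unfold Ψ
    rw [dif_pos h]
  obtain ⟨h2, h3⟩ := h.choose_spec
  set u' := h.choose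
  rw [h1]
  have h4 : u'⁻¹ * u ∈ Subgroup.centralizer (B.E i : Set P) := by
    have : u'⁻¹ * u = (u'⁻¹ * w) * (u⁻¹ * w)⁻¹ := by group
    rw [this]
    exact mul_mem h3 (inv_mem hc)
  have h5 := (B.f_ker i _ (mul_mem (inv_mem h2) hu)).2 h4
  have h6 : B.f i u = B.f i u' + B.f i (u'⁻¹ * u) := by
    rw [← B.f_mul i _ h2 _ (mul_mem (inv_mem h2) hu), mul_inv_cancel_left]
  rw [h6, h5, add_zero]

theorem Ψ_mul {w w' : P} (hw : w ∈ ⁅pCore 2 P, pResidual 2 P⁆) (hw' : w' ∈ ⁅pCore 2 P, pResidual 2 P⁆) :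
    B.Ψ (w * w') = B.Ψ w + B.Ψ w' := by
  funext ⟨i, k⟩
  obtain ⟨u, hu, hc⟩ := B.exists_comp i hw
  obtain ⟨u', hu', hc'⟩ := B.exists_comp i hw'
  have h1 : (u * u')⁻¹ * (w * w') ∈ Subgroup.centralizer (B.E i : Set P) := by
    have h2 := B.mem_cent hc (inv_mem (B.core i hu'))
    have : (u * u')⁻¹ * (w * w') = (u⁻¹ * w) * (u'⁻¹ * w') := by
      calc (u * u')⁻¹ * (w * w') = u'⁻¹ * (u⁻¹ * w) * w' := by group
        _ = _ := by rw [h2]; group
    rw [this]
    exact mul_mem hc hc'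
  rw [Pi.add_apply, B.Ψ_eq hu hc, B.Ψ_eq hu' hc', B.Ψ_eq (mul_mem hu hu') h1, B.f_mul i u hu u' hu', Pi.add_apply]

theorem Ψ_even {w : P} (hw : w ∈ ⁅pCore 2 P, pResidual 2 P⁆) (i : I) : ∑ k, B.Ψ w (i, k) = 0 := by
  obtain ⟨u, hu, hc⟩ := B.exists_comp i hw
  rw [← B.f_even i u hu]
  exact Finset.sum_congr rfl fun k _ => B.Ψ_eq hu hc k

theorem Ψ_ker {w : P} (hw : w ∈ ⁅pCore 2 P, pResidual 2 P⁆) :
    B.Ψ w = 0 ↔ w ∈ Subgroup.centralizer (pResidual 2 P : Set P) := by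
  constructor
  · intro h
    have h1 : ∀ i, B.E i ≤ Subgroup.centralizer ({w} : Set P) := by
      intro i
      obtain ⟨u, hu, hc⟩ := B.exists_comp i hw
      have h2 : u ∈ Subgroup.centralizer (B.E i : Set P) := by
        rw [← B.f_ker i u hu]
        funext k
        rw [← B.Ψ_eq hu hc k, h]; rfl
      have h3 : w ∈ Subgroup.centralizer (B.E i : Set P) := by
        rw [← mul_inv_cancel_left u w]
        exact mul_mem h2 hc
      intro e he
      rw [Subgroup.mem_centralizer_singleton_iff]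
      exact B.mem_cent h3 he
    rw [← B.sup, Subgroup.mem_centralizer_iff]
    intro e he
    exact Subgroup.mem_centralizer_singleton_iff.1 ((iSup_le h1 : (⨆ i, B.E i) ≤ _) he)
  · intro h
    funext ⟨i, k⟩
    have h1 : (1 : P)⁻¹ * w ∈ Subgroup.centralizer (B.E i : Set P) := by
      rw [inv_one, one_mul]
      exact Subgroup.centralizer_le (B.E_le i) h
    rw [B.Ψ_eq (one_mem _) h1, B.f_one]; rfl

theorem Ψ_one : B.Ψ 1 = 0 := (B.Ψ_ker (one_mem _)).2 (one_mem _)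

theorem Ψ_surj [Finite I] (v : I × Fin n → ZMod 2) (hv : ∀ i, ∑ k, v (i, k) = 0) :
    ∃ w ∈ ⁅pCore 2 P, pResidual 2 P⁆, B.Ψ w = v := by
  classical
  have := Fintype.ofFinite I
  choose u hu hfu using fun i => B.f_surj i (fun k => v (i, k)) (hv i)
  have key : ∀ s : Finset I, ∃ w ∈ ⁅pCore 2 P, pResidual 2 P⁆, ∀ i k, B.Ψ w (i, k) = if i ∈ s then v (i, k) else 0 := by
    intro s
    induction s using Finset.induction_on with
    | empty => exact ⟨1, one_mem _, fun i k => by rw [B.Ψ_one]; simp⟩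
    | insert j s hj ih =>
      obtain ⟨w, hw, hww⟩ := ih
      refine ⟨w * u j, mul_mem hw (B.W_le j (hu j)), fun i k => ?_⟩
      rw [B.Ψ_mul hw (B.W_le j (hu j)), Pi.add_apply, hww]
      by_cases hij : i = j
      · subst hij
        have h1 : (u i)⁻¹ * u i ∈ Subgroup.centralizer (B.E i : Set P) := by
          rw [inv_mul_cancel]; exact one_mem _
        rw [B.Ψ_eq (hu i) h1, hfu, if_neg hj, if_pos (Finset.mem_insert_self _ _), zero_add]
      · have h1 : (1 : P)⁻¹ * u j ∈ Subgroup.centralizer (B.E i : Set P) := by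
          rw [inv_one, one_mul]
          exact B.E_cent (Ne.symm hij) (B.core j (hu j))
        rw [B.Ψ_eq (one_mem _) h1, B.f_one]
        simp only [Finset.mem_insert, hij, false_or, Pi.zero_apply, add_zero]
  obtain ⟨w, hw, hww⟩ := key Finset.univ
  exact ⟨w, hw, funext fun ⟨i, k⟩ => by rw [hww, if_pos (Finset.mem_univ i)]⟩

/-! ### Equivariance -/

/-- the permutation `s` describes the action of `g` -/
def Good (g : P) (s : Equiv.Perm (I × Fin n)) : Prop :=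
  ∀ w ∈ ⁅pCore 2 P, pResidual 2 P⁆, ∀ x, B.Ψ (g * w * g⁻¹) (s x) = B.Ψ w x

theorem W_nor : (⁅pCore 2 P, pResidual 2 P⁆ : Subgroup P).Normal := by
  have := Lib.Cores.pCore_normal (G := P) 2
  have := Transfer.Residual.pResidual_normal (G := P) 2
  infer_instance

theorem W_conj (g : P) {w : P} (hw : w ∈ ⁅pCore 2 P, pResidual 2 P⁆) : g * w * g⁻¹ ∈ ⁅pCore 2 P, pResidual 2 P⁆ :=
  (W_nor).conj_mem w hw g

theorem good_mul {g g' : P} {s s' : Equiv.Perm (I × Fin n)} (h : B.Good g s) (h' : B.Good g' s') :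
    B.Good (g * g') (s * s') := by
  intro w hw x
  have h1 : g * g' * w * (g * g')⁻¹ = g * (g' * w * g'⁻¹) * g⁻¹ := by group
  rw [h1, Equiv.Perm.mul_apply, h _ (W_conj g' hw), h' w hw]

theorem good_one : B.Good 1 1 := by
  intro w hw x
  rw [one_mul, inv_one, mul_one]; rfl

theorem good_inv {g : P} {s : Equiv.Perm (I × Fin n)} (h : B.Good g s) : B.Good g⁻¹ s⁻¹ := by
  intro w hw x
  have h1 := h _ (W_conj g⁻¹ hw) (s⁻¹ x)
  rw [← h1]
  congr 1
  · group
  · exact s.apply_symm_apply x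

/-- weight two vectors in a block -/
def ee [DecidableEq I] (x y : I × Fin n) : I × Fin n → ZMod 2 := fun z =>
  (if z = x then 1 else 0) + (if z = y then 1 else 0)

theorem sum_delta [DecidableEq I] (x : I × Fin n) (i : I) :
    ∑ k, (if ((i, k) : I × Fin n) = x then (1 : ZMod 2) else 0) = if x.1 = i then 1 else 0 := by
  obtain ⟨j, l⟩ := x
  by_cases hij : j = i
  · subst hij
    simp only [_root_.Prod.mk.injEq, _root_.true_and, _root_.Finset.sum_ite_eq', _root_.Finset.mem_univ, ↓ _root_.reduceIte]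
  · rw [if_neg hij]
    apply Finset.sum_eq_zero
    intro k _
    rw [if_neg]
    intro h
    exact hij (congrArg Prod.fst h).symm

theorem ee_even [DecidableEq I] {x y : I × Fin n} (h : x.1 = y.1) (i : I) : ∑ k, ee x y (i, k) = 0 := by
  unfold ee
  rw [Finset.sum_add_distrib, sum_delta, sum_delta, h]
  exact two2 _

theorem exists_ee [Finite I] [DecidableEq I] {x y : I × Fin n} (h : x.1 = y.1) :
    ∃ w ∈ ⁅pCore 2 P, pResidual 2 P⁆, B.Ψ w = ee x y := B.Ψ_surj _ (ee_even h)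

theorem good_unique [Finite I] {g : P} {s s' : Equiv.Perm (I × Fin n)} (h : B.Good g s) (h' : B.Good g s') : s = s' := by
  classical
  ext1 x
  by_contra hne
  obtain ⟨i, k⟩ := x
  obtain ⟨k', hk', hk''⟩ : ∃ k' : Fin n, k' ≠ k ∧ (i, k') ≠ s⁻¹ (s' (i, k)) := by
    by_contra hcon
    push Not at hcon
    have h1 : (Finset.univ : Finset (Fin n)) ⊆ {k, (s⁻¹ (s' (i, k))).2} := by
      intro k' _
      by_cases hk : k' = k
      · rw [hk]; exact Finset.mem_insert_self _ _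
      · rw [← hcon k' hk]
        exact Finset.mem_insert_of_mem (Finset.mem_singleton_self _)
    have h2 := Finset.card_le_card h1
    rw [Finset.card_univ, Fintype.card_fin] at h2
    have h3 := Finset.card_le_two (a := k) (b := (s⁻¹ (s' (i, k))).2)
    have := B.n3
    omega
  obtain ⟨w, hw, hww⟩ := B.exists_ee (x := (i, k)) (y := (i, k')) rfl
  have h1 := h w hw (s⁻¹ (s' (i, k)))
  have h2 := h' w hw (i, k)
  have h3 : s (s⁻¹ (s' (i, k))) = s' (i, k) := s.apply_symm_apply _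
  rw [h3, h2, hww] at h1
  have h4 : s⁻¹ (s' (i, k)) ≠ (i, k) := by
    intro h
    rw [h] at h3
    exact hne h3
  unfold ee at h1
  rw [if_pos rfl, if_neg (fun e => hk' (congrArg Prod.snd e).symm), if_neg h4, if_neg (Ne.symm hk''), add_zero, add_zero] at h1
  exact one_ne_zero h1

theorem good_E {i : I} {e : P} (he : e ∈ B.E i) :
    ∃ s : Equiv.Perm (I × Fin n), B.Good e s ∧ (∀ k, s (i, k) = (i, B.r i e k)) ∧ ∀ j, j ≠ i → ∀ k, s (j, k) = (j, k) := by
  classical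
  let s : Equiv.Perm (I × Fin n) :=
    { toFun := fun x => if x.1 = i then (x.1, B.r i e x.2) else x
      invFun := fun x => if x.1 = i then (x.1, (B.r i e)⁻¹ x.2) else x
      left_inv := by
        rintro ⟨j, k⟩
        by_cases h : j = i
        · simp only [h, if_true]
          exact Prod.ext rfl ((B.r i e).symm_apply_apply k)
        · simp only [h, if_false]
      right_inv := by
        rintro ⟨j, k⟩
        by_cases h : j = i
        · simp only [h, if_true]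
          exact Prod.ext rfl ((B.r i e).apply_symm_apply k)
        · simp only [h, if_false] }
  have s1 : ∀ k, s (i, k) = (i, B.r i e k) := fun k => by
    show (if i = i then _ else _) = _
    rw [if_pos rfl]
  have s2 : ∀ j, j ≠ i → ∀ k, s (j, k) = (j, k) := fun j hj k => by
    show (if j = i then _ else _) = _
    rw [if_neg hj]
  refine ⟨s, ?_, s1, s2⟩
  rintro w hw ⟨j, k⟩
  obtain ⟨u, hu, hc⟩ := B.exists_comp j hw
  by_cases hji : j = i
  · subst hji
    have h1 := B.norW j he hu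
    have h2 : (e * u * e⁻¹)⁻¹ * (e * w * e⁻¹) ∈ Subgroup.centralizer (B.E j : Set P) := by
      have h3 := B.mem_cent hc he
      have : (e * u * e⁻¹)⁻¹ * (e * w * e⁻¹) = u⁻¹ * w := by
        calc (e * u * e⁻¹)⁻¹ * (e * w * e⁻¹) = e * (u⁻¹ * w) * e⁻¹ := by group
          _ = _ := by rw [h3]; group
      rw [this]; exact hc
    rw [s1, B.Ψ_eq h1 h2, B.Ψ_eq hu hc, B.f_conj j e he u hu]
    congr 1
    exact (B.r j e).symm_apply_apply k
  · rw [s2 j hji]
    have h2 : u⁻¹ * (e * w * e⁻¹) ∈ Subgroup.centralizer (B.E j : Set P) := by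
      have h3 := B.comm i j (Ne.symm hji) e he u (B.core j hu)
      have h4 : e ∈ Subgroup.centralizer (B.E j : Set P) := B.E_cent (Ne.symm hji) he
      have : u⁻¹ * (e * w * e⁻¹) = e * (u⁻¹ * w) * e⁻¹ := by
        calc u⁻¹ * (e * w * e⁻¹) = u⁻¹ * e * w * e⁻¹ := by group
          _ = u⁻¹ * (e * u) * u⁻¹ * w * e⁻¹ := by group
          _ = _ := by rw [h3]; group
      rw [this]
      exact mul_mem (mul_mem h4 hc) (inv_mem h4)
    rw [B.Ψ_eq hu h2, B.Ψ_eq hu hc]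

theorem good_T {t : P} (τ : I → I) (hτ : ∀ i, (B.E i).map (MulAut.conj t).toMonoidHom = B.E (τ i)) [Finite I] :
    ∃ s : Equiv.Perm (I × Fin n), B.Good t s ∧ ∀ i k, (s (i, k)).1 = τ i := by
  classical
  have hb : ∀ i, ∃ π : Equiv.Perm (Fin n), ∀ u ∈ (⁅pCore 2 P, B.E i⁆ : Subgroup P), ∀ k,
      B.f (τ i) (t * u * t⁻¹) (π k) = B.f i u k := by
    intro i
    choose g hg hfg using fun v : Ev (Fin n) => B.f_surj i (v : Fin n → ZMod 2) v.2
    have hmem : ∀ u ∈ (⁅pCore 2 P, B.E i⁆ : Subgroup P), t * u * t⁻¹ ∈ (⁅pCore 2 P, B.E (τ i)⁆ : Subgroup P) :=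
      fun u hu => B.conjW (hτ i) hu
    have key : ∀ u ∈ (⁅pCore 2 P, B.E i⁆ : Subgroup P), ∀ u' ∈ (⁅pCore 2 P, B.E i⁆ : Subgroup P),
        B.f i u = B.f i u' → B.f (τ i) (t * u * t⁻¹) = B.f (τ i) (t * u' * t⁻¹) := by
      intro u hu u' hu' h
      have h1 : B.f i (u'⁻¹ * u) = 0 := by
        have h2 : B.f i u = B.f i u' + B.f i (u'⁻¹ * u) := by
          rw [← B.f_mul i _ hu' _ (mul_mem (inv_mem hu') hu), mul_inv_cancel_left]
        rw [h] at h2
        exact left_eq_add.1 h2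
      have h2 := (B.f_ker i _ (mul_mem (inv_mem hu') hu)).1 h1
      have h3 := B.conjC (hτ i) h2
      have h4 := (B.f_ker (τ i) _ (hmem _ (mul_mem (inv_mem hu') hu))).2 h3
      have h5 : t * u * t⁻¹ = (t * u' * t⁻¹) * (t * (u'⁻¹ * u) * t⁻¹) := by group
      rw [h5, B.f_mul (τ i) _ (hmem _ hu') _ (hmem _ (mul_mem (inv_mem hu') hu)), h4, add_zero]
    have key' : ∀ u ∈ (⁅pCore 2 P, B.E i⁆ : Subgroup P), B.f (τ i) (t * u * t⁻¹) = 0 → B.f i u = 0 := by
      intro u hu h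
      have h1 := (B.f_ker (τ i) _ (hmem _ hu)).1 h
      have h2 := B.conjC (B.conj_eq_inv (hτ i)) h1
      rw [B.f_ker i _ hu]
      have h3 : t⁻¹ * (t * u * t⁻¹) * t⁻¹⁻¹ = u := by group
      rwa [h3] at h2
    let β : Ev (Fin n) →+ Ev (Fin n) :=
      { toFun := fun v => ⟨B.f (τ i) (t * g v * t⁻¹), B.f_even (τ i) _ (hmem _ (hg v))⟩
        map_zero' := by
          apply Subtype.ext
          show B.f (τ i) (t * g 0 * t⁻¹) = 0
          rw [key _ (hg 0) 1 (one_mem _) (by rw [hfg, B.f_one]; rfl), mul_one, mul_inv_cancel, B.f_one]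
        map_add' := by
          intro v v'
          apply Subtype.ext
          show B.f (τ i) (t * g (v + v') * t⁻¹) = B.f (τ i) (t * g v * t⁻¹) + B.f (τ i) (t * g v' * t⁻¹)
          rw [key _ (hg (v + v')) (g v * g v') (mul_mem (hg v) (hg v')) (by
            rw [hfg, B.f_mul i _ (hg v) _ (hg v'), hfg, hfg]; rfl),
            ← B.f_mul (τ i) _ (hmem _ (hg v)) _ (hmem _ (hg v'))]
          congr 1
          group }
    have hβf : ∀ u (hu : u ∈ (⁅pCore 2 P, B.E i⁆ : Subgroup P)),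
        (β ⟨B.f i u, B.f_even i u hu⟩ : Fin n → ZMod 2) = B.f (τ i) (t * u * t⁻¹) := by
      intro u hu
      exact key _ (hg _) u hu (by rw [hfg])
    have hβ : Function.Injective β := by
      rw [injective_iff_map_eq_zero]
      intro v hv
      apply Subtype.ext
      have h1 := key' _ (hg v) (congrArg Subtype.val hv)
      rw [hfg] at h1
      exact h1
    have hc : ∀ h ∈ alternatingGroup (Fin n), ∃ h' : Equiv.Perm (Fin n), ∀ v : Ev (Fin n),
        (β (paE h v) : Fin n → ZMod 2) = pa h' (β v) := by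
      intro h hh
      obtain ⟨e, he, hre⟩ := B.r_surj i h hh
      have he' := B.conjE (hτ i) he
      refine ⟨B.r (τ i) (t * e * t⁻¹), fun v => ?_⟩
      have h1 : paE h v = ⟨B.f i (e * g v * e⁻¹), B.f_even i _ (B.norW i he (hg v))⟩ := by
        apply Subtype.ext
        funext k
        show (v : Fin n → ZMod 2) (h⁻¹ k) = B.f i (e * g v * e⁻¹) k
        rw [B.f_conj i e he _ (hg v), hre, hfg]
      rw [h1, hβf _ (B.norW i he (hg v))]
      funext k
      show _ = B.f (τ i) (t * g v * t⁻¹) ((B.r (τ i) (t * e * t⁻¹))⁻¹ k)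
      rw [← B.f_conj (τ i) _ he' _ (hmem _ (hg v))]
      congr 1
      group
    obtain ⟨π, hπ⟩ := exists_perm β hβ (by rw [Fintype.card_fin]; exact B.n3) hc
    refine ⟨π, fun u hu k => ?_⟩
    rw [← hβf u hu, hπ]
  choose π hπ using hb
  have hinj : Function.Injective τ := by
    intro i j hij
    apply B.inj
    have h1 := hτ i
    rw [hij, ← hτ j] at h1
    exact Subgroup.map_injective (MulAut.conj t).injective h1
  have hsinj : Function.Injective (fun x : I × Fin n => (τ x.1, π x.1 x.2)) := by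
    rintro ⟨i, k⟩ ⟨j, l⟩ h
    have h1 : τ i = τ j := congrArg Prod.fst h
    have h2 : i = j := hinj h1
    subst h2
    have h3 : π i k = π i l := congrArg Prod.snd h
    rw [(π i).injective h3]
  let s : Equiv.Perm (I × Fin n) := Equiv.ofBijective _ (Finite.injective_iff_bijective.1 hsinj)
  refine ⟨s, ?_, fun i k => rfl⟩
  rintro w hw ⟨i, k⟩
  show B.Ψ (t * w * t⁻¹) (τ i, π i k) = _
  obtain ⟨u, hu, hc⟩ := B.exists_comp i hw
  have h1 := B.conjW (hτ i) hu
  have h2 : (t * u * t⁻¹)⁻¹ * (t * w * t⁻¹) ∈ Subgroup.centralizer (B.E (τ i) : Set P) := by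
    have : (t * u * t⁻¹)⁻¹ * (t * w * t⁻¹) = t * (u⁻¹ * w) * t⁻¹ := by group
    rw [this]
    exact B.conjC (hτ i) hc
  rw [B.Ψ_eq h1 h2, B.Ψ_eq hu hc, hπ i u hu]

theorem exists_good [Finite P] [Finite I] (hT : pResidual 2 P ⊔ T = ⊤) (g : P) : ∃ s, B.Good g s := by
  let M : Subgroup P :=
    { carrier := {g | ∃ s, B.Good g s}
      one_mem' := ⟨1, B.good_one⟩
      mul_mem' := by
        rintro _ _ ⟨s, hs⟩ ⟨s', hs'⟩
        exact ⟨_, B.good_mul hs hs'⟩
      inv_mem' := by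
        rintro _ ⟨s, hs⟩
        exact ⟨_, B.good_inv hs⟩ }
  have h1 : pResidual 2 P ⊔ T ≤ M := by
    refine sup_le ?_ ?_
    · rw [← B.sup]
      refine iSup_le fun i e he => ?_
      obtain ⟨s, hs, -⟩ := B.good_E he
      exact ⟨s, hs⟩
    · intro t ht
      choose τ hτ using B.perm t ht
      obtain ⟨s, hs, -⟩ := B.good_T τ hτ
      exact ⟨s, hs⟩
  rw [hT] at h1
  exact h1 (Subgroup.mem_top g)

/-- the action of `P` on the points of the blocks -/
noncomputable def σ [Finite P] [Finite I] (hT : pResidual 2 P ⊔ T = ⊤) : P →* Equiv.Perm (I × Fin n) where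
  toFun g := (B.exists_good hT g).choose
  map_one' := B.good_unique (B.exists_good hT 1).choose_spec B.good_one
  map_mul' g g' := B.good_unique (B.exists_good hT (g * g')).choose_spec
    (B.good_mul (B.exists_good hT g).choose_spec (B.exists_good hT g').choose_spec)

theorem σ_good [Finite P] [Finite I] (hT : pResidual 2 P ⊔ T = ⊤) (g : P) : B.Good g (B.σ hT g) :=
  (B.exists_good hT g).choose_spec

theorem σ_eq [Finite P] [Finite I] (hT : pResidual 2 P ⊔ T = ⊤) {g : P} {s : Equiv.Perm (I × Fin n)} (h : B.Good g s) :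
    B.σ hT g = s := B.good_unique (B.σ_good hT g) h

theorem σ_Q [Finite P] [Finite I] (hT : pResidual 2 P ⊔ T = ⊤) {g : P} (hg : g ∈ pCore 2 P) : B.σ hT g = 1 := by
  apply B.σ_eq
  intro w hw x
  have h1 := B.bw.W_comm w hw g hg
  have : g * w * g⁻¹ = w := by rw [← h1]; group
  rw [this]; rfl

/-- an element of `O²(P)` acting trivially lies in `W` -/
theorem ker_K [Finite P] [Finite I] (hT : pResidual 2 P ⊔ T = ⊤) {g : P} (hg : g ∈ pResidual 2 P) (hσ : B.σ hT g = 1) :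
    g ∈ ⁅pCore 2 P, pResidual 2 P⁆ := by
  classical
  have := Fintype.ofFinite I
  have hcomm : Pairwise fun i j : I => ∀ x y : P, x ∈ B.E i → y ∈ B.E j → Commute x y :=
    fun i j hij x y hx hy => B.comm i j hij x hx y hy
  have h1 : g ∈ (Subgroup.noncommPiCoprod hcomm).range := by
    rw [Subgroup.noncommPiCoprod_range, B.sup]; exact hg
  obtain ⟨e, rfl⟩ := h1
  -- each component acts trivially
  have h2 : ∀ i, (e i : P) ∈ (⁅pCore 2 P, B.E i⁆ : Subgroup P) := by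
    intro i
    rw [← B.r_ker i _ (e i).2]
    -- the rest centralizes `E i`
    have h3 : Subgroup.noncommPiCoprod hcomm e = (e i : P) * Subgroup.noncommPiCoprod hcomm ((Pi.mulSingle i (e i))⁻¹ * e) := by
      rw [map_mul, map_inv, Subgroup.noncommPiCoprod_mulSingle, mul_inv_cancel_left]
    set c := Subgroup.noncommPiCoprod hcomm ((Pi.mulSingle i (e i))⁻¹ * e) with hc
    have h4 : c ∈ Subgroup.centralizer (B.E i : Set P) := by
      rw [Subgroup.mem_centralizer_iff]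
      intro a ha
      have h5 : Subgroup.noncommPiCoprod hcomm (Pi.mulSingle i ⟨a, ha⟩) = a := Subgroup.noncommPiCoprod_mulSingle i ⟨a, ha⟩
      rw [hc, ← h5, ← map_mul, ← map_mul]
      congr 1
      funext j
      by_cases hji : j = i
      · subst hji
        simp only [_root_.Pi.mul_apply, _root_.Pi.mulSingle_eq_same, _root_.Pi.inv_apply, _root_.inv_mul_cancel, _root_.mul_one, _root_.one_mul]
      · simp only [Pi.mulSingle_eq_of_ne hji, _root_.Pi.mul_apply, _root_.Pi.inv_apply, _root_.inv_one, _root_.one_mul, _root_.mul_one]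
    -- hence acts trivially on block `i`
    obtain ⟨s, hs, hs1, -⟩ := B.good_E (e i).2
    have h5 : B.Good c (s⁻¹ * B.σ hT (Subgroup.noncommPiCoprod hcomm e)) := by
      have h6 : c = (e i : P)⁻¹ * Subgroup.noncommPiCoprod hcomm e := by rw [h3, inv_mul_cancel_left]
      rw [h6]
      exact B.good_mul (B.good_inv hs) (B.σ_good hT _)
    rw [hσ, mul_one] at h5
    ext1 k
    by_contra hne
    -- evaluate on weight two vectors
    have h6 : ∀ w ∈ ⁅pCore 2 P, pResidual 2 P⁆, ∀ k, B.Ψ (c * w * c⁻¹) (i, k) = B.Ψ w (i, k) := by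
      intro w hw k
      obtain ⟨u, hu, huc⟩ := B.exists_comp i hw
      have h7 : u⁻¹ * (c * w * c⁻¹) ∈ Subgroup.centralizer (B.E i : Set P) := by
        have h8 := B.mem_cent h4 (inv_mem (B.core i hu))
        have : u⁻¹ * (c * w * c⁻¹) = c * (u⁻¹ * w) * c⁻¹ := by
          calc u⁻¹ * (c * w * c⁻¹) = (u⁻¹ * c) * w * c⁻¹ := by group
            _ = _ := by rw [h8]; group
        rw [this]
        exact mul_mem (mul_mem h4 huc) (inv_mem h4)
      rw [B.Ψ_eq hu h7, B.Ψ_eq hu huc]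
    obtain ⟨k', hk', hk''⟩ : ∃ k' : Fin n, k' ≠ k ∧ k' ≠ B.r i (e i) k := by
      by_contra hcon
      push Not at hcon
      have h1 : (Finset.univ : Finset (Fin n)) ⊆ {k, B.r i (e i) k} := by
        intro k' _
        by_cases hk : k' = k
        · rw [hk]; exact Finset.mem_insert_self _ _
        · rw [← hcon k' hk]
          exact Finset.mem_insert_of_mem (Finset.mem_singleton_self _)
      have h2 := Finset.card_le_card h1
      rw [Finset.card_univ, Fintype.card_fin] at h2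
      have h3 := Finset.card_le_two (a := k) (b := B.r i (e i) k)
      have := B.n3
      omega
    obtain ⟨w, hw, hww⟩ := B.exists_ee (x := (i, B.r i (e i) k)) (y := (i, k')) rfl
    have h7 := h5 w hw (i, B.r i (e i) k)
    have h8 : s⁻¹ (i, B.r i (e i) k) = (i, k) := by
      rw [← hs1]; exact s.symm_apply_apply _
    rw [h8, h6 w hw, hww] at h7
    unfold ee at h7
    rw [if_neg (fun e => hne (congrArg Prod.snd e).symm), if_neg (fun e => hk' (congrArg Prod.snd e).symm), if_pos rfl,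
      if_neg (fun e => hk'' (congrArg Prod.snd e).symm), add_zero, add_zero] at h7
    exact zero_ne_one h7
  rw [Subgroup.noncommPiCoprod_apply]
  exact Subgroup.noncommProd_mem _ _ fun i _ => B.W_le i (h2 i)

theorem σ_ker [Finite P] [Finite I] (hT : pResidual 2 P ⊔ T = ⊤) (g : P) : B.σ hT g = 1 ↔ g ∈ pCore 2 P := by
  refine ⟨fun h => ?_, B.σ_Q hT⟩
  have h1 : IsPGroup 2 (B.σ hT).ker := by
    rintro ⟨x, hx⟩
    obtain ⟨k, hk⟩ := Transfer.Residual.exists_pow_mem_pResidual 2 x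
    have h2 := B.ker_K hT hk (by rw [map_pow, MonoidHom.mem_ker.1 hx, one_pow])
    refine ⟨k + 1, Subtype.ext ?_⟩
    show x ^ 2 ^ (k + 1) = 1
    rw [pow_succ, pow_mul]
    exact B.bw.W_sq _ h2
  exact Lib.Cores.le_pCore (MonoidHom.normal_ker _) h1 h

end SBl

/-! ### The interface -/

/-- the permutation description of `P`: `I × Fin n` are the points, the fibres of the first projection are the blocks -/
structure Sy {P : Type*} [Group P] (T : Subgroup P) (I : Type) (n : ℕ) where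
  Ψ : P → (I × Fin n → ZMod 2)
  σ : P →* Equiv.Perm (I × Fin n)
  fin : Finite I
  ne : Nonempty I
  n3 : 3 ≤ n
  npow : ∃ k : ℕ, n = 2 ^ k + 1
  nodd : ¬ 2 ∣ n
  bw : BW T
  mul : ∀ w ∈ (⁅pCore 2 P, pResidual 2 P⁆ : Subgroup P), ∀ w' ∈ (⁅pCore 2 P, pResidual 2 P⁆ : Subgroup P),
    Ψ (w * w') = Ψ w + Ψ w'
  even : ∀ w ∈ (⁅pCore 2 P, pResidual 2 P⁆ : Subgroup P), ∀ i, ∑ k, Ψ w (i, k) = 0
  ker : ∀ w ∈ (⁅pCore 2 P, pResidual 2 P⁆ : Subgroup P), Ψ w = 0 ↔ w ∈ Subgroup.centralizer (pResidual 2 P : Set P)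
  surj : ∀ v : I × Fin n → ZMod 2, (∀ i, ∑ k, v (i, k) = 0) → ∃ w ∈ (⁅pCore 2 P, pResidual 2 P⁆ : Subgroup P), Ψ w = v
  eqv : ∀ g, ∀ w ∈ (⁅pCore 2 P, pResidual 2 P⁆ : Subgroup P), ∀ x, Ψ (g * w * g⁻¹) (σ g x) = Ψ w x
  σker : ∀ g, σ g = 1 ↔ g ∈ pCore 2 P
  KQ : ∀ g ∈ pResidual 2 P, g ∈ pCore 2 P → g ∈ (⁅pCore 2 P, pResidual 2 P⁆ : Subgroup P)
  alt : ∀ i, ∀ π ∈ alternatingGroup (Fin n), ∃ e ∈ pResidual 2 P, (∀ k, σ e (i, k) = (i, π k)) ∧
    ∀ j, j ≠ i → ∀ k, σ e (j, k) = (j, k)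
  trans : ∀ i j, ∃ t ∈ T, ∀ k, (σ t (i, k)).1 = j
  blk : ∀ g i k k', (σ g (i, k)).1 = (σ g (i, k')).1

theorem SBl.toSy [Finite P] {T : Subgroup P} {I : Type} {n : ℕ} (B : SBl T I n) [Finite I] [Nonempty I]
    (hT : pResidual 2 P ⊔ T = ⊤) (h1 : ∃ k : ℕ, n = 2 ^ k + 1) (h2 : ¬ 2 ∣ n) : Nonempty (Sy T I n) := by
  classical
  refine ⟨{ Ψ := B.Ψ
            σ := B.σ hT
            fin := inferInstance
            ne := inferInstance
            n3 := B.n3
            npow := h1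
            nodd := h2
            bw := B.bw
            mul := fun w hw w' hw' => B.Ψ_mul hw hw'
            even := fun w hw i => B.Ψ_even hw i
            ker := fun w hw => B.Ψ_ker hw
            surj := B.Ψ_surj
            eqv := B.σ_good hT
            σker := B.σ_ker hT
            KQ := fun g hg hQ => B.ker_K hT hg (B.σ_Q hT hQ)
            alt := ?_
            trans := ?_
            blk := ?_ }⟩
  · intro i π hπ
    obtain ⟨e, he, hre⟩ := B.r_surj i π hπ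
    obtain ⟨s, hs, hs1, hs2⟩ := B.good_E he
    have h3 := B.σ_eq hT hs
    refine ⟨e, B.E_le i he, fun k => ?_, fun j hj k => ?_⟩
    · rw [h3, hs1, hre]
    · rw [h3, hs2 j hj]
  · intro i j
    obtain ⟨t, ht, hij⟩ := B.trans i j
    choose τ hτ using B.perm t ht
    obtain ⟨s, hs, hs1⟩ := B.good_T τ hτ
    have h3 := B.σ_eq hT hs
    refine ⟨t, ht, fun k => ?_⟩
    rw [h3, hs1]
    exact B.inj ((hτ i).symm.trans hij)
  · intro g i k k'
    by_contra hne
    obtain ⟨w, hw, hww⟩ := B.exists_ee (x := (i, k)) (y := (i, k')) rfl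
    have h3 := B.Ψ_even (SBl.W_conj g hw) (B.σ hT g (i, k)).1
    have h4 : ∀ z, B.Ψ (g * w * g⁻¹) z = SBl.ee (B.σ hT g (i, k)) (B.σ hT g (i, k')) z := by
      intro z
      have h5 := B.σ_good hT g w hw ((B.σ hT g).symm z)
      rw [Equiv.apply_symm_apply] at h5
      rw [h5, hww]
      unfold SBl.ee
      simp only [Equiv.symm_apply_eq]
    rw [Finset.sum_congr rfl fun l _ => h4 _] at h3
    unfold SBl.ee at h3
    rw [Finset.sum_add_distrib, SBl.sum_delta, SBl.sum_delta, if_pos rfl, if_neg (Ne.symm hne), add_zero] at h3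
    exact one_ne_zero h3

/-- the symmetric case of `Blk.typ` -/
theorem exists_Sy [Finite P] (T : Sylow 2 P) (b : Blk (T : Subgroup P))
    (h : ∃ m : ℕ, 1 ≤ m ∧ (∃ k : ℕ, 2 * m = 2 ^ k) ∧
      ∀ i, ∃ (ρ : ↥(b.E i) →* Equiv.Perm (Fin (2 * m + 1)))
        (ψ : ↥(⁅pCore 2 P, b.E i⁆ : Subgroup P) →* Multiplicative (Fin (2 * m + 1) → ZMod 2)),
        ρ.range = alternatingGroup (Fin (2 * m + 1)) ∧
        (∀ e, ρ e = 1 ↔ (e : P) ∈ ⁅pCore 2 P, b.E i⁆) ∧
        (∀ w, ∑ k, Multiplicative.toAdd (ψ w) k = 0) ∧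
        (∀ v : Fin (2 * m + 1) → ZMod 2, ∑ k, v k = 0 → ∃ w, Multiplicative.toAdd (ψ w) = v) ∧
        (∀ w, ψ w = 1 ↔ (w : P) ∈ Subgroup.centralizer (b.E i : Set P)) ∧
        ∀ (e : b.E i) (w w' : ↥(⁅pCore 2 P, b.E i⁆ : Subgroup P)), (w' : P) = (e : P) * w * (e : P)⁻¹ →
          ∀ k, Multiplicative.toAdd (ψ w') k = Multiplicative.toAdd (ψ w) ((ρ e)⁻¹ k)) :
    ∃ n : ℕ, Nonempty (Sy (T : Subgroup P) b.I n) := by
  classical
  obtain ⟨m, hm, ⟨k, hk⟩, h⟩ := h
  choose ρ ψ hρr hρk hψe hψs hψk hψρ using h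
  have := b.fin
  have := b.ne
  refine ⟨2 * m + 1, ?_⟩
  let B : SBl (T : Subgroup P) b.I (2 * m + 1) :=
    { E := b.E
      inj := b.inj
      comm := by
        intro i j hij x hx y hy
        have h1 : ⁅x, y⁆ ∈ (⊥ : Subgroup P) := by
          rw [← b.comm i j hij]
          exact Subgroup.commutator_mem_commutator hx hy
        exact commutatorElement_eq_one_iff_mul_comm.1 (Subgroup.mem_bot.1 h1)
      sup := b.sup
      perm := b.perm
      trans := b.trans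
      core := fun i => by
        rw [← b.core i]
        exact Subgroup.map_subtype_le _
      bw := b.bw
      n3 := by omega
      f := fun i u => if hu : u ∈ (⁅pCore 2 P, b.E i⁆ : Subgroup P) then Multiplicative.toAdd (ψ i ⟨u, hu⟩) else 0
      r := fun i e => if he : e ∈ b.E i then ρ i ⟨e, he⟩ else 1
      f_mul := by
        intro i u hu u' hu'
        rw [dif_pos hu, dif_pos hu', dif_pos (mul_mem hu hu'), ← toAdd_mul, ← map_mul]
        rfl
      f_even := by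
        intro i u hu
        rw [dif_pos hu]
        exact hψe i _
      f_surj := by
        intro i v hv
        obtain ⟨w, hw⟩ := hψs i v hv
        exact ⟨w, w.2, by rw [dif_pos w.2]; exact hw⟩
      f_ker := by
        intro i u hu
        rw [dif_pos hu]
        exact hψk i ⟨u, hu⟩
      f_conj := by
        intro i e he u hu k
        have hmem : e * u * e⁻¹ ∈ (⁅pCore 2 P, b.E i⁆ : Subgroup P) := by
          have := Lib.Cores.pCore_normal (G := P) 2
          have hQ : (⁅pCore 2 P, b.E i⁆ : Subgroup P) ≤ pCore 2 P := Subgroup.commutator_le_left _ _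
          have h1 : ⁅u⁻¹, e⁆ ∈ (⁅pCore 2 P, b.E i⁆ : Subgroup P) :=
            Subgroup.commutator_mem_commutator (inv_mem (hQ hu)) he
          have h2 : e * u * e⁻¹ = u * ⁅u⁻¹, e⁆ := by
            rw [commutatorElement_def]; group
          rw [h2]
          exact mul_mem hu h1
        rw [dif_pos hu, dif_pos hmem, dif_pos he]
        exact hψρ i ⟨e, he⟩ ⟨u, hu⟩ ⟨_, hmem⟩ rfl k
      r_surj := by
        intro i h hh
        rw [← hρr i] at hh
        obtain ⟨e, he⟩ := hh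
        exact ⟨e, e.2, by rw [dif_pos e.2]; exact he⟩
      r_ker := by
        intro i e he
        rw [dif_pos he]
        exact hρk i ⟨e, he⟩ }
  exact B.toSy (Transfer.Residual.pResidual_sup_sylow T) ⟨k, by omega⟩ (by omega)

end Cfsg.Agent.H41.HM
end

-- part: H41/HM/Full
section
/-!
# S5175, symmetric blocks: the result of the offender analysis (helper41)
-/

set_option autoImplicit false

namespace Cfsg.Agent.H41.HM

open Cfsg Cfsg.Agent.H756.HM
open scoped commutatorElement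

variable {P : Type*} [Group P] {T : Subgroup P} {I : Type} {n : ℕ}

/-- `X` acts on the points as the full group of all products of certain pairwise disjoint transpositions, each contained
in a block, with exactly one fixed point in each block; and `C_W(X)` is the full preimage of the fixed vectors. -/
structure Full (S : Sy T I n) (X : Subgroup P) : Prop where
  fixb : ∀ a ∈ X, ∀ x, (S.σ a x).1 = x.1
  fp : ∃ f : I → Fin n, ∀ i k, (∀ a ∈ X, S.σ a (i, k) = (i, k)) ↔ k = f i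
  orb : ∀ a ∈ X, ∀ b ∈ X, ∀ x, S.σ a x ≠ x → S.σ b x ≠ x → S.σ a x = S.σ b x
  full : ∀ g : Equiv.Perm (I × Fin n), (∀ x, ∃ a ∈ X, g x = S.σ a x) → ∃ a ∈ X, S.σ a = g
  cen : ∀ w ∈ (⁅pCore 2 P, pResidual 2 P⁆ : Subgroup P), (∀ a ∈ X, ∀ x, S.Ψ w (S.σ a x) = S.Ψ w x) →
    ∀ a ∈ X, w * a = a * w

/-- the hypotheses on an offender -/
structure Offd (T X : Subgroup P) : Prop where
  le : X ≤ T
  nor : T ≤ Subgroup.normalizer (X : Set P)
  ab : ∀ a ∈ X, ∀ b ∈ X, a * b = b * a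
  sq : ∀ a ∈ X, a ^ 2 = 1

/-- the bound (helper41 proves it) -/
def OffBound (T : Subgroup P) : Prop :=
  ∀ X : Subgroup P, Offd T X → (pCore 2 P ⊓ X).relIndex X ≤
      (⁅pCore 2 P, pResidual 2 P⁆ ⊓ Subgroup.centralizer (X : Set P)).relIndex ⁅pCore 2 P, pResidual 2 P⁆

/-- equality (helper41 proves it) -/
def OffEq (S : Sy T I n) : Prop :=
  ∀ X : Subgroup P, Offd T X → ¬ X ≤ pCore 2 P →
    (⁅pCore 2 P, pResidual 2 P⁆ ⊓ Subgroup.centralizer (X : Set P)).relIndex ⁅pCore 2 P, pResidual 2 P⁆ ≤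
      (pCore 2 P ⊓ X).relIndex X → Full S X

/-- the construction of the block data (helper276) -/
def StBDS : Prop := ∀ {P : Type*} [Group P] [Finite P] (T : Sylow 2 P) {I : Type} {n : ℕ} (S : Sy (T : Subgroup P) I n)
    (X : Subgroup P), Offd (T : Subgroup P) X → Full S X → OffBound (T : Subgroup P) → OffEq S →
    Nonempty (BD (T : Subgroup P))

end Cfsg.Agent.H41.HM
end

private theorem dce_35417c434344 : _root_.True := by
  try have : _root_.True := by simp only [_root_.Cfsg.Agent.H41.HM.e2.congr_simp]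
  try have : _root_.True := by simp only [_root_.Cfsg.Agent.H41.HM.pa.eq_1]
  try have : _root_.True := by simp only [_root_.Cfsg.Agent.H41.HM.e2.eq_1]
  try have : _root_.True := by simp only [_root_.Cfsg.Agent.H41.HM.SBl.σ.congr_simp]
  exact _root_.True.intro
end

-- part: H41/HM/Off_mg
section
prune_inst 0x4d0200b005c2202000000000280003c46aa00010000680000d0200c04058edf200d02a120c4200c100802a20400300020015c00500000000000000000011901a0900a52061300a10c66000f802106000000000000000000000000000000041000000000000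
set_option linter.all false
open scoped Cfsg.Agent.FastGrp

-- part: H41/HM/Off
section
/-!
# S5175, symmetric blocks: the offender bound (helper41)
-/

set_option autoImplicit false
set_option linter.unusedSectionVars false

namespace Cfsg.Agent.H41.HM

open Cfsg Cfsg.Agent.H756.HM
open scoped commutatorElement

/-- a 2-group of block preserving permutations: a point in the block `i` fixed by the stabilizer of the block -/
theorem exists_fix {I : Type} {n : ℕ} (hn : ¬ 2 ∣ n) (H : Subgroup (Equiv.Perm (I × Fin n))) (hH : IsPGroup 2 H)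
    (hb : ∀ g ∈ H, ∀ i k k', (g (i, k)).1 = (g (i, k')).1) (i : I) :
    ∃ k : Fin n, ∀ g ∈ H, (g (i, k)).1 = i → g (i, k) = (i, k) := by
  let M : Subgroup (Equiv.Perm (I × Fin n)) :=
    { carrier := {g | g ∈ H ∧ ∀ k, (g (i, k)).1 = i}
      one_mem' := ⟨H.one_mem, fun _ => rfl⟩
      mul_mem' := by
        rintro g h ⟨hg, hg'⟩ ⟨hh, hh'⟩
        refine ⟨H.mul_mem hg hh, fun k => ?_⟩
        rw [Equiv.Perm.mul_apply]
        have : h (i, k) = (i, (h (i, k)).2) := Prod.ext (hh' k) rfl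
        rw [this]; exact hg' _
      inv_mem' := by
        rintro g ⟨hg, hg'⟩
        refine ⟨H.inv_mem hg, fun k => ?_⟩
        have h1 : g (i, k) = (i, (g (i, k)).2) := Prod.ext (hg' k) rfl
        rw [hb _ (H.inv_mem hg) i k (g (i, k)).2, ← h1]
        exact congrArg Prod.fst (g.symm_apply_apply (i, k)) }
  have hM : IsPGroup 2 M := hH.to_le fun g hg => hg.1
  let act : MulAction M (Fin n) :=
    { smul := fun g k => (g.1 (i, k)).2
      one_smul := fun _ => rfl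
      mul_smul := fun g h k => by
        show ((g.1 * h.1) (i, k)).2 = (g.1 (i, (h.1 (i, k)).2)).2
        rw [Equiv.Perm.mul_apply]
        have : h.1 (i, k) = (i, (h.1 (i, k)).2) := Prod.ext (h.2.2 k) rfl
        rw [← this] }
  obtain ⟨k, hk⟩ := hM.nonempty_fixed_point_of_prime_not_dvd_card (Fin n) (by rwa [Nat.card_eq_fintype_card, Fintype.card_fin])
  refine ⟨k, fun g hg hgi => ?_⟩
  have hgM : g ∈ M := ⟨hg, fun k' => by rw [hb g hg i k' k]; exact hgi⟩
  have h1 : (g (i, k)).2 = k := hk ⟨g, hgM⟩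
  exact Prod.ext hgi h1

/-- the abstract quadratic situation -/
structure Qd {I : Type} {n : ℕ} (A : Subgroup (Equiv.Perm (I × Fin n))) : Prop where
  blk : ∀ a ∈ A, ∀ i k k', (a (i, k)).1 = (a (i, k')).1
  orb : ∀ a ∈ A, ∀ b ∈ A, ∀ x, a x ≠ x → b x ≠ x → a x = b x
  sw : ∀ a ∈ A, ∀ b ∈ A, ∀ i k l, (a (i, k)).1 ≠ i → (b (i, k)).1 = i → b (i, l) = (i, l)
  fx : ∀ i, ∃ k, ∀ a ∈ A, (a (i, k)).1 = i → a (i, k) = (i, k)

theorem Qd.mono {I : Type} {n : ℕ} {A B : Subgroup (Equiv.Perm (I × Fin n))} (hA : Qd A) (h : B ≤ A) : Qd B where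
  blk := fun a ha => hA.blk a (h ha)
  orb := fun a ha b hb => hA.orb a (h ha) b (h hb)
  sw := fun a ha b hb => hA.sw a (h ha) b (h hb)
  fx := fun i => by
    obtain ⟨k, hk⟩ := hA.fx i
    exact ⟨k, fun a ha => hk a (h ha)⟩

variable {P : Type*} [Group P] {T : Subgroup P} {I : Type} {n : ℕ}

namespace Sy

variable (S : Sy T I n)

theorem one_ : S.Ψ 1 = 0 := (S.ker 1 (one_mem _)).2 (one_mem _)

include S in
theorem inv_eq {w : P} (hw : w ∈ (⁅pCore 2 P, pResidual 2 P⁆ : Subgroup P)) : w⁻¹ = w := by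
  have h := S.bw.W_sq w hw
  rw [pow_two] at h
  exact inv_eq_of_mul_eq_one_left h

/-- vectors of weight two -/
theorem exists_ee [DecidableEq I] {x y : I × Fin n} (h : x.1 = y.1) :
    ∃ w ∈ (⁅pCore 2 P, pResidual 2 P⁆ : Subgroup P), S.Ψ w = SBl.ee x y := S.surj _ (SBl.ee_even h)

/-- the elements of `W` with `B`-invariant vector -/
def Cn (B : Subgroup (Equiv.Perm (I × Fin n))) : Subgroup P where
  carrier := {w | w ∈ (⁅pCore 2 P, pResidual 2 P⁆ : Subgroup P) ∧ ∀ b ∈ B, ∀ x, S.Ψ w (b x) = S.Ψ w x}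
  one_mem' := ⟨one_mem _, fun b _ x => by rw [S.one_]; rfl⟩
  mul_mem' := by
    rintro w w' ⟨hw, h⟩ ⟨hw', h'⟩
    refine ⟨mul_mem hw hw', fun b hb x => ?_⟩
    rw [S.mul w hw w' hw', Pi.add_apply, Pi.add_apply, h b hb, h' b hb]
  inv_mem' := by
    rintro w ⟨hw, h⟩
    rw [S.inv_eq hw]
    exact ⟨hw, h⟩

theorem Cn_le (B : Subgroup (Equiv.Perm (I × Fin n))) : S.Cn B ≤ ⁅pCore 2 P, pResidual 2 P⁆ := fun _ h => h.1

theorem Cn_anti {A B : Subgroup (Equiv.Perm (I × Fin n))} (h : B ≤ A) : S.Cn A ≤ S.Cn B :=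
  fun _ hw => ⟨hw.1, fun b hb x => hw.2 b (h hb) x⟩

include S in
theorem exists_third (i : I) (k : Fin n) (x : I × Fin n) : ∃ k' : Fin n, k' ≠ k ∧ (i, k') ≠ x := by
  by_contra hcon
  push Not at hcon
  have h1 : (Finset.univ : Finset (Fin n)) ⊆ {k, x.2} := by
    intro k' _
    by_cases hk : k' = k
    · rw [hk]; exact Finset.mem_insert_self _ _
    · rw [← hcon k' hk]
      exact Finset.mem_insert_of_mem (Finset.mem_singleton_self _)
  have h2 := Finset.card_le_card h1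
  rw [Finset.card_univ, Fintype.card_fin] at h2
  have h3 := Finset.card_le_two (a := k) (b := x.2)
  have := S.n3
  omega

variable [Finite P]

/-- the point stabilizer in `A` of a moved point has index two -/
theorem stab_index {A : Subgroup (Equiv.Perm (I × Fin n))} (hA : Qd A) {b : Equiv.Perm (I × Fin n)} (hb : b ∈ A)
    {x : I × Fin n} (hx : b x ≠ x) : (MulAction.stabilizer (Equiv.Perm (I × Fin n)) x ⊓ A).relIndex A = 2 := by
  rw [Subgroup.inf_relIndex_right, Subgroup.relIndex_eq_two_iff_exists_notMem_and]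
  refine ⟨b, hb, fun h => hx h, fun c hc => ?_⟩
  by_cases h1 : c x = x
  · right; exact h1
  · left
    show (c * b) x = x
    by_contra h2
    have h3 := hA.orb c hc b hb x h1 hx
    have h4 := hA.orb (c * b) (mul_mem hc hb) b hb x h2 hx
    rw [Equiv.Perm.mul_apply, ← h3] at h4
    exact h1 (c.injective h4)

theorem Cn_finite {B : Subgroup (Equiv.Perm (I × Fin n))} (H : Subgroup P) : (S.Cn B).relIndex H ≠ 0 :=
  Subgroup.index_ne_zero_of_finite

theorem not_mem_Cn [DecidableEq I] {A : Subgroup (Equiv.Perm (I × Fin n))} {a : Equiv.Perm (I × Fin n)} (ha : a ∈ A)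
    {x y : I × Fin n} {w : P} (hww : S.Ψ w = SBl.ee x y) (hxy : x ≠ y) (hx : a x ≠ x) (hy : a x ≠ y) : w ∉ S.Cn A := by
  intro h
  have h1 := h.2 a ha x
  rw [hww] at h1
  unfold SBl.ee at h1
  rw [if_neg hx, if_neg hy, if_pos rfl, if_neg hxy, add_zero, add_zero] at h1
  exact zero_ne_one h1

theorem ee_inv [DecidableEq I] {x y : I × Fin n} {b : Equiv.Perm (I × Fin n)} (hx : b x = x) (hy : b y = y)
    (z : I × Fin n) : SBl.ee x y (b z) = SBl.ee x y z := by
  unfold SBl.ee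
  have h1 : b z = x ↔ z = x := by
    constructor
    · intro h; apply b.injective; rw [h, hx]
    · intro h; rw [h, hx]
  have h2 : b z = y ↔ z = y := by
    constructor
    · intro h; apply b.injective; rw [h, hy]
    · intro h; rw [h, hy]
  simp only [h1, h2]

/-- a vector fixed by the stabilizer of a moved point but not by `A` -/
theorem exists_witness (A : Subgroup (Equiv.Perm (I × Fin n))) (hA : Qd A) {b : Equiv.Perm (I × Fin n)} (hb : b ∈ A)
    (i : I) (k : Fin n) (hx : b (i, k) ≠ (i, k)) :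
    ∃ w ∈ S.Cn (MulAction.stabilizer (Equiv.Perm (I × Fin n)) (i, k) ⊓ A), w ∉ S.Cn A := by
  classical
  by_cases hbi : (b (i, k)).1 = i
  · -- the block is fixed
    obtain ⟨f, hf⟩ := hA.fx i
    have hkf : (i, k) ≠ (i, f) := by
      intro h
      rw [h] at hx hbi
      exact hx (hf b hb hbi)
    have hbf : b (i, k) ≠ (i, f) := by
      intro h
      have h1 := hf b hb (by rw [hA.blk b hb i f k, hbi])
      rw [← h1] at h
      exact hkf (b.injective h)
    obtain ⟨w, hw, hww⟩ := S.exists_ee (x := (i, k)) (y := (i, f)) rfl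
    refine ⟨w, ⟨hw, fun c hc x => ?_⟩, S.not_mem_Cn hb hww hkf hx hbf⟩
    rw [hww]
    have hc1 : c (i, k) = (i, k) := hc.1
    exact ee_inv hc1 (hf c hc.2 (by rw [hA.blk c hc.2 i f k, hc1])) x
  · -- the block is moved
    obtain ⟨l, hlk, hl⟩ := exists_third S i k (b (i, k))
    obtain ⟨w, hw, hww⟩ := S.exists_ee (x := (i, k)) (y := (i, l)) rfl
    refine ⟨w, ⟨hw, fun c hc x => ?_⟩, S.not_mem_Cn hb hww (fun e => hlk (congrArg Prod.snd e).symm) hx (Ne.symm hl)⟩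
    rw [hww]
    have hc1 : c (i, k) = (i, k) := hc.1
    exact ee_inv hc1 (hA.sw b hb c hc.2 i k l hbi (by rw [hc1])) x

theorem step (A : Subgroup (Equiv.Perm (I × Fin n))) (hA : Qd A) {b : Equiv.Perm (I × Fin n)} (hb : b ∈ A)
    (i : I) (k : Fin n) (hx : b (i, k) ≠ (i, k)) :
    Nat.card A = 2 * Nat.card ↥(MulAction.stabilizer (Equiv.Perm (I × Fin n)) (i, k) ⊓ A) ∧
    (S.Cn A).relIndex (⁅pCore 2 P, pResidual 2 P⁆ : Subgroup P) =
      (S.Cn A).relIndex (S.Cn (MulAction.stabilizer (Equiv.Perm (I × Fin n)) (i, k) ⊓ A)) *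
      (S.Cn (MulAction.stabilizer (Equiv.Perm (I × Fin n)) (i, k) ⊓ A)).relIndex
        (⁅pCore 2 P, pResidual 2 P⁆ : Subgroup P) ∧
    2 ≤ (S.Cn A).relIndex (S.Cn (MulAction.stabilizer (Equiv.Perm (I × Fin n)) (i, k) ⊓ A)) := by
  set B := MulAction.stabilizer (Equiv.Perm (I × Fin n)) (i, k) ⊓ A with hB
  have hBA : B ≤ A := inf_le_right
  refine ⟨?_, ?_, ?_⟩
  · rw [← stab_index hA hb hx, mul_comm, ← hB, ← Subgroup.relIndex_bot_left, ← Subgroup.relIndex_bot_left,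
      Subgroup.relIndex_mul_relIndex _ _ _ bot_le hBA]
  · exact (Subgroup.relIndex_mul_relIndex _ _ _ (S.Cn_anti hBA) (S.Cn_le B)).symm
  · obtain ⟨w, hw, hwn⟩ := S.exists_witness A hA hb i k hx
    have h0 := S.Cn_finite (B := A) (S.Cn B)
    have h1 : (S.Cn A).relIndex (S.Cn B) ≠ 1 := by
      rw [Ne, Subgroup.relIndex_eq_one]
      intro h
      exact hwn (h hw)
    omega

/-- the key inequality -/
theorem count (A : Subgroup (Equiv.Perm (I × Fin n))) (hA : Qd A) :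
    Nat.card A ≤ (S.Cn A).relIndex (⁅pCore 2 P, pResidual 2 P⁆ : Subgroup P) := by
  have := S.fin
  induction hm : Nat.card A using Nat.strong_induction_on generalizing A with
  | _ m ih =>
    subst hm
    rcases A.bot_or_exists_ne_one with hbot | ⟨b, hb, hb1⟩
    · rw [hbot, Subgroup.card_bot]
      exact Nat.pos_of_ne_zero (S.Cn_finite _)
    · obtain ⟨⟨i, k⟩, hx⟩ : ∃ x, b x ≠ x := by
        by_contra hcon
        push Not at hcon
        exact hb1 (Equiv.ext hcon)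
      obtain ⟨h1, h2, h3⟩ := S.step A hA hb i k hx
      have h4 : 0 < Nat.card ↥(MulAction.stabilizer (Equiv.Perm (I × Fin n)) (i, k) ⊓ A) := Nat.card_pos
      have h5 := ih (Nat.card ↥(MulAction.stabilizer (Equiv.Perm (I × Fin n)) (i, k) ⊓ A)) (by omega)
        (MulAction.stabilizer (Equiv.Perm (I × Fin n)) (i, k) ⊓ A) (hA.mono (inf_le_right)) rfl
      rw [h1, h2]
      exact Nat.mul_le_mul h3 h5

/-- in the case of equality no block is moved -/
theorem no_swap (A : Subgroup (Equiv.Perm (I × Fin n))) (hA : Qd A)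
    (heq : (S.Cn A).relIndex (⁅pCore 2 P, pResidual 2 P⁆ : Subgroup P) ≤ Nat.card A) :
    ∀ b ∈ A, ∀ x, (b x).1 = x.1 := by
  classical
  have := S.fin
  rintro b hb ⟨i, k⟩
  by_contra hbi
  change (b (i, k)).1 ≠ i at hbi
  have hx : b (i, k) ≠ (i, k) := fun h => hbi (congrArg Prod.fst h)
  obtain ⟨h1, h2, h3⟩ := S.step A hA hb i k hx
  set B := MulAction.stabilizer (Equiv.Perm (I × Fin n)) (i, k) ⊓ A with hB
  have hBA : B ≤ A := inf_le_right
  have h4 := S.count B (hA.mono hBA)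
  have h5 : (S.Cn A).relIndex (S.Cn B) = 2 := by
    have h6 : (S.Cn A).relIndex (S.Cn B) * (S.Cn B).relIndex (⁅pCore 2 P, pResidual 2 P⁆ : Subgroup P) ≤
        2 * (S.Cn B).relIndex (⁅pCore 2 P, pResidual 2 P⁆ : Subgroup P) := by
      rw [← h2]
      refine heq.trans ?_
      rw [h1]
      exact Nat.mul_le_mul_left 2 h4
    have h7 := Nat.le_of_mul_le_mul_right h6 (Nat.pos_of_ne_zero (S.Cn_finite _))
    omega
  -- two independent vectors
  obtain ⟨l, hlk, -⟩ := exists_third S i k (b (i, k))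
  obtain ⟨l', hlk', hl'⟩ := exists_third S i k (i, l)
  have hll' : l' ≠ l := fun e => hl' (by rw [e])
  have hw : ∀ l₁ l₂ : Fin n, ∀ w ∈ (⁅pCore 2 P, pResidual 2 P⁆ : Subgroup P), S.Ψ w = SBl.ee (i, l₁) (i, l₂) → w ∈ S.Cn B := by
    intro l₁ l₂ w hw hww
    refine ⟨hw, fun c hc x => ?_⟩
    have hc1 : c (i, k) = (i, k) := hc.1
    rw [hww]
    exact ee_inv (hA.sw b hb c hc.2 i k l₁ hbi (by rw [hc1])) (hA.sw b hb c hc.2 i k l₂ hbi (by rw [hc1])) x
  have hw' : ∀ l₁ l₂ : Fin n, l₁ ≠ l₂ → ∀ w ∈ (⁅pCore 2 P, pResidual 2 P⁆ : Subgroup P),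
      S.Ψ w = SBl.ee (i, l₁) (i, l₂) → w ∉ S.Cn A := by
    intro l₁ l₂ h12 w hw hww
    have hbl : (b (i, l₁)).1 ≠ i := by rw [hA.blk b hb i l₁ k]; exact hbi
    exact S.not_mem_Cn hb hww (fun e => h12 (congrArg Prod.snd e)) (fun e => hbl (congrArg Prod.fst e))
      (fun e => hbl (congrArg Prod.fst e))
  obtain ⟨w₁, hw₁, hww₁⟩ := S.exists_ee (x := (i, k)) (y := (i, l)) rfl
  obtain ⟨w₂, hw₂, hww₂⟩ := S.exists_ee (x := (i, k)) (y := (i, l')) rfl
  have a1 := hw _ _ _ hw₁ hww₁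
  have a2 := hw _ _ _ hw₂ hww₂
  have b1 := hw' _ _ (Ne.symm hlk) _ hw₁ hww₁
  have b2 := hw' _ _ (Ne.symm hlk') _ hw₂ hww₂
  have b3 : w₁ * w₂ ∉ S.Cn A := by
    apply hw' l l' (Ne.symm hll') _ (mul_mem hw₁ hw₂)
    rw [S.mul _ hw₁ _ hw₂, hww₁, hww₂]
    funext z
    show ((if z = (i, k) then (1 : ZMod 2) else 0) + (if z = (i, l) then 1 else 0)) +
      ((if z = (i, k) then 1 else 0) + (if z = (i, l') then 1 else 0)) = _
    have h := two2 (if z = (i, k) then (1 : ZMod 2) else 0)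
    unfold SBl.ee
    linear_combination h
  have h6 := (Subgroup.mul_mem_iff_of_index_two (H := (S.Cn A).subgroupOf (S.Cn B)) h5 (a := ⟨w₁, a1⟩) (b := ⟨w₂, a2⟩))
  apply b3
  have h7 : (⟨w₁, a1⟩ * ⟨w₂, a2⟩ : ↥(S.Cn B)) ∈ (S.Cn A).subgroupOf (S.Cn B) := by
    rw [h6]
    constructor
    · intro h; exact absurd (Subgroup.mem_subgroupOf.1 h) b1
    · intro h; exact absurd (Subgroup.mem_subgroupOf.1 h) b2
  exact Subgroup.mem_subgroupOf.1 h7

/-! ### An offender satisfies the quadratic conditions -/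

variable {X : Subgroup P}

theorem invol (hX : Offd T X) {a : P} (ha : a ∈ X) (x : I × Fin n) : S.σ a (S.σ a x) = x := by
  rw [← Equiv.Perm.mul_apply, ← map_mul, ← pow_two, hX.sq a ha, map_one]; rfl

theorem quad (hQT : pCore 2 P ≤ T) (hX : Offd T X) {w : P} (hw : w ∈ (⁅pCore 2 P, pResidual 2 P⁆ : Subgroup P))
    {a b : P} (ha : a ∈ X) (hb : b ∈ X) (x : I × Fin n) :
    S.Ψ w x + S.Ψ w (S.σ a x) = S.Ψ w (S.σ b x) + S.Ψ w (S.σ a (S.σ b x)) := by
  have hWQ := SBl.WWQ (P := P)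
  set u := w * (a * w * a⁻¹) with hu
  have haw : a * w * a⁻¹ ∈ (⁅pCore 2 P, pResidual 2 P⁆ : Subgroup P) := SBl.W_conj a hw
  have huW : u ∈ (⁅pCore 2 P, pResidual 2 P⁆ : Subgroup P) := mul_mem hw haw
  have huX : u ∈ X := by
    have h1 : u = (w * a * w⁻¹) * a⁻¹ := by
      rw [hu]
      nth_rewrite 2 [← S.inv_eq hw]
      group
    rw [h1]
    have h2 : w ∈ Subgroup.normalizer (X : Set P) := hX.nor (hQT (hWQ hw))
    exact mul_mem ((Subgroup.mem_normalizer_iff.1 h2 a).1 ha) (inv_mem ha)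
  have hub : b * u * b⁻¹ = u := by rw [hX.ab b hb u huX]; group
  have h3 : ∀ y, S.Ψ u y = S.Ψ w y + S.Ψ w (S.σ a y) := by
    intro y
    rw [hu, S.mul w hw _ haw, Pi.add_apply]
    congr 1
    have h4 := S.eqv a w hw (S.σ a y)
    rw [S.invol hX ha] at h4
    exact h4
  have h5 := S.eqv b u huW x
  rw [hub, h3, h3] at h5
  exact h5.symm

/-- the conditions for a normal elementary abelian subgroup -/
theorem qd (hT : IsPGroup 2 T) (hQT : pCore 2 P ≤ T) (hX : Offd T X) : Qd (X.map S.σ) := by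
  classical
  have hblk : ∀ g ∈ X.map S.σ, ∀ i k k', (g (i, k)).1 = (g (i, k')).1 := by
    rintro _ ⟨g, -, rfl⟩ i k k'
    exact S.blk g i k k'
  have hfx : ∀ i, ∃ k, ∀ a ∈ X.map S.σ, (a (i, k)).1 = i → a (i, k) = (i, k) := fun i =>
    exists_fix S.nodd _ ((hT.to_le hX.le).map _) hblk i
  have hsw : ∀ a ∈ X, ∀ b ∈ X, ∀ i k l, (S.σ a (i, k)).1 ≠ i → (S.σ b (i, k)).1 = i → S.σ b (i, l) = (i, l) := by
    intro a ha b hb i k l hai hbi
    by_contra hne
    obtain ⟨l', hl'l, hl'⟩ := exists_third S i l (S.σ b (i, l))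
    obtain ⟨w, hw, hww⟩ := S.exists_ee (x := (i, l)) (y := (i, l')) rfl
    have h1 := S.quad hQT hX hw ha hb (i, l)
    have hal : (S.σ a (i, l)).1 ≠ i := by rw [S.blk a i l k]; exact hai
    have hbl : (S.σ b (i, l)).1 = i := by rw [S.blk b i l k]; exact hbi
    have habl : (S.σ a (S.σ b (i, l))).1 ≠ i := by
      have : S.σ b (i, l) = (i, (S.σ b (i, l)).2) := Prod.ext hbl rfl
      rw [this, S.blk a i _ k]; exact hai
    have e0 : ∀ z : I × Fin n, z.1 ≠ i → SBl.ee (i, l) (i, l') z = 0 := by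
      intro z hz
      unfold SBl.ee
      rw [if_neg (fun e => hz (congrArg Prod.fst e)), if_neg (fun e => hz (congrArg Prod.fst e)), add_zero]
    rw [hww, e0 _ hal, e0 _ habl] at h1
    unfold SBl.ee at h1
    rw [if_pos rfl, if_neg (fun e => hl'l (congrArg Prod.snd e).symm), if_neg hne, if_neg (Ne.symm hl')] at h1
    simp at h1
  have key : ∀ a ∈ X, ∀ b ∈ X, ∀ x, S.σ a x ≠ x → S.σ b x ≠ x → (S.σ a x).1 ≠ x.1 → S.σ a x = S.σ b x := by
    rintro a ha b hb ⟨i, k⟩ hax hbx hai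
    change (S.σ a (i, k)).1 ≠ i at hai
    have hbi : (S.σ b (i, k)).1 ≠ i := fun h => hbx (hsw a ha b hb i k k hai h)
    by_cases hab : (S.σ (a * b) (i, k)).1 = i
    · have h1 := hsw a ha (a * b) (mul_mem ha hb) i k k hai hab
      rw [map_mul, Equiv.Perm.mul_apply] at h1
      conv_lhs => rw [← h1]
      exact S.invol hX ha _
    · exfalso
      obtain ⟨l, hlk, -⟩ := exists_third S i k (i, k)
      obtain ⟨w, hw, hww⟩ := S.exists_ee (x := (i, k)) (y := (i, l)) rfl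
      have h1 := S.quad hQT hX hw ha hb (i, k)
      have e0 : ∀ z : I × Fin n, z.1 ≠ i → SBl.ee (i, k) (i, l) z = 0 := by
        intro z hz
        unfold SBl.ee
        rw [if_neg (fun e => hz (congrArg Prod.fst e)), if_neg (fun e => hz (congrArg Prod.fst e)), add_zero]
      rw [map_mul, Equiv.Perm.mul_apply] at hab
      rw [hww, e0 _ hai, e0 _ hbi, e0 _ hab] at h1
      unfold SBl.ee at h1
      rw [if_pos rfl, if_neg (fun e => hlk (congrArg Prod.snd e).symm)] at h1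
      simp at h1
  refine ⟨hblk, ?_, ?_, hfx⟩
  · rintro _ ⟨a, ha, rfl⟩ _ ⟨b, hb, rfl⟩ x hax hbx
    by_cases h1 : (S.σ a x).1 = x.1
    · by_cases h2 : (S.σ b x).1 = x.1
      · obtain ⟨i, k⟩ := x
        change (S.σ a (i, k)).1 = i at h1
        change (S.σ b (i, k)).1 = i at h2
        obtain ⟨f, hf⟩ := hfx i
        have hfa : S.σ a (i, f) = (i, f) := hf _ ⟨a, ha, rfl⟩ (by rw [S.blk a i f k]; exact h1)
        have hfb : S.σ b (i, f) = (i, f) := hf _ ⟨b, hb, rfl⟩ (by rw [S.blk b i f k]; exact h2)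
        have hkf : (i, k) ≠ (i, f) := fun e => hax (by rw [e]; exact hfa)
        have haf : S.σ a (i, k) ≠ (i, f) := fun e => hkf ((S.σ a).injective (by rw [e, hfa]))
        have hbf : S.σ b (i, k) ≠ (i, f) := fun e => hkf ((S.σ b).injective (by rw [e, hfb]))
        have habf : S.σ a (S.σ b (i, k)) ≠ (i, f) := fun e => hbf ((S.σ a).injective (by rw [e, hfa]))
        obtain ⟨w, hw, hww⟩ := S.exists_ee (x := (i, k)) (y := (i, f)) rfl
        have h3 := S.quad hQT hX hw ha hb (i, k)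
        rw [hww] at h3
        unfold SBl.ee at h3
        rw [if_pos rfl, if_neg hkf, if_neg hax, if_neg haf, if_neg hbx, if_neg hbf, if_neg habf] at h3
        simp only [add_zero, zero_add] at h3
        by_cases h4 : S.σ a (S.σ b (i, k)) = (i, k)
        · conv_lhs => rw [← h4]
          exact S.invol hX ha _
        · rw [if_neg h4] at h3
          exact absurd h3 one_ne_zero
      · exact (key b hb a ha x hbx hax h2).symm
    · exact key a ha b hb x hax hbx h1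
  · rintro _ ⟨a, ha, rfl⟩ _ ⟨b, hb, rfl⟩ i k l hai hbi
    exact hsw a ha b hb i k l hai hbi

theorem card_map : (pCore 2 P ⊓ X).relIndex X = Nat.card (X.map S.σ) := by
  have h : pCore 2 P = S.σ.ker := by
    ext g
    rw [MonoidHom.mem_ker, S.σker]
  rw [Subgroup.inf_relIndex_right, h, Subgroup.relIndex_ker]

theorem cent_le_Cn : ⁅pCore 2 P, pResidual 2 P⁆ ⊓ Subgroup.centralizer (X : Set P) ≤ S.Cn (X.map S.σ) := by
  rintro w ⟨hw, hwc⟩
  refine ⟨hw, ?_⟩
  rintro _ ⟨a, ha, rfl⟩ x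
  have h1 := S.eqv a w hw x
  have h2 : a * w * a⁻¹ = w := by
    rw [(Subgroup.mem_centralizer_iff.1 hwc) a ha]; group
  rw [h2] at h1
  exact h1

end Sy

/-- **the bound** -/
theorem offBound [Finite P] (hT : IsPGroup 2 T) (hQT : pCore 2 P ≤ T) (S : Sy T I n) : OffBound T := by
  intro X hX
  rw [S.card_map]
  exact (S.count _ (S.qd hT hQT hX)).trans (Subgroup.relIndex_le_of_le_left S.cent_le_Cn Subgroup.index_ne_zero_of_finite)

namespace Sy

variable (S : Sy T I n) [Finite P] {X : Subgroup P}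

/-- a `T`-equivariant choice of points, one in each block -/
theorem exists_f (hT : IsPGroup 2 T) : ∃ f : I → Fin n, ∀ t ∈ T, ∀ i j, (S.σ t (i, f i)).1 = j → S.σ t (i, f i) = (j, f j) := by
  have := S.ne
  obtain ⟨i₀⟩ := S.ne
  have hblk : ∀ g ∈ T.map S.σ, ∀ i k k', (g (i, k)).1 = (g (i, k')).1 := by
    rintro _ ⟨g, -, rfl⟩ i k k'
    exact S.blk g i k k'
  obtain ⟨f₀, hf₀⟩ := exists_fix S.nodd (T.map S.σ) (hT.map _) hblk i₀
  choose t ht hti using fun j => S.trans i₀ j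
  refine ⟨fun j => (S.σ (t j) (i₀, f₀)).2, ?_⟩
  have h1 : ∀ j, S.σ (t j) (i₀, f₀) = (j, (S.σ (t j) (i₀, f₀)).2) := fun j => Prod.ext (hti j f₀) rfl
  intro s hs i j hij
  rw [← h1 i] at hij ⊢
  rw [← h1 j]
  have h2 : (S.σ ((t j)⁻¹ * s * t i) (i₀, f₀)).1 = i₀ := by
    rw [map_mul, map_mul, Equiv.Perm.mul_apply, Equiv.Perm.mul_apply]
    have h3 : S.σ s (S.σ (t i) (i₀, f₀)) = (j, (S.σ s (S.σ (t i) (i₀, f₀))).2) := Prod.ext hij rfl
    rw [h3, S.blk _ j _ (S.σ (t j) (i₀, f₀)).2, ← h1 j, ← Equiv.Perm.mul_apply, ← map_mul, inv_mul_cancel, map_one]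
    rfl
  have h4 := hf₀ _ ⟨(t j)⁻¹ * s * t i, mul_mem (mul_mem (inv_mem (ht j)) hs) (ht i), rfl⟩ h2
  have h5 := congrArg (S.σ (t j)) h4
  rw [← Equiv.Perm.mul_apply, ← map_mul] at h5
  rw [← h5, ← Equiv.Perm.mul_apply, ← map_mul]
  congr 2
  group

theorem even_two (hn : 4 ≤ n) {k l k' l' : Fin n} (h : k ≠ l) (h' : k' ≠ l') :
    ∃ π ∈ alternatingGroup (Fin n), π k = k' ∧ π l = l' := by
  have h1 := alternatingGroup.isMultiplyPretransitive (Fin n)
  have h2 : MulAction.IsMultiplyPretransitive (alternatingGroup (Fin n)) (Fin n) 2 := by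
    rw [Nat.card_eq_fintype_card, Fintype.card_fin] at h1
    apply MulAction.isMultiplyPretransitive_of_le (n := n - 2) (by omega)
    rw [Nat.card_eq_fintype_card, Fintype.card_fin]; omega
  rw [MulAction.is_two_pretransitive_iff] at h2
  obtain ⟨g, h3, h4⟩ := h2 h h'
  exact ⟨g, g.2, h3, h4⟩

/-- `T` is transitive on the points different from the `f i` -/
theorem trans2 (T : Sylow 2 P) (S : Sy (T : Subgroup P) I n) (hn : 4 ≤ n) (f : I → Fin n)
    (hf : ∀ t ∈ (T : Subgroup P), ∀ i j, (S.σ t (i, f i)).1 = j → S.σ t (i, f i) = (j, f j)) (i j : I) (k l : Fin n) (hk : k ≠ f i)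
    (hl : l ≠ f j) : ∃ t ∈ (T : Subgroup P), S.σ t (i, k) = (j, l) := by
  classical
  have hfin := S.fin
  have := Fintype.ofFinite I
  let Y := {p : (I × Fin n) × (I × Fin n) // p.1.1 = p.2.1 ∧ p.1 ≠ p.2}
  let act : MulAction P Y :=
    { smul := fun g y => ⟨(S.σ g y.1.1, S.σ g y.1.2), by
        obtain ⟨⟨⟨a, b⟩, ⟨c, d⟩⟩, h1, h2⟩ := y
        change a = c at h1
        subst h1
        exact ⟨S.blk g a b d, fun h => h2 ((S.σ g).injective h)⟩⟩
      one_smul := fun y => by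
        apply Subtype.ext
        show (S.σ 1 y.1.1, S.σ 1 y.1.2) = y.1
        rw [map_one]; rfl
      mul_smul := fun g h y => by
        apply Subtype.ext
        show (S.σ (g * h) y.1.1, S.σ (g * h) y.1.2) = (S.σ g (S.σ h y.1.1), S.σ g (S.σ h y.1.2))
        rw [map_mul]; rfl }
  have hact1 : ∀ (g : P) (y : Y), (g • y).1.1 = S.σ g y.1.1 := fun _ _ => rfl
  have hact2 : ∀ (g : P) (y : Y), (g • y).1.2 = S.σ g y.1.2 := fun _ _ => rfl
  have htr : MulAction.IsPretransitive P Y := by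
    refine ⟨fun y y' => ?_⟩
    obtain ⟨⟨⟨a, b⟩, ⟨c, d⟩⟩, h1, h2⟩ := y
    obtain ⟨⟨⟨a', b'⟩, ⟨c', d'⟩⟩, h1', h2'⟩ := y'
    change a = c at h1
    change a' = c' at h1'
    subst h1
    subst h1'
    have hbd : b ≠ d := fun e => h2 (by rw [e])
    have hbd' : b' ≠ d' := fun e => h2' (by rw [e])
    obtain ⟨t, -, hta⟩ := S.trans a a'
    have e1 : S.σ t (a, b) = (a', (S.σ t (a, b)).2) := Prod.ext (hta b) rfl
    have e2 : S.σ t (a, d) = (a', (S.σ t (a, d)).2) := Prod.ext (hta d) rfl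
    have hne : (S.σ t (a, b)).2 ≠ (S.σ t (a, d)).2 := by
      intro e
      rw [e, ← e2] at e1
      exact hbd (congrArg Prod.snd ((S.σ t).injective e1))
    obtain ⟨π, hπ, hπ1, hπ2⟩ := even_two hn hne hbd'
    obtain ⟨e, -, he, -⟩ := S.alt a' π hπ
    refine ⟨e * t, Subtype.ext (Prod.ext ?_ ?_)⟩
    · rw [hact1, map_mul, Equiv.Perm.mul_apply]
      show S.σ e (S.σ t (a, b)) = (a', b')
      rw [e1, he, hπ1]
    · rw [hact2, map_mul, Equiv.Perm.mul_apply]
      show S.σ e (S.σ t (a, d)) = (a', d')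
      rw [e2, he, hπ2]
  have hcardY : Nat.card Y = Nat.card I * (n * n - n) := by
    let eq : Y ≃ I × {p : Fin n × Fin n // p.1 ≠ p.2} :=
      { toFun := fun y => (y.1.1.1, ⟨(y.1.1.2, y.1.2.2), fun h => y.2.2 (Prod.ext y.2.1 h)⟩)
        invFun := fun p => ⟨((p.1, p.2.1.1), (p.1, p.2.1.2)), rfl, fun h => p.2.2 (congrArg Prod.snd h)⟩
        left_inv := by
          rintro ⟨⟨⟨a, b⟩, ⟨c, d⟩⟩, h1, h2⟩
          change a = c at h1
          subst h1
          rfl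
        right_inv := fun p => rfl }
    rw [Nat.card_congr eq, Nat.card_prod, Nat.card_eq_fintype_card (α := {p : Fin n × Fin n // p.1 ≠ p.2}),
      Fintype.card_of_subtype (Finset.univ : Finset (Fin n)).offDiag (by simp), Finset.offDiag_card, Finset.card_univ,
      Fintype.card_fin]
  -- the number of blocks is a power of two
  obtain ⟨a, ha⟩ : ∃ a, Nat.card I = 2 ^ a := by
    let k₀ : Fin n := ⟨0, by omega⟩
    let actI : MulAction (T : Subgroup P) I :=
      { smul := fun t i => (S.σ t (i, k₀)).1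
        one_smul := fun i => by
          show (S.σ 1 (i, k₀)).1 = i
          rw [map_one]; rfl
        mul_smul := fun t t' i => by
          show (S.σ (t * t') (i, k₀)).1 = (S.σ t ((S.σ t' (i, k₀)).1, k₀)).1
          rw [map_mul, Equiv.Perm.mul_apply, S.blk t _ k₀ (S.σ t' (i, k₀)).2] }
    obtain ⟨a, ha⟩ := T.isPGroup'.card_orbit (α := I) i
    refine ⟨a, ?_⟩
    rw [← ha]
    have h1 : MulAction.orbit (T : Subgroup P) i = Set.univ := by
      ext j
      simp only [Set.mem_univ, iff_true]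
      obtain ⟨t, ht, htj⟩ := S.trans i j
      exact ⟨⟨t, ht⟩, htj k₀⟩
    rw [h1, Nat.card_coe_set_eq, Set.ncard_univ]
  obtain ⟨c, hc⟩ := S.npow
  have hdvd : 2 ^ (a + c) ∣ Nat.card Y := by
    rw [hcardY, ha, pow_add]
    apply Nat.mul_dvd_mul_left
    have : n * n - n = 2 ^ c * n := by
      have h1 : n * n = 2 ^ c * n + n := by
        nth_rewrite 1 [hc]; ring
      omega
    rw [this]
    exact Dvd.intro _ rfl
  let y₀ : Y := ⟨((i, f i), (i, k)), rfl, fun h => hk (congrArg Prod.snd h).symm⟩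
  have h1 := H894.dvd_card_orbit htr T y₀ (a + c) hdvd
  have h2 : 0 < Nat.card (MulAction.orbit (T : Subgroup P) y₀) := by
    have : Nonempty (MulAction.orbit (T : Subgroup P) y₀) := ⟨⟨y₀, MulAction.mem_orbit_self y₀⟩⟩
    exact Nat.card_pos
  have h3 := Nat.le_of_dvd h2 h1
  -- the orbit injects into the points different from the `f i`
  let Z : Set (I × Fin n) := {z | z.2 ≠ f z.1}
  have hZ : Z.ncard ≤ 2 ^ (a + c) := by
    have e1 : Z = Set.univ \ Set.range (fun i => (i, f i)) := by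
      ext ⟨x, y⟩
      simp only [Z, Set.mem_ofPred_eq, Set.mem_sdiff, Set.mem_univ, true_and, Set.mem_range, Prod.mk.injEq, exists_eq_left]
      exact ⟨fun h e => h e.symm, fun h e => h e.symm⟩
    rw [e1, Set.ncard_sdiff (Set.subset_univ _), Set.ncard_univ, Nat.card_prod, Nat.card_fin, ← Nat.card_coe_set_eq,
      Nat.card_range_of_injective (fun x y h => congrArg Prod.fst h), ha, pow_add]
    have : 2 ^ a * n = 2 ^ a * 2 ^ c + 2 ^ a := by
      nth_rewrite 1 [hc]; ring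
    omega
  have hmap : (fun y : Y => y.1.2) '' (MulAction.orbit (T : Subgroup P) y₀) ⊆ Z := by
    rintro _ ⟨_, ⟨t, rfl⟩, rfl⟩
    show ((t • y₀ : Y)).1.2.2 ≠ f ((t • y₀ : Y)).1.2.1
    change (S.σ (t : P) (i, k)).2 ≠ f (S.σ (t : P) (i, k)).1
    intro h
    have h4 := hf t t.2 i (S.σ (t : P) (i, k)).1 (S.blk _ _ _ _)
    rw [← h] at h4
    exact hk (congrArg Prod.snd ((S.σ (t : P)).injective h4)).symm
  have hinj : Set.InjOn (fun y : Y => y.1.2) (MulAction.orbit (T : Subgroup P) y₀) := by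
    rintro _ ⟨t, rfl⟩ _ ⟨t', rfl⟩ h
    change S.σ (t : P) (i, k) = S.σ (t' : P) (i, k) at h
    apply Subtype.ext
    apply Prod.ext
    · show S.σ (t : P) (i, f i) = S.σ (t' : P) (i, f i)
      rw [hf t t.2 i _ (S.blk _ _ _ k), hf t' t'.2 i _ (S.blk _ _ _ k), h]
    · exact h
  have hcard := hinj.ncard_image
  have heq := Set.eq_of_subset_of_ncard_le hmap (by
    rw [hcard, ← Nat.card_coe_set_eq]
    exact hZ.trans h3)
  have hjl : (j, l) ∈ Z := hl
  rw [← heq] at hjl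
  obtain ⟨_, ⟨t, rfl⟩, ht⟩ := hjl
  exact ⟨t, t.2, ht⟩

/-- every permutation preserving all orbits of an extremal quadratic group belongs to it -/
theorem full_of_eq (A : Subgroup (Equiv.Perm (I × Fin n))) (hA : Qd A)
    (heq : (S.Cn A).relIndex (⁅pCore 2 P, pResidual 2 P⁆ : Subgroup P) ≤ Nat.card A) (g : Equiv.Perm (I × Fin n))
    (hg : ∀ x, ∃ a ∈ A, g x = a x) : g ∈ A := by
  have hfin := S.fin
  have hns := S.no_swap A hA heq
  let M : Subgroup (Equiv.Perm (I × Fin n)) :=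
    { carrier := {g | ∀ x, ∃ a ∈ A, g x = a x}
      one_mem' := fun x => ⟨1, A.one_mem, rfl⟩
      mul_mem' := by
        intro g h hg hh x
        obtain ⟨a, ha, hax⟩ := hh x
        obtain ⟨b, hb, hbx⟩ := hg (h x)
        exact ⟨b * a, A.mul_mem hb ha, by rw [Equiv.Perm.mul_apply, hbx, hax, Equiv.Perm.mul_apply]⟩
      inv_mem' := by
        intro g hg x
        obtain ⟨a, ha, hax⟩ := hg (g⁻¹ x)
        have h1 : g (g⁻¹ x) = x := g.apply_symm_apply x
        rw [h1] at hax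
        refine ⟨a⁻¹, A.inv_mem ha, ?_⟩
        have h2 : a⁻¹ x = g⁻¹ x := by
          conv_lhs => rw [hax]
          exact a.symm_apply_apply _
        exact h2.symm }
  have hAM : A ≤ M := fun a ha x => ⟨a, ha, rfl⟩
  have hM1 : ∀ g ∈ M, ∀ x, (g x).1 = x.1 := by
    intro g hg x
    obtain ⟨a, ha, hax⟩ := hg x
    rw [hax, hns a ha]
  have hM : Qd M := by
    refine ⟨fun g hg i k k' => by rw [hM1 g hg, hM1 g hg], ?_, ?_, ?_⟩
    · intro g hg h hh x hgx hhx
      obtain ⟨a, ha, hax⟩ := hg x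
      obtain ⟨b, hb, hbx⟩ := hh x
      rw [hax, hbx]
      exact hA.orb a ha b hb x (by rw [← hax]; exact hgx) (by rw [← hbx]; exact hhx)
    · intro g hg h hh i k l h1
      exact absurd (hM1 g hg (i, k)) h1
    · intro i
      obtain ⟨k, hk⟩ := hA.fx i
      refine ⟨k, fun g hg _ => ?_⟩
      obtain ⟨a, ha, hax⟩ := hg (i, k)
      rw [hax]
      exact hk a ha (hns a ha _)
  have h1 := S.count M hM
  have h2 : S.Cn A ≤ S.Cn M := by
    rintro w ⟨hw, hwa⟩
    refine ⟨hw, fun g hg x => ?_⟩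
    obtain ⟨a, ha, hax⟩ := hg x
    rw [hax, hwa a ha]
  have h3 : (S.Cn M).relIndex (⁅pCore 2 P, pResidual 2 P⁆ : Subgroup P) ≤
      (S.Cn A).relIndex (⁅pCore 2 P, pResidual 2 P⁆ : Subgroup P) :=
    Subgroup.relIndex_le_of_le_left h2 (S.Cn_finite _)
  have h4 := Subgroup.eq_of_le_of_card_ge hAM (h1.trans (h3.trans heq))
  rw [h4]
  exact hg

end Sy

/-- **the case of equality** -/
theorem offEq [Finite P] (T : Sylow 2 P) (S : Sy (T : Subgroup P) I n) : OffEq S := by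
  classical
  intro X hX hXQ heq
  have hfin := S.fin
  have hT : IsPGroup 2 (T : Subgroup P) := T.isPGroup'
  have hQT : pCore 2 P ≤ (T : Subgroup P) := Lib.Cores.pCore_le_sylow T
  set A := X.map S.σ with hAdef
  have hA : Qd A := S.qd hT hQT hX
  rw [S.card_map] at heq
  have hle := S.cent_le_Cn (X := X)
  rw [← hAdef] at hle heq
  have h0 : (⁅pCore 2 P, pResidual 2 P⁆ ⊓ Subgroup.centralizer (X : Set P)).relIndex
      (⁅pCore 2 P, pResidual 2 P⁆ : Subgroup P) ≠ 0 := Subgroup.index_ne_zero_of_finite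
  have h1 : (S.Cn A).relIndex (⁅pCore 2 P, pResidual 2 P⁆ : Subgroup P) ≤ Nat.card A :=
    (Subgroup.relIndex_le_of_le_left hle h0).trans heq
  have h2 := S.count A hA
  -- `C_W(X)` is everything
  have h3 : S.Cn A ≤ ⁅pCore 2 P, pResidual 2 P⁆ ⊓ Subgroup.centralizer (X : Set P) := by
    have h4 := Subgroup.relIndex_mul_relIndex _ _ _ hle (S.Cn_le A)
    have h5 := S.Cn_finite (B := A) (⁅pCore 2 P, pResidual 2 P⁆ : Subgroup P)
    rw [← Subgroup.relIndex_eq_one]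
    have h6 : (⁅pCore 2 P, pResidual 2 P⁆ ⊓ Subgroup.centralizer (X : Set P)).relIndex (S.Cn A) *
        (S.Cn A).relIndex (⁅pCore 2 P, pResidual 2 P⁆ : Subgroup P) ≤
        1 * (S.Cn A).relIndex (⁅pCore 2 P, pResidual 2 P⁆ : Subgroup P) := by
      rw [h4, one_mul]
      exact heq.trans h2
    have h7 := Nat.le_of_mul_le_mul_right h6 (Nat.pos_of_ne_zero h5)
    have h8 : (⁅pCore 2 P, pResidual 2 P⁆ ⊓ Subgroup.centralizer (X : Set P)).relIndex (S.Cn A) ≠ 0 :=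
      Subgroup.index_ne_zero_of_finite
    omega
  have hns := S.no_swap A hA h1
  have hfixb : ∀ a ∈ X, ∀ x, (S.σ a x).1 = x.1 := fun a ha x => hns _ ⟨a, ha, rfl⟩ x
  -- the fixed points
  obtain ⟨f, hf⟩ := S.exists_f hT
  have hfX : ∀ i, ∀ a ∈ X, S.σ a (i, f i) = (i, f i) := fun i a ha => hf a (hX.le ha) i i (hfixb a ha _)
  have hmoveT : ∀ t ∈ (T : Subgroup P), ∀ x, (∀ a ∈ X, S.σ a x = x) → ∀ a ∈ X, S.σ a (S.σ t x) = S.σ t x := by
    intro t ht x hx a ha
    have h4 : t⁻¹ * a * t ∈ X := by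
      have := (Subgroup.mem_normalizer_iff.1 (hX.nor (inv_mem ht)) a).1 ha
      rwa [inv_inv] at this
    have h5 := hx _ h4
    have h6 : a * t = t * (t⁻¹ * a * t) := by group
    rw [← Equiv.Perm.mul_apply, ← map_mul, h6, map_mul, Equiv.Perm.mul_apply, h5]
  have hXne : ¬ ∀ a ∈ X, ∀ x, S.σ a x = x := by
    intro h
    apply hXQ
    intro a ha
    rw [← S.σker]
    exact Equiv.ext (h a ha)
  have hfp : ∀ i k, (∀ a ∈ X, S.σ a (i, k) = (i, k)) → k = f i := by
    intro i k hk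
    by_contra hne
    apply hXne
    by_cases hn : 4 ≤ n
    · intro a ha x
      obtain ⟨j, l⟩ := x
      by_cases hl : l = f j
      · rw [hl]; exact hfX j a ha
      · obtain ⟨t, ht, hti⟩ := Sy.trans2 T S hn f hf i j k l hne hl
        rw [← hti]
        exact hmoveT t ht _ hk a ha
    · -- three points
      have hn3 : n = 3 := by have := S.n3; omega
      have hall : ∀ l, ∀ a ∈ X, S.σ a (i, l) = (i, l) := by
        intro l a ha
        by_cases h4 : l = f i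
        · rw [h4]; exact hfX i a ha
        by_cases h5 : l = k
        · rw [h5]; exact hk a ha
        have h6 : S.σ a (i, l) = (i, (S.σ a (i, l)).2) := Prod.ext (hfixb a ha _) rfl
        have h7 : (S.σ a (i, l)).2 ≠ f i := by
          intro e
          rw [e, ← hfX i a ha] at h6
          exact h4 (congrArg Prod.snd ((S.σ a).injective h6))
        have h8 : (S.σ a (i, l)).2 ≠ k := by
          intro e
          rw [e] at h6
          rw [← hk a ha] at h6
          exact h5 (congrArg Prod.snd ((S.σ a).injective h6))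
        by_contra h9
        have h10 : (S.σ a (i, l)).2 ≠ l := by
          intro e
          rw [e] at h6
          exact h9 h6
        have h11 : ({f i, k, l, (S.σ a (i, l)).2} : Finset (Fin n)).card ≤ 3 := by
          refine (Finset.card_le_univ _).trans ?_
          rw [Fintype.card_fin, hn3]
        rw [Finset.card_insert_of_notMem, Finset.card_insert_of_notMem, Finset.card_insert_of_notMem,
          Finset.card_singleton] at h11
        · omega
        · rw [Finset.mem_singleton]; exact Ne.symm h10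
        · rw [Finset.mem_insert, Finset.mem_singleton, not_or]
          exact ⟨Ne.symm h5, Ne.symm h8⟩
        · rw [Finset.mem_insert, Finset.mem_insert, Finset.mem_singleton, not_or, not_or]
          exact ⟨Ne.symm hne, Ne.symm h4, Ne.symm h7⟩
      intro a ha x
      obtain ⟨j, l⟩ := x
      obtain ⟨t, ht, htj⟩ := S.trans j i
      have h4 : S.σ t (j, l) = (i, (S.σ t (j, l)).2) := Prod.ext (htj l) rfl
      have h5 := hmoveT t⁻¹ (inv_mem ht) _ (hall (S.σ t (j, l)).2) a ha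
      have h6 : S.σ t⁻¹ (i, (S.σ t (j, l)).2) = (j, l) := by
        rw [← h4, ← Equiv.Perm.mul_apply, ← map_mul, inv_mul_cancel, map_one]; rfl
      rw [h6] at h5
      exact h5
  refine ⟨hfixb, ⟨f, fun i k => ⟨hfp i k, fun h => by rw [h]; exact hfX i⟩⟩, ?_, ?_, ?_⟩
  · intro a ha b hb x h4 h5
    exact hA.orb _ ⟨a, ha, rfl⟩ _ ⟨b, hb, rfl⟩ x h4 h5
  · intro g hg
    obtain ⟨a, ha, hag⟩ := S.full_of_eq A hA h1 g fun x => by
      obtain ⟨a, ha, hax⟩ := hg x
      exact ⟨_, ⟨a, ha, rfl⟩, hax⟩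
    exact ⟨a, ha, hag⟩
  · intro w hw hwa a ha
    have h4 : w ∈ S.Cn A := ⟨hw, by rintro _ ⟨b, hb, rfl⟩ x; exact hwa b hb x⟩
    exact ((Subgroup.mem_centralizer_iff.1 (h3 h4).2) a ha).symm

/-- `StOff` in the symmetric case -/
theorem stOff_sym [Finite P] (T : Sylow 2 P) (S : Sy (T : Subgroup P) I n) : OffBound (T : Subgroup P) :=
  offBound T.isPGroup' (Lib.Cores.pCore_le_sylow T) S

end Cfsg.Agent.H41.HM
end

-- part: H276/HM/SymA
section
/-!
# S5175, symmetric blocks: an element of order three acting as a 3-cycle on the points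
-/

set_option autoImplicit false
set_option linter.unusedSectionVars false
set_option linter.unusedVariables false

namespace Cfsg.Agent.H276.HM

open Subgroup Cfsg Cfsg.Agent.H756.HM Cfsg.Agent.H41.HM
open scoped commutatorElement

variable {P : Type*} [Group P] {T : Subgroup P} {I : Type} {n : ℕ} (S : Sy T I n)

local notation "QQ" => pCore 2 P
local notation "KK" => pResidual 2 P
local notation "WW" => (⁅pCore 2 P, pResidual 2 P⁆ : Subgroup P)

theorem Q_nor : (QQ).Normal := Lib.Cores.pCore_normal 2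

theorem K_nor : (KK).Normal := Transfer.Residual.pResidual_normal 2

theorem W_le_Q : WW ≤ QQ := by
  have := Q_nor (P := P)
  exact Subgroup.commutator_le_left _ _

include S in
theorem W_comm {w w' : P} (hw : w ∈ WW) (hw' : w' ∈ WW) : w * w' = w' * w :=
  S.bw.W_comm w hw w' (W_le_Q hw')

include S in
theorem W_sq {w : P} (hw : w ∈ WW) : w * w = 1 := by
  rw [← pow_two]; exact S.bw.W_sq w hw

include S in
theorem W_inv {w : P} (hw : w ∈ WW) : w⁻¹ = w := inv_eq_of_mul_eq_one_left (W_sq S hw)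

theorem Ψ_one : S.Ψ 1 = 0 := (S.ker 1 (one_mem _)).2 (one_mem _)

theorem z2 (a : ZMod 2) : a + a = 0 := by revert a; decide

theorem z2' {a b : ZMod 2} (h : a + b = 0) : a = b := by revert a b; decide

theorem z2'' (a : ZMod 2) : a = 0 ∨ a = 1 := by revert a; decide

theorem Ψ_inv {w : P} (hw : w ∈ WW) : S.Ψ w⁻¹ = S.Ψ w := by rw [W_inv S hw]

/-- the action of `g` on `W` through `σ` -/
theorem Ψ_conj (g : P) {w : P} (hw : w ∈ WW) (x : I × Fin n) :
    S.Ψ (g * w * g⁻¹) x = S.Ψ w ((S.σ g)⁻¹ x) := by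
  have h1 := S.eqv g w hw ((S.σ g)⁻¹ x)
  have h2 : S.σ g ((S.σ g)⁻¹ x) = x := (S.σ g).apply_symm_apply x
  rw [h2] at h1
  exact h1

theorem Ψ_of_comm {g w : P} (hw : w ∈ WW) (h : g * w = w * g) (x : I × Fin n) :
    S.Ψ w (S.σ g x) = S.Ψ w x := by
  have h1 := S.eqv g w hw x
  rwa [h, mul_inv_cancel_right] at h1

/-- the element `h` of order three -/
structure Tri (h : P) (x y z : I × Fin n) : Prop where
  K : h ∈ KK
  cube : h * h * h = 1
  ne1 : x ≠ y
  ne2 : x ≠ z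
  ne3 : y ≠ z
  blk1 : x.1 = y.1
  blk2 : x.1 = z.1
  sx : S.σ h x = z
  sz : S.σ h z = y
  sy : S.σ h y = x
  so : ∀ u, u ≠ x → u ≠ y → u ≠ z → S.σ h u = u

/-- `[W, h]` -/
def DD (h : P) (hW : Subgroup.Normal WW) (hc : ∀ w ∈ WW, ∀ w' ∈ WW, w * w' = w' * w) : Subgroup P where
  carrier := {w | w ∈ WW ∧ w * (h * w * h⁻¹) * (h * (h * w * h⁻¹) * h⁻¹) = 1}
  one_mem' := ⟨one_mem _, by simp⟩
  mul_mem' := by
    rintro a b ⟨ha, ha'⟩ ⟨hb, hb'⟩
    refine ⟨mul_mem ha hb, ?_⟩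
    have a1 := hW.conj_mem a ha h
    have a2 := hW.conj_mem _ a1 h
    have b1 := hW.conj_mem b hb h
    have b2 := hW.conj_mem _ b1 h
    obtain ⟨a', ea⟩ : ∃ a', a' = h * a * h⁻¹ := ⟨_, rfl⟩
    obtain ⟨b', eb⟩ : ∃ b', b' = h * b * h⁻¹ := ⟨_, rfl⟩
    obtain ⟨a'', ea'⟩ : ∃ a'', a'' = h * a' * h⁻¹ := ⟨_, rfl⟩
    obtain ⟨b'', eb'⟩ : ∃ b'', b'' = h * b' * h⁻¹ := ⟨_, rfl⟩
    rw [← ea] at a1 a2 ha'
    rw [← eb] at b1 b2 hb'
    rw [← ea'] at a2 ha'
    rw [← eb'] at b2 hb'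
    have e1 : h * (a * b) * h⁻¹ = a' * b' := by rw [ea, eb]; group
    have e2 : h * (a' * b') * h⁻¹ = a'' * b'' := by rw [ea', eb']; group
    rw [e1, e2]
    have c1 : Commute b a' := hc b hb a' a1
    have c2 : Commute b a'' := hc b hb a'' a2
    have c3 : Commute b' a'' := hc b' b1 a'' a2
    calc a * b * (a' * b') * (a'' * b'') = a * (b * a') * b' * a'' * b'' := by group
      _ = a * (a' * b) * b' * a'' * b'' := by rw [c1.eq]
      _ = a * a' * b * (b' * a'') * b'' := by group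
      _ = a * a' * b * (a'' * b') * b'' := by rw [c3.eq]
      _ = a * a' * (b * a'') * b' * b'' := by group
      _ = a * a' * (a'' * b) * b' * b'' := by rw [c2.eq]
      _ = (a * a' * a'') * (b * b' * b'') := by group
      _ = 1 := by rw [ha', hb', one_mul]
  inv_mem' := by
    rintro a ⟨ha, ha'⟩
    refine ⟨inv_mem ha, ?_⟩
    have a1 := hW.conj_mem a ha h
    have a2 := hW.conj_mem _ a1 h
    obtain ⟨a', ea⟩ : ∃ a', a' = h * a * h⁻¹ := ⟨_, rfl⟩
    obtain ⟨a'', ea'⟩ : ∃ a'', a'' = h * a' * h⁻¹ := ⟨_, rfl⟩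
    rw [← ea] at a1 a2 ha'
    rw [← ea'] at a2 ha'
    have e1 : h * a⁻¹ * h⁻¹ = a'⁻¹ := by rw [ea]; group
    have e2 : h * a'⁻¹ * h⁻¹ = a''⁻¹ := by rw [ea']; group
    rw [e1, e2]
    have c1 : Commute a a' := hc a ha a' a1
    have c2 : Commute a a'' := hc a ha a'' a2
    have c3 : Commute a' a'' := hc a' a1 a'' a2
    have h1 : (a * a' * a'')⁻¹ = 1 := by rw [ha', inv_one]
    rw [← h1, mul_inv_rev, mul_inv_rev]
    have d1 : a⁻¹ * a'⁻¹ = a'⁻¹ * a⁻¹ := (c1.inv_inv).eq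
    have d2 : a'⁻¹ * a⁻¹ * a''⁻¹ = a''⁻¹ * (a'⁻¹ * a⁻¹) := by
      have := ((c3.mul_left c2 : Commute (a' * a) a'').inv_inv).eq
      rw [mul_inv_rev] at this
      rw [← d1]
      exact this
    rw [d1, d2]

section

variable {h : P} {x y z : I × Fin n}

/-- `[W, h]` for the given data -/
abbrev dd (S : Sy T I n) (h : P) : Subgroup P := DD h (SBl.W_nor) (fun _ hw _ hw' => W_comm S hw hw')

theorem conj_W (g : P) {w : P} (hw : w ∈ WW) : g * w * g⁻¹ ∈ WW := SBl.W_conj g hw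

theorem conj_dd {w : P} (hh : h * h * h = 1) (hw : w ∈ dd S h) : h * w * h⁻¹ ∈ dd S h := by
  obtain ⟨h1, h2⟩ := hw
  refine ⟨conj_W h h1, ?_⟩
  have h3 := conj_W h h1
  have h4 := conj_W h h3
  have e : h * (h * (h * w * h⁻¹) * h⁻¹) * h⁻¹ = w := by
    have e1 : h * (h * (h * w * h⁻¹) * h⁻¹) * h⁻¹ = (h * h * h) * w * (h * h * h)⁻¹ := by group
    rw [e1, hh]; group
  rw [e]
  have h5 := W_comm S (mul_mem h3 h4) h1
  rw [h5, ← mul_assoc]
  exact h2

/-- `[Q, ⟨h⟩] ≤ D` -/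
theorem comm_le_dd (hK : h ∈ KK) (hh : h * h * h = 1) : ⁅QQ, zpowers h⁆ ≤ dd S h := by
  have key : ∀ q ∈ QQ, ⁅q, h⁆ ∈ dd S h := by
    intro q hq
    have h1 : ⁅q, h⁆ ∈ WW := commutator_mem_commutator hq hK
    refine ⟨h1, ?_⟩
    rw [commutatorElement_def]
    have e : q * h * q⁻¹ * h⁻¹ * (h * (q * h * q⁻¹ * h⁻¹) * h⁻¹) * (h * (h * (q * h * q⁻¹ * h⁻¹) * h⁻¹) * h⁻¹) =
        q * (h * h * h) * q⁻¹ * (h * h * h)⁻¹ := by group
    rw [e, hh]; group
  have key2 : ∀ k : ℕ, ∀ q ∈ QQ, ⁅q, h ^ k⁆ ∈ dd S h := by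
    intro k
    induction k with
    | zero => intro q hq; rw [pow_zero]; rw [commutatorElement_one_right]; exact one_mem _
    | succ k ih =>
      intro q hq
      have e : ⁅q, h ^ (k + 1)⁆ = ⁅q, h⁆ * (h * ⁅q, h ^ k⁆ * h⁻¹) := by
        rw [pow_succ', commutatorElement_def, commutatorElement_def, commutatorElement_def]; group
      rw [e]
      exact mul_mem (key q hq) (conj_dd S hh (ih q hq))
  rw [commutator_le]
  intro q hq g hg
  have hfo : IsOfFinOrder h := isOfFinOrder_iff_pow_eq_one.2 ⟨3, by norm_num, by rw [pow_succ, pow_two]; exact hh⟩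
  obtain ⟨k, rfl⟩ := (hfo.mem_powers_iff_mem_zpowers.2 hg : g ∈ Submonoid.powers h)
  exact key2 k q hq

theorem dd_le_comm (hh : h * h * h = 1) : dd S h ≤ ⁅QQ, zpowers h⁆ := by
  rintro w ⟨h1, h2⟩
  have h3 := conj_W h h1
  have h4 := conj_W h h3
  have e : ⁅h * w * h⁻¹, h⁆ = w := by
    have e1 : ⁅h * w * h⁻¹, h⁆ = (h * w * h⁻¹) * (h * (h * w * h⁻¹) * h⁻¹)⁻¹ := by
      rw [commutatorElement_def]; group
    rw [e1, W_inv S h4]
    have e2 : (h * w * h⁻¹) * (h * (h * w * h⁻¹) * h⁻¹) = w⁻¹ := by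
      rw [eq_inv_iff_mul_eq_one, ← h2]
      have h5 := W_comm S (mul_mem h3 h4) h1
      rw [h5, ← mul_assoc]
    rw [e2, W_inv S h1]
  rw [← e]
  exact commutator_mem_commutator (W_le_Q h3) (mem_zpowers h)

theorem comm_eq_dd (hK : h ∈ KK) (hh : h * h * h = 1) : ⁅QQ, zpowers h⁆ = dd S h :=
  le_antisymm (comm_le_dd S hK hh) (dd_le_comm S hh)

/-- decomposition -/
theorem exists_cd (hh : h * h * h = 1) {w : P} (hw : w ∈ WW) :
    ∃ c ∈ WW, ∃ d ∈ dd S h, w = c * d ∧ h * c * h⁻¹ = c ∧ d = (h * w * h⁻¹) * (h * (h * w * h⁻¹) * h⁻¹) := by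
  have h3 := conj_W h hw
  have h4 := conj_W h h3
  obtain ⟨w1, e1⟩ : ∃ w1, w1 = h * w * h⁻¹ := ⟨_, rfl⟩
  obtain ⟨w2, e2⟩ : ∃ w2, w2 = h * w1 * h⁻¹ := ⟨_, rfl⟩
  have e3 : h * w2 * h⁻¹ = w := by
    have e1 : h * w2 * h⁻¹ = (h * h * h) * w * (h * h * h)⁻¹ := by rw [e2, e1]; group
    rw [e1, hh]; group
  rw [← e1] at h3 h4 ⊢
  rw [← e2] at h4 ⊢
  refine ⟨w * w1 * w2, mul_mem (mul_mem hw h3) h4, w1 * w2, ⟨mul_mem h3 h4, ?_⟩, ?_, ?_, rfl⟩
  · have f1 : h * (w1 * w2) * h⁻¹ = w2 * w := by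
      calc h * (w1 * w2) * h⁻¹ = (h * w1 * h⁻¹) * (h * w2 * h⁻¹) := by group
        _ = _ := by rw [← e2, e3]
    have f2 : h * (w2 * w) * h⁻¹ = w * w1 := by
      calc h * (w2 * w) * h⁻¹ = (h * w2 * h⁻¹) * (h * w * h⁻¹) := by group
        _ = _ := by rw [← e1, e3]
    rw [f1, f2]
    calc w1 * w2 * (w2 * w) * (w * w1) = w1 * (w2 * w2) * (w * w) * w1 := by group
      _ = 1 := by rw [W_sq S h4, W_sq S hw, mul_one, mul_one, W_sq S h3]
  · calc w = w * 1 * 1 := by group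
      _ = w * (w1 * w1) * (w2 * w2) := by rw [W_sq S h3, W_sq S h4]
      _ = w * w1 * (w1 * w2) * w2 := by group
      _ = w * w1 * (w2 * w1) * w2 := by rw [W_comm S h3 h4]
      _ = _ := by group
  · calc h * (w * w1 * w2) * h⁻¹ = (h * w * h⁻¹) * (h * w1 * h⁻¹) * (h * w2 * h⁻¹) := by group
      _ = w1 * w2 * w := by rw [← e1, ← e2, e3]
      _ = w * (w1 * w2) := by rw [W_comm S (mul_mem h3 h4) hw]
      _ = _ := by group

end

section tri

variable {h : P} {x y z : I × Fin n} {S} (t : Tri S h x y z)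
include t

theorem Tri.ix : (S.σ h)⁻¹ x = y := by rw [Equiv.Perm.inv_eq_iff_eq]; exact t.sy.symm
theorem Tri.iy : (S.σ h)⁻¹ y = z := by rw [Equiv.Perm.inv_eq_iff_eq]; exact t.sz.symm
theorem Tri.iz : (S.σ h)⁻¹ z = x := by rw [Equiv.Perm.inv_eq_iff_eq]; exact t.sx.symm
theorem Tri.io {u : I × Fin n} (h1 : u ≠ x) (h2 : u ≠ y) (h3 : u ≠ z) : (S.σ h)⁻¹ u = u := by
  rw [Equiv.Perm.inv_eq_iff_eq]; exact (t.so u h1 h2 h3).symm

theorem Tri.norm_Ψ {w : P} (hw : w ∈ WW) (u : I × Fin n) :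
    S.Ψ (w * (h * w * h⁻¹) * (h * (h * w * h⁻¹) * h⁻¹)) u =
      S.Ψ w u + S.Ψ w ((S.σ h)⁻¹ u) + S.Ψ w ((S.σ h)⁻¹ ((S.σ h)⁻¹ u)) := by
  have h3 := conj_W h hw
  have h4 := conj_W h h3
  rw [S.mul _ (mul_mem hw h3) _ h4, S.mul _ hw _ h3, Pi.add_apply, Pi.add_apply, Ψ_conj S h hw, Ψ_conj S h h3,
    Ψ_conj S h hw]

/-- elements of `D` are supported on the triple -/
theorem Tri.supp {w : P} (hw : w ∈ dd S h) {u : I × Fin n} (h1 : u ≠ x) (h2 : u ≠ y) (h3 : u ≠ z) : S.Ψ w u = 0 := by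
  obtain ⟨hw1, hw2⟩ := hw
  have h4 := t.norm_Ψ hw1 u
  rw [hw2, Ψ_one, t.io h1 h2 h3, t.io h1 h2 h3, z2, zero_add] at h4
  exact h4.symm

theorem Tri.sum {w : P} (hw : w ∈ dd S h) : S.Ψ w x + S.Ψ w y + S.Ψ w z = 0 := by
  obtain ⟨hw1, hw2⟩ := hw
  have h4 := t.norm_Ψ hw1 x
  rw [hw2, Ψ_one, t.ix, t.iy] at h4
  exact h4.symm

/-- `Ψ` is injective on `D` -/
theorem Tri.inj {w : P} (hw : w ∈ dd S h) (h0 : S.Ψ w = 0) : w = 1 := by
  have hw' := hw
  obtain ⟨hw1, hw2⟩ := hw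
  have h1 := (S.ker w hw1).1 h0
  have h2 : h * w = w * h := h1 h t.K
  have h3 : h * w * h⁻¹ = w := by rw [h2, mul_inv_cancel_right]
  rw [h3, h3, W_sq S hw1, one_mul] at hw2
  exact hw2

theorem Tri.ext {w w' : P} (hw : w ∈ dd S h) (hw' : w' ∈ dd S h) (hx : S.Ψ w x = S.Ψ w' x) (hy : S.Ψ w y = S.Ψ w' y) :
    w = w' := by
  have h1 : w * w' ∈ dd S h := mul_mem hw hw'
  have hz : S.Ψ w z = S.Ψ w' z := by
    have h2 := t.sum hw
    have h3 := t.sum hw'
    rw [hx, hy] at h2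
    rw [← h3] at h2
    exact add_left_cancel h2
  have h2 : w * w' = 1 := by
    refine t.inj h1 ?_
    funext u
    rw [S.mul w hw.1 w' hw'.1, Pi.add_apply]
    by_cases h1 : u = x
    · rw [h1, hx]; exact z2 _
    by_cases h2 : u = y
    · rw [h2, hy]; exact z2 _
    by_cases h3 : u = z
    · rw [h3, hz]; exact z2 _
    rw [t.supp hw h1 h2 h3, t.supp hw' h1 h2 h3]; rfl
  rw [← W_inv S hw'.1]
  exact eq_inv_of_mul_eq_one_left h2

/-- every even vector supported on the triple comes from `D` -/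
theorem Tri.exists_dd (v : I × Fin n → ZMod 2) (hv : ∀ i, ∑ k, v (i, k) = 0) (h0 : ∀ u, u ≠ x → u ≠ y → u ≠ z → v u = 0)
    (hs : v x + v y + v z = 0) : ∃ w ∈ dd S h, S.Ψ w = v := by
  obtain ⟨w, hw, hwv⟩ := S.surj v hv
  obtain ⟨c, hc, d, hd, e1, e2, e3⟩ := exists_cd S t.cube hw
  refine ⟨d, hd, ?_⟩
  have h3 := conj_W h hw
  have h4 := conj_W h h3
  have key : ∀ u, v ((S.σ h)⁻¹ u) + v ((S.σ h)⁻¹ ((S.σ h)⁻¹ u)) = v u := by
    intro u
    by_cases h1 : u = x
    · rw [h1, t.ix, t.iy]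
      have := z2' hs
      revert this hs
      generalize v x = a; generalize v y = b; generalize v z = c
      revert a b c; decide
    by_cases h2 : u = y
    · rw [h2, t.iy, t.iz]
      revert hs
      generalize v x = a; generalize v y = b; generalize v z = c
      revert a b c; decide
    by_cases h3 : u = z
    · rw [h3, t.iz, t.ix]
      revert hs
      generalize v x = a; generalize v y = b; generalize v z = c
      revert a b c; decide
    rw [t.io h1 h2 h3, t.io h1 h2 h3, z2, h0 u h1 h2 h3]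
  funext u
  rw [e3, S.mul _ h3 _ h4, Pi.add_apply, Ψ_conj S h hw, Ψ_conj S h h3, Ψ_conj S h hw, hwv]
  exact key u

/-- `b` fixing the triple centralises `D` -/
theorem Tri.comm_b {b : P} (hx : S.σ b x = x) (hy : S.σ b y = y) (hz : S.σ b z = z) : ∀ w ∈ dd S h, w * b = b * w := by
  have hKn := K_nor (P := P)
  -- `[h, b] ∈ W`
  have hcm : S.σ b * S.σ h = S.σ h * S.σ b := by
    ext1 u
    rw [Equiv.Perm.mul_apply, Equiv.Perm.mul_apply]
    by_cases h1 : u = x
    · rw [h1, t.sx, hx, t.sx, hz]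
    by_cases h2 : u = y
    · rw [h2, t.sy, hy, t.sy, hx]
    by_cases h3 : u = z
    · rw [h3, t.sz, hz, t.sz, hy]
    rw [t.so u h1 h2 h3, t.so]
    · intro h4; rw [← hx] at h4; exact h1 ((S.σ b).injective h4)
    · intro h4; rw [← hy] at h4; exact h2 ((S.σ b).injective h4)
    · intro h4; rw [← hz] at h4; exact h3 ((S.σ b).injective h4)
  have hW : b⁻¹ * h * b * h⁻¹ ∈ WW := by
    have h1 : b⁻¹ * h * b * h⁻¹ ∈ KK := by
      refine mul_mem ?_ (inv_mem t.K)
      have := hKn.conj_mem h t.K b⁻¹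
      rwa [inv_inv] at this
    refine S.KQ _ h1 ?_
    rw [← S.σker, map_mul, map_mul, map_mul, map_inv, map_inv]
    rw [mul_assoc (S.σ b)⁻¹, ← hcm, inv_mul_cancel_left, mul_inv_cancel]
  -- conjugation by `h` and `b` commute on `W`
  have key : ∀ w ∈ WW, h * (b * w * b⁻¹) * h⁻¹ = b * (h * w * h⁻¹) * b⁻¹ := by
    intro w hw
    obtain ⟨u, hu⟩ : ∃ u, u = b⁻¹ * h * b * h⁻¹ := ⟨_, rfl⟩
    rw [← hu] at hW
    have h1 : h * b = b * (u * h) := by rw [hu]; group
    have h2 := conj_W h hw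
    calc h * (b * w * b⁻¹) * h⁻¹ = (h * b) * w * (h * b)⁻¹ := by group
      _ = b * (u * (h * w * h⁻¹) * u⁻¹) * b⁻¹ := by rw [h1]; group
      _ = b * (h * w * h⁻¹) * b⁻¹ := by rw [W_comm S hW h2, mul_inv_cancel_right]
  intro w hw
  have hbw : b * w * b⁻¹ ∈ dd S h := by
    obtain ⟨h1, h2⟩ := hw
    refine ⟨conj_W b h1, ?_⟩
    rw [key w h1, key _ (conj_W h h1)]
    have : b * w * b⁻¹ * (b * (h * w * h⁻¹) * b⁻¹) * (b * (h * (h * w * h⁻¹) * h⁻¹) * b⁻¹) =
        b * (w * (h * w * h⁻¹) * (h * (h * w * h⁻¹) * h⁻¹)) * b⁻¹ := by group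
    rw [this, h2]; group
  have h3 : b * w * b⁻¹ = w := by
    refine t.ext hbw hw ?_ ?_
    · rw [Ψ_conj S b hw.1]
      congr 1
      rw [Equiv.Perm.inv_eq_iff_eq, hx]
    · rw [Ψ_conj S b hw.1]
      congr 1
      rw [Equiv.Perm.inv_eq_iff_eq, hy]
  rw [mul_inv_eq_iff_eq_mul] at h3
  exact h3.symm

/-- `b` fixing the triple: `[W, b]` commutes with `h` -/
theorem Tri.comm_wb {b : P} (hx : S.σ b x = x) (hy : S.σ b y = y) (hz : S.σ b z = z) {w : P} (hw : w ∈ WW) :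
    h * ⁅w, b⁆ = ⁅w, b⁆ * h := by
  have hKn := K_nor (P := P)
  obtain ⟨c, hc, d, hd, e1, e2, -⟩ := exists_cd S t.cube hw
  have hdb := t.comm_b hx hy hz d hd
  have e3 : ⁅w, b⁆ = c * (b * c⁻¹ * b⁻¹) := by
    rw [e1, commutatorElement_def]
    calc c * d * b * (c * d)⁻¹ * b⁻¹ = c * (d * b) * d⁻¹ * c⁻¹ * b⁻¹ := by group
      _ = c * (b * d) * d⁻¹ * c⁻¹ * b⁻¹ := by rw [hdb]
      _ = _ := by group
  -- `h` commutes with `b c b⁻¹`
  have hcm : S.σ b * S.σ h = S.σ h * S.σ b := by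
    ext1 u
    rw [Equiv.Perm.mul_apply, Equiv.Perm.mul_apply]
    by_cases h1 : u = x
    · rw [h1, t.sx, hx, t.sx, hz]
    by_cases h2 : u = y
    · rw [h2, t.sy, hy, t.sy, hx]
    by_cases h3 : u = z
    · rw [h3, t.sz, hz, t.sz, hy]
    rw [t.so u h1 h2 h3, t.so]
    · intro h4; rw [← hx] at h4; exact h1 ((S.σ b).injective h4)
    · intro h4; rw [← hy] at h4; exact h2 ((S.σ b).injective h4)
    · intro h4; rw [← hz] at h4; exact h3 ((S.σ b).injective h4)
  have hW : b⁻¹ * h * b * h⁻¹ ∈ WW := by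
    have h1 : b⁻¹ * h * b * h⁻¹ ∈ KK := by
      refine mul_mem ?_ (inv_mem t.K)
      have := hKn.conj_mem h t.K b⁻¹
      rwa [inv_inv] at this
    refine S.KQ _ h1 ?_
    rw [← S.σker, map_mul, map_mul, map_mul, map_inv, map_inv]
    rw [mul_assoc (S.σ b)⁻¹, ← hcm, inv_mul_cancel_left, mul_inv_cancel]
  have key : ∀ w ∈ WW, h * (b * w * b⁻¹) * h⁻¹ = b * (h * w * h⁻¹) * b⁻¹ := by
    intro w hw
    obtain ⟨u, hu⟩ : ∃ u, u = b⁻¹ * h * b * h⁻¹ := ⟨_, rfl⟩
    rw [← hu] at hW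
    have h1 : h * b = b * (u * h) := by rw [hu]; group
    have h2 := conj_W h hw
    calc h * (b * w * b⁻¹) * h⁻¹ = (h * b) * w * (h * b)⁻¹ := by group
      _ = b * (u * (h * w * h⁻¹) * u⁻¹) * b⁻¹ := by rw [h1]; group
      _ = b * (h * w * h⁻¹) * b⁻¹ := by rw [W_comm S hW h2, mul_inv_cancel_right]
  have h1 := key c hc
  rw [e2] at h1
  have h2 : h * (c * (b * c⁻¹ * b⁻¹)) * h⁻¹ = c * (b * c⁻¹ * b⁻¹) := by
    calc h * (c * (b * c⁻¹ * b⁻¹)) * h⁻¹ = (h * c * h⁻¹) * (h * (b * c * b⁻¹) * h⁻¹)⁻¹ := by group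
      _ = c * (b * c * b⁻¹)⁻¹ := by rw [e2, h1]
      _ = _ := by group
  rw [e3]
  exact mul_inv_eq_iff_eq_mul.1 h2

end tri

end Cfsg.Agent.H276.HM
end

-- part: H276/HM/SymB
section
/-!
# S5175, symmetric blocks: consequences of `Full`
-/

set_option autoImplicit false
set_option linter.unusedSectionVars false
set_option linter.unusedVariables false

namespace Cfsg.Agent.H276.HM

open Subgroup Cfsg Cfsg.Agent.H756.HM Cfsg.Agent.H41.HM
open scoped commutatorElement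

variable {P : Type*} [Group P] {T : Subgroup P} {I : Type} {n : ℕ} {S : Sy T I n}

local notation "QQ" => pCore 2 P
local notation "KK" => pResidual 2 P
local notation "WW" => (⁅pCore 2 P, pResidual 2 P⁆ : Subgroup P)

/-- `x` is moved by `X` -/
def Mv (S : Sy T I n) (X : Subgroup P) (x : I × Fin n) : Prop := ∃ a ∈ X, S.σ a x ≠ x

open Classical in
/-- the partner of a point -/
noncomputable def pr (S : Sy T I n) (X : Subgroup P) (x : I × Fin n) : I × Fin n :=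
  if h : ∃ a ∈ X, S.σ a x ≠ x then S.σ h.choose x else x

section

variable {X : Subgroup P} (hX : Offd T X) (h : Full S X)

include hX in
theorem sq1 {a : P} (ha : a ∈ X) (x : I × Fin n) : S.σ a (S.σ a x) = x := by
  have h1 : S.σ (a * a) = 1 := by rw [← pow_two, hX.sq a ha, map_one]
  rw [map_mul] at h1
  have h2 := congrArg (fun s : Equiv.Perm (I × Fin n) => s x) h1
  exact h2

include h in
theorem pr_eq {a : P} (ha : a ∈ X) {x : I × Fin n} (hx : S.σ a x ≠ x) : S.σ a x = pr S X x := by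
  have h1 : ∃ a ∈ X, S.σ a x ≠ x := ⟨a, ha, hx⟩
  unfold pr
  rw [dif_pos h1]
  exact h.orb a ha _ h1.choose_spec.1 x hx h1.choose_spec.2

include h in
theorem or_pr {a : P} (ha : a ∈ X) (x : I × Fin n) : S.σ a x = x ∨ S.σ a x = pr S X x := by
  by_cases hx : S.σ a x = x
  · exact Or.inl hx
  · exact Or.inr (pr_eq h ha hx)

include h in
theorem pr_ne {x : I × Fin n} (hx : Mv S X x) : pr S X x ≠ x := by
  obtain ⟨a, ha, hax⟩ := hx
  rw [← pr_eq h ha hax]; exact hax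

include hX h in
theorem mv_pr {x : I × Fin n} (hx : Mv S X x) : Mv S X (pr S X x) := by
  obtain ⟨a, ha, hax⟩ := hx
  refine ⟨a, ha, ?_⟩
  rw [← pr_eq h ha hax, sq1 hX ha]
  exact hax.symm

include hX h in
theorem pr_pr {x : I × Fin n} (hx : Mv S X x) : pr S X (pr S X x) = x := by
  obtain ⟨a, ha, hax⟩ := hx
  have h1 : S.σ a (pr S X x) ≠ pr S X x := by
    rw [← pr_eq h ha hax, sq1 hX ha]
    exact hax.symm
  rw [← pr_eq h ha h1, ← pr_eq h ha hax, sq1 hX ha]

include h in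
theorem pr_blk {x : I × Fin n} (hx : Mv S X x) : (pr S X x).1 = x.1 := by
  obtain ⟨a, ha, hax⟩ := hx
  rw [← pr_eq h ha hax]
  exact h.fixb a ha x

theorem not_mv {x : I × Fin n} (hx : ¬ Mv S X x) {a : P} (ha : a ∈ X) : S.σ a x = x := by
  by_contra hcon
  exact hx ⟨a, ha, hcon⟩

include hX h in
/-- the swaps are in `σ(X)` -/
theorem exists_swap [DecidableEq I] {x : I × Fin n} (hx : Mv S X x) : ∃ a ∈ X, S.σ a = Equiv.swap x (pr S X x) := by
  refine h.full _ fun u => ?_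
  by_cases h1 : u = x
  · obtain ⟨a, ha, hax⟩ := hx
    refine ⟨a, ha, ?_⟩
    rw [h1, Equiv.swap_apply_left, pr_eq h ha hax]
  by_cases h2 : u = pr S X x
  · obtain ⟨a, ha, hax⟩ := hx
    refine ⟨a, ha, ?_⟩
    rw [h2, Equiv.swap_apply_right, ← pr_eq h ha hax, sq1 hX ha]
  · refine ⟨1, one_mem _, ?_⟩
    rw [Equiv.swap_apply_of_ne_of_ne h1 h2, map_one]; rfl

include h in
/-- the fixed points -/
theorem exists_ff : ∃ f : I → Fin n, ∀ x : I × Fin n, ¬ Mv S X x ↔ x = (x.1, f x.1) := by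
  obtain ⟨f, hf⟩ := h.fp
  refine ⟨f, fun x => ?_⟩
  have h1 := hf x.1 x.2
  constructor
  · intro hx
    have h2 := h1.1 fun a ha => not_mv hx ha
    exact Prod.ext rfl h2
  · rintro hx ⟨a, ha, hax⟩
    have h2 : x.2 = f x.1 := congrArg Prod.snd hx
    exact hax (h1.2 h2 a ha)

/-- `T₀` -/
theorem mem_T0 {t : P} : t ∈ X ⊔ QQ ↔ ∃ a ∈ X, S.σ t = S.σ a := by
  have hQ := Q_nor (P := P)
  constructor
  · intro ht
    rw [Subgroup.mem_sup_of_normal_right] at ht
    obtain ⟨a, ha, q, hq, rfl⟩ := ht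
    exact ⟨a, ha, by rw [map_mul, (S.σker q).2 hq, mul_one]⟩
  · rintro ⟨a, ha, hta⟩
    have h1 : a⁻¹ * t ∈ QQ := by
      rw [← S.σker, map_mul, map_inv, hta, inv_mul_cancel]
    rw [← mul_inv_cancel_left a t]
    exact mul_mem (mem_sup_left ha) (mem_sup_right h1)

include h in
theorem cen0 {w : P} (hw : w ∈ WW) (h1 : ∀ x, Mv S X x → S.Ψ w x = S.Ψ w (pr S X x)) :
    w ∈ centralizer ((X ⊔ QQ : Subgroup P) : Set P) := by
  have h2 : X ⊔ QQ ≤ centralizer ({w} : Set P) := by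
    refine sup_le ?_ ?_
    · intro a ha
      rw [mem_centralizer_singleton_iff]
      refine (h.cen w hw (fun a ha x => ?_) a ha).symm
      by_cases hx : S.σ a x = x
      · rw [hx]
      · rw [pr_eq h ha hx]
        exact (h1 x ⟨a, ha, hx⟩).symm
    · intro q hq
      rw [mem_centralizer_singleton_iff]
      exact (S.bw.W_comm w hw q hq).symm
  intro t ht
  exact mem_centralizer_singleton_iff.1 (h2 ht)

include h in
theorem cenK {w : P} (hw : w ∈ WW ⊓ centralizer (KK : Set P)) : w ∈ centralizer ((X ⊔ QQ : Subgroup P) : Set P) := by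
  refine cen0 h hw.1 fun x _ => ?_
  rw [(S.ker w hw.1).2 hw.2]; rfl

/-- generation of `W` -/
theorem gen [DecidableEq I] {f : I → Fin n} (hf : ∀ x : I × Fin n, ¬ Mv S X x ↔ x = (x.1, f x.1)) {L : Subgroup P}
    (h1 : WW ⊓ centralizer (KK : Set P) ≤ L)
    (h2 : ∀ x, Mv S X x → ∃ w ∈ L, w ∈ WW ∧ S.Ψ w = SBl.ee x (x.1, f x.1)) : WW ≤ L := by
  have := S.fin
  have key : ∀ (m : ℕ) (w : P), w ∈ WW → {u | S.Ψ w u ≠ 0 ∧ Mv S X u}.ncard ≤ m → w ∈ L := by
    intro m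
    induction m with
    | zero =>
      intro w hw hm
      have h3 : {u | S.Ψ w u ≠ 0 ∧ Mv S X u} = ∅ := by
        rw [← Set.ncard_eq_zero (Set.toFinite _)]; omega
      have h4 : ∀ u, Mv S X u → S.Ψ w u = 0 := by
        intro u hu
        by_contra hcon
        have : u ∈ ({u | S.Ψ w u ≠ 0 ∧ Mv S X u} : Set (I × Fin n)) := ⟨hcon, hu⟩
        rw [h3] at this
        exact this
      refine h1 ⟨hw, (S.ker w hw).1 ?_⟩
      funext u
      by_cases hu : Mv S X u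
      · exact h4 u hu
      · have h5 := (hf u).1 hu
        have h6 := S.even w hw u.1
        rw [Finset.sum_eq_single (f u.1)] at h6
        · rw [h5]; exact h6
        · intro k _ hk
          apply h4
          by_contra hcon
          have := (hf _).1 hcon
          exact hk (congrArg Prod.snd this)
        · intro hcon; exact absurd (Finset.mem_univ _) hcon
    | succ m ih =>
      intro w hw hm
      by_cases he : ∃ x, S.Ψ w x ≠ 0 ∧ Mv S X x
      · obtain ⟨x, hx0, hx⟩ := he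
        obtain ⟨d, hdL, hdW, hd⟩ := h2 x hx
        have hx1 : S.Ψ w x = 1 := (z2'' _).resolve_left hx0
        have hne : x ≠ (x.1, f x.1) := fun e => (hf x).2 e hx
        have h3 : w * d ∈ L := by
          refine ih _ (mul_mem hw hdW) ?_
          have h4 : {u | S.Ψ (w * d) u ≠ 0 ∧ Mv S X u} ⊆ {u | S.Ψ w u ≠ 0 ∧ Mv S X u} \ {x} := by
            rintro u ⟨hu1, hu2⟩
            have hu3 : u ≠ (x.1, f x.1) := by
              intro e
              refine (hf u).2 ?_ hu2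
              rw [e]
            rw [S.mul w hw d hdW, Pi.add_apply, hd] at hu1
            unfold SBl.ee at hu1
            rw [if_neg hu3, add_zero] at hu1
            by_cases hux : u = x
            · exfalso
              apply hu1
              rw [if_pos hux, hux, hx1]; rfl
            · rw [if_neg hux, add_zero] at hu1
              exact ⟨⟨hu1, hu2⟩, hux⟩
          have h5 := Set.ncard_le_ncard h4 (Set.toFinite _)
          have h6 := Set.ncard_sdiff_singleton_add_one (s := {u | S.Ψ w u ≠ 0 ∧ Mv S X u}) (a := x) ⟨hx0, hx⟩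
            (Set.toFinite _)
          omega
        have h4 : w = w * d * d := by
          have h5 : d * d = 1 := W_sq S hdW
          rw [mul_assoc, h5, mul_one]
        rw [h4]
        exact mul_mem h3 hdL
      · refine ih w hw ?_
        have h3 : {u | S.Ψ w u ≠ 0 ∧ Mv S X u} = ∅ := by
          rw [Set.eq_empty_iff_forall_notMem]
          intro u hu
          exact he ⟨u, hu⟩
        rw [h3, Set.ncard_empty]; omega
  intro w hw
  exact key _ w hw le_rfl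

end

/-! ### the 3-cycles -/

/-- an element of order three acting as the 3-cycle `x → z → y → x` -/
theorem exists_tri [DecidableEq I] {x y z : I × Fin n} (h1 : x ≠ y) (h2 : x ≠ z) (h3 : y ≠ z) (b1 : x.1 = y.1)
    (b2 : x.1 = z.1) : ∃ g, Tri S g x y z := by
  obtain ⟨i, k⟩ := x
  obtain ⟨i', k'⟩ := y
  obtain ⟨i'', l⟩ := z
  simp only at b1 b2
  subst b1
  subst b2
  have e1 : k ≠ k' := fun e => h1 (by rw [e])
  have e2 : k ≠ l := fun e => h2 (by rw [e])
  have e3 : k' ≠ l := fun e => h3 (by rw [e])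
  obtain ⟨π, hπ⟩ : ∃ π, π = Equiv.swap k k' * Equiv.swap k l := ⟨_, rfl⟩
  have hπa : π ∈ alternatingGroup (Fin n) := by
    rw [Equiv.Perm.mem_alternatingGroup, hπ, Equiv.Perm.sign_mul, Equiv.Perm.sign_swap e1, Equiv.Perm.sign_swap e2]
    rfl
  have p1 : π k = l := by
    rw [hπ, Equiv.Perm.mul_apply, Equiv.swap_apply_left, Equiv.swap_apply_of_ne_of_ne e2.symm e3.symm]
  have p2 : π l = k' := by
    rw [hπ, Equiv.Perm.mul_apply, Equiv.swap_apply_right, Equiv.swap_apply_left]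
  have p3 : π k' = k := by
    rw [hπ, Equiv.Perm.mul_apply, Equiv.swap_apply_of_ne_of_ne e1.symm e3, Equiv.swap_apply_right]
  have p4 : ∀ m, m ≠ k → m ≠ k' → m ≠ l → π m = m := by
    intro m m1 m2 m3
    rw [hπ, Equiv.Perm.mul_apply, Equiv.swap_apply_of_ne_of_ne m1 m3, Equiv.swap_apply_of_ne_of_ne m1 m2]
  obtain ⟨e, heK, hei, hej⟩ := S.alt i π hπa
  have q1 : S.σ e (i, k) = (i, l) := by rw [hei, p1]
  have q2 : S.σ e (i, l) = (i, k') := by rw [hei, p2]
  have q3 : S.σ e (i, k') = (i, k) := by rw [hei, p3]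
  have q4 : ∀ u : I × Fin n, u ≠ (i, k) → u ≠ (i, k') → u ≠ (i, l) → S.σ e u = u := by
    rintro ⟨j, m⟩ m1 m2 m3
    by_cases hj : j = i
    · subst hj
      rw [hei, p4 m (fun e => m1 (by rw [e])) (fun e => m2 (by rw [e])) (fun e => m3 (by rw [e]))]
    · exact hej j hj m
  have hcube : S.σ e * S.σ e * S.σ e = 1 := by
    ext1 u
    rw [Equiv.Perm.mul_apply, Equiv.Perm.mul_apply, Equiv.Perm.one_apply]
    by_cases u1 : u = (i, k)
    · rw [u1, q1, q2, q3]
    by_cases u2 : u = (i, k')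
    · rw [u2, q3, q1, q2]
    by_cases u3 : u = (i, l)
    · rw [u3, q2, q3, q1]
    rw [q4 u u1 u2 u3, q4 u u1 u2 u3, q4 u u1 u2 u3]
  have h6 : (e * e * e) * (e * e * e) = 1 := by
    apply W_sq S
    refine S.KQ _ (mul_mem (mul_mem heK heK) heK) ?_
    rw [← S.σker, map_mul, map_mul]
    exact hcube
  obtain ⟨g, hg⟩ : ∃ g, g = e * e * e * e := ⟨_, rfl⟩
  have hσ : S.σ g = S.σ e := by
    rw [hg, map_mul, map_mul, map_mul, hcube, one_mul]
  refine ⟨g, ⟨?_, ?_, h1, h2, h3, rfl, rfl, ?_, ?_, ?_, ?_⟩⟩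
  · rw [hg]; exact mul_mem (mul_mem (mul_mem heK heK) heK) heK
  · rw [hg]
    calc e * e * e * e * (e * e * e * e) * (e * e * e * e) = ((e * e * e) * (e * e * e)) * ((e * e * e) * (e * e * e)) := by
          group
      _ = 1 := by rw [h6, one_mul]
  · rw [hσ, q1]
  · rw [hσ, q2]
  · rw [hσ, q3]
  · rw [hσ]; exact q4

end Cfsg.Agent.H276.HM
end
end

-- part: H276/HM/BDSym_mg
section
prune_inst 0x90000b000c0002000018000280003c46ba00010000280000d06006040686df202d00a121c4200c000802aa440030000000000040000000000000000001190080900a42069308a10c66000f808104000000000000000000000000000000041000000000000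
set_option linter.all false
open scoped Cfsg.Agent.FastGrp

-- part: H276/HM/SymC
section
/-!
# S5175, symmetric blocks: the fields of `BD`
-/

set_option autoImplicit false
set_option linter.unusedSectionVars false
set_option linter.unusedVariables false

namespace Cfsg.Agent.H276.HM

open Subgroup Cfsg Cfsg.Agent.H756.HM Cfsg.Agent.H41.HM
open scoped commutatorElement

variable {P : Type*} [Group P] {T : Subgroup P} {I : Type} {n : ℕ} {S : Sy T I n}

local notation "QQ" => pCore 2 P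
local notation "KK" => pResidual 2 P
local notation "WW" => (⁅pCore 2 P, pResidual 2 P⁆ : Subgroup P)

section

variable [DecidableEq I] {X : Subgroup P} (hX : Offd T X) (h : Full S X) {f : I → Fin n}
  (hf : ∀ x : I × Fin n, ¬ Mv S X x ↔ x = (x.1, f x.1))

include hf in
theorem ne_ff {x : I × Fin n} (hx : Mv S X x) : x ≠ (x.1, f x.1) := fun e => (hf x).2 e hx

include h hf in
theorem not_mv_ff (i : I) : ¬ Mv S X (i, f i) := (hf _).2 rfl

include h hf in
theorem mv_ne_ff {u : I × Fin n} (hu : Mv S X u) (i : I) : u ≠ (i, f i) := by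
  intro e
  rw [e] at hu
  exact not_mv_ff h hf i hu

include hX h hf in
theorem exists_tri' {x : I × Fin n} (hx : Mv S X x) : ∃ g, Tri S g x (pr S X x) (x.1, f x.1) := by
  refine exists_tri (pr_ne h hx).symm (ne_ff hf hx) ?_ (pr_blk h hx).symm rfl
  exact mv_ne_ff h hf (mv_pr hX h hx) _

include h hf in
/-- the vector `e_x + e_f` comes from `D` -/
theorem tri_ee {x : I × Fin n} (hx : Mv S X x) {g : P} (t : Tri S g x (pr S X x) (x.1, f x.1)) :
    ∃ w ∈ dd S g, S.Ψ w = SBl.ee x (x.1, f x.1) := by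
  refine t.exists_dd _ (SBl.ee_even rfl) ?_ ?_
  · intro u h1 h2 h3
    unfold SBl.ee
    rw [if_neg h1, if_neg h3, add_zero]
  · unfold SBl.ee
    rw [if_pos rfl, if_neg t.ne2, if_neg t.ne1.symm, if_neg t.ne3, if_neg t.ne2.symm, if_pos rfl]
    decide

include h hf in
/-- the vector `e_y + e_f` comes from `D` -/
theorem tri_ee' {x : I × Fin n} (hx : Mv S X x) {g : P} (t : Tri S g x (pr S X x) (x.1, f x.1)) :
    ∃ w ∈ dd S g, S.Ψ w = SBl.ee (pr S X x) (x.1, f x.1) := by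
  refine t.exists_dd _ (SBl.ee_even (pr_blk h hx)) ?_ ?_
  · intro u h1 h2 h3
    unfold SBl.ee
    rw [if_neg h2, if_neg h3, add_zero]
  · unfold SBl.ee
    rw [if_pos rfl, if_neg t.ne1, if_neg t.ne2, if_neg t.ne3, if_neg t.ne3.symm, if_pos rfl]
    decide

include hX h hf in
/-- an element of `T₀` fixing the moved point `x` fixes its triple -/
theorem fix_triple {b : P} (hb : b ∈ X ⊔ QQ) {x : I × Fin n} (hx : Mv S X x) (hbx : S.σ b x = x) :
    S.σ b (pr S X x) = pr S X x ∧ S.σ b (x.1, f x.1) = (x.1, f x.1) := by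
  obtain ⟨a, ha, hab⟩ := mem_T0.1 hb
  rw [hab] at hbx ⊢
  refine ⟨?_, not_mv (not_mv_ff h hf x.1) ha⟩
  rcases or_pr h ha (pr S X x) with h1 | h1
  · exact h1
  · exfalso
    rw [pr_pr hX h hx] at h1
    have h2 := (S.σ a).injective (h1.trans hbx.symm)
    exact pr_ne h hx h2

include hX h hf in
/-- `W = D C_W(a)` -/
theorem aa1 {x : I × Fin n} (hx : Mv S X x) {g : P} (t : Tri S g x (pr S X x) (x.1, f x.1)) {a : P}
    (haT : a ∈ X ⊔ QQ) (ha : S.σ a = Equiv.swap x (pr S X x)) : WW ≤ dd S g ⊔ (WW ⊓ centralizer ({a} : Set P)) := by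
  refine gen hf ?_ ?_
  · intro w hw
    refine mem_sup_right (Subgroup.mem_inf.2 ⟨hw.1, ?_⟩)
    rw [mem_centralizer_singleton_iff]
    exact (cenK h hw a haT).symm
  · intro u hu
    by_cases h1 : u = x
    · subst h1
      obtain ⟨w, hw, hwe⟩ := tri_ee h hf hx t
      exact ⟨w, mem_sup_left hw, hw.1, hwe⟩
    by_cases h2 : u = pr S X x
    · obtain ⟨w, hw, hwe⟩ := tri_ee' h hf hx t
      refine ⟨w, mem_sup_left hw, hw.1, ?_⟩
      rw [hwe, h2, pr_blk h hx]
    obtain ⟨g', t'⟩ := exists_tri' hX h hf hu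
    obtain ⟨w, hw, hwe⟩ := tri_ee h hf hu t'
    refine ⟨w, mem_sup_right (Subgroup.mem_inf.2 ⟨hw.1, ?_⟩), hw.1, hwe⟩
    rw [mem_centralizer_singleton_iff]
    have h3 : S.σ a u = u := by rw [ha, Equiv.swap_apply_of_ne_of_ne h1 h2]
    obtain ⟨h4, h5⟩ := fix_triple hX h hf haT hu h3
    exact t'.comm_b h3 h4 h5 w hw

include hX h hf in
/-- elements of `D` with equal coordinates at `x` and its partner -/
theorem dd_cen {x : I × Fin n} (hx : Mv S X x) {g : P} (t : Tri S g x (pr S X x) (x.1, f x.1)) {d : P}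
    (hd : d ∈ dd S g) (hd1 : S.Ψ d x = S.Ψ d (pr S X x)) : d ∈ centralizer ((X ⊔ QQ : Subgroup P) : Set P) := by
  refine cen0 h hd.1 fun u hu => ?_
  by_cases h1 : u = x
  · rw [h1]; exact hd1
  by_cases h2 : u = pr S X x
  · rw [h2, pr_pr hX h hx]; exact hd1.symm
  rw [t.supp hd h1 h2 (mv_ne_ff h hf hu _), t.supp hd ?_ ?_ (mv_ne_ff h hf (mv_pr hX h hu) _)]
  · intro e
    rw [← e, pr_pr hX h hu] at h2
    exact h2 rfl
  · intro e
    have h3 := congrArg (pr S X) e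
    rw [pr_pr hX h hu, pr_pr hX h hx] at h3
    exact h1 h3

include hX h hf in
theorem aa2 {x : I × Fin n} (hx : Mv S X x) {g : P} (t : Tri S g x (pr S X x) (x.1, f x.1)) {a : P}
    (haT : a ∈ X ⊔ QQ) (ha : S.σ a = Equiv.swap x (pr S X x)) {w : P} (hw : w ∈ WW) :
    w ∈ centralizer ({a} : Set P) ↔ S.Ψ w x = S.Ψ w (pr S X x) := by
  have h0 : ∀ w ∈ WW, w ∈ centralizer ({a} : Set P) → S.Ψ w x = S.Ψ w (pr S X x) := by
    intro w hw h1
    rw [mem_centralizer_singleton_iff] at h1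
    have h2 := Ψ_of_comm S hw h1.symm x
    rw [ha, Equiv.swap_apply_left] at h2
    exact h2.symm
  refine ⟨h0 w hw, fun h1 => ?_⟩
  obtain ⟨d, hd, c, hc, e⟩ := mem_sup_comm (H := dd S g)
    (L := WW ⊓ centralizer ({a} : Set P)) (fun a ha b hb => W_comm S ha.1 hb.1) (aa1 hX h hf hx t haT ha hw)
  have h2 := h0 c hc.1 hc.2
  have h3 : S.Ψ d x = S.Ψ d (pr S X x) := by
    rw [e, S.mul d hd.1 c hc.1, Pi.add_apply, Pi.add_apply, h2] at h1
    exact add_right_cancel h1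
  have h4 := dd_cen hX h hf hx t hd h3
  rw [e]
  refine mul_mem ?_ hc.2
  rw [mem_centralizer_singleton_iff]
  exact (h4 a haT).symm

theorem rel2 {H K : Subgroup P} (hH : ∃ a ∈ K, ∀ b ∈ K, (b * a ∈ H ↔ ¬ b ∈ H)) : H.relIndex K = 2 := by
  rw [relIndex_eq_two_iff]
  obtain ⟨a, ha, h1⟩ := hH
  refine ⟨a, ha, fun b hb => ?_⟩
  by_cases h2 : b ∈ H
  · exact Or.inr ⟨h2, fun h3 => (h1 b hb).1 h3 h2⟩
  · exact Or.inl ⟨(h1 b hb).2 h2, h2⟩

include hX h hf in
theorem aa3 {x : I × Fin n} (hx : Mv S X x) {g : P} (t : Tri S g x (pr S X x) (x.1, f x.1)) {a : P}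
    (haT : a ∈ X ⊔ QQ) (ha : S.σ a = Equiv.swap x (pr S X x)) :
    (WW ⊓ centralizer ({a} : Set P)).relIndex WW = 2 := by
  obtain ⟨d, hd, hde⟩ := tri_ee h hf hx t
  refine rel2 ⟨d, hd.1, fun b hb => ?_⟩
  have h1 : ∀ w ∈ WW, w ∈ WW ⊓ centralizer ({a} : Set P) ↔ S.Ψ w x = S.Ψ w (pr S X x) := fun w hw =>
    ⟨fun h2 => (aa2 hX h hf hx t haT ha hw).1 h2.2, fun h2 => ⟨hw, (aa2 hX h hf hx t haT ha hw).2 h2⟩⟩
  rw [h1 _ (mul_mem hb hd.1), h1 _ hb, S.mul b hb d hd.1, Pi.add_apply, Pi.add_apply, hde]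
  unfold SBl.ee
  rw [if_pos rfl, if_neg t.ne2, if_neg t.ne1.symm, if_neg t.ne3]
  generalize S.Ψ b x = u
  generalize S.Ψ b (pr S X x) = v
  revert u v; decide

include hX h hf in
theorem wa_aux {x : I × Fin n} (hx : Mv S X x) {g : P} (t : Tri S g x (pr S X x) (x.1, f x.1)) {w a : P}
    (hw : w ∈ dd S g) (hwc : w ∉ centralizer ((X ⊔ QQ : Subgroup P) : Set P))
    (ha : S.σ a = Equiv.swap x (pr S X x)) : ⁅w, a⁆ ∉ centralizer ((zpowers g : Subgroup P) : Set P) := by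
  intro hcon
  have h1 : S.Ψ w x ≠ S.Ψ w (pr S X x) := fun e => hwc (dd_cen hX h hf hx t hw e)
  have h2 : g * ⁅w, a⁆ = ⁅w, a⁆ * g := hcon g (mem_zpowers g)
  have h3 : ⁅w, a⁆ = w * (a * w⁻¹ * a⁻¹) := by rw [commutatorElement_def]; group
  have h4 : a * w⁻¹ * a⁻¹ ∈ WW := conj_W a (inv_mem hw.1)
  have h5 : ⁅w, a⁆ ∈ WW := by rw [h3]; exact mul_mem hw.1 h4
  have h6 : ∀ u, S.Ψ ⁅w, a⁆ u = S.Ψ w u + S.Ψ w (Equiv.swap x (pr S X x) u) := by
    intro u
    rw [h3, S.mul w hw.1 _ h4, Pi.add_apply, Ψ_conj S a (inv_mem hw.1), Ψ_inv S hw.1, ha, Equiv.swap_inv]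
  have h7 := Ψ_of_comm S h5 h2 x
  rw [t.sx, h6, h6, Equiv.swap_apply_left, Equiv.swap_apply_of_ne_of_ne t.ne2.symm t.ne3.symm, z2] at h7
  exact h1 (z2' h7.symm)

include hf h in
theorem irr_aux {x : I × Fin n} (hx : Mv S X x) {g : P} (t : Tri S g x (pr S X x) (x.1, f x.1)) {Y : Subgroup P}
    (hY : Y ≤ QQ) (hgY : zpowers g ≤ normalizer (Y : Set P)) (hn : ¬ Y ≤ centralizer ((zpowers g : Subgroup P) : Set P)) :
    dd S g ≤ Y := by
  have hgn : ∀ y ∈ Y, g * y * g⁻¹ ∈ Y := fun y hy => (mem_normalizer_iff.1 (hgY (mem_zpowers g)) y).1 hy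
  obtain ⟨y, hy, hyc⟩ : ∃ y ∈ Y, ⁅y, g⁆ ≠ 1 := by
    by_contra hcon
    push Not at hcon
    apply hn
    intro y hy
    have h1 : Commute y g := commutatorElement_eq_one_iff_mul_comm.1 (hcon y hy)
    rintro _ ⟨k, rfl⟩
    exact (h1.zpow_right k).symm.eq
  obtain ⟨u, hu⟩ : ∃ u, u = ⁅y, g⁆ := ⟨_, rfl⟩
  rw [← hu] at hyc
  have huD : u ∈ dd S g := by
    rw [hu]
    exact comm_le_dd S t.K t.cube (commutator_mem_commutator (hY hy) (mem_zpowers g))
  have huY : u ∈ Y := by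
    have e : u = y * (g * y⁻¹ * g⁻¹) := by rw [hu, commutatorElement_def]; group
    rw [e]
    exact mul_mem hy (hgn _ (inv_mem hy))
  have hu0 : S.Ψ u ≠ 0 := fun e => hyc (t.inj huD e)
  have hu1 := conj_dd S t.cube huD
  have hu1Y := hgn u huY
  have hu2 := conj_dd S t.cube hu1
  have hu2Y := hgn _ hu1Y
  have v1x : S.Ψ (g * u * g⁻¹) x = S.Ψ u (pr S X x) := by rw [Ψ_conj S g huD.1, t.ix]
  have v1y : S.Ψ (g * u * g⁻¹) (pr S X x) = S.Ψ u (x.1, f x.1) := by rw [Ψ_conj S g huD.1, t.iy]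
  have v2x : S.Ψ (g * (g * u * g⁻¹) * g⁻¹) x = S.Ψ u (x.1, f x.1) := by rw [Ψ_conj S g hu1.1, t.ix, v1y]
  have v2y : S.Ψ (g * (g * u * g⁻¹) * g⁻¹) (pr S X x) = S.Ψ u x := by
    rw [Ψ_conj S g hu1.1, t.iy, Ψ_conj S g huD.1, t.iz]
  have hsum := t.sum huD
  have hne : ¬ (S.Ψ u x = 0 ∧ S.Ψ u (pr S X x) = 0) := by
    rintro ⟨h1, h2⟩
    apply hyc
    refine t.ext huD (one_mem _) ?_ ?_
    · rw [h1, Ψ_one]; rfl
    · rw [h2, Ψ_one]; rfl
  intro w hw
  have key : ∀ a b c p q : ZMod 2, a + b + c = 0 → ¬ (a = 0 ∧ b = 0) →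
      (p = 0 ∧ q = 0) ∨ (p = a ∧ q = b) ∨ (p = b ∧ q = c) ∨ (p = c ∧ q = a) := by
    intro a b c p q
    rcases z2'' a with rfl | rfl <;> rcases z2'' b with rfl | rfl <;> rcases z2'' c with rfl | rfl <;>
      rcases z2'' p with rfl | rfl <;> rcases z2'' q with rfl | rfl <;> decide
  rcases key _ _ _ (S.Ψ w x) (S.Ψ w (pr S X x)) hsum hne with ⟨h1, h2⟩ | ⟨h1, h2⟩ | ⟨h1, h2⟩ | ⟨h1, h2⟩
  · have : w = 1 := by
      refine t.ext hw (one_mem _) ?_ ?_
      · rw [h1, Ψ_one]; rfl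
      · rw [h2, Ψ_one]; rfl
    rw [this]; exact one_mem _
  · rw [t.ext hw huD h1 h2]; exact huY
  · rw [t.ext hw hu1 (h1.trans v1x.symm) (h2.trans v1y.symm)]; exact hu1Y
  · rw [t.ext hw hu2 (h1.trans v2x.symm) (h2.trans v2y.symm)]; exact hu2Y

end

end Cfsg.Agent.H276.HM
end

-- part: H276/HM/SymD
section
/-!
# S5175, symmetric blocks: the remaining fields of `BD`
-/

set_option autoImplicit false
set_option linter.unusedSectionVars false
set_option linter.unusedVariables false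

namespace Cfsg.Agent.H276.HM

open Subgroup Cfsg Cfsg.Agent.H756.HM Cfsg.Agent.H41.HM
open scoped commutatorElement

variable {P : Type*} [Group P] {T : Subgroup P} {I : Type} {n : ℕ} {S : Sy T I n}

local notation "QQ" => pCore 2 P
local notation "KK" => pResidual 2 P
local notation "WW" => (⁅pCore 2 P, pResidual 2 P⁆ : Subgroup P)

/-- `A_j` -/
def AA [DecidableEq I] (S : Sy T I n) (x y : I × Fin n) : Subgroup P where
  carrier := {t | S.σ t = 1 ∨ S.σ t = Equiv.swap x y}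
  one_mem' := Or.inl (map_one _)
  mul_mem' := by
    rintro a b (ha | ha) (hb | hb)
    · left; rw [map_mul, ha, hb, one_mul]
    · right; rw [map_mul, ha, hb, one_mul]
    · right; rw [map_mul, ha, hb, mul_one]
    · left; rw [map_mul, ha, hb, Equiv.swap_mul_self]
  inv_mem' := by
    rintro a (ha | ha)
    · left; rw [map_inv, ha, inv_one]
    · right; rw [map_inv, ha, Equiv.swap_inv]

/-- `B_j` -/
def BB (S : Sy T I n) (X : Subgroup P) (x : I × Fin n) : Subgroup P where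
  carrier := {t | t ∈ X ⊔ pCore 2 P ∧ S.σ t x = x}
  one_mem' := ⟨one_mem _, by rw [map_one]; rfl⟩
  mul_mem' := by
    rintro a b ⟨ha, ha'⟩ ⟨hb, hb'⟩
    exact ⟨mul_mem ha hb, by rw [map_mul, Equiv.Perm.mul_apply, hb', ha']⟩
  inv_mem' := by
    rintro a ⟨ha, ha'⟩
    refine ⟨inv_mem ha, ?_⟩
    rw [map_inv, Equiv.Perm.inv_eq_iff_eq]
    exact ha'.symm

/-- the coordinate subgroup `W_u` -/
def WU (S : Sy T I n) (x y : I × Fin n) : Subgroup P where
  carrier := {w | w ∈ (⁅pCore 2 P, pResidual 2 P⁆ : Subgroup P) ∧ S.Ψ w x = S.Ψ w y}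
  one_mem' := ⟨one_mem _, by rw [Ψ_one]; rfl⟩
  mul_mem' := by
    rintro a b ⟨ha, ha'⟩ ⟨hb, hb'⟩
    exact ⟨mul_mem ha hb, by rw [S.mul a ha b hb, Pi.add_apply, Pi.add_apply, ha', hb']⟩
  inv_mem' := by
    rintro a ⟨ha, ha'⟩
    exact ⟨inv_mem ha, by rw [Ψ_inv S ha, ha']⟩

section

variable {X : Subgroup P} (hX : Offd T X) (h : Full S X) {f : I → Fin n}
  (hf : ∀ x : I × Fin n, ¬ Mv S X x ↔ x = (x.1, f x.1))

include h hf in
theorem exists_mv (i : I) : ∃ k, Mv S X (i, k) := by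
  have hn := S.n3
  obtain ⟨k, hk⟩ : ∃ k : Fin n, k ≠ f i := by
    have : Nontrivial (Fin n) := Fin.nontrivial_iff_two_le.2 (by omega)
    exact exists_ne (f i)
  refine ⟨k, ?_⟩
  by_contra hcon
  exact hk (congrArg Prod.snd ((hf (i, k)).1 hcon))

include hX h hf in
/-- `C_T(T₀ / Q) ≤ T₀` -/
theorem cent' {t : P} (ht : ∀ a ∈ X ⊔ QQ, ⁅t, a⁆ ∈ QQ) : t ∈ X ⊔ QQ := by
  classical
  have hc : ∀ a ∈ X, S.σ t * S.σ a = S.σ a * S.σ t := by
    intro a ha
    have h1 := (S.σker _).2 (ht a (mem_sup_left ha))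
    rw [map_commutatorElement, commutatorElement_eq_one_iff_mul_comm] at h1
    exact h1
  have hmv : ∀ u, Mv S X u → S.σ t u = u ∨ S.σ t u = pr S X u := by
    intro u hu
    obtain ⟨a, ha, hae⟩ := exists_swap hX h hu
    by_contra hcon
    push Not at hcon
    have h1 := congrArg (fun s : Equiv.Perm (I × Fin n) => s u) (hc a ha)
    simp only [Equiv.Perm.mul_apply] at h1
    rw [hae, Equiv.swap_apply_left, Equiv.swap_apply_of_ne_of_ne hcon.1 hcon.2] at h1
    exact pr_ne h hu ((S.σ t).injective h1)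
  have key : ∀ u, ∃ a ∈ X, S.σ t u = S.σ a u := by
    intro u
    by_cases hu : Mv S X u
    · rcases hmv u hu with h1 | h1
      · exact ⟨1, one_mem _, by rw [h1, map_one]; rfl⟩
      · obtain ⟨a, ha, hae⟩ := exists_swap hX h hu
        exact ⟨a, ha, by rw [h1, hae, Equiv.swap_apply_left]⟩
    · refine ⟨1, one_mem _, ?_⟩
      have h1 : ¬ Mv S X (S.σ t u) := by
        intro hv
        obtain ⟨a, ha, hae⟩ := exists_swap hX h hv
        have h2 := congrArg (fun s : Equiv.Perm (I × Fin n) => s u) (hc a ha)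
        simp only [Equiv.Perm.mul_apply] at h2
        rw [not_mv hu ha, hae, Equiv.swap_apply_left] at h2
        exact pr_ne h hv h2.symm
      have h2 := (hf _).1 h1
      obtain ⟨k, hk⟩ := exists_mv h hf u.1
      have h3 : (S.σ t u).1 = u.1 := by
        have h4 := S.blk t u.1 u.2 k
        rw [show (u.1, u.2) = u from rfl] at h4
        rw [h4]
        rcases hmv _ hk with h5 | h5
        · rw [h5]
        · rw [h5, pr_blk h hk]
      rw [map_one, Equiv.Perm.one_apply, h2, h3]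
      exact ((hf u).1 hu).symm
  obtain ⟨a, ha, hae⟩ := h.full _ key
  exact mem_T0.2 ⟨a, ha, hae.symm⟩

theorem Q_le_AA [DecidableEq I] (x y : I × Fin n) : QQ ≤ AA S x y := fun q hq => Or.inl ((S.σker q).2 hq)

theorem Q_le_BB (x : I × Fin n) : QQ ≤ BB S X x := fun q hq =>
  ⟨mem_sup_right hq, by rw [(S.σker q).2 hq]; rfl⟩

include hX h in
theorem AB_sup [DecidableEq I] {x : I × Fin n} (hx : Mv S X x) : AA S x (pr S X x) ⊔ BB S X x = X ⊔ QQ := by
  obtain ⟨c, hc, hce⟩ := exists_swap hX h hx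
  apply le_antisymm
  · refine sup_le ?_ (fun t ht => ht.1)
    rintro t (ht | ht)
    · exact mem_T0.2 ⟨1, one_mem _, by rw [ht, map_one]⟩
    · exact mem_T0.2 ⟨c, hc, by rw [ht, hce]⟩
  · intro t ht
    by_cases h1 : S.σ t x = x
    · exact mem_sup_right ⟨ht, h1⟩
    · have h2 : S.σ t x = pr S X x := by
        obtain ⟨a, ha, hta⟩ := mem_T0.1 ht
        rw [hta] at h1 ⊢
        exact pr_eq h ha h1
      rw [← mul_inv_cancel_left c t]
      refine mul_mem (mem_sup_left (Or.inr hce)) (mem_sup_right ⟨mul_mem (inv_mem (mem_sup_left hc)) ht, ?_⟩)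
      rw [map_mul, map_inv, Equiv.Perm.mul_apply, h2, hce, Equiv.swap_inv, Equiv.swap_apply_right]

include hX h in
theorem A_card [DecidableEq I] {x : I × Fin n} (hx : Mv S X x) : (QQ).relIndex (AA S x (pr S X x)) = 2 := by
  obtain ⟨c, hc, hce⟩ := exists_swap hX h hx
  have hne : Equiv.swap x (pr S X x) ≠ 1 := by
    intro e
    have := congrArg (fun s : Equiv.Perm (I × Fin n) => s x) e
    simp only [Equiv.swap_apply_left] at this
    exact pr_ne h hx this
  refine rel2 ⟨c, Or.inr hce, ?_⟩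
  rintro b (hb | hb)
  · rw [← S.σker, ← S.σker, map_mul, hb, hce, one_mul]
    simp [hne]
  · rw [← S.σker, ← S.σker, map_mul, hb, hce, Equiv.swap_mul_self]
    simp [hne]

include hX h in
theorem B_card [DecidableEq I] {x : I × Fin n} (hx : Mv S X x) : (BB S X x).relIndex (X ⊔ QQ) = 2 := by
  obtain ⟨c, hc, hce⟩ := exists_swap hX h hx
  refine rel2 ⟨c, mem_sup_left hc, fun b hb => ?_⟩
  have h1 : b * c ∈ BB S X x ↔ S.σ b (pr S X x) = x := by
    constructor
    · rintro ⟨-, h2⟩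
      rwa [map_mul, Equiv.Perm.mul_apply, hce, Equiv.swap_apply_left] at h2
    · intro h2
      exact ⟨mul_mem hb (mem_sup_left hc), by rwa [map_mul, Equiv.Perm.mul_apply, hce, Equiv.swap_apply_left]⟩
  have h2 : b ∈ BB S X x ↔ S.σ b x = x := ⟨fun h => h.2, fun h => ⟨hb, h⟩⟩
  rw [h1, h2]
  obtain ⟨a, ha, hba⟩ := mem_T0.1 hb
  rw [hba]
  constructor
  · intro h3 h4
    exact pr_ne h hx ((S.σ a).injective (h3.trans h4.symm))
  · intro h3
    rw [← pr_eq h ha h3, sq1 hX ha]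

include hX h hf in
theorem coord' [DecidableEq I] {x : I × Fin n} (hx : Mv S X x) :
    WW ⊓ centralizer ((X ⊔ QQ : Subgroup P) : Set P) ≤ WU S x (pr S X x) ∧ ¬ WW ≤ WU S x (pr S X x) ∧
      QQ ≤ BB S X x ∧ ¬ X ⊔ QQ ≤ BB S X x ∧
      ∀ w ∈ WW, ∀ t ∈ X ⊔ QQ, ⁅w, t⁆ ∈ centralizer (KK : Set P) → w ∈ WU S x (pr S X x) ∨ t ∈ BB S X x := by
  obtain ⟨c, hc, hce⟩ := exists_swap hX h hx
  obtain ⟨g, tt⟩ := exists_tri' hX h hf hx
  refine ⟨?_, ?_, Q_le_BB x, ?_, ?_⟩
  · rintro w ⟨hw, hwc⟩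
    refine ⟨hw, ?_⟩
    have h2 := Ψ_of_comm S hw (hwc c (mem_sup_left hc)) x
    rw [hce, Equiv.swap_apply_left] at h2
    exact h2.symm
  · intro hcon
    obtain ⟨w, hw, hwe⟩ := tri_ee h hf hx tt
    have h1 := (hcon hw.1).2
    rw [hwe] at h1
    unfold SBl.ee at h1
    rw [if_pos rfl, if_neg tt.ne2, if_neg tt.ne1.symm, if_neg tt.ne3] at h1
    exact absurd h1 (by decide)
  · intro hcon
    have h1 := (hcon (mem_sup_left hc)).2
    rw [hce, Equiv.swap_apply_left] at h1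
    exact pr_ne h hx h1
  · intro w hw t ht hwt
    by_cases h1 : S.σ t x = x
    · exact Or.inr ⟨ht, h1⟩
    · left
      have h2 : S.σ t x = pr S X x := by
        obtain ⟨a, ha, hta⟩ := mem_T0.1 ht
        rw [hta] at h1 ⊢
        exact pr_eq h ha h1
      refine ⟨hw, ?_⟩
      have h3 : ⁅w, t⁆ = w * (t * w⁻¹ * t⁻¹) := by rw [commutatorElement_def]; group
      have h4 : t * w⁻¹ * t⁻¹ ∈ WW := conj_W t (inv_mem hw)
      have h5 : ⁅w, t⁆ ∈ WW := by rw [h3]; exact mul_mem hw h4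
      have h6 := congrFun ((S.ker _ h5).2 hwt) (pr S X x)
      rw [h3, S.mul w hw _ h4, Pi.add_apply, Ψ_conj S t (inv_mem hw), Ψ_inv S hw] at h6
      have h7 : (S.σ t)⁻¹ (pr S X x) = x := by rw [Equiv.Perm.inv_eq_iff_eq]; exact h2.symm
      rw [h7] at h6
      exact (z2' h6).symm

end

end Cfsg.Agent.H276.HM
end

-- part: H41/HM/FullT
section
/-!
# S5175, symmetric blocks: consequences of `Full` for `T₀ = X O_2(P)` (helper41)
-/

set_option autoImplicit false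
set_option linter.unusedSectionVars false

namespace Cfsg.Agent.H41.HM

open Cfsg Cfsg.Agent.H756.HM
open scoped commutatorElement

variable {P : Type*} [Group P] {T : Subgroup P} {I : Type} {n : ℕ} (S : Sy T I n) {X : Subgroup P}

theorem Sy.mem_sup_iff (t : P) : t ∈ X ⊔ pCore 2 P ↔ ∃ a ∈ X, S.σ t = S.σ a := by
  have hQn := Lib.Cores.pCore_normal (G := P) 2
  constructor
  · intro h
    rw [← SetLike.mem_coe, Subgroup.mul_normal] at h
    obtain ⟨a, ha, q, hq, rfl⟩ := h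
    exact ⟨a, ha, by rw [map_mul, (S.σker q).2 hq, mul_one]⟩
  · rintro ⟨a, ha, h⟩
    have h1 : a⁻¹ * t ∈ pCore 2 P := by
      rw [← S.σker, map_mul, map_inv, h, inv_mul_cancel]
    have h2 : t = a * (a⁻¹ * t) := by group
    rw [h2]
    exact mul_mem (Subgroup.mem_sup_left ha) (Subgroup.mem_sup_right h1)

/-- the transposition of a moved point and its partner -/
theorem Full.swap_mem [DecidableEq I] {S : Sy T I n} (h : Full S X) (hX : Offd T X) {a : P} (ha : a ∈ X) (x : I × Fin n) :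
    ∃ b ∈ X, S.σ b = Equiv.swap x (S.σ a x) := by
  apply h.full
  intro y
  by_cases h1 : y = x
  · exact ⟨a, ha, by rw [h1, Equiv.swap_apply_left]⟩
  · by_cases h2 : y = S.σ a x
    · refine ⟨a, ha, ?_⟩
      rw [h2, Equiv.swap_apply_right, ← Equiv.Perm.mul_apply, ← map_mul, ← pow_two, hX.sq a ha, map_one]; rfl
    · exact ⟨1, one_mem _, by rw [Equiv.swap_apply_of_ne_of_ne h1 h2, map_one]; rfl⟩

/-- `C_{T/Q}(T₀/Q) ≤ T₀/Q` -/
theorem Full.cent {S : Sy T I n} (h : Full S X) (hX : Offd T X) (t : P)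
    (htc : ∀ a ∈ X, ⁅t, a⁆ ∈ pCore 2 P) : t ∈ X ⊔ pCore 2 P := by
  classical
  rw [S.mem_sup_iff]
  have hcomm : ∀ a ∈ X, ∀ x, S.σ a (S.σ t x) = S.σ t (S.σ a x) := by
    intro a ha x
    have h1 := (S.σker _).2 (htc a ha)
    rw [map_commutatorElement, commutatorElement_eq_one_iff_mul_comm] at h1
    rw [← Equiv.Perm.mul_apply, ← h1]; rfl
  obtain ⟨f, hf⟩ := h.fp
  have hmoved : ∀ x, ∀ a ∈ X, S.σ a x ≠ x → S.σ t x = x ∨ S.σ t x = S.σ a x := by
    intro x a ha hax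
    obtain ⟨b, hb, hbs⟩ := h.swap_mem hX ha x
    have h1 := hcomm b hb x
    rw [hbs, Equiv.swap_apply_left] at h1
    by_contra hcon
    rw [not_or] at hcon
    rw [Equiv.swap_apply_of_ne_of_ne hcon.1 hcon.2] at h1
    exact hax ((S.σ t).injective h1).symm
  have hpt : ∀ x, ∃ a ∈ X, S.σ t x = S.σ a x := by
    intro x
    by_cases hx : ∀ a ∈ X, S.σ a x = x
    · refine ⟨1, one_mem _, ?_⟩
      rw [map_one, Equiv.Perm.one_apply]
      obtain ⟨i, k⟩ := x
      have hk := (hf i k).1 hx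
      subst hk
      obtain ⟨l, hl, -⟩ := Sy.exists_third S i (f i) (i, f i)
      have hl' : ¬ ∀ a ∈ X, S.σ a (i, l) = (i, l) := fun h => hl ((hf i l).1 h)
      push Not at hl'
      obtain ⟨a, ha, hal⟩ := hl'
      have h1 : (S.σ t (i, l)).1 = i := by
        rcases hmoved _ a ha hal with h1 | h1
        · rw [h1]
        · rw [h1, h.fixb a ha]
      have h2 : (S.σ t (i, f i)).1 = i := by rw [S.blk t i (f i) l]; exact h1
      have h3 : S.σ t (i, f i) = (i, (S.σ t (i, f i)).2) := Prod.ext h2 rfl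
      have h4 := (hf i (S.σ t (i, f i)).2).1 fun a ha => by rw [← h3, hcomm a ha, hx a ha]
      rw [h3, h4]
    · push Not at hx
      obtain ⟨a, ha, hax⟩ := hx
      rcases hmoved x a ha hax with h1 | h1
      · exact ⟨1, one_mem _, by rw [h1, map_one]; rfl⟩
      · exact ⟨a, ha, h1⟩
  obtain ⟨a, ha, hag⟩ := h.full _ hpt
  exact ⟨a, ha, hag.symm⟩

/-- two overlapping transpositions do not lie in a 2-group -/
theorem no_overlap {Y : Type*} [Finite Y] [DecidableEq Y] {H : Subgroup (Equiv.Perm Y)} (hH : IsPGroup 2 H) {x y z : Y}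
    (h1 : Equiv.swap x y ∈ H) (h2 : Equiv.swap x z ∈ H) (hxy : x ≠ y) (hxz : x ≠ z) (hyz : y ≠ z) : False := by
  have := Fintype.ofFinite Y
  have h3 := Equiv.Perm.isThreeCycle_swap_mul_swap_same hxy hxz hyz
  have h4 := h3.orderOf
  obtain ⟨k, hk⟩ := hH ⟨_, mul_mem h1 h2⟩
  have h5 : (Equiv.swap x y * Equiv.swap x z) ^ 2 ^ k = 1 := congrArg Subtype.val hk
  have h6 := orderOf_dvd_of_pow_eq_one h5
  rw [h4] at h6
  have h7 : 3 ∣ 2 := Nat.Prime.dvd_of_dvd_pow (by norm_num) h6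
  omega

theorem Full.le_of [Finite P] {S : Sy T I n} (hT : IsPGroup 2 T) {X' : Subgroup P} (hX : Offd T X) (hX' : Offd T X')
    (h : Full S X) (h' : Full S X') : X ⊔ pCore 2 P ≤ X' ⊔ pCore 2 P := by
  classical
  have hfin := S.fin
  have hH : IsPGroup 2 (T.map S.σ) := hT.map _
  intro t ht
  rw [S.mem_sup_iff] at ht ⊢
  obtain ⟨a, ha, hta⟩ := ht
  rw [hta]
  obtain ⟨f', hf'⟩ := h'.fp
  have hpt : ∀ x, ∃ a' ∈ X', S.σ a x = S.σ a' x := by
    intro x
    by_cases hax : S.σ a x = x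
    · exact ⟨1, one_mem _, by rw [hax, map_one]; rfl⟩
    obtain ⟨b, hb, hbs⟩ := h.swap_mem hX ha x
    have hsw : Equiv.swap x (S.σ a x) ∈ T.map S.σ := ⟨b, hX.le hb, hbs⟩
    have haa : S.σ a (S.σ a x) = x := S.invol hX ha x
    have key : ∀ z, (z = x ∨ z = S.σ a x) → ∀ a' ∈ X', S.σ a' z ≠ z → S.σ a' x = S.σ a x := by
      intro z hz a' ha' hz'
      obtain ⟨b', hb', hbs'⟩ := h'.swap_mem hX' ha' z
      have hsw' : Equiv.swap z (S.σ a' z) ∈ T.map S.σ := ⟨b', hX'.le hb', hbs'⟩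
      have haa' : S.σ a' (S.σ a' z) = z := S.invol hX' ha' z
      rcases hz with rfl | rfl
      · by_contra hne
        exact no_overlap hH hsw hsw' (Ne.symm hax) (Ne.symm hz') (Ne.symm hne)
      · by_contra hne
        rw [Equiv.swap_comm] at hsw
        have hne' : x ≠ S.σ a' (S.σ a x) := by
          intro e
          rw [← e] at haa'
          exact hne haa'
        exact no_overlap hH hsw hsw' hax (Ne.symm hz') hne'
    by_cases hx' : ∀ a' ∈ X', S.σ a' x = x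
    · by_cases hy' : ∀ a' ∈ X', S.σ a' (S.σ a x) = S.σ a x
      · exfalso
        obtain ⟨i, k⟩ := x
        have h1 : S.σ a (i, k) = (i, (S.σ a (i, k)).2) := Prod.ext (h.fixb a ha _) rfl
        have h2 := (hf' i k).1 hx'
        rw [h1] at hy'
        have h3 := (hf' i _).1 hy'
        rw [h3, ← h2] at h1
        exact hax h1
      · push Not at hy'
        obtain ⟨a', ha', hay⟩ := hy'
        exact ⟨a', ha', (key _ (Or.inr rfl) a' ha' hay).symm⟩
    · push Not at hx'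
      obtain ⟨a', ha', hax'⟩ := hx'
      exact ⟨a', ha', (key _ (Or.inl rfl) a' ha' hax').symm⟩
  obtain ⟨a', ha', hag⟩ := h'.full _ hpt
  exact ⟨a', ha', hag.symm⟩

/-- `X O_2(P)` does not depend on the extremal offender `X` -/
theorem Full.unique [Finite P] {S : Sy T I n} (hT : IsPGroup 2 T) {X' : Subgroup P} (hX : Offd T X) (hX' : Offd T X')
    (h : Full S X) (h' : Full S X') : X ⊔ pCore 2 P = X' ⊔ pCore 2 P :=
  le_antisymm (h.le_of hT hX hX' h') (h'.le_of hT hX' hX h)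

end Cfsg.Agent.H41.HM
end

-- part: H41/HM/Lin
section
/-!
# S5175, symmetric blocks: the rank one case `n = 3`, one block, is linear over `ZMod 2` (helper41)
-/

set_option autoImplicit false
set_option linter.unusedSectionVars false

namespace Cfsg.Agent.H41.HM

open Cfsg Cfsg.Agent.H756.HM
open scoped commutatorElement

/-- the matrix of a permutation of three points on the even vectors, in the coordinates `v 0, v 1` -/
def M3 (g : Equiv.Perm (Fin 3)) : Matrix (Fin 2) (Fin 2) (ZMod 2) :=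
  Matrix.of fun j l => (if g⁻¹ j.castSucc = l.castSucc then 1 else 0) + (if g⁻¹ j.castSucc = 2 then 1 else 0)

theorem M3_det : ∀ g : Equiv.Perm (Fin 3), (M3 g).det = 1 := by decide +kernel

theorem M3_mul : ∀ g h : Equiv.Perm (Fin 3), M3 (g * h) = M3 g * M3 h := by decide +kernel

theorem M3_one : M3 1 = 1 := by decide +kernel

theorem M3_inj : ∀ g : Equiv.Perm (Fin 3), M3 g = 1 → g = 1 := by decide +kernel

theorem M3_surj : ∀ a b c d : ZMod 2, a * d - b * c = 1 → ∃ g : Equiv.Perm (Fin 3), M3 g = !![a, b; c, d] := by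
  decide +kernel

theorem M3_act (g : Equiv.Perm (Fin 3)) (v w : Fin 3 → ZMod 2) (hv : ∑ k, v k = 0) (hw : ∀ k, w (g k) = v k) (j : Fin 2) :
    w j.castSucc = (M3 g).mulVec (fun l : Fin 2 => v l.castSucc) j := by
  have h1 : w j.castSucc = v (g⁻¹ j.castSucc) := by
    rw [← hw]
    congr 1
    exact (g.apply_symm_apply _).symm
  rw [h1]
  have h2 : v 2 = v 0 + v 1 := by
    rw [Fin.sum_univ_three] at hv
    have := CharTwo.add_self_eq_zero (v 2)
    linear_combination this - hv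
  unfold M3 Matrix.mulVec dotProduct
  rw [Fin.sum_univ_two]
  simp only [Matrix.of_apply]
  have h3 : ∀ m : Fin 3, v m = (((if m = (0 : Fin 2).castSucc then 1 else 0) + (if m = 2 then 1 else 0)) * v (0 : Fin 2).castSucc +
      ((if m = (1 : Fin 2).castSucc then 1 else 0) + (if m = 2 then 1 else 0)) * v (1 : Fin 2).castSucc) := by
    intro m
    fin_cases m
    · simp
    · simp
    · simp [h2]
  exact h3 _

/-- the homomorphism -/
def R3 : Equiv.Perm (Fin 3) →* Matrix.SpecialLinearGroup (Fin 2) (ZMod 2) where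
  toFun g := ⟨M3 g, M3_det g⟩
  map_one' := Subtype.ext M3_one
  map_mul' g h := Subtype.ext (M3_mul g h)

theorem R3_surj : Function.Surjective R3 := by
  intro A
  have h1 := A.2
  rw [Matrix.det_fin_two] at h1
  obtain ⟨g, hg⟩ := M3_surj _ _ _ _ h1
  refine ⟨g, Subtype.ext ?_⟩
  show M3 g = A.1
  rw [hg]
  ext i j
  fin_cases i <;> fin_cases j <;> rfl

theorem R3_inj {g : Equiv.Perm (Fin 3)} (h : R3 g = 1) : g = 1 := M3_inj g (congrArg Subtype.val h)

variable {P : Type*} [Group P] {T : Subgroup P} {I : Type}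

/-- one block with three points -/
theorem linOne_three [Finite P] (S : Sy T I 3) {X : Subgroup P} (hX : Offd T X) (h : Full S X) (i₀ : I)
    (hI : ∀ i, i = i₀) {a : P} (ha : a ∈ X) {k₀ : Fin 3} (hk : S.σ a (i₀, k₀) ≠ (i₀, k₀)) :
    LinOne P ⁅pCore 2 P, pResidual 2 P⁆ (X ⊔ pCore 2 P) 2 := by
  classical
  have hfin := S.fin
  have hb : ∀ g x, (S.σ g x).1 = i₀ := fun g x => hI _
  have hbx : ∀ x : I × Fin 3, x = (i₀, x.2) := fun x => Prod.ext (hI _) rfl
  -- the action on three points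
  let φ : P →* Equiv.Perm (Fin 3) :=
    { toFun := fun g =>
        { toFun := fun k => (S.σ g (i₀, k)).2
          invFun := fun k => (S.σ g⁻¹ (i₀, k)).2
          left_inv := fun k => by
            show (S.σ g⁻¹ (i₀, (S.σ g (i₀, k)).2)).2 = k
            rw [← hbx, ← Equiv.Perm.mul_apply, ← map_mul, inv_mul_cancel, map_one]; rfl
          right_inv := fun k => by
            show (S.σ g (i₀, (S.σ g⁻¹ (i₀, k)).2)).2 = k
            rw [← hbx, ← Equiv.Perm.mul_apply, ← map_mul, mul_inv_cancel, map_one]; rfl }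
      map_one' := by
        ext1 k
        show (S.σ 1 (i₀, k)).2 = k
        rw [map_one]; rfl
      map_mul' := fun g g' => by
        ext1 k
        show (S.σ (g * g') (i₀, k)).2 = (S.σ g (i₀, (S.σ g' (i₀, k)).2)).2
        rw [← hbx, map_mul]; rfl }
  have hφ : ∀ g k, S.σ g (i₀, k) = (i₀, φ g k) := fun g k => hbx _
  have hφ1 : ∀ g, φ g = 1 ↔ g ∈ pCore 2 P := by
    intro g
    rw [← S.σker]
    constructor
    · intro h
      ext1 x
      rw [hbx x, hφ, h]; rfl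
    · intro h
      ext1 k
      show (S.σ g (i₀, k)).2 = k
      rw [h]; rfl
  let W : Subgroup P := ⁅pCore 2 P, pResidual 2 P⁆
  let T0 : Subgroup P := X ⊔ pCore 2 P
  refine ⟨ZMod 2, inferInstance, inferInstance, 1, le_rfl, by rw [ZMod.card, pow_one], ZMod.card 2,
    (R3.comp φ).comp (pResidual 2 P ⊔ T0).subtype,
    { toFun := fun w => Multiplicative.ofAdd fun j : Fin 2 => S.Ψ (w : P) (i₀, j.castSucc)
      map_one' := by
        rw [Subgroup.coe_one, S.one_]; rfl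
      map_mul' := fun w w' => by
        rw [Subgroup.coe_mul, S.mul _ w.2 _ w'.2]; rfl }, ?_, ?_, ?_, ?_, ?_⟩
  · intro A
    obtain ⟨π, rfl⟩ := R3_surj A
    -- even permutations
    have heven : ∀ π ∈ alternatingGroup (Fin 3), ∃ e ∈ pResidual 2 P, φ e = π := by
      intro π hπ
      obtain ⟨e, he, he1, -⟩ := S.alt i₀ π hπ
      refine ⟨e, he, ?_⟩
      ext1 k
      show (S.σ e (i₀, k)).2 = _
      rw [he1]
    rcases Int.units_eq_one_or (Equiv.Perm.sign π) with h1 | h1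
    · obtain ⟨e, he, hee⟩ := heven π h1
      refine ⟨⟨e, Subgroup.mem_sup_left he⟩, ?_⟩
      show R3 (φ e) = R3 π
      rw [hee]
    · obtain ⟨b, hb', hbs⟩ := h.swap_mem hX ha (i₀, k₀)
      have h2 : φ b = Equiv.swap k₀ (φ a k₀) := by
        ext1 k
        have h3 : S.σ b (i₀, k) = Equiv.swap (i₀, k₀) (i₀, φ a k₀) (i₀, k) := by rw [hbs, hφ]
        have h4 : φ b k = (Equiv.swap ((i₀, k₀) : I × Fin 3) (i₀, φ a k₀) (i₀, k)).2 := by
          rw [← h3]; rfl
        rw [h4, Equiv.swap_apply_def, Equiv.swap_apply_def]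
        by_cases h5 : k = k₀
        · rw [if_pos (by rw [h5]), if_pos h5]
        · rw [if_neg (fun e => h5 (congrArg Prod.snd e)), if_neg h5]
          by_cases h6 : k = φ a k₀
          · rw [if_pos (by rw [h6]), if_pos h6]
          · rw [if_neg (fun e => h6 (congrArg Prod.snd e)), if_neg h6]
      have hne : k₀ ≠ φ a k₀ := fun e => hk (by rw [hφ, ← e])
      obtain ⟨e, he, hee⟩ := heven (π * (φ b)⁻¹) (by
        rw [Equiv.Perm.mem_alternatingGroup, map_mul, map_inv, h1, h2, Equiv.Perm.sign_swap hne]; decide)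
      refine ⟨⟨e * b, mul_mem (Subgroup.mem_sup_left he) (Subgroup.mem_sup_right (Subgroup.mem_sup_left hb'))⟩, ?_⟩
      show R3 (φ (e * b)) = R3 π
      rw [map_mul φ, hee, inv_mul_cancel_right]
  · intro g
    rw [← hφ1]
    constructor
    · intro h; exact R3_inj h
    · intro h
      show R3 (φ g) = 1
      rw [h, map_one]
  · intro v
    let v' : I × Fin 3 → ZMod 2 := fun x => ![Multiplicative.toAdd v 0, Multiplicative.toAdd v 1,
      Multiplicative.toAdd v 0 + Multiplicative.toAdd v 1] x.2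
    obtain ⟨w, hw, hww⟩ := S.surj v' (fun i => by
      rw [Fin.sum_univ_three]
      show Multiplicative.toAdd v 0 + Multiplicative.toAdd v 1 + (Multiplicative.toAdd v 0 + Multiplicative.toAdd v 1) = 0
      exact two2 _)
    refine ⟨⟨w, hw⟩, ?_⟩
    show (Multiplicative.ofAdd fun j : Fin 2 => S.Ψ w (i₀, j.castSucc)) = v
    rw [hww]
    apply Multiplicative.toAdd.injective
    funext j
    fin_cases j <;> rfl
  · rintro ⟨w, hw⟩
    show (Multiplicative.ofAdd fun j : Fin 2 => S.Ψ w (i₀, j.castSucc)) = 1 ↔ _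
    rw [← S.ker w hw]
    constructor
    · intro h1
      have h2 := congrArg Multiplicative.toAdd h1
      have e0 : S.Ψ w (i₀, 0) = 0 := congrFun h2 0
      have e1 : S.Ψ w (i₀, 1) = 0 := congrFun h2 1
      have e2 := S.even w hw i₀
      rw [Fin.sum_univ_three, e0, e1, zero_add, zero_add] at e2
      funext x
      rw [hbx x]
      obtain ⟨i, k⟩ := x
      fin_cases k
      · exact e0
      · exact e1
      · exact e2
    · intro h1
      rw [h1]; rfl
  · rintro e ⟨w, hw⟩ ⟨w', hw'⟩ h1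
    change w' = e * w * (e : P)⁻¹ at h1
    subst h1
    funext j
    show S.Ψ (e * w * (e : P)⁻¹) (i₀, j.castSucc) = (M3 (φ e)).mulVec (fun l : Fin 2 => S.Ψ w (i₀, l.castSucc)) j
    exact M3_act (φ e) (fun k => S.Ψ w (i₀, k)) (fun k => S.Ψ (e * w * (e : P)⁻¹) (i₀, k)) (S.even w hw i₀)
      (fun k => by
        show S.Ψ (e * w * (e : P)⁻¹) (i₀, φ e k) = S.Ψ w (i₀, k)
        rw [← hφ]
        exact S.eqv e w hw _) j

/-- **the dichotomy**: if only `O_2(P)` fixes a moved point then we are in the linear rank one case -/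
theorem linOne_of [Finite P] {n : ℕ} (S : Sy T I n) {X : Subgroup P} (hX : Offd T X) (h : Full S X) {a : P} (ha : a ∈ X)
    {x₀ : I × Fin n} (hx : S.σ a x₀ ≠ x₀) (hB : ∀ t ∈ X, S.σ t x₀ = x₀ → t ∈ pCore 2 P) :
    LinOne P ⁅pCore 2 P, pResidual 2 P⁆ (X ⊔ pCore 2 P) 2 := by
  classical
  have hfin := S.fin
  obtain ⟨f, hf⟩ := h.fp
  -- the only moved points are `x₀` and its partner
  have h1 : ∀ x : I × Fin n, (∃ b ∈ X, S.σ b x ≠ x) → x = x₀ ∨ x = S.σ a x₀ := by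
    rintro x ⟨b, hb, hbx⟩
    by_contra hcon
    rw [not_or] at hcon
    obtain ⟨c, hc, hcs⟩ := h.swap_mem hX hb x
    have h2 : S.σ c x₀ = x₀ := by
      rw [hcs]
      apply Equiv.swap_apply_of_ne_of_ne (Ne.symm hcon.1)
      intro e
      have h3 : S.σ b x₀ = x := by rw [e]; exact S.invol hX hb x
      have h4 : S.σ b x₀ ≠ x₀ := by rw [h3]; exact hcon.1
      exact hcon.2 (h3.symm.trans (h.orb b hb a ha x₀ h4 hx))
    have h5 := (S.σker c).2 (hB c hc h2)
    rw [h5] at hcs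
    have h6 : Equiv.swap x (S.σ b x) x = x := by rw [← hcs]; rfl
    rw [Equiv.swap_apply_left] at h6
    exact hbx h6
  have h1' : ∀ i k, k ≠ f i → (i, k) = x₀ ∨ (i, k) = S.σ a x₀ := by
    intro i k hk
    apply h1
    by_contra hcon
    push Not at hcon
    exact hk ((hf i k).1 hcon)
  obtain ⟨i₀, k₀⟩ := x₀
  have hfa := h.fixb a ha (i₀, k₀)
  change (S.σ a (i₀, k₀)).1 = i₀ at hfa
  have hI : ∀ i, i = i₀ := by
    intro i
    obtain ⟨k, hk, -⟩ := Sy.exists_third S i (f i) (i, f i)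
    rcases h1' i k hk with h2 | h2
    · exact congrArg Prod.fst h2
    · rw [← hfa, ← h2]
  have hn : n = 3 := by
    have h3 := S.n3
    have h4 : (Finset.univ : Finset (Fin n)) ⊆ {f i₀, k₀, (S.σ a (i₀, k₀)).2} := by
      intro k _
      rw [Finset.mem_insert, Finset.mem_insert, Finset.mem_singleton]
      by_cases hk : k = f i₀
      · exact Or.inl hk
      · rcases h1' i₀ k hk with h2 | h2
        · exact Or.inr (Or.inl (congrArg Prod.snd h2))
        · exact Or.inr (Or.inr (congrArg Prod.snd h2))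
    have h5 := Finset.card_le_card h4
    rw [Finset.card_univ, Fintype.card_fin] at h5
    have h6 := Finset.card_le_three (a := f i₀) (b := k₀) (c := (S.σ a (i₀, k₀)).2)
    omega
  subst hn
  exact linOne_three S hX h i₀ hI ha hx

end Cfsg.Agent.H41.HM
end

-- part: H41/HM/Adapt
section
/-!
# S5175, symmetric blocks: `off_eq'` and `linOne'` in the notation of `H276/HM/SymB` (helper41)
-/

set_option autoImplicit false

namespace Cfsg.Agent.H41.HM

open Cfsg Cfsg.Agent.H756.HM Cfsg.Agent.H276.HM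
open scoped commutatorElement

theorem off_eq' {P : Type*} [Group P] [Finite P] {I : Type} {n : ℕ} (T : Sylow 2 P) {S : Sy (T : Subgroup P) I n}
    {X X' : Subgroup P} (hX : Offd (T : Subgroup P) X) (h : Full S X) (hX' : Offd (T : Subgroup P) X') (h' : Full S X') :
    X' ⊔ pCore 2 P = X ⊔ pCore 2 P :=
  (Full.unique T.isPGroup' hX hX' h h').symm

theorem linOne' {P : Type*} [Group P] [Finite P] {I : Type} {n : ℕ} (T : Sylow 2 P) {S : Sy (T : Subgroup P) I n}
    {X : Subgroup P} (hX : Offd (T : Subgroup P) X) (h : Full S X) {x : I × Fin n} (hx : Mv S X x)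
    (hB : ∀ t ∈ X ⊔ pCore 2 P, S.σ t x = x → t ∈ pCore 2 P) :
    LinOne P ⁅pCore 2 P, pResidual 2 P⁆ (X ⊔ pCore 2 P) 2 := by
  obtain ⟨a, ha, hax⟩ := hx
  exact linOne_of S hX h ha hax fun t ht h1 => hB t (Subgroup.mem_sup_left ht) h1

end Cfsg.Agent.H41.HM
end

-- part: H276/HM/BDSym
section
/-!
# S5175, symmetric blocks: the block data
-/

set_option autoImplicit false
set_option linter.unusedSectionVars false
set_option linter.unusedVariables false

namespace Cfsg.Agent.H276.HM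

open Subgroup Cfsg Cfsg.Agent.H756.HM Cfsg.Agent.H41.HM
open scoped commutatorElement

variable {P : Type*} [Group P] {T : Subgroup P} {I : Type} {n : ℕ} {S : Sy T I n}

local notation "QQ" => pCore 2 P
local notation "KK" => pResidual 2 P
local notation "WW" => (⁅pCore 2 P, pResidual 2 P⁆ : Subgroup P)

section

variable {X : Subgroup P} (hX : Offd T X) (h : Full S X) {f : I → Fin n}
  (hf : ∀ x : I × Fin n, ¬ Mv S X x ↔ x = (x.1, f x.1))

include h hf in
theorem aux_sup [DecidableEq I] (gg : {x // Mv S X x} → P)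
    (hg : ∀ j, Tri S (gg j) j.1 (pr S X j.1) (j.1.1, f j.1.1)) :
    WW ≤ (WW ⊓ centralizer ((X ⊔ QQ : Subgroup P) : Set P)) ⊔ ⨆ j, ⁅QQ, zpowers (gg j)⁆ := by
  refine gen hf ?_ ?_
  · intro w hw
    exact mem_sup_left ⟨hw.1, cenK h hw⟩
  · intro x hx
    obtain ⟨w, hw, hwe⟩ := tri_ee h hf hx (hg ⟨x, hx⟩)
    refine ⟨w, mem_sup_right ?_, hw.1, hwe⟩
    refine (le_iSup (fun j => (⁅QQ, zpowers (gg j)⁆ : Subgroup P)) ⟨x, hx⟩) ?_
    rw [comm_eq_dd S (hg ⟨x, hx⟩).K (hg ⟨x, hx⟩).cube]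
    exact hw

include hX h in
theorem T0_ne' [DecidableEq I] {x : I × Fin n} (hx : Mv S X x) : X ⊔ QQ ≠ QQ := by
  intro e
  obtain ⟨c, hc, hce⟩ := exists_swap hX h hx
  have h1 : c ∈ QQ := by rw [← e]; exact mem_sup_left hc
  rw [(S.σker c).2 h1] at hce
  have h2 := congrArg (fun s : Equiv.Perm (I × Fin n) => s x) hce
  simp only [Equiv.Perm.one_apply, Equiv.swap_apply_left] at h2
  exact pr_ne h hx h2.symm

end

theorem bd_sym {P : Type*} [Group P] [Finite P] (T : Sylow 2 P) {I : Type} {n : ℕ} (S : Sy (T : Subgroup P) I n)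
    (X : Subgroup P) (hX : Offd (T : Subgroup P) X) (h : Full S X) (hob : OffBound (T : Subgroup P)) (hoe : OffEq S) :
    Nonempty (BD (T : Subgroup P)) := by
  classical
  obtain ⟨f, hf⟩ := exists_ff h
  have hQn := Q_nor (P := P)
  have hgex : ∀ j : {x // Mv S X x}, ∃ g, Tri S g j.1 (pr S X j.1) (j.1.1, f j.1.1) :=
    fun j => exists_tri' hX h hf j.2
  choose gg hg using hgex
  have hcd : ∀ j, (⁅pCore 2 P, zpowers (gg j)⁆ : Subgroup P) = dd S (gg j) := fun j =>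
    comm_eq_dd S (hg j).K (hg j).cube
  obtain ⟨i0⟩ := S.ne
  obtain ⟨k0, hk0⟩ := exists_mv h hf i0
  have hA : ∀ j : {x // Mv S X x}, ∀ a ∈ AA S j.1 (pr S X j.1), a ∉ pCore 2 P →
      S.σ a = Equiv.swap j.1 (pr S X j.1) := by
    rintro j a (ha | ha) haQ
    · exact absurd ((S.σker a).1 ha) haQ
    · exact ha
  have hAT : ∀ j : {x // Mv S X x}, ∀ a ∈ AA S j.1 (pr S X j.1), a ∈ X ⊔ pCore 2 P := by
    intro j a ha
    rw [← AB_sup hX h j.2]
    exact mem_sup_left ha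
  refine ⟨{ W := ⁅pCore 2 P, pResidual 2 P⁆
            hW := rfl
            T0 := X ⊔ pCore 2 P
            q := 2
            q_ge := le_rfl
            W_le := W_le_Q
            W_normal := SBl.W_nor
            W_comm := S.bw.W_comm
            W_sq := S.bw.W_sq
            QK := le_rfl
            CTW := S.bw.CTW
            Q_le_T0 := le_sup_right
            T0_le := sup_le hX.le (Lib.Cores.pCore_le_sylow T)
            T0_ne := T0_ne' hX h hk0
            off := fun X' h1 h2 h3 h4 => hob X' ⟨h1, h2, h3, h4⟩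
            off_eq := ?_
            cent := fun t _ ht => cent' hX h hf ht
            coord := ⟨WU S (i0, k0) (pr S X (i0, k0)), BB S X (i0, k0), coord' hX h hf hk0⟩
            J := {x // Mv S X x}
            A := fun j => AA S j.1 (pr S X j.1)
            B := fun j => BB S X j.1
            E := fun j => zpowers (gg j)
            Jne := ⟨⟨_, hk0⟩⟩
            QA := fun j => Q_le_AA _ _
            QB := fun j => Q_le_BB _
            AB := fun j => AB_sup hX h j.2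
            Acard := fun j => A_card hX h j.2
            Bcard := fun j => B_card hX h j.2
            E_le := fun j => (zpowers_le).2 (hg j).K
            WB := ?_
            EB := ?_
            Aa := ?_
            wa := ?_
            irr := ?_
            Wsup := aux_sup h hf gg hg
            dich := ?_ }⟩
  · intro X' h1 h2 h3 h4 h5
    by_cases h6 : X' ≤ pCore 2 P
    · exact Or.inl h6
    · have hX' : Offd (T : Subgroup P) X' := ⟨h1, h2, h3, h4⟩
      exact Or.inr (off_eq' T hX h hX' (hoe X' hX' h6 h5))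
  · intro j w hw b hb
    rw [hcd j] at hw
    obtain ⟨h1, h2⟩ := fix_triple hX h hf hb.1 j.2 hb.2
    exact (hg j).comm_b hb.2 h1 h2 w hw
  · intro j w hw b hb e he
    obtain ⟨h1, h2⟩ := fix_triple hX h hf hb.1 j.2 hb.2
    have h3 : Commute (gg j) ⁅w, b⁆ := (hg j).comm_wb hb.2 h1 h2 hw
    obtain ⟨k, rfl⟩ := he
    exact (h3.zpow_left k).eq
  · intro j a ha haQ
    have h1 := hA j a ha haQ
    rw [hcd j]
    exact ⟨aa1 hX h hf j.2 (hg j) (hAT j a ha) h1, aa3 hX h hf j.2 (hg j) (hAT j a ha) h1⟩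
  · intro j w hw hwc a ha haQ
    rw [hcd j] at hw
    exact wa_aux hX h hf j.2 (hg j) hw hwc (hA j a ha haQ)
  · intro j Y hY hn hc
    rw [hcd j]
    exact irr_aux h hf j.2 (hg j) hY hn hc
  · by_contra hcon
    rw [not_or] at hcon
    obtain ⟨h1, h2⟩ := hcon
    push Not at h1
    obtain ⟨j, hj⟩ := h1
    apply h2
    refine linOne' T hX h j.2 ?_
    intro t ht htx
    rw [← hj]
    exact ⟨ht, htx⟩

theorem bds : StBDS := fun T _ _ S X hX h hob hoe => bd_sym T S X hX h hob hoe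

end Cfsg.Agent.H276.HM
end

-- part: H270/HM/Graph
section
/-!
# S5175 (hub helper756), T6: the commuting graph on the conjugates of `W` (helper270)

`Hyp W Q T0 Dk Wu Ta` : the hypotheses in terms of the group `G = T`. `Hyp.le_of_odd` : if an odd power of the
automorphism `β` is inner then `β W ≤ Q`.
-/

set_option autoImplicit false

namespace Cfsg.Agent.H270.HM

open Subgroup
open scoped commutatorElement

variable {G : Type*} [Group G]

/-- The hypotheses (`G` is the Sylow 2-subgroup). -/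
structure Hyp (W Q T0 Dk Wu Ta : Subgroup G) : Prop where
  WQ : W ≤ Q
  Wn : W.Normal
  Qn : Q.Normal
  comm : ∀ w ∈ W, ∀ g ∈ Q, w * g = g * w
  sq : ∀ w ∈ W, w * w = 1
  cen : ∀ t : G, (∀ w ∈ W, w * t = t * w) → t ∈ Q
  Dsq : ∀ g ∈ Q, g * g ∈ Dk
  Dcomm : ∀ g ∈ Q, ∀ h ∈ Q, ⁅g, h⁆ ∈ Dk
  strong : ∀ β : MulAut G, ¬ W.map β.toMonoidHom ≤ Q → W.map β.toMonoidHom ⊔ Q = T0
  cent : ∀ t : G, (∀ a ∈ T0, ⁅t, a⁆ ∈ Q) → t ∈ T0
  Wu_le : ∀ w ∈ W, (∀ a ∈ T0, w * a = a * w) → w ∈ Wu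
  nWu : ¬ W ≤ Wu
  QTa : Q ≤ Ta
  nTa : ¬ T0 ≤ Ta
  coord : ∀ w ∈ W, ∀ t ∈ T0, ⁅w, t⁆ ∈ Dk → w ∈ Wu ∨ t ∈ Ta

/-- adjacency with `W` -/
def N (W Q : Subgroup G) (β : MulAut G) : Prop := ¬ W.map β.toMonoidHom ≤ Q

namespace Hyp

variable {W Q T0 Dk Wu Ta : Subgroup G} (h : Hyp W Q T0 Dk Wu Ta)
include h

theorem map_le_iff (β : MulAut G) : W.map β.toMonoidHom ≤ Q ↔ ∀ w ∈ W, ∀ v ∈ W, w * β v = β v * w := by
  constructor
  · intro h1 w hw v hv
    exact h.comm w hw _ (h1 ⟨v, hv, rfl⟩)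
  · rintro h1 _ ⟨v, hv, rfl⟩
    exact h.cen _ fun w hw => h1 w hw v hv

theorem N_iff (β : MulAut G) : N W Q β ↔ ∃ w ∈ W, ∃ v ∈ W, w * β v ≠ β v * w := by
  unfold N
  rw [h.map_le_iff]
  push Not
  rfl

theorem N_inv {β : MulAut G} (hβ : N W Q β) : N W Q β⁻¹ := by
  rw [h.N_iff] at hβ ⊢
  obtain ⟨w, hw, v, hv, hne⟩ := hβ
  refine ⟨v, hv, w, hw, fun h1 => hne ?_⟩
  have h2 := congrArg β h1
  rw [map_mul, map_mul, MulAut.apply_inv_self] at h2
  exact h2.symm

theorem map_W_le {β : MulAut G} (hβ : N W Q β) : W.map β.toMonoidHom ≤ T0 := by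
  rw [← h.strong β hβ]; exact le_sup_left

theorem Q_le {β : MulAut G} (hβ : N W Q β) : Q ≤ T0 := by
  rw [← h.strong β hβ]; exact le_sup_right

theorem exists_mul {β : MulAut G} (hβ : N W Q β) {t : G} (ht : t ∈ T0) : ∃ w ∈ W, ∃ g ∈ Q, t = β w * g := by
  have := h.Qn
  rw [← h.strong β hβ, Subgroup.mem_sup_of_normal_right] at ht
  obtain ⟨_, ⟨w, hw, rfl⟩, g, hg, rfl⟩ := ht
  exact ⟨w, hw, g, hg, rfl⟩

theorem map_Q_le {β : MulAut G} (hβ : N W Q β) : Q.map β.toMonoidHom ≤ T0 := by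
  rintro _ ⟨g, hg, rfl⟩
  refine h.cent _ fun a ha => ?_
  obtain ⟨w, hw, k, hk, rfl⟩ := h.exists_mul hβ ha
  have h1 : β g * β w = β w * β g := by rw [← map_mul, ← map_mul, h.comm w hw g hg]
  have h2 : ⁅β g, β w * k⁆ = β w * (β g * k * (β g)⁻¹ * k⁻¹) * (β w)⁻¹ := by
    rw [commutatorElement_def]
    calc β g * (β w * k) * (β g)⁻¹ * (β w * k)⁻¹ = (β g * β w) * k * (β g)⁻¹ * k⁻¹ * (β w)⁻¹ := by group
      _ = _ := by rw [h1]; group
  show ⁅β g, β w * k⁆ ∈ Q
  rw [h2]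
  exact h.Qn.conj_mem _ (mul_mem (h.Qn.conj_mem _ hk _) (inv_mem hk)) _

theorem map_T0_le {β : MulAut G} (hβ : N W Q β) {t : G} (ht : t ∈ T0) : β t ∈ T0 := by
  obtain ⟨w, hw, g, hg, rfl⟩ := h.exists_mul (h.N_inv hβ) ht
  rw [map_mul, MulAut.apply_inv_self]
  exact mul_mem (h.Q_le hβ (h.WQ hw)) (h.map_Q_le hβ ⟨g, hg, rfl⟩)

/-- `T₀ = W · βQ` -/
theorem exists_mul' {β : MulAut G} (hβ : N W Q β) {t : G} (ht : t ∈ T0) : ∃ w ∈ W, ∃ g ∈ Q, t = w * β g := by
  obtain ⟨w, hw, g, hg, h1⟩ := h.exists_mul (h.N_inv hβ) (h.map_T0_le (h.N_inv hβ) ht)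
  refine ⟨w, hw, g, hg, ?_⟩
  have h2 := congrArg β h1
  rwa [MulAut.apply_inv_self, map_mul, MulAut.apply_inv_self] at h2

/-- `Q = W (Q ∩ βQ)` -/
theorem split {β : MulAut G} (hβ : N W Q β) {g : G} (hg : g ∈ Q) : ∃ w ∈ W, ∃ k ∈ Q, β k ∈ Q ∧ g = w * β k := by
  obtain ⟨w, hw, k, hk, rfl⟩ := h.exists_mul' hβ (h.Q_le hβ hg)
  refine ⟨w, hw, k, hk, ?_, rfl⟩
  have := mul_mem (inv_mem (h.WQ hw)) hg
  rwa [inv_mul_cancel_left] at this

/-- `βQ = βW (Q ∩ βQ)` -/
theorem split' {β : MulAut G} (hβ : N W Q β) {g : G} (hg : g ∈ Q) : ∃ w ∈ W, ∃ k ∈ Q, β k ∈ Q ∧ g = w * k := by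
  obtain ⟨w, hw, k, hk, h1, rfl⟩ := h.split (h.N_inv hβ) hg
  exact ⟨w, hw, _, h1, by rwa [MulAut.apply_inv_self], rfl⟩

/-- commutators with elements of `W` dropped -/
theorem comm_drop {w₁ w₂ g₁ g₂ : G} (hw₁ : w₁ ∈ W) (hw₂ : w₂ ∈ W) (hg₁ : g₁ ∈ Q) (hg₂ : g₂ ∈ Q) :
    ⁅w₁ * g₁, w₂ * g₂⁆ = ⁅g₁, g₂⁆ := by
  have e1 := h.comm w₁ hw₁ _ (mul_mem (h.WQ hw₂) hg₂)
  have e2 := h.comm w₂ hw₂ g₁ hg₁
  rw [commutatorElement_def, commutatorElement_def]
  calc w₁ * g₁ * (w₂ * g₂) * (w₁ * g₁)⁻¹ * (w₂ * g₂)⁻¹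
      = w₁ * g₁ * (w₂ * g₂) * g₁⁻¹ * w₁⁻¹ * (w₂ * g₂)⁻¹ := by group
    _ = w₁ * (g₁ * (w₂ * g₂) * g₁⁻¹ * (w₂ * g₂)⁻¹) * ((w₂ * g₂) * w₁⁻¹ * (w₂ * g₂)⁻¹) := by group
    _ = w₁ * (g₁ * (w₂ * g₂) * g₁⁻¹ * (w₂ * g₂)⁻¹) * w₁⁻¹ := by
        have e3 : (w₂ * g₂) * w₁⁻¹ * (w₂ * g₂)⁻¹ = w₁⁻¹ := by
          rw [mul_inv_eq_iff_eq_mul, eq_inv_mul_iff_mul_eq, ← mul_assoc, e1, mul_inv_cancel_right]
        rw [e3]
    _ = g₁ * (w₂ * g₂) * g₁⁻¹ * (w₂ * g₂)⁻¹ := by
        have e4 : g₁ * (w₂ * g₂) * g₁⁻¹ * (w₂ * g₂)⁻¹ ∈ Q :=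
          mul_mem (mul_mem (mul_mem hg₁ (mul_mem (h.WQ hw₂) hg₂)) (inv_mem hg₁))
            (inv_mem (mul_mem (h.WQ hw₂) hg₂))
        rw [h.comm w₁ hw₁ _ e4, mul_inv_cancel_right]
    _ = (g₁ * w₂) * g₂ * g₁⁻¹ * g₂⁻¹ * w₂⁻¹ := by group
    _ = w₂ * (g₁ * g₂ * g₁⁻¹ * g₂⁻¹) * w₂⁻¹ := by rw [← e2]; group
    _ = g₁ * g₂ * g₁⁻¹ * g₂⁻¹ := by
        rw [h.comm w₂ hw₂ _ (mul_mem (mul_mem (mul_mem hg₁ hg₂) (inv_mem hg₁)) (inv_mem hg₂)), mul_inv_cancel_right]

/-- commutators of `βQ` lie in `Dk` -/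
theorem comm_map {β : MulAut G} (hβ : N W Q β) {g₁ g₂ : G} (hg₁ : g₁ ∈ Q) (hg₂ : g₂ ∈ Q) : ⁅β g₁, β g₂⁆ ∈ Dk := by
  obtain ⟨w₁, hw₁, k₁, hk₁, h1, rfl⟩ := h.split' hβ hg₁
  obtain ⟨w₂, hw₂, k₂, hk₂, h2, rfl⟩ := h.split' hβ hg₂
  have h3 : ⁅β (w₁ * k₁), β (w₂ * k₂)⁆ = β ⁅w₁ * k₁, w₂ * k₂⁆ := by simp only [commutatorElement_def, _root_.map_mul, _root_.mul_inv_rev, _root_.map_inv]
  have h4 : β ⁅k₁, k₂⁆ = ⁅β k₁, β k₂⁆ := by simp only [commutatorElement_def, _root_.map_mul, _root_.map_inv]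
  rw [h3, h.comm_drop hw₁ hw₂ hk₁ hk₂, h4]
  exact h.Dcomm _ h1 _ h2

/-- **triangle-free** -/
theorem no_triangle {β γ : MulAut G} (hβ : N W Q β) (hγ : N W Q γ) (hβγ : N W Q (β⁻¹ * γ)) : False := by
  -- `t₁ ∈ γW \ Ta`
  obtain ⟨t₁, ht₁, hn₁⟩ : ∃ t ∈ W, γ t ∉ Ta := by
    by_contra hcon
    push Not at hcon
    apply h.nTa
    rw [← h.strong γ hγ, sup_le_iff]
    refine ⟨?_, h.QTa⟩
    rintro _ ⟨t, ht, rfl⟩
    exact hcon t ht
  -- the key alternative
  have key : ∀ t ∈ W, γ t ∈ Ta ∨ ∃ u ∈ Wu, u ∈ W ∧ ∃ k ∈ Q, γ t = u * β k := by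
    intro t ht
    obtain ⟨g, hg, k, hk, h1⟩ := h.exists_mul' hβ (h.map_W_le hγ ⟨t, ht, rfl⟩)
    obtain ⟨v, hv, c, hc, h2, rfl⟩ := h.split' hβ hk
    have h1 : γ t = g * β (v * c) := h1
    have hvsq : β v * β v = 1 := by rw [← map_mul, h.sq v hv, map_one]
    have hgc : g * β c = β c * g := h.comm g hg _ h2
    have hvc : β v * β c = β c * β v := by rw [← map_mul, ← map_mul, h.comm v hv c hc]
    have htsq : γ t * γ t = 1 := by rw [← map_mul, h.sq t ht, map_one]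
    have h3 : ⁅g, β v⁆ * (β c * β c) = 1 := by
      rw [commutatorElement_def]
      have e1 : g⁻¹ = g := inv_eq_of_mul_eq_one_left (h.sq g hg)
      have e2 : (β v)⁻¹ = β v := inv_eq_of_mul_eq_one_left hvsq
      rw [e1, e2]
      calc g * β v * g * β v * (β c * β c) = g * β v * g * (β v * β c) * β c := by group
        _ = g * β v * (g * β c) * β v * β c := by rw [hvc]; group
        _ = g * (β v * β c) * g * β v * β c := by rw [hgc]; group
        _ = (g * β (v * c)) * (g * β (v * c)) := by rw [map_mul]; group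
        _ = 1 := by rw [← h1, htsq]
    have h4 : ⁅g, β v⁆ ∈ Dk := by
      rw [mul_eq_one_iff_eq_inv.1 h3]
      exact inv_mem (h.Dsq _ h2)
    rcases h.coord g hg (β v) (h.map_W_le hβ ⟨v, hv, rfl⟩) h4 with h5 | h5
    · exact Or.inr ⟨g, h5, hg, v * c, mul_mem (h.WQ hv) hc, h1⟩
    · left
      rw [h1, map_mul]
      exact mul_mem (h.QTa (h.WQ hg)) (mul_mem h5 (h.QTa h2))
  -- `t₂`
  obtain ⟨t₂, ht₂, hn₂⟩ : ∃ t ∈ W, ¬ ∃ u ∈ Wu, u ∈ W ∧ ∃ k ∈ Q, γ t = u * β k := by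
    by_contra hcon
    push Not at hcon
    apply h.nWu
    intro w hw
    -- `w = β ((β⁻¹γ) v · k)`
    obtain ⟨v, hv, k, hk, h1⟩ := h.exists_mul hβγ (h.map_T0_le (h.N_inv hβ) (h.Q_le hβ (h.WQ hw)))
    have h2 : w = γ v * β k := by
      have h3 := congrArg β h1
      rwa [MulAut.apply_inv_self, map_mul, MulAut.mul_apply, MulAut.apply_inv_self] at h3
    obtain ⟨u, hu, huW, k', hk', h3⟩ := hcon v hv
    have h4 : u⁻¹ * w = β (k' * k) := by rw [h2, h3, map_mul]; group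
    have h5 : u⁻¹ * w ∈ Wu := by
      refine h.Wu_le _ (mul_mem (inv_mem huW) hw) fun a ha => ?_
      obtain ⟨b, hb, g, hg, rfl⟩ := h.exists_mul hβ ha
      have e1 : (u⁻¹ * w) * g = g * (u⁻¹ * w) := h.comm _ (mul_mem (inv_mem huW) hw) g hg
      have e2 : (u⁻¹ * w) * β b = β b * (u⁻¹ * w) := by
        rw [h4, ← map_mul, ← map_mul, h.comm b hb _ (mul_mem hk' hk)]
      calc (u⁻¹ * w) * (β b * g) = ((u⁻¹ * w) * β b) * g := by group
        _ = β b * ((u⁻¹ * w) * g) := by rw [e2]; group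
        _ = _ := by rw [e1]; group
    have h6 := mul_mem hu h5
    rwa [mul_inv_cancel_left] at h6
  -- combine
  have h1 : ∃ u ∈ Wu, u ∈ W ∧ ∃ k ∈ Q, γ t₁ = u * β k := (key t₁ ht₁).resolve_left hn₁
  have h2 : γ t₂ ∈ Ta := (key t₂ ht₂).resolve_right hn₂
  rcases key (t₁ * t₂) (mul_mem ht₁ ht₂) with h3 | h3
  · apply hn₁
    rw [map_mul] at h3
    have h4 := mul_mem h3 (inv_mem h2)
    rwa [mul_inv_cancel_right] at h4
  · apply hn₂
    obtain ⟨u₁, hu₁, hu₁W, k₁, hk₁, e₁⟩ := h1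
    obtain ⟨u₂, hu₂, hu₂W, k₂, hk₂, e₂⟩ := h3
    rw [map_mul] at e₂
    -- `γ t₂ = (γ t₁)⁻¹ u₂ β k₂ = (β k₁)⁻¹ (u₁⁻¹ u₂) β k₂`
    have h4 : γ t₂ = (β k₁)⁻¹ * (u₁⁻¹ * u₂) * β k₂ := by
      have h5 : γ t₂ = (γ t₁)⁻¹ * (γ t₁ * γ t₂) := by group
      rw [h5, e₂, e₁]; group
    refine ⟨u₁⁻¹ * u₂, mul_mem (inv_mem hu₁) hu₂, mul_mem (inv_mem hu₁W) hu₂W, ?_⟩
    have h6 : (u₁⁻¹ * u₂)⁻¹ * (β k₁)⁻¹ * (u₁⁻¹ * u₂) ∈ Q.map β.toMonoidHom := by
      have hn : (Q.map β.toMonoidHom).Normal := h.Qn.map _ β.surjective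
      have h7 := hn.conj_mem (β k₁)⁻¹ ⟨k₁⁻¹, inv_mem hk₁, map_inv β k₁⟩ (u₁⁻¹ * u₂)⁻¹
      rwa [inv_inv] at h7
    obtain ⟨k, hk, hk'⟩ := h6
    have hk' : β k = (u₁⁻¹ * u₂)⁻¹ * (β k₁)⁻¹ * (u₁⁻¹ * u₂) := hk'
    refine ⟨k * k₂, mul_mem hk hk₂, ?_⟩
    rw [h4, map_mul, hk']
    group

/-- **paths of length three close**, at `c = 1` -/
theorem path {a b d : MulAut G} (hab : N W Q (a⁻¹ * b)) (hb : N W Q b) (hd : N W Q d) : N W Q (a⁻¹ * d) := by
  by_contra had
  have hbd : ¬ N W Q (b⁻¹ * d) := fun h1 => h.no_triangle hb hd h1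
  have ha : ¬ N W Q a := by
    intro h1
    exact h.no_triangle h1 hb hab
  have ha' : ¬ N W Q a⁻¹ := fun h1 => ha (by simpa using h.N_inv h1)
  unfold N at had hbd ha'
  push Not at had hbd ha'
  -- all commutators `[w, d v]` lie in `Dk`
  have key : ∀ w ∈ W, ∀ v ∈ W, ⁅w, d v⁆ ∈ Dk := by
    intro w hw v hv
    obtain ⟨x, hx, k, hk, h1, h2⟩ := h.split hab (ha' ⟨w, hw, rfl⟩)
    have h2 : a⁻¹ w = x * (a⁻¹ * b) k := h2
    have h3 : w = a x * b k := by
      have h4 := congrArg a h2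
      rwa [MulAut.apply_inv_self, map_mul, MulAut.mul_apply, MulAut.apply_inv_self] at h4
    have e1 : (a⁻¹ * d) v ∈ Q := had ⟨v, hv, rfl⟩
    have e2 : (b⁻¹ * d) v ∈ Q := hbd ⟨v, hv, rfl⟩
    -- `⁅w, d v⁆ = a ⁅x * k', v'⁆ = a ⁅k', v'⁆`
    have h4 : ⁅w, d v⁆ = a ⁅x * (a⁻¹ * b) k, 1 * (a⁻¹ * d) v⁆ := by
      rw [h3]
      simp only [commutatorElement_def, _root_.mul_inv_rev, _root_.MulAut.mul_apply, _root_.MulAut.inv_apply, _root_.one_mul, _root_.map_mul, _root_.MulEquiv.apply_symm_apply, _root_.map_inv]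
    have h5 : a ⁅(a⁻¹ * b) k, (a⁻¹ * d) v⁆ = ⁅b k, b ((b⁻¹ * d) v)⁆ := by
      simp only [commutatorElement_def, _root_.MulAut.mul_apply, _root_.MulAut.inv_apply, _root_.map_mul, _root_.MulEquiv.apply_symm_apply, _root_.map_inv]
    rw [h4, h.comm_drop hx (one_mem _) h1 e1, h5]
    exact h.comm_map hb hk e2
  obtain ⟨w, hw, hwu⟩ := SetLike.not_le_iff_exists.1 h.nWu
  apply h.nTa
  rw [← h.strong d hd, sup_le_iff]
  refine ⟨?_, h.QTa⟩
  rintro _ ⟨v, hv, rfl⟩
  exact (h.coord w hw (d v) (h.map_W_le hd ⟨v, hv, rfl⟩) (key w hw v hv)).resolve_left hwu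

/-- odd powers -/
theorem N_pow {β : MulAut G} (hβ : N W Q β) (j : ℕ) : N W Q (β ^ (2 * j + 1)) := by
  induction j with
  | zero => simpa using hβ
  | succ j ih =>
    -- the path `1 - β^{2j+1} - β^{2j+2} - β^{2j+3}`, translated by the third vertex
    set c := β ^ (2 * j + 2) with hc
    have e1 : c⁻¹ * β ^ (2 * j + 1) = β⁻¹ := by
      rw [hc, show 2 * j + 2 = (2 * j + 1) + 1 by omega, pow_succ, mul_inv_rev]
      group
    have e2 : c⁻¹ * β ^ (2 * (j + 1) + 1) = β := by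
      rw [show 2 * (j + 1) + 1 = (2 * j + 2) + 1 by omega, pow_succ β (2 * j + 2), ← hc, inv_mul_cancel_left]
    have h1 := h.path (a := c⁻¹) (b := c⁻¹ * β ^ (2 * j + 1)) (d := c⁻¹ * β ^ (2 * (j + 1) + 1))
      (by rw [inv_inv, mul_inv_cancel_left]; exact ih) (by rw [e1]; exact h.N_inv hβ) (by rw [e2]; exact hβ)
    rwa [inv_inv, mul_inv_cancel_left] at h1

/-- **The theorem** -/
theorem le_of_odd {β : MulAut G} {m : ℕ} (hm : Odd m) {t : G} (ht : β ^ m = MulAut.conj t) :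
    W.map β.toMonoidHom ≤ Q := by
  by_contra hcon
  obtain ⟨j, rfl⟩ := hm
  have h1 := h.N_pow (β := β) hcon j
  apply h1
  rintro _ ⟨w, hw, rfl⟩
  show (β ^ (2 * j + 1)) w ∈ Q
  rw [ht, MulAut.conj_apply]
  exact h.WQ (h.Wn.conj_mem w hw t)

end Hyp

end Cfsg.Agent.H270.HM
end

-- part: H270/HM/Top
section
/-!
# S5175 (hub helper756), T6: `StTop` (helper270)

`strong` : the equality case of the offender bound for conjugates of `W` under `Aut T`; `hyp_of` : the hypotheses of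
`Graph.lean`; `stTop : StTop`.
-/

set_option autoImplicit false

namespace Cfsg.Agent.H270.HM

open Cfsg Subgroup Cfsg.Agent.H756.HM
open scoped commutatorElement

universe u

theorem commutator_drop {G : Type*} [Group G] {w₁ w₂ g₁ g₂ : G} (h1 : Commute w₁ g₁) (h2 : Commute w₁ w₂)
    (h3 : Commute w₁ g₂) (h4 : Commute w₂ g₁) (h5 : Commute w₂ g₂) : ⁅w₁ * g₁, w₂ * g₂⁆ = ⁅g₁, g₂⁆ := by
  have e1 : w₁ * g₁ * (w₂ * g₂) = (w₁ * w₂) * (g₁ * g₂) := by
    rw [mul_assoc, ← mul_assoc g₁, ← h4.eq]; group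
  have e2 : w₂ * g₂ * (w₁ * g₁) = (w₁ * w₂) * (g₂ * g₁) := by
    rw [mul_assoc, ← mul_assoc g₂, ← h3.eq, h2.eq]; group
  have e3 : Commute (w₁ * w₂) (g₁ * g₂ * (g₂ * g₁)⁻¹) := by
    have k1 : Commute (w₁ * w₂) (g₁ * g₂) := (h1.mul_right h3).mul_left (h4.mul_right h5)
    have k2 : Commute (w₁ * w₂) (g₂ * g₁) := (h3.mul_right h1).mul_left (h5.mul_right h4)
    exact k1.mul_right k2.inv_right
  have e4 : ⁅w₁ * g₁, w₂ * g₂⁆ = (w₁ * g₁ * (w₂ * g₂)) * (w₂ * g₂ * (w₁ * g₁))⁻¹ := by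
    rw [commutatorElement_def]; group
  have e5 : ⁅g₁, g₂⁆ = (g₁ * g₂) * (g₂ * g₁)⁻¹ := by
    rw [commutatorElement_def]; group
  rw [e4, e5, e1, e2, mul_inv_rev, ← mul_assoc, mul_assoc (w₁ * w₂), e3.eq, mul_inv_cancel_right]

variable {P : Type u} [Group P] [Finite P]

/-- `O²(P) T = P` -/
theorem res_sup (T : Sylow 2 P) : pResidual 2 P ⊔ (T : Subgroup P) = ⊤ := by
  have : Fact (Nat.Prime 2) := ⟨Nat.prime_two⟩
  have hn : (pResidual 2 P).Normal := TwoFusion.PResidual.pResidual_normal 2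
  have hp : IsPGroup 2 (P ⧸ pResidual 2 P) := TwoFusion.PResidual.isPGroup_quotient_pResidual 2
  obtain ⟨n, hn'⟩ := IsPGroup.iff_card.1 hp
  have h1 : (pResidual 2 P ⊔ (T : Subgroup P)).index ∣ 2 ^ n := by
    rw [← hn', ← Subgroup.index_eq_card]
    exact index_dvd_of_le le_sup_left
  have h2 : ¬ 2 ∣ (pResidual 2 P ⊔ (T : Subgroup P)).index := by
    intro h
    exact T.not_dvd_index (h.trans (index_dvd_of_le le_sup_right))
  obtain ⟨k, -, hk⟩ := (Nat.dvd_prime_pow Nat.prime_two).1 h1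
  rw [← Subgroup.index_eq_one, hk]
  rcases Nat.eq_zero_or_pos k with rfl | hk0
  · rw [pow_zero]
  · exact absurd (by rw [hk]; exact dvd_pow_self 2 hk0.ne') h2

section

variable {T : Sylow 2 P}

local notation "TT" => (T : Subgroup P)
local notation "Wp" => (⁅pCore 2 P, pResidual 2 P⁆ : Subgroup P)
local notation "Wt" => Subgroup.subgroupOf (⁅pCore 2 P, pResidual 2 P⁆ : Subgroup P) (T : Subgroup P)
local notation "Qt" => Subgroup.subgroupOf (pCore 2 P) (T : Subgroup P)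

omit [Finite P] in
theorem pc_normal : (pCore 2 P).Normal := H794.pCore_normal P 2

omit [Finite P] in
theorem res_normal : (pResidual 2 P).Normal := TwoFusion.PResidual.pResidual_normal 2

omit [Finite P] in
theorem Wp_normal : (Wp).Normal := by
  have := pc_normal (P := P)
  have := res_normal (P := P)
  exact Subgroup.commutator_normal _ _

omit [Finite P] in
theorem Wp_le : Wp ≤ pCore 2 P := by
  have := pc_normal (P := P)
  exact Subgroup.commutator_le_left _ _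

theorem pc_le (T : Sylow 2 P) : pCore 2 P ≤ (T : Subgroup P) := by
  have : Fact (Nat.Prime 2) := ⟨Nat.prime_two⟩
  exact H794.pCore_le_sylow T

omit [Finite P] in
/-- the elements of `O²(P)` move `g ∈ Q` inside `W g` -/
theorem conj_eq {g e : P} (hg : g ∈ pCore 2 P) (he : e ∈ pResidual 2 P) : ∃ w ∈ Wp, e * g * e⁻¹ = w * g := by
  refine ⟨⁅e, g⁆, ?_, ?_⟩
  · rw [Subgroup.commutator_comm]
    exact Subgroup.commutator_mem_commutator he hg
  · rw [commutatorElement_def]; group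

omit [Finite P] in
theorem sq_mem (hBW : BW TT) {g : P} (hg : g ∈ pCore 2 P) : g * g ∈ centralizer (pResidual 2 P : Set P) := by
  rw [mem_centralizer_iff]
  intro e he
  obtain ⟨w, hw, h1⟩ := conj_eq hg he
  have h2 : w * g = g * w := hBW.W_comm w hw g hg
  have h3 : w * w = 1 := by rw [← pow_two]; exact hBW.W_sq w hw
  have h4 : e * (g * g) * e⁻¹ = g * g := by
    calc e * (g * g) * e⁻¹ = (e * g * e⁻¹) * (e * g * e⁻¹) := by group
      _ = w * (g * w) * g := by rw [h1]; group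
      _ = (w * w) * (g * g) := by rw [← h2]; group
      _ = g * g := by rw [h3, one_mul]
  rwa [mul_inv_eq_iff_eq_mul] at h4

omit [Finite P] in
theorem commutator_mem' (hBW : BW TT) {g h : P} (hg : g ∈ pCore 2 P) (hh : h ∈ pCore 2 P) :
    ⁅g, h⁆ ∈ centralizer (pResidual 2 P : Set P) := by
  rw [mem_centralizer_iff]
  intro e he
  obtain ⟨w, hw, h1⟩ := conj_eq hg he
  obtain ⟨v, hv, h2⟩ := conj_eq hh he
  have h4 : e * ⁅g, h⁆ * e⁻¹ = ⁅g, h⁆ := by
    calc e * ⁅g, h⁆ * e⁻¹ = ⁅e * g * e⁻¹, e * h * e⁻¹⁆ := by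
          rw [commutatorElement_def, commutatorElement_def]; group
      _ = ⁅w * g, v * h⁆ := by rw [h1, h2]
      _ = ⁅g, h⁆ := commutator_drop (hBW.W_comm w hw g hg) (hBW.W_comm w hw v (Wp_le hv)) (hBW.W_comm w hw h hh)
          (hBW.W_comm v hv g hg) (hBW.W_comm v hv h hh)
  rwa [mul_inv_eq_iff_eq_mul] at h4

theorem mem_Qt_iff (hBW : BW TT) (t : TT) : t ∈ Qt ↔ ∀ w ∈ Wt, w * t = t * w := by
  constructor
  · intro ht w hw
    exact Subtype.ext (hBW.W_comm w hw t ht)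
  · intro h
    rw [mem_subgroupOf, ← hBW.CTW, mem_inf]
    refine ⟨t.2, ?_⟩
    rw [mem_centralizer_iff]
    intro w hw
    exact congrArg Subtype.val (h ⟨w, pc_le T (Wp_le hw)⟩ hw)

/-- the index `|βW : βW ∩ Q|` -/
noncomputable def fI (T : Sylow 2 P) (β : MulAut (T : Subgroup P)) : ℕ :=
  (Subgroup.subgroupOf (pCore 2 P) (T : Subgroup P) ⊓
    (Subgroup.subgroupOf (⁅pCore 2 P, pResidual 2 P⁆ : Subgroup P) (T : Subgroup P)).map β.toMonoidHom).relIndex
    ((Subgroup.subgroupOf (⁅pCore 2 P, pResidual 2 P⁆ : Subgroup P) (T : Subgroup P)).map β.toMonoidHom)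

theorem map_Qt : (Qt).map (TT).subtype = pCore 2 P := by
  rw [Subgroup.subgroupOf_map_subtype, inf_eq_left.2 (pc_le T)]

theorem map_Wt : (Wt).map (TT).subtype = Wp := by
  rw [Subgroup.subgroupOf_map_subtype, inf_eq_left.2 (Wp_le.trans (pc_le T))]

theorem relIndex_left (β : MulAut TT) : (pCore 2 P ⊓ ((Wt).map β.toMonoidHom).map (TT).subtype).relIndex
    (((Wt).map β.toMonoidHom).map (TT).subtype) = fI T β := by
  unfold fI
  rw [← Subgroup.relIndex_map_map_of_injective _ _ (TT).subtype_injective, Subgroup.map_inf _ _ _ (TT).subtype_injective,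
    map_Qt]

theorem relIndex_right (hBW : BW TT) (β : MulAut TT) :
    (Wp ⊓ centralizer ((((Wt).map β.toMonoidHom).map (TT).subtype : Subgroup P) : Set P)).relIndex Wp = fI T β⁻¹ := by
  have h1 : Wp ⊓ centralizer ((((Wt).map β.toMonoidHom).map (TT).subtype : Subgroup P) : Set P) =
      (Wt ⊓ (Qt).map β.toMonoidHom).map (TT).subtype := by
    ext x
    constructor
    · rintro ⟨hx, hc⟩
      have hxT : x ∈ TT := pc_le T (Wp_le hx)
      refine ⟨⟨x, hxT⟩, ⟨hx, β⁻¹ ⟨x, hxT⟩, ?_, MulAut.apply_inv_self _ _ _⟩, rfl⟩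
      rw [SetLike.mem_coe, mem_Qt_iff hBW]
      intro w hw
      apply β.injective
      rw [map_mul, map_mul, MulAut.apply_inv_self]
      exact Subtype.ext (mem_centralizer_iff.1 hc _ ⟨β w, ⟨w, hw, rfl⟩, rfl⟩)
    · rintro ⟨t, ⟨ht, s, hs, hst⟩, rfl⟩
      refine ⟨ht, ?_⟩
      refine mem_centralizer_iff.2 ?_
      rintro _ ⟨_, ⟨w, hw, rfl⟩, rfl⟩
      have h2 := (mem_Qt_iff hBW s).1 hs w hw
      have h3 : β w * β s = β s * β w := by rw [← map_mul, h2, map_mul]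
      rw [← hst]
      exact congrArg Subtype.val h3
  have h2 : ((Wt).map (β⁻¹).toMonoidHom).map β.toMonoidHom = Wt := by
    ext x
    constructor
    · rintro ⟨_, ⟨w, hw, rfl⟩, rfl⟩
      show β (β⁻¹ w) ∈ Wt
      rwa [MulAut.apply_inv_self]
    · intro hx
      exact ⟨β⁻¹ x, ⟨x, hx, rfl⟩, MulAut.apply_inv_self _ _ _⟩
  have h3 : (((Wt ⊓ (Qt).map β.toMonoidHom).map (TT).subtype : Subgroup P)).relIndex Wp =
      (Wt ⊓ (Qt).map β.toMonoidHom).relIndex Wt := by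
    have := Subgroup.relIndex_map_map_of_injective (Wt ⊓ (Qt).map β.toMonoidHom) Wt (TT).subtype_injective
    rwa [map_Wt] at this
  rw [h1, h3]
  unfold fI
  rw [← Subgroup.relIndex_map_map_of_injective (Qt ⊓ _) _ (f := β.toMonoidHom) β.injective,
    Subgroup.map_inf _ _ _ β.injective, h2, inf_comm]

/-- **`βW · Q = T₀`** -/
theorem strong (hBW : BW TT) (d : BD TT) (β : MulAut TT) (hβ : ¬ (Wt).map β.toMonoidHom ≤ Qt) :
    (Wt).map β.toMonoidHom ⊔ Qt = d.T0.subgroupOf TT := by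
  have hX : ∀ β : MulAut TT, (((Wt).map β.toMonoidHom).map (TT).subtype : Subgroup P) ≤ TT ∧
      TT ≤ normalizer ((((Wt).map β.toMonoidHom).map (TT).subtype : Subgroup P) : Set P) ∧
      (∀ a ∈ (((Wt).map β.toMonoidHom).map (TT).subtype : Subgroup P),
        ∀ b ∈ (((Wt).map β.toMonoidHom).map (TT).subtype : Subgroup P), a * b = b * a) ∧
      ∀ a ∈ (((Wt).map β.toMonoidHom).map (TT).subtype : Subgroup P), a ^ 2 = 1 := by
    intro β
    refine ⟨map_subtype_le _, ?_, ?_, ?_⟩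
    · have hn : ((Wt).map β.toMonoidHom).Normal := by
        have := Wp_normal (P := P)
        exact (Subgroup.normal_subgroupOf : (Wt).Normal).map _ β.surjective
      intro t ht
      rw [mem_normalizer_iff]
      intro x
      constructor
      · rintro ⟨y, hy, rfl⟩
        exact ⟨_, hn.conj_mem y hy ⟨t, ht⟩, rfl⟩
      · rintro ⟨y, hy, hxy⟩
        have h1 := hn.conj_mem y hy ⟨t⁻¹, inv_mem ht⟩
        refine ⟨_, h1, ?_⟩
        have h2 : (y : P) = t * x * t⁻¹ := hxy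
        show t⁻¹ * (y : P) * (t⁻¹)⁻¹ = x
        rw [h2]; group
    · rintro _ ⟨_, ⟨a, ha, rfl⟩, rfl⟩ _ ⟨_, ⟨b, hb, rfl⟩, rfl⟩
      have h1 : a * b = b * a := Subtype.ext (hBW.W_comm a ha b (Wp_le hb))
      have h2 : β a * β b = β b * β a := by rw [← map_mul, h1, map_mul]
      exact congrArg Subtype.val h2
    · rintro _ ⟨_, ⟨a, ha, rfl⟩, rfl⟩
      have h1 : a ^ 2 = 1 := Subtype.ext (hBW.W_sq a ha)
      have h2 : β a ^ 2 = 1 := by rw [← map_pow, h1, map_one]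
      exact congrArg Subtype.val h2
  have hW := d.hW
  obtain ⟨a1, a2, a3, a4⟩ := hX β
  obtain ⟨b1, b2, b3, b4⟩ := hX β⁻¹
  have h1 := d.off _ a1 a2 a3 a4
  have h2 := d.off _ b1 b2 b3 b4
  rw [hW, relIndex_left, relIndex_right hBW] at h1 h2
  rw [inv_inv] at h2
  have h3 := d.off_eq _ a1 a2 a3 a4 (by
    rw [hW, relIndex_left, relIndex_right hBW]
    exact h2)
  rcases h3 with h3 | h3
  · exfalso
    apply hβ
    have h4 : ((Wt).map β.toMonoidHom).map (TT).subtype ≤ (Qt).map (TT).subtype := by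
      rw [map_Qt]; exact h3
    exact (Subgroup.map_le_map_iff_of_injective (TT).subtype_injective).1 h4
  · apply Subgroup.map_injective (TT).subtype_injective
    rw [Subgroup.map_sup, map_Qt, h3, Subgroup.subgroupOf_map_subtype, inf_eq_left.2 d.T0_le]

theorem hyp_of (hBW : BW TT) (d : BD TT) : ∃ Wu Ta : Subgroup TT,
    Hyp Wt Qt (d.T0.subgroupOf TT) ((centralizer (pResidual 2 P : Set P)).subgroupOf TT) Wu Ta := by
  obtain ⟨Wu, Ta, h1, h2, h3, h4, h5⟩ := d.coord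
  rw [d.hW] at h1 h2 h5
  refine ⟨Wu.subgroupOf TT, Ta.subgroupOf TT, ?_⟩
  exact
    { WQ := fun x hx => Wp_le hx
      Wn := by
        have := Wp_normal (P := P)
        exact Subgroup.normal_subgroupOf
      Qn := by
        have := pc_normal (P := P)
        exact Subgroup.normal_subgroupOf
      comm := fun w hw g hg => Subtype.ext (hBW.W_comm w hw g hg)
      sq := fun w hw => Subtype.ext (by
        have := hBW.W_sq w hw
        rwa [pow_two] at this)
      cen := fun t ht => (mem_Qt_iff hBW t).2 ht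
      Dsq := fun g hg => sq_mem hBW hg
      Dcomm := fun g hg k hk => commutator_mem' hBW hg hk
      strong := fun β hβ => strong hBW d β hβ
      cent := fun t ht => d.cent t t.2 fun a ha => ht ⟨a, d.T0_le ha⟩ ha
      Wu_le := fun w hw hc => h1 ⟨hw, by
        show (w : P) ∈ centralizer (d.T0 : Set P)
        rw [mem_centralizer_iff]
        intro a ha
        exact (congrArg Subtype.val (hc ⟨a, d.T0_le ha⟩ ha)).symm⟩
      nWu := fun h => h2 fun x hx => h (x := ⟨x, pc_le T (Wp_le hx)⟩) hx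
      QTa := fun x hx => h3 hx
      nTa := fun h => h4 fun x hx => h (x := ⟨x, d.T0_le hx⟩) hx
      coord := fun w hw t ht hc => h5 w hw t ht hc }

end

/-- **T6** -/
theorem stTop : StTop.{u} := by
  intro P _ _ T hT hBW hBD 𝔸 hIn hodd hW
  have hall : ∀ β ∈ 𝔸, (Subgroup.subgroupOf (⁅pCore 2 P, pResidual 2 P⁆ : Subgroup P) (T : Subgroup P)).map
      β.toMonoidHom ≤ Subgroup.subgroupOf (pCore 2 P) (T : Subgroup P) := by
    intro β hβ
    by_contra hcon
    obtain ⟨d⟩ := hBD β (by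
      obtain ⟨_, ⟨w, hw, rfl⟩, h1⟩ := SetLike.not_le_iff_exists.1 hcon
      exact ⟨w, hw, h1⟩)
    obtain ⟨Wu, Ta, h⟩ := hyp_of hBW d
    -- an odd power is inner
    have hInn : ((MulAut.conj : ↥(T : Subgroup P) →* MulAut ↥(T : Subgroup P)).range.subgroupOf 𝔸).Normal := by
      have : (MulAut.conj : ↥(T : Subgroup P) →* MulAut ↥(T : Subgroup P)).range.Normal := by
        refine ⟨?_⟩
        rintro _ ⟨t, rfl⟩ γ
        refine ⟨γ t, ?_⟩
        ext x
        simp only [_root_.MulAut.conj_apply, _root_.Subgroup.coe_mul, _root_.InvMemClass.coe_inv, _root_.MulAut.mul_apply, _root_.MulAut.inv_apply, _root_.map_mul, _root_.MulEquiv.apply_symm_apply, _root_.map_inv]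
      exact Subgroup.normal_subgroupOf
    have h1 : (⟨β, hβ⟩ : 𝔸) ^ (MulAut.conj : ↥(T : Subgroup P) →* MulAut ↥(T : Subgroup P)).range.relIndex 𝔸 ∈
        (MulAut.conj : ↥(T : Subgroup P) →* MulAut ↥(T : Subgroup P)).range.subgroupOf 𝔸 :=
      Subgroup.pow_index_mem _ _
    obtain ⟨t, ht⟩ := h1
    exact hcon (h.le_of_odd hodd (t := t) ht.symm)
  set WT := Subgroup.subgroupOf (⁅pCore 2 P, pResidual 2 P⁆ : Subgroup P) (T : Subgroup P) with hWT
  set D : Subgroup ↥(T : Subgroup P) := ⨆ β ∈ 𝔸, WT.map β.toMonoidHom with hD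
  have hWD : WT ≤ D := by
    have h1 : WT.map (1 : MulAut ↥(T : Subgroup P)).toMonoidHom = WT := Subgroup.map_id _
    rw [← h1, hD]
    exact le_iSup₂_of_le 1 (one_mem _) le_rfl
  have hinv : ∀ β ∈ 𝔸, D.map β.toMonoidHom ≤ D := by
    intro β hβ
    rw [hD, Subgroup.map_iSup]
    refine iSup_le fun γ => ?_
    rw [Subgroup.map_iSup]
    refine iSup_le fun hγ => ?_
    rw [Subgroup.map_map]
    exact le_iSup₂_of_le (β * γ) (mul_mem hβ hγ) le_rfl
  have hDQ : D ≤ Subgroup.subgroupOf (pCore 2 P) (T : Subgroup P) := iSup₂_le hall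
  refine ⟨D, ?_, ?_, ?_⟩
  · intro h0
    apply hW
    rw [eq_bot_iff]
    intro w hw
    have h1 : (⟨w, pc_le T (Wp_le hw)⟩ : ↥(T : Subgroup P)) ∈ D := hWD hw
    rw [h0, mem_bot] at h1
    exact congrArg Subtype.val h1
  · rw [← Subgroup.normalizer_eq_top_iff, eq_top_iff, ← res_sup T, sup_le_iff]
    constructor
    · have hmem : ∀ e ∈ pResidual 2 P, ∀ x ∈ D.map (T : Subgroup P).subtype, e * x * e⁻¹ ∈ D.map (T : Subgroup P).subtype := by
        rintro e he _ ⟨x, hx, rfl⟩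
        have hxQ : (x : P) ∈ pCore 2 P := hDQ hx
        obtain ⟨w, hw, h1⟩ := conj_eq hxQ he
        show e * (x : P) * e⁻¹ ∈ _
        rw [h1]
        exact mul_mem ⟨⟨w, pc_le T (Wp_le hw)⟩, hWD hw, rfl⟩ ⟨x, hx, rfl⟩
      intro e he
      rw [mem_normalizer_iff]
      intro x
      refine ⟨hmem e he x, fun h1 => ?_⟩
      have h2 := hmem e⁻¹ (inv_mem he) _ h1
      have h3 : e⁻¹ * (e * x * e⁻¹) * e⁻¹⁻¹ = x := by group
      rwa [h3] at h2
    · have hmem : ∀ t ∈ (T : Subgroup P), ∀ x ∈ D.map (T : Subgroup P).subtype, t * x * t⁻¹ ∈ D.map (T : Subgroup P).subtype := by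
        rintro t ht _ ⟨x, hx, rfl⟩
        exact ⟨_, hinv (MulAut.conj ⟨t, ht⟩) (hIn ⟨_, rfl⟩) ⟨x, hx, rfl⟩, rfl⟩
      intro t ht
      rw [mem_normalizer_iff]
      intro x
      refine ⟨hmem t ht x, fun h1 => ?_⟩
      have h2 := hmem t⁻¹ (inv_mem ht) _ h1
      have h3 : t⁻¹ * (t * x * t⁻¹) * t⁻¹⁻¹ = x := by group
      rwa [h3] at h2
  · intro β hβ
    apply le_antisymm (hinv β hβ)
    have h1 := Subgroup.map_mono (f := β.toMonoidHom) (hinv β⁻¹ (inv_mem hβ))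
    have h2 : (D.map (β⁻¹).toMonoidHom).map β.toMonoidHom = D := by
      ext x
      constructor
      · rintro ⟨_, ⟨w, hw, rfl⟩, rfl⟩
        show β (β⁻¹ w) ∈ D
        rwa [MulAut.apply_inv_self]
      · intro hx
        exact ⟨β⁻¹ x, ⟨x, hx, rfl⟩, MulAut.apply_inv_self _ _ _⟩
    rwa [h2] at h1

end Cfsg.Agent.H270.HM
end

-- part: H270/HM/Swap
section
/-!
# S5175 (hub helper756), T7a: `StSwap` (helper270)

`stSwap : StSwap`.
-/

set_option autoImplicit false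

namespace Cfsg.Agent.H270.HM

open Cfsg Subgroup Cfsg.Agent.H756.HM
open scoped commutatorElement

universe u

variable {P : Type u} [Group P] [Finite P]

section

variable {T : Sylow 2 P}

local notation "TT" => (T : Subgroup P)
local notation "Wp" => (⁅pCore 2 P, pResidual 2 P⁆ : Subgroup P)
local notation "Wt" => Subgroup.subgroupOf (⁅pCore 2 P, pResidual 2 P⁆ : Subgroup P) (T : Subgroup P)
local notation "Qt" => Subgroup.subgroupOf (pCore 2 P) (T : Subgroup P)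
local notation "Dt" => Subgroup.subgroupOf (pCore 2 P ⊓ centralizer (pResidual 2 P : Set P)) (T : Subgroup P)

/-- `T` and `O²(P)` generate `P` -/
theorem normal_of {D : Subgroup TT} (hD : D.Normal)
    (h : ∀ e ∈ pResidual 2 P, ∀ x ∈ D, e * (x : P) * e⁻¹ ∈ D.map (TT).subtype) : (D.map (TT).subtype).Normal := by
  rw [← Subgroup.normalizer_eq_top_iff, eq_top_iff, ← res_sup T, sup_le_iff]
  constructor
  · have hmem : ∀ e ∈ pResidual 2 P, ∀ x ∈ D.map (TT).subtype, e * x * e⁻¹ ∈ D.map (TT).subtype := by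
      rintro e he _ ⟨x, hx, rfl⟩
      exact h e he x hx
    intro e he
    rw [mem_normalizer_iff]
    intro x
    refine ⟨hmem e he x, fun h1 => ?_⟩
    have h2 := hmem e⁻¹ (inv_mem he) _ h1
    have h3 : e⁻¹ * (e * x * e⁻¹) * e⁻¹⁻¹ = x := by group
    rwa [h3] at h2
  · have hmem : ∀ t ∈ TT, ∀ x ∈ D.map (TT).subtype, t * x * t⁻¹ ∈ D.map (TT).subtype := by
      rintro t ht _ ⟨x, hx, rfl⟩
      exact ⟨_, hD.conj_mem x hx ⟨t, ht⟩, rfl⟩
    intro t ht
    rw [mem_normalizer_iff]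
    intro x
    refine ⟨hmem t ht x, fun h1 => ?_⟩
    have h2 := hmem t⁻¹ (inv_mem ht) _ h1
    have h3 : t⁻¹ * (t * x * t⁻¹) * t⁻¹⁻¹ = x := by group
    rwa [h3] at h2

omit [Finite P] in
/-- the square of `ξ` fixes the normal subgroups of `T` -/
theorem map_sq {ξ : MulAut TT} (hξ : ∃ t : TT, ξ * ξ = MulAut.conj t) {D : Subgroup TT} (hD : D.Normal) :
    (D.map ξ.toMonoidHom).map ξ.toMonoidHom = D := by
  obtain ⟨t, ht⟩ := hξ
  have h1 : ∀ x, ξ (ξ x) = t * x * t⁻¹ := fun x => by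
    have := DFunLike.congr_fun ht x
    rwa [MulAut.mul_apply, MulAut.conj_apply] at this
  ext x
  constructor
  · rintro ⟨_, ⟨w, hw, rfl⟩, rfl⟩
    show ξ (ξ w) ∈ D
    rw [h1]
    exact hD.conj_mem w hw t
  · intro hx
    refine ⟨_, ⟨t⁻¹ * x * t⁻¹⁻¹, hD.conj_mem x hx t⁻¹, rfl⟩, ?_⟩
    show ξ (ξ (t⁻¹ * x * t⁻¹⁻¹)) = x
    rw [h1]; group

theorem swap_aux (hBW : BW TT) (d : BD TT) {ξ : MulAut TT} (hξ : ∃ t : TT, ξ * ξ = MulAut.conj t)
    (hno : ∀ D : Subgroup TT, D ≠ ⊥ → (D.map (TT).subtype).Normal → D.map ξ.toMonoidHom ≠ D) : Swap TT ξ d := by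
  have hWn : (Wt).Normal := by
    have := Wp_normal (P := P)
    exact Subgroup.normal_subgroupOf
  have hQn : (Qt).Normal := by
    have := pc_normal (P := P)
    exact Subgroup.normal_subgroupOf
  have hDn : (Dt).Normal := by
    have := pc_normal (P := P)
    have := res_normal (P := P)
    exact Subgroup.normal_subgroupOf
  have hWξ : ((Wt).map ξ.toMonoidHom).Normal := hWn.map _ ξ.surjective
  have hQξ : ((Qt).map ξ.toMonoidHom).Normal := hQn.map _ ξ.surjective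
  have hDξ : ((Dt).map ξ.toMonoidHom).Normal := hDn.map _ ξ.surjective
  have hWQ : Wt ≤ Qt := fun x hx => Wp_le hx
  -- `W^ξ` is not contained in `Q`
  have h1 : ¬ (Wt).map ξ.toMonoidHom ≤ Qt := by
    intro hle
    have hQ2 : Wt ⊔ (Wt).map ξ.toMonoidHom ≤ Qt := sup_le hWQ hle
    refine hno (Wt ⊔ (Wt).map ξ.toMonoidHom) ?_ ?_ ?_
    · intro h0
      obtain ⟨Wu, Ta, -, k2, -⟩ := d.coord
      apply k2
      intro w hw
      rw [d.hW] at hw
      have k3 : (⟨w, pc_le T (Wp_le hw)⟩ : TT) ∈ Wt ⊔ (Wt).map ξ.toMonoidHom := mem_sup_left hw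
      rw [h0, mem_bot] at k3
      have k4 : w = 1 := congrArg Subtype.val k3
      rw [k4]
      exact one_mem _
    · refine normal_of inferInstance ?_
      intro e he x hx
      have hxQ : (x : P) ∈ pCore 2 P := hQ2 hx
      obtain ⟨w, hw, k1⟩ := conj_eq hxQ he
      rw [k1]
      exact mul_mem ⟨⟨w, pc_le T (Wp_le hw)⟩, mem_sup_left hw, rfl⟩ ⟨x, hx, rfl⟩
    · rw [Subgroup.map_sup, map_sq hξ hWn, sup_comm]
  have h2 := strong hBW d ξ h1
  -- `Q^ξ ≤ T₀`
  have h3 : (Qt).map ξ.toMonoidHom ≤ d.T0.subgroupOf TT := by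
    rintro _ ⟨g, hg, rfl⟩
    refine d.cent _ (ξ g).2 ?_
    intro a ha
    have k1 : (⟨a, d.T0_le ha⟩ : TT) ∈ (Wt).map ξ.toMonoidHom ⊔ Qt := by rw [h2]; exact ha
    obtain ⟨_, ⟨w, hw, rfl⟩, q, hq, k2⟩ := Subgroup.mem_sup_of_normal_right.1 k1
    have k3 : a = (ξ w : P) * (q : P) := (congrArg Subtype.val k2).symm
    have k4 : w * g = g * w := ((mem_Qt_iff hBW g).1 hg w hw)
    have k5 : ξ w * ξ g = ξ g * ξ w := by rw [← map_mul, k4, map_mul]
    have k6 : ⁅ξ g, ξ w * q⁆ ∈ Qt := by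
      have k7 : ⁅ξ g, ξ w * q⁆ = ξ w * ((ξ g * q * (ξ g)⁻¹) * q⁻¹) * (ξ w)⁻¹ := by
        rw [commutatorElement_def, mul_inv_rev]
        calc ξ g * (ξ w * q) * (ξ g)⁻¹ * (q⁻¹ * (ξ w)⁻¹) = (ξ g * ξ w) * q * (ξ g)⁻¹ * (q⁻¹ * (ξ w)⁻¹) := by group
          _ = _ := by rw [← k5]; group
      rw [k7]
      exact hQn.conj_mem _ (mul_mem (hQn.conj_mem q hq _) (inv_mem hq)) _
    rw [k3]
    exact k6
  have hQT : Qt ≤ d.T0.subgroupOf TT := fun x hx => d.Q_le_T0 hx
  have h4 : Qt ⊔ (Qt).map ξ.toMonoidHom = d.T0.subgroupOf TT := by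
    apply le_antisymm (sup_le hQT h3)
    rw [← h2]
    exact sup_le ((Subgroup.map_mono hWQ).trans le_sup_right) le_sup_left
  have h5 : (d.T0.subgroupOf TT).map ξ.toMonoidHom = d.T0.subgroupOf TT := by
    rw [← h4, Subgroup.map_sup, map_sq hξ hQn, sup_comm]
  have h6 : Wt ⊔ (Qt).map ξ.toMonoidHom = d.T0.subgroupOf TT := by
    rw [← h5, ← h2, Subgroup.map_sup, map_sq hξ hWn]
  -- `Q = W (Q ∩ Q^ξ)`
  have h7 : ∀ a ∈ pCore 2 P, ∃ w ∈ Wp, ∃ g : TT, g ∈ Qt ∧ ξ g ∈ Qt ∧ a = w * (ξ g : P) := by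
    intro a ha
    have k1 : (⟨a, pc_le T ha⟩ : TT) ∈ Wt ⊔ (Qt).map ξ.toMonoidHom := by rw [h6]; exact d.Q_le_T0 ha
    obtain ⟨w, hw, _, ⟨g, hg, rfl⟩, k2⟩ := Subgroup.mem_sup_of_normal_right.1 k1
    refine ⟨w, hw, g, hg, ?_, (congrArg Subtype.val k2).symm⟩
    have k3 : ξ g = w⁻¹ * ⟨a, pc_le T ha⟩ := by
      rw [← k2]
      show ξ g = w⁻¹ * (w * ξ g)
      group
    rw [k3]
    exact mul_mem (inv_mem (hWQ hw)) ha
  -- `D ∩ D^ξ = 1`
  have h8 : Dt ⊓ (Dt).map ξ.toMonoidHom = ⊥ := by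
    by_contra h0
    refine hno _ h0 ?_ ?_
    · refine normal_of inferInstance ?_
      intro e he x hx
      have k1 : e * (x : P) = x * e := mem_centralizer_iff.1 hx.1.2 e he
      rw [k1, mul_inv_cancel_right]
      exact ⟨x, hx, rfl⟩
    · rw [Subgroup.map_inf _ _ _ ξ.injective, map_sq hξ hDn, inf_comm]
  have h9 : ∀ x : TT, ξ x ∈ Dt → x ∈ Dt → ξ x = 1 := by
    intro x k1 k2
    have k3 : ξ x ∈ Dt ⊓ (Dt).map ξ.toMonoidHom := ⟨k1, ⟨x, k2, rfl⟩⟩
    rwa [h8, mem_bot] at k3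
  have hcomm : ∀ a ∈ pCore 2 P, ∀ b ∈ pCore 2 P, a * b = b * a := by
    intro a ha b hb
    obtain ⟨w, hw, g, hg1, hg2, rfl⟩ := h7 a ha
    obtain ⟨v, hv, k, hk1, hk2, rfl⟩ := h7 b hb
    have k1 : ⁅w * (ξ g : P), v * (ξ k : P)⁆ = ⁅(ξ g : P), (ξ k : P)⁆ :=
      commutator_drop (hBW.W_comm w hw _ hg2) (hBW.W_comm w hw v (Wp_le hv)) (hBW.W_comm w hw _ hk2)
        (hBW.W_comm v hv _ hg2) (hBW.W_comm v hv _ hk2)
    have k2 : ξ ⁅g, k⁆ = 1 := by
      apply h9
      · rw [map_commutatorElement]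
        have k3 : ⁅ξ g, ξ k⁆ ∈ Qt := by
          rw [commutatorElement_def]
          exact mul_mem (mul_mem (mul_mem hg2 hk2) (inv_mem hg2)) (inv_mem hk2)
        exact ⟨k3, commutator_mem' hBW hg2 hk2⟩
      · have k3 : ⁅g, k⁆ ∈ Qt := by
          rw [commutatorElement_def]
          exact mul_mem (mul_mem (mul_mem hg1 hk1) (inv_mem hg1)) (inv_mem hk1)
        exact ⟨k3, commutator_mem' hBW hg1 hk1⟩
    rw [map_commutatorElement] at k2
    have k3 : ⁅(ξ g : P), (ξ k : P)⁆ = 1 := congrArg Subtype.val k2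
    rw [k3] at k1
    exact commutatorElement_eq_one_iff_mul_comm.1 k1
  refine ⟨hcomm, ?_, ?_, h4, h8⟩
  · intro a ha
    obtain ⟨w, hw, g, hg1, hg2, rfl⟩ := h7 a ha
    have k2 : ξ (g * g) = 1 := by
      apply h9
      · rw [map_mul]
        exact ⟨mul_mem hg2 hg2, sq_mem hBW hg2⟩
      · exact ⟨mul_mem hg1 hg1, sq_mem hBW hg1⟩
    rw [map_mul] at k2
    have k3 : (ξ g : P) * (ξ g : P) = 1 := congrArg Subtype.val k2
    have k4 : w * (ξ g : P) = (ξ g : P) * w := hBW.W_comm w hw _ hg2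
    have k5 : w * w = 1 := by rw [← pow_two]; exact hBW.W_sq w hw
    calc (w * (ξ g : P)) ^ 2 = w * ((ξ g : P) * w) * (ξ g : P) := by rw [pow_two]; group
      _ = w * (w * (ξ g : P)) * (ξ g : P) := by rw [k4]
      _ = (w * w) * ((ξ g : P) * (ξ g : P)) := by group
      _ = 1 := by rw [k3, k5, one_mul]
  · apply le_antisymm
    · intro t ht
      rw [← hBW.CTW]
      refine ⟨ht.1, ?_⟩
      refine mem_centralizer_iff.2 fun w hw => mem_centralizer_iff.1 ht.2 w (Wp_le hw)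
    · intro t ht
      exact ⟨pc_le T ht, mem_centralizer_iff.2 fun w hw => hcomm w hw t ht⟩

end

/-- **T7a** -/
theorem stSwap : StSwap.{u} := by
  intro P _ _ T hBW d ξ hξ hno
  exact swap_aux hBW d hξ hno

end Cfsg.Agent.H270.HM
end
end

-- part: H456/HM/Coord
section
prune_inst 0x430104d003c22000000000002a00000202000000200400000502007060243d0200d02a0000a200c101800a80000000020025c00004000000000000000000401001000020011000008400006000100000000000000000000000000000000041000000000000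
set_option linter.all false
open scoped Cfsg.Agent.FastGrp

/-!
# S5175: coordinates for the main configuration (helper456)

`Crd K V W D mu lam zet` : for `V`, `W = V^x`, `D = C_V(E)`: additive coordinates `mu : V / Z → K`, `lam : W / Z → K`,
`zet : Z / D → K` (`Z = V ∩ W`) with `zet [v, w] = mu v * lam w`; `exists_crd` : they exist in the situation `Conf`.
-/

set_option autoImplicit false

namespace Cfsg.Agent.H456.HM

open Cfsg Cfsg.FusionSystem Cfsg.Agent.H756.HM Cfsg.Agent.H802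

/-- coordinates -/
structure Crd {Ω : Type*} [Group Ω] (K : Type) [Field K] (V W D : Subgroup Ω) (mu lam zet : Ω → K) : Prop where
  two : (2 : K) = 0
  elV : ∀ v ∈ V, v * v = 1
  elW : ∀ w ∈ W, w * w = 1
  com : ∀ v ∈ V, ∀ w ∈ W, v * w * v⁻¹ * w⁻¹ ∈ V ⊓ W
  mu_mul : ∀ v ∈ V, ∀ v' ∈ V, mu (v * v') = mu v + mu v'
  mu_zero : ∀ v ∈ V, (mu v = 0 ↔ v ∈ W)
  mu_surj : ∀ k, ∃ v ∈ V, mu v = k
  lam_mul : ∀ w ∈ W, ∀ w' ∈ W, lam (w * w') = lam w + lam w'
  lam_zero : ∀ w ∈ W, (lam w = 0 ↔ w ∈ V)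
  lam_surj : ∀ k, ∃ w ∈ W, lam w = k
  zet_mul : ∀ z ∈ V ⊓ W, ∀ z' ∈ V ⊓ W, zet (z * z') = zet z + zet z'
  zet_zero : ∀ z ∈ V ⊓ W, (zet z = 0 ↔ z ∈ D)
  zet_surj : ∀ k, ∃ z ∈ V ⊓ W, zet z = k
  zet_com : ∀ v ∈ V, ∀ w ∈ W, zet (v * w * v⁻¹ * w⁻¹) = mu v * lam w
  D_le : D ≤ V ⊓ W

section Conf

variable {Ω : Type*} [Group Ω] {S : Subgroup Ω} {F : FusionSystem S} {K : Type} [Field K] [Fintype K]
  {V T : Subgroup Ω} {x : Ω}

theorem mem_cj {y g : Ω} {H : Subgroup Ω} : g ∈ cj y H ↔ y⁻¹ * g * y ∈ H := by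
  constructor
  · rintro ⟨h, hh, rfl⟩
    have : y⁻¹ * (MulAut.conj y).toMonoidHom h * y = h := by
      show y⁻¹ * (y * h * y⁻¹) * y = h
      group
    rwa [this]
  · intro h
    refine ⟨_, h, ?_⟩
    show y * (y⁻¹ * g * y) * y⁻¹ = g
    group

theorem conj_mem_cj {y g : Ω} {H : Subgroup Ω} (h : g ∈ H) : y * g * y⁻¹ ∈ cj y H := ⟨g, h, rfl⟩

theorem card_cj (y : Ω) (H : Subgroup Ω) : Nat.card (cj y H) = Nat.card H :=
  (Nat.card_congr (H.equivMapOfInjective _ (MulAut.conj y).injective).toEquiv).symm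

theorem T_le (c : Conf F K V T x) : T ≤ S := by
  rw [← c.nor]; exact inf_le_left

theorem T_normV (c : Conf F K V T x) {t v : Ω} (ht : t ∈ T) (hv : v ∈ V) : t * v * t⁻¹ ∈ V := by
  rw [← c.nor] at ht
  exact (Subgroup.mem_normalizer_iff.1 ht.2 v).1 hv

theorem V_le_T (c : Conf F K V T x) : V ≤ T := by
  rw [← c.nor]
  exact le_inf c.V_le Subgroup.le_normalizer

theorem x_T (c : Conf F K V T x) {t : Ω} (ht : t ∈ T) : x * t * x⁻¹ ∈ T :=
  (Subgroup.mem_normalizer_iff.1 c.x_nor t).1 ht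

theorem x_T' (c : Conf F K V T x) {t : Ω} (ht : t ∈ T) : x⁻¹ * t * x ∈ T := by
  have h := (Subgroup.mem_normalizer_iff.1 c.x_nor (x⁻¹ * t * x)).2
  apply h
  have : x * (x⁻¹ * t * x) * x⁻¹ = t := by group
  rwa [this]

theorem W_le_T (c : Conf F K V T x) : cj x V ≤ T := by
  rintro _ ⟨v, hv, rfl⟩
  exact x_T c (V_le_T c hv)

theorem xW (c : Conf F K V T x) {w : Ω} (hw : w ∈ cj x V) : x * w * x⁻¹ ∈ V := by
  obtain ⟨v, hv, rfl⟩ := hw
  have h1 := T_normV c c.x_sq hv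
  have : x * (MulAut.conj x).toMonoidHom v * x⁻¹ = x ^ 2 * v * (x ^ 2)⁻¹ := by
    show x * (x * v * x⁻¹) * x⁻¹ = _
    rw [pow_two]
    group
  rw [this]
  exact h1

theorem T_normW (c : Conf F K V T x) {t w : Ω} (ht : t ∈ T) (hw : w ∈ cj x V) : t * w * t⁻¹ ∈ cj x V := by
  rw [mem_cj] at hw ⊢
  have h1 := T_normV c (x_T' c ht) hw
  have : x⁻¹ * (t * w * t⁻¹) * x = x⁻¹ * t * x * (x⁻¹ * w * x) * (x⁻¹ * t * x)⁻¹ := by group
  rwa [this]

theorem elV (c : Conf F K V T x) {v : Ω} (hv : v ∈ V) : v * v = 1 := by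
  rw [← pow_two]; exact c.el v hv

theorem elW (c : Conf F K V T x) {w : Ω} (hw : w ∈ cj x V) : w * w = 1 := by
  obtain ⟨v, hv, rfl⟩ := hw
  rw [← map_mul, elV c hv, map_one]

theorem comm_of_sq {G : Type*} [Group G] {a b : G} (ha : a * a = 1) (hb : b * b = 1) (hab : a * b * (a * b) = 1) :
    a * b = b * a := by
  have h1 : a⁻¹ = a := inv_eq_of_mul_eq_one_left ha
  have h2 : b⁻¹ = b := inv_eq_of_mul_eq_one_left hb
  have h3 : (a * b)⁻¹ = a * b := inv_eq_of_mul_eq_one_left hab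
  calc a * b = (a * b)⁻¹ := h3.symm
    _ = b⁻¹ * a⁻¹ := mul_inv_rev a b
    _ = b * a := by rw [h1, h2]

theorem commV (c : Conf F K V T x) {v w : Ω} (hv : v ∈ V) (hw : w ∈ V) : v * w = w * v :=
  comm_of_sq (elV c hv) (elV c hw) (elV c (V.mul_mem hv hw))

theorem commW (c : Conf F K V T x) {v w : Ω} (hv : v ∈ cj x V) (hw : w ∈ cj x V) : v * w = w * v :=
  comm_of_sq (elW c hv) (elW c hw) (elW c ((cj x V).mul_mem hv hw))

theorem cenV (c : Conf F K V T x) {s : Ω} (hs : s ∈ S) (h : ∀ v ∈ V, s * v = v * s) : s ∈ V := by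
  rw [← c.cent]
  exact ⟨hs, Subgroup.mem_centralizer_iff.2 fun v hv => (h v hv).symm⟩

/-- the conjugation of `w ∈ V^x` on `V`, as an element of `E` -/
theorem exists_act (c : Conf F K V T x) {w : Ω} (hw : w ∈ cj x V) :
    ∃ e : c.E, ∀ v : V, (((e : MulAut V) v : V) : Ω) = w * v * w⁻¹ := by
  have h1 : w ∈ Subgroup.normalizer (V : Set Ω) := by
    have := W_le_T c hw
    rw [← c.nor] at this
    exact this.2
  obtain ⟨α, hα⟩ := exists_conjAut h1
  exact ⟨⟨α, c.A_le ((mem_autInducedBy_iff _ _ _).2 ⟨w, hw, hα⟩)⟩, hα⟩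

theorem card_rel [Finite S] (c : Conf F K V T x) :
    Fintype.card K * Nat.card ↥(V ⊓ cj x V) = Nat.card V := by
  have h1 := card_autInducedBy_mul (cj x V) V
  rw [c.A_card] at h1
  have h2 : centralizerIn (cj x V) V = V ⊓ cj x V := by
    ext g
    constructor
    · rintro ⟨hg, hg'⟩
      exact ⟨cenV c (T_le c (W_le_T c hg)) fun v hv => (Subgroup.mem_centralizer_iff.1 hg' v hv).symm, hg⟩
    · rintro ⟨hg, hg'⟩
      exact ⟨hg', Subgroup.mem_centralizer_iff.2 fun v hv => commV c hv hg⟩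
  have h3 : normalizerIn (cj x V) V = cj x V := by
    refine le_antisymm inf_le_left fun g hg => ⟨hg, ?_⟩
    have := W_le_T c hg
    rw [← c.nor] at this
    exact this.2
  rw [h2, h3, card_cj] at h1
  exact h1

/-- **Coordinates exist.** -/
theorem exists_crd [Finite S] (c : Conf F K V T x) :
    ∃ mu lam zet : Ω → K, Crd K V (cj x V) (fixS V c.E) mu lam zet := by
  classical
  -- characteristic 2
  have h2 : (2 : K) = 0 := by
    have h3 := Nat.cast_card_eq_zero K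
    rw [c.hK] at h3
    push_cast at h3
    exact pow_eq_zero_iff (by have := c.hn; omega) |>.1 h3
  have hq : 2 ≤ Fintype.card K := by
    rw [c.hK]
    calc 2 = 2 ^ 1 := rfl
      _ ≤ 2 ^ c.n := Nat.pow_le_pow_right (by norm_num) c.hn
  have add_self : ∀ a : K, a + a = 0 := fun a => by rw [← two_mul, h2, zero_mul]
  have neg_eq : ∀ a : K, -a = a := fun a => neg_eq_of_add_eq_zero_left (add_self a)
  set W := cj x V with hW
  have hfV : Finite V := finite_of_le c.V_le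
  -- the action of `W`
  choose! act hact using fun (w : Ω) (hw : w ∈ W) => exists_act c hw
  set R : Ω → Matrix (Fin 2) (Fin 2) K := fun w => ((c.ρ (act w) : Matrix.SpecialLinearGroup (Fin 2) K) :
    Matrix (Fin 2) (Fin 2) K) with hR
  set ps : V → (Fin 2 → K) := fun v => Multiplicative.toAdd (c.ψ v) with hps
  have ps_mul : ∀ v v' : V, ps (v * v') = ps v + ps v' := fun v v' => by
    rw [hps]
    simp only [map_mul, toAdd_mul]
  have ps_surj : ∀ u, ∃ v, ps v = u := fun u => by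
    obtain ⟨v, hv⟩ := c.ψ_surj (Multiplicative.ofAdd u)
    exact ⟨v, by rw [hps]; simp only [hv, toAdd_ofAdd]⟩
  have ps_act : ∀ w ∈ W, ∀ v v' : V, (v' : Ω) = w * v * w⁻¹ → ps v' = (R w).mulVec (ps v) := by
    intro w hw v v' hv'
    have h3 := c.ψ_eq (act w) v
    have h4 : ((act w : c.E) : MulAut V) v = v' := Subtype.ext (by rw [hact w hw, hv'])
    rw [h4] at h3
    exact h3
  have act_mul : ∀ w ∈ W, ∀ w' ∈ W, act (w * w') = act w * act w' := by
    intro w hw w' hw'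
    apply Subtype.ext
    apply MulEquiv.ext
    intro v
    apply Subtype.ext
    rw [hact _ (W.mul_mem hw hw'), Subgroup.coe_mul, MulAut.mul_apply, hact _ hw, hact _ hw']
    group
  have R_mul : ∀ w ∈ W, ∀ w' ∈ W, R (w * w') = R w * R w' := by
    intro w hw w' hw'
    simp only [hR]
    rw [act_mul w hw w' hw', map_mul, Matrix.SpecialLinearGroup.coe_mul]
  have act_one : ∀ w ∈ W, (w ∈ V ↔ act w = 1) := by
    intro w hw
    constructor
    · intro hwV
      apply Subtype.ext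
      apply MulEquiv.ext
      intro v
      apply Subtype.ext
      rw [hact _ hw, commV c hwV v.2, mul_inv_cancel_right]
      rfl
    · intro h3
      apply cenV c (T_le c (W_le_T c hw))
      intro v hv
      have h4 := hact w hw ⟨v, hv⟩
      rw [h3] at h4
      have h5 : v = w * v * w⁻¹ := h4
      nth_rewrite 2 [h5]
      group
  have R_one : ∀ w ∈ W, (w ∈ V ↔ R w = 1) := by
    intro w hw
    rw [act_one w hw]
    constructor
    · intro h3
      simp only [hR]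
      rw [h3, map_one, Matrix.SpecialLinearGroup.coe_one]
    · intro h3
      have h4 : c.ρ (act w) = 1 := Subtype.ext h3
      exact (map_eq_one_iff c.ρ c.ρ.injective).1 h4
  have R_det : ∀ w, R w 0 0 * R w 1 1 - R w 0 1 * R w 1 0 = 1 := by
    intro w
    have h3 := (c.ρ (act w)).2
    rw [Matrix.det_fin_two] at h3
    exact h3
  have R_comm : ∀ w ∈ W, ∀ w' ∈ W, R w * R w' = R w' * R w := by
    intro w hw w' hw'
    rw [← R_mul w hw w' hw', commW c hw hw', R_mul w' hw' w hw]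
  have R_sq : ∀ w ∈ W, R w * R w = 1 := by
    intro w hw
    rw [← R_mul w hw w hw, elW c hw]
    exact (R_one 1 W.one_mem).1 V.one_mem
  -- an element of `W` outside `V`
  obtain ⟨w₀, hw₀, hw₀V⟩ : ∃ w ∈ W, w ∉ V := by
    by_contra hno
    push Not at hno
    have h3 : V ⊓ W = W := inf_eq_right.2 hno
    have h4 := card_rel c
    rw [h3, hW, card_cj] at h4
    have h5 : 0 < Nat.card V := Nat.card_pos
    nlinarith
  set M := R w₀ with hM
  have hMM : M * M = 1 := R_sq w₀ hw₀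
  -- a basis
  obtain ⟨e2, he2⟩ : ∃ u : Fin 2 → K, M.mulVec u ≠ u := by
    by_contra hno
    push Not at hno
    apply hw₀V
    rw [R_one w₀ hw₀]
    apply Matrix.ext_of_mulVec_single
    intro i
    rw [hno, Matrix.one_mulVec]
  obtain ⟨e1, he1⟩ : ∃ e1 : Fin 2 → K, e1 = M.mulVec e2 + e2 := ⟨_, rfl⟩
  have vadd : ∀ u : Fin 2 → K, u + u = 0 := fun u => funext fun i => add_self (u i)
  have Me2 : M.mulVec e2 = e1 + e2 := by rw [he1, add_assoc, vadd, add_zero]
  have Me1 : M.mulVec e1 = e1 := by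
    rw [he1, Matrix.mulVec_add, Matrix.mulVec_mulVec, hMM, Matrix.one_mulVec, add_comm]
  have e1_ne : e1 ≠ 0 := by
    intro h3
    apply he2
    rw [Me2, h3, zero_add]
  obtain ⟨f, hf⟩ : ∃ f : (Fin 2 → K) → K, ∀ u, f u = e1 0 * u 1 - e1 1 * u 0 := ⟨_, fun u => rfl⟩
  obtain ⟨g, hg⟩ : ∃ g : (Fin 2 → K) → K, ∀ u, g u = u 0 * e2 1 - u 1 * e2 0 := ⟨_, fun u => rfl⟩
  obtain ⟨Δ, hΔ⟩ : ∃ Δ : K, Δ = e1 0 * e2 1 - e1 1 * e2 0 := ⟨_, rfl⟩
  have hΔ0 : Δ ≠ 0 := by
    intro h3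
    have key : ∀ k : K, e2 = k • e1 → False := by
      intro k hk
      apply he2
      nth_rewrite 1 [hk]
      rw [Matrix.mulVec_smul, Me1, ← hk]
    by_cases h0 : e1 0 = 0
    · have h1 : e1 1 ≠ 0 := by
        intro h1
        apply e1_ne
        ext i
        fin_cases i
        · exact h0
        · exact h1
      apply key (e2 1 / e1 1)
      ext i
      fin_cases i
      · show e2 0 = e2 1 / e1 1 * e1 0
        rw [h3, h0] at hΔ
        have h4 : e1 1 * e2 0 = 0 := by linear_combination hΔ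
        rcases mul_eq_zero.1 h4 with h5 | h5
        · exact absurd h5 h1
        · rw [h5, h0, mul_zero]
      · show e2 1 = e2 1 / e1 1 * e1 1
        rw [div_mul_cancel₀ _ h1]
    · apply key (e2 0 / e1 0)
      ext i
      fin_cases i
      · show e2 0 = e2 0 / e1 0 * e1 0
        rw [div_mul_cancel₀ _ h0]
      · show e2 1 = e2 0 / e1 0 * e1 1
        field_simp
        rw [h3] at hΔ
        linear_combination -hΔ
  have cramer : ∀ u : Fin 2 → K, u = (g u / Δ) • e1 + (f u / Δ) • e2 := by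
    intro u
    ext i
    have h3 : Δ * u i = g u * e1 i + f u * e2 i := by
      rw [hg, hf, hΔ]
      fin_cases i
      · show (e1 0 * e2 1 - e1 1 * e2 0) * u 0 = (u 0 * e2 1 - u 1 * e2 0) * e1 0 + (e1 0 * u 1 - e1 1 * u 0) * e2 0
        ring
      · show (e1 0 * e2 1 - e1 1 * e2 0) * u 1 = (u 0 * e2 1 - u 1 * e2 0) * e1 1 + (e1 0 * u 1 - e1 1 * u 0) * e2 1
        ring
    show u i = g u / Δ * e1 i + f u / Δ * e2 i
    field_simp
    linear_combination h3
  have f_add : ∀ u u', f (u + u') = f u + f u' := by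
    intro u u'
    rw [hf, hf, hf, Pi.add_apply, Pi.add_apply]
    ring
  have g_add : ∀ u u', g (u + u') = g u + g u' := by
    intro u u'
    rw [hg, hg, hg, Pi.add_apply, Pi.add_apply]
    ring
  have f_smul : ∀ (k : K) u, f (k • u) = k * f u := by
    intro k u
    rw [hf, hf, Pi.smul_apply, Pi.smul_apply, smul_eq_mul, smul_eq_mul]
    ring
  have g_smul : ∀ (k : K) u, g (k • u) = k * g u := by
    intro k u
    rw [hg, hg, Pi.smul_apply, Pi.smul_apply, smul_eq_mul, smul_eq_mul]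
    ring
  have f1 : f e1 = 0 := by rw [hf]; ring
  have f2 : f e2 = Δ := by rw [hf, hΔ]
  have g1 : g e1 = Δ := by rw [hg, hΔ]
  have g2 : g e2 = 0 := by rw [hg]; ring
  -- the action of `W` in this basis
  have Re : ∀ w ∈ W, (R w).mulVec e1 = e1 ∧ (R w).mulVec e2 = (g ((R w).mulVec e2) / Δ) • e1 + e2 := by
    intro w hw
    obtain ⟨b, hb⟩ : ∃ b, b = f ((R w).mulVec e2) / Δ := ⟨_, rfl⟩
    have h3 := cramer ((R w).mulVec e2)
    rw [← hb] at h3
    set l := g ((R w).mulVec e2) / Δ with hl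
    have h4 : (R w).mulVec e1 = b • e1 := by
      have h5 : (R w).mulVec (M.mulVec e2) = M.mulVec ((R w).mulVec e2) := by
        rw [Matrix.mulVec_mulVec, Matrix.mulVec_mulVec, R_comm w hw w₀ hw₀]
      rw [he1, Matrix.mulVec_add, h5]
      nth_rewrite 1 [h3]
      rw [Matrix.mulVec_add, Matrix.mulVec_smul, Matrix.mulVec_smul, Me1, Me2]
      rw [h3, ← Me2, ← he1]
      have : l • e1 + b • (e1 + e2) + (l • e1 + b • e2) = b • e1 + (l • e1 + l • e1) + (b • e2 + b • e2) := by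
        rw [smul_add]; abel
      rw [Me2, this, vadd, vadd, add_zero, add_zero]
    have h5 : b * b = 1 := by
      have e10 := congrFun h4 0
      have e11 := congrFun h4 1
      have e20 := congrFun h3 0
      have e21 := congrFun h3 1
      have mv : ∀ (A : Matrix (Fin 2) (Fin 2) K) (u : Fin 2 → K) (i : Fin 2),
          A.mulVec u i = A i 0 * u 0 + A i 1 * u 1 := by
        intro A u i
        simp [Matrix.mulVec, dotProduct, Fin.sum_univ_two]
      rw [mv] at e10 e11 e20 e21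
      simp only [Pi.add_apply, Pi.smul_apply, smul_eq_mul] at e10 e11 e20 e21
      have hd := R_det w
      have h6 : b * b * Δ = 1 * Δ := by
        rw [hΔ]
        generalize R w 0 0 = r00 at *
        generalize R w 0 1 = r01 at *
        generalize R w 1 0 = r10 at *
        generalize R w 1 1 = r11 at *
        linear_combination (-(r10 * e2 0 + r11 * e2 1)) * e10 + (r00 * e2 0 + r01 * e2 1) * e11 +
          (b * e1 1) * e20 - (b * e1 0) * e21 + (e1 0 * e2 1 - e1 1 * e2 0) * hd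
      exact mul_right_cancel₀ hΔ0 h6
    have h6 : b = 1 := by
      have h7 : (b - 1) * (b - 1) = 0 := by linear_combination h5 - (b - 1) * h2
      have h8 := mul_self_eq_zero.1 h7
      linear_combination h8
    rw [h6, one_smul] at h3 h4
    exact ⟨h4, h3⟩
  -- the coordinates
  obtain ⟨lam, hlam⟩ : ∃ lam : Ω → K, ∀ w, lam w = g ((R w).mulVec e2) / Δ := ⟨_, fun w => rfl⟩
  obtain ⟨mu, hmu⟩ : ∃ mu : Ω → K, ∀ v (hv : v ∈ V), mu v = f (ps ⟨v, hv⟩) / Δ :=
    ⟨fun v => if hv : v ∈ V then f (ps ⟨v, hv⟩) / Δ else 0, fun v hv => dif_pos hv⟩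
  obtain ⟨zet, hzet⟩ : ∃ zet : Ω → K, ∀ v (hv : v ∈ V), zet v = g (ps ⟨v, hv⟩) / Δ :=
    ⟨fun v => if hv : v ∈ V then g (ps ⟨v, hv⟩) / Δ else 0, fun v hv => dif_pos hv⟩
  have Re2 : ∀ w ∈ W, (R w).mulVec e2 = lam w • e1 + e2 := fun w hw => by rw [hlam]; exact (Re w hw).2
  have Re1 : ∀ w ∈ W, (R w).mulVec e1 = e1 := fun w hw => (Re w hw).1
  have hpsv : ∀ v (hv : v ∈ V), ps ⟨v, hv⟩ = zet v • e1 + mu v • e2 := fun v hv => by
    rw [hzet v hv, hmu v hv]; exact cramer _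
  have Rps : ∀ w ∈ W, ∀ v (hv : v ∈ V), (R w).mulVec (ps ⟨v, hv⟩) = (zet v + mu v * lam w) • e1 + mu v • e2 := by
    intro w hw v hv
    rw [hpsv v hv, Matrix.mulVec_add, Matrix.mulVec_smul, Matrix.mulVec_smul, Re1 w hw, Re2 w hw, smul_add, smul_smul,
      add_smul]
    abel
  have coord : ∀ a b : K, f (a • e1 + b • e2) = b * Δ ∧ g (a • e1 + b • e2) = a * Δ := by
    intro a b
    rw [f_add, f_smul, f_smul, f1, f2, g_add, g_smul, g_smul, g1, g2]
    constructor <;> ring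
  have mu_mul : ∀ v ∈ V, ∀ v' ∈ V, mu (v * v') = mu v + mu v' := by
    intro v hv v' hv'
    have h3 : ps ⟨v * v', V.mul_mem hv hv'⟩ = ps ⟨v, hv⟩ + ps ⟨v', hv'⟩ := ps_mul ⟨v, hv⟩ ⟨v', hv'⟩
    rw [hmu _ (V.mul_mem hv hv'), h3, f_add, add_div, ← hmu, ← hmu]
  have zet_mul : ∀ v ∈ V, ∀ v' ∈ V, zet (v * v') = zet v + zet v' := by
    intro v hv v' hv'
    have h3 : ps ⟨v * v', V.mul_mem hv hv'⟩ = ps ⟨v, hv⟩ + ps ⟨v', hv'⟩ := ps_mul ⟨v, hv⟩ ⟨v', hv'⟩
    rw [hzet _ (V.mul_mem hv hv'), h3, g_add, add_div, ← hzet, ← hzet]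
  have inv_V : ∀ v ∈ V, v⁻¹ = v := fun v hv => inv_eq_of_mul_eq_one_left (elV c hv)
  have inv_W : ∀ v ∈ W, v⁻¹ = v := fun v hv => inv_eq_of_mul_eq_one_left (elW c hv)
  -- the basic formula
  have key : ∀ v ∈ V, ∀ w ∈ W, w * v * w⁻¹ ∈ V ∧ zet (w * v * w⁻¹) = zet v + mu v * lam w ∧ mu (w * v * w⁻¹) = mu v := by
    intro v hv w hw
    have h3 : w * v * w⁻¹ ∈ V := T_normV c (W_le_T c hw) hv
    have h4 := ps_act w hw ⟨v, hv⟩ ⟨_, h3⟩ rfl
    rw [Rps w hw v hv] at h4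
    refine ⟨h3, ?_, ?_⟩
    · rw [hzet _ h3, h4, (coord _ _).2, mul_div_assoc, div_self hΔ0, mul_one]
    · rw [hmu _ h3, h4, (coord _ _).1, mul_div_assoc, div_self hΔ0, mul_one]
  have commut : ∀ v ∈ V, ∀ w ∈ W, v * w * v⁻¹ * w⁻¹ ∈ V ∧ v * w * v⁻¹ * w⁻¹ ∈ W := by
    intro v hv w hw
    have e : v * w * v⁻¹ * w⁻¹ = v * (w * v⁻¹ * w⁻¹) := by group
    refine ⟨?_, W.mul_mem (T_normW c (V_le_T c hv) hw) (W.inv_mem hw)⟩
    rw [e]
    exact V.mul_mem hv (T_normV c (W_le_T c hw) (V.inv_mem hv))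
  -- lam
  have lam_mul : ∀ w ∈ W, ∀ w' ∈ W, lam (w * w') = lam w + lam w' := by
    intro w hw w' hw'
    rw [hlam (w * w'), R_mul w hw w' hw', ← Matrix.mulVec_mulVec, Re2 w' hw', Matrix.mulVec_add, Matrix.mulVec_smul,
      Re1 w hw, Re2 w hw]
    have : lam w' • e1 + (lam w • e1 + e2) = (lam w + lam w') • e1 + (1 : K) • e2 := by
      rw [add_smul, one_smul]; abel
    rw [this, (coord _ _).2, mul_div_assoc, div_self hΔ0, mul_one]
  have lam_zero : ∀ w ∈ W, (lam w = 0 ↔ w ∈ V) := by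
    intro w hw
    rw [R_one w hw]
    constructor
    · intro h3
      apply Matrix.ext_of_mulVec_single
      intro i
      rw [Matrix.one_mulVec, cramer (Pi.single i 1), Matrix.mulVec_add, Matrix.mulVec_smul, Matrix.mulVec_smul,
        Re1 w hw, Re2 w hw, h3, zero_smul, zero_add]
    · intro h3
      rw [hlam, h3, Matrix.one_mulVec, g2, zero_div]
  -- counting
  have hKc : Nat.card (Multiplicative K) = Fintype.card K := by
    rw [Nat.card_congr Multiplicative.toAdd, Nat.card_eq_fintype_card]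
  have hWc : Nat.card W = Nat.card V := card_cj x V
  have hcard := card_rel c
  have hfW : Finite W := finite_of_le ((W_le_T c).trans (T_le c))
  have mu_zero : ∀ v ∈ V, (mu v = 0 ↔ v ∈ W) := by
    let μ : V →* Multiplicative K :=
      { toFun := fun v => Multiplicative.ofAdd (mu v)
        map_one' := by
          have h3 := mu_mul 1 V.one_mem 1 V.one_mem
          rw [mul_one] at h3
          have h4 : mu 1 = 0 := by linear_combination -h3
          show Multiplicative.ofAdd (mu 1) = 1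
          rw [h4]; rfl
        map_mul' := fun v v' => by
          show Multiplicative.ofAdd (mu (v * v')) = _
          rw [mu_mul v v.2 v' v'.2]; rfl }
    have hμ : Function.Surjective μ := by
      intro k
      obtain ⟨v, hv⟩ := ps_surj (Multiplicative.toAdd k • e2)
      refine ⟨v, ?_⟩
      show Multiplicative.ofAdd (mu v) = k
      rw [hmu v v.2]
      have h3 : ps ⟨(v : Ω), v.2⟩ = (0 : K) • e1 + Multiplicative.toAdd k • e2 := by rw [zero_smul, zero_add]; exact hv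
      rw [h3, (coord _ _).1, mul_div_assoc, div_self hΔ0, mul_one]
      rfl
    have h3 : Nat.card μ.ker * Fintype.card K = Nat.card V := by
      have h4 := Subgroup.card_mul_index μ.ker
      rw [Subgroup.index_ker, MonoidHom.range_eq_top.2 hμ, Subgroup.card_top, hKc] at h4
      exact h4
    have hle : W.subgroupOf V ≤ μ.ker := by
      intro v hv
      have hv' : (v : Ω) ∈ W := hv
      show Multiplicative.ofAdd (mu v) = 1
      have h4 : w₀ * v * w₀⁻¹ = v := by rw [commW c hw₀ hv', mul_inv_cancel_right]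
      have h5 := ps_act w₀ hw₀ v v h4.symm
      have h6 := Rps w₀ hw₀ v v.2
      have h7 : ps v = (zet v + mu v * lam w₀) • e1 + mu v • e2 := h5.trans h6
      have h8 : ps v = zet v • e1 + mu v • e2 := hpsv v v.2
      have h9 := congrArg g (h7.symm.trans h8)
      rw [(coord _ _).2, (coord _ _).2] at h9
      have h10 := mul_right_cancel₀ hΔ0 h9
      have h11 : mu v * lam w₀ = 0 := by linear_combination h10
      have h12 : lam w₀ ≠ 0 := fun h => hw₀V ((lam_zero w₀ hw₀).1 h)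
      rw [(mul_eq_zero.1 h11).resolve_right h12]
      rfl
    have h4 : Nat.card ↥(W.subgroupOf V) = Nat.card ↥(V ⊓ W) := by
      have e : W.subgroupOf V = (V ⊓ W).subgroupOf V := by
        ext v
        rw [Subgroup.mem_subgroupOf, Subgroup.mem_subgroupOf, Subgroup.mem_inf]
        exact ⟨fun h => ⟨v.2, h⟩, fun h => h.2⟩
      rw [e]
      exact Nat.card_congr (Subgroup.subgroupOfEquivOfLe inf_le_left).toEquiv
    have h5 : W.subgroupOf V = μ.ker := by
      apply Subgroup.eq_of_le_of_card_ge hle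
      have h6 : Nat.card μ.ker * Fintype.card K = Nat.card ↥(V ⊓ W) * Fintype.card K := by
        rw [h3, ← hcard, mul_comm]
      rw [h4]
      exact (Nat.eq_of_mul_eq_mul_right (by omega) h6).le
    intro v hv
    have h6 : (⟨v, hv⟩ : V) ∈ W.subgroupOf V ↔ (⟨v, hv⟩ : V) ∈ μ.ker := by rw [h5]
    rw [Subgroup.mem_subgroupOf, MonoidHom.mem_ker] at h6
    constructor
    · intro h7
      apply h6.2
      show Multiplicative.ofAdd (mu v) = 1
      rw [h7]; rfl
    · intro h7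
      have h8 : Multiplicative.ofAdd (mu v) = 1 := h6.1 h7
      exact ofAdd_eq_one.1 h8
  have lam_surj : ∀ k, ∃ w ∈ W, lam w = k := by
    let μ : W →* Multiplicative K :=
      { toFun := fun v => Multiplicative.ofAdd (lam v)
        map_one' := by
          have h3 := lam_mul 1 W.one_mem 1 W.one_mem
          rw [mul_one] at h3
          have h4 : lam 1 = 0 := by linear_combination -h3
          show Multiplicative.ofAdd (lam 1) = 1
          rw [h4]; rfl
        map_mul' := fun v v' => by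
          show Multiplicative.ofAdd (lam (v * v')) = _
          rw [lam_mul v v.2 v' v'.2]; rfl }
    have h3 : μ.ker = V.subgroupOf W := by
      ext v
      rw [Subgroup.mem_subgroupOf, MonoidHom.mem_ker, ← lam_zero v v.2]
      exact ofAdd_eq_one
    have h4 : Nat.card μ.ker = Nat.card ↥(V ⊓ W) := by
      have e : V.subgroupOf W = (V ⊓ W).subgroupOf W := by
        ext v
        rw [Subgroup.mem_subgroupOf, Subgroup.mem_subgroupOf, Subgroup.mem_inf]
        exact ⟨fun h => ⟨h, v.2⟩, fun h => h.1⟩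
      rw [h3, e]
      exact Nat.card_congr (Subgroup.subgroupOfEquivOfLe inf_le_right).toEquiv
    have h5 := Subgroup.card_mul_index μ.ker
    rw [Subgroup.index_ker, h4, hWc, ← hcard, mul_comm] at h5
    have hpos : 0 < Nat.card ↥(V ⊓ cj x V) := by
      have : Finite ↥(V ⊓ cj x V) := finite_of_le (inf_le_left.trans c.V_le)
      exact Nat.card_pos
    have h6 := Nat.eq_of_mul_eq_mul_right hpos h5
    have h7 : μ.range = ⊤ := by
      apply Subgroup.eq_top_of_card_eq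
      rw [h6, hKc]
    intro k
    obtain ⟨w, hw⟩ : Multiplicative.ofAdd k ∈ μ.range := by rw [h7]; exact Subgroup.mem_top _
    exact ⟨w, w.2, Multiplicative.ofAdd.injective hw⟩
  have ps_fix : ∀ v (hv : v ∈ V), ps ⟨v, hv⟩ = 0 ↔ v ∈ fixS V c.E := by
    intro v hv
    rw [← c.ψ_ker ⟨v, hv⟩]
    exact toAdd_eq_zero
  have hpsz : ∀ v (hv : v ∈ V), v ∈ W → (ps ⟨v, hv⟩ = 0 ↔ zet v = 0) := by
    intro v hv hvW
    rw [hpsv v hv, (mu_zero v hv).2 hvW, zero_smul, add_zero]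
    constructor
    · intro h3
      exact (smul_eq_zero.1 h3).resolve_right e1_ne
    · intro h3
      rw [h3, zero_smul]
  refine ⟨mu, lam, zet, ⟨h2, fun v hv => elV c hv, fun w hw => elW c hw, fun v hv w hw => commut v hv w hw, mu_mul,
    mu_zero, ?_, lam_mul, lam_zero, lam_surj, fun z hz z' hz' => zet_mul z hz.1 z' hz'.1, ?_, ?_, ?_, ?_⟩⟩
  · intro k
    obtain ⟨v, hv⟩ := ps_surj (k • e2)
    refine ⟨v, v.2, ?_⟩
    rw [hmu v v.2]
    have h3 : ps ⟨(v : Ω), v.2⟩ = (0 : K) • e1 + k • e2 := by rw [zero_smul, zero_add]; exact hv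
    rw [h3, (coord _ _).1, mul_div_assoc, div_self hΔ0, mul_one]
  · intro z hz
    rw [← ps_fix z hz.1, hpsz z hz.1 hz.2]
  · intro k
    obtain ⟨v, hv⟩ := ps_surj (k • e1)
    have h3 : ps ⟨(v : Ω), v.2⟩ = k • e1 + (0 : K) • e2 := by rw [zero_smul, add_zero]; exact hv
    have h4 : mu v = 0 := by rw [hmu v v.2, h3, (coord _ _).1, zero_mul, zero_div]
    refine ⟨v, ⟨v.2, (mu_zero v v.2).1 h4⟩, ?_⟩
    rw [hzet v v.2, h3, (coord _ _).2, mul_div_assoc, div_self hΔ0, mul_one]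
  · intro v hv w hw
    have e : v * w * v⁻¹ * w⁻¹ = v * (w * v * w⁻¹) := by rw [inv_V v hv]; group
    obtain ⟨h3, h4, -⟩ := key v hv w hw
    rw [e, zet_mul v hv _ h3, h4]
    linear_combination add_self (zet v)
  · intro d hd
    obtain ⟨v, hv, rfl⟩ := id hd
    have h3 : ps v = 0 := (ps_fix v v.2).2 hd
    refine ⟨v.2, (mu_zero v v.2).1 ?_⟩
    show mu v = 0
    rw [hmu v v.2]
    have h4 : ps ⟨(v : Ω), v.2⟩ = 0 := h3
    rw [h4, hf, Pi.zero_apply, Pi.zero_apply, mul_zero, mul_zero, sub_zero, zero_div]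

end Conf

end Cfsg.Agent.H456.HM
end

-- part: H456/HM/Calc
section
set_option linter.all false
open scoped Cfsg.Agent.FastGrp

/-!
# S5175: the calculus in `T = V V^x` (helper456)
-/

set_option autoImplicit false

namespace Cfsg.Agent.H456.HM

open Cfsg Cfsg.FusionSystem Cfsg.Agent.H756.HM Cfsg.Agent.H802

variable {Ω : Type*} [Group Ω] {K : Type} [Field K] {V W D : Subgroup Ω} {mu lam zet : Ω → K}

namespace Crd

variable (h : Crd K V W D mu lam zet)

include h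

theorem add_self (a : K) : a + a = 0 := by rw [← two_mul, h.two, zero_mul]

theorem neg_eq (a : K) : -a = a := neg_eq_of_add_eq_zero_left (h.add_self a)

theorem eq_of_add {a b : K} (hab : a + b = 0) : a = b := by
  rw [← h.neg_eq b]
  exact eq_neg_of_add_eq_zero_left hab

theorem invV {v : Ω} (hv : v ∈ V) : v⁻¹ = v := inv_eq_of_mul_eq_one_left (h.elV v hv)

theorem invW {v : Ω} (hv : v ∈ W) : v⁻¹ = v := inv_eq_of_mul_eq_one_left (h.elW v hv)

theorem commV {v w : Ω} (hv : v ∈ V) (hw : w ∈ V) : v * w = w * v :=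
  comm_of_sq (h.elV v hv) (h.elV w hw) (h.elV _ (V.mul_mem hv hw))

theorem commW {v w : Ω} (hv : v ∈ W) (hw : w ∈ W) : v * w = w * v :=
  comm_of_sq (h.elW v hv) (h.elW w hw) (h.elW _ (W.mul_mem hv hw))

/-- the swapped coordinates (without the third) -/
theorem conjV {v w : Ω} (hv : v ∈ V) (hw : w ∈ W) : w * v * w⁻¹ ∈ V := by
  have h1 := (h.com v hv w hw).1
  have h2 : w * v * w⁻¹ = (v * w * v⁻¹ * w⁻¹)⁻¹ * v := by group
  rw [h2]
  exact V.mul_mem (V.inv_mem h1) hv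

/-- the elements of `T` -/
theorem mem_sup {t : Ω} : t ∈ V ⊔ W ↔ ∃ v ∈ V, ∃ w ∈ W, t = v * w := by
  constructor
  · intro ht
    let H : Subgroup Ω :=
      { carrier := {t | ∃ v ∈ V, ∃ w ∈ W, t = v * w}
        one_mem' := ⟨1, V.one_mem, 1, W.one_mem, by rw [mul_one]⟩
        mul_mem' := by
          rintro _ _ ⟨v, hv, w, hw, rfl⟩ ⟨v', hv', w', hw', rfl⟩
          exact ⟨v * (w * v' * w⁻¹), V.mul_mem hv (h.conjV hv' hw), w * w', W.mul_mem hw hw', by group⟩
        inv_mem' := by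
          rintro _ ⟨v, hv, w, hw, rfl⟩
          refine ⟨w⁻¹ * v⁻¹ * w⁻¹⁻¹, h.conjV (V.inv_mem hv) (W.inv_mem hw), w⁻¹, W.inv_mem hw, by group⟩ }
    have hV : V ≤ H := fun v hv => ⟨v, hv, 1, W.one_mem, by rw [mul_one]⟩
    have hW : W ≤ H := fun w hw => ⟨1, V.one_mem, w, hw, by rw [one_mul]⟩
    exact sup_le hV hW ht
  · rintro ⟨v, hv, w, hw, rfl⟩
    exact (V ⊔ W).mul_mem ((le_sup_left : V ≤ V ⊔ W) hv) ((le_sup_right : W ≤ V ⊔ W) hw)

/-- `Z ≤ Z(T)` -/
theorem cenZ {z t : Ω} (hz : z ∈ V ⊓ W) (ht : t ∈ V ⊔ W) : t * z = z * t := by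
  obtain ⟨v, hv, w, hw, rfl⟩ := h.mem_sup.1 ht
  rw [mul_assoc, h.commW hw hz.2, ← mul_assoc, h.commV hv hz.1, mul_assoc]

/-- commuting elements of `V` and `W` -/
theorem comm_one {v w : Ω} (hv : v ∈ V) (hw : w ∈ W) (hc : v * w = w * v) : v ∈ W ∨ w ∈ V := by
  have h1 := h.zet_com v hv w hw
  have h2 : v * w * v⁻¹ * w⁻¹ = 1 := by rw [hc]; group
  have h3 : zet 1 = 0 := by
    have h4 := h.zet_mul 1 (V ⊓ W).one_mem 1 (V ⊓ W).one_mem
    rw [mul_one] at h4
    linear_combination -h4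
  rw [h2, h3] at h1
  rcases mul_eq_zero.1 h1.symm with h5 | h5
  · exact Or.inl ((h.mu_zero v hv).1 h5)
  · exact Or.inr ((h.lam_zero w hw).1 h5)

theorem sq_eq {v w : Ω} (hv : v ∈ V) (hw : w ∈ W) : v * w * (v * w) = v * w * v⁻¹ * w⁻¹ := by
  rw [h.invV hv, h.invW hw]
  group

/-- squares are in `Z` -/
theorem sq_mem {t : Ω} (ht : t ∈ V ⊔ W) : t * t ∈ V ⊓ W := by
  obtain ⟨v, hv, w, hw, rfl⟩ := h.mem_sup.1 ht
  rw [h.sq_eq hv hw]
  exact h.com v hv w hw

/-- the involutions of `T` -/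
theorem inv_mem {t : Ω} (ht : t ∈ V ⊔ W) (h1 : t * t = 1) : t ∈ V ∨ t ∈ W := by
  obtain ⟨v, hv, w, hw, rfl⟩ := h.mem_sup.1 ht
  rw [h.sq_eq hv hw] at h1
  have h2 : v * w = w * v := by
    have : v * w = (v * w * v⁻¹ * w⁻¹) * (w * v) := by group
    rw [this, h1, one_mul]
  rcases h.comm_one hv hw h2 with h3 | h3
  · exact Or.inr (W.mul_mem h3 hw)
  · exact Or.inl (V.mul_mem hv h3)

/-- commutators are in `Z` -/
theorem comm_mem {t s : Ω} (ht : t ∈ V ⊔ W) (hs : s ∈ V ⊔ W) : t * s * t⁻¹ * s⁻¹ ∈ V ⊓ W := by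
  have h1 := h.sq_mem ht
  have h2 := h.sq_mem hs
  have h3 := h.sq_mem ((V ⊔ W).mul_mem ht hs)
  -- `[t, s] = (ts)² ... `
  have e : t * s * t⁻¹ * s⁻¹ = (t * s * (t * s)) * (s⁻¹ * (t * t)⁻¹ * s) * (s * s)⁻¹ := by group
  rw [e]
  refine (V ⊓ W).mul_mem ((V ⊓ W).mul_mem h3 ?_) ((V ⊓ W).inv_mem h2)
  have h4 := h.cenZ ((V ⊓ W).inv_mem h1) ((V ⊔ W).inv_mem hs)
  rw [h4, inv_mul_cancel_right]
  exact (V ⊓ W).inv_mem h1

/-- subgroups of exponent 2 -/
theorem el_le {H : Subgroup Ω} (hH : H ≤ V ⊔ W) (h1 : ∀ a ∈ H, a * a = 1) : H ≤ V ∨ H ≤ W := by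
  by_contra hno
  rw [not_or] at hno
  obtain ⟨a, ha, haV⟩ := SetLike.not_le_iff_exists.1 hno.1
  obtain ⟨b, hb, hbW⟩ := SetLike.not_le_iff_exists.1 hno.2
  have ha' := (h.inv_mem (hH ha) (h1 a ha)).resolve_left haV
  have hb' := (h.inv_mem (hH hb) (h1 b hb)).resolve_right hbW
  have h2 : b * a = a * b := comm_of_sq (h1 b hb) (h1 a ha) (h1 _ (H.mul_mem hb ha))
  rcases h.comm_one hb' ha' h2 with h3 | h3
  · exact hbW h3
  · exact haV h3

theorem cent_V {t v : Ω} (ht : t ∈ V ⊔ W) (hv : v ∈ V) (hvW : v ∉ W) (hc : t * v = v * t) : t ∈ V := by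
  obtain ⟨u, hu, w, hw, rfl⟩ := h.mem_sup.1 ht
  have h1 : v * w = w * v := by
    have h2 : u * (w * v) = u * (v * w) := by
      rw [← mul_assoc, hc, ← mul_assoc, ← mul_assoc, h.commV hv hu]
    exact (mul_left_cancel h2).symm
  exact V.mul_mem hu ((h.comm_one hv hw h1).resolve_left hvW)

theorem cent_W {t w : Ω} (ht : t ∈ V ⊔ W) (hw : w ∈ W) (hwV : w ∉ V) (hc : t * w = w * t) : t ∈ W := by
  obtain ⟨u, hu, w', hw', rfl⟩ := h.mem_sup.1 ht
  have h1 : u * w = w * u := by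
    have h2 : u * w * w' = w * u * w' := by
      rw [mul_assoc, h.commW hw hw', ← mul_assoc, hc, mul_assoc]
    exact mul_right_cancel h2
  exact W.mul_mem ((h.comm_one hu hw h1).resolve_right hwV) hw'

/-- the index of `Z` -/
theorem card_V [Fintype K] [Finite V] : Fintype.card K * Nat.card ↥(V ⊓ W) = Nat.card V := by
  let μ : V →* Multiplicative K :=
    { toFun := fun v => Multiplicative.ofAdd (mu v)
      map_one' := by
        have h3 := h.mu_mul 1 V.one_mem 1 V.one_mem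
        rw [mul_one] at h3
        have h4 : mu 1 = 0 := by linear_combination -h3
        show Multiplicative.ofAdd (mu 1) = 1
        rw [h4]; rfl
      map_mul' := fun v v' => by
        show Multiplicative.ofAdd (mu (v * v')) = _
        rw [h.mu_mul v v.2 v' v'.2]; rfl }
  have hμ : Function.Surjective μ := by
    intro k
    obtain ⟨v, hv, hv'⟩ := h.mu_surj (Multiplicative.toAdd k)
    exact ⟨⟨v, hv⟩, congrArg Multiplicative.ofAdd hv'⟩
  have h4 := Subgroup.card_mul_index μ.ker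
  rw [Subgroup.index_ker, MonoidHom.range_eq_top.2 hμ, Subgroup.card_top, Nat.card_congr Multiplicative.toAdd,
    Nat.card_eq_fintype_card (α := K)] at h4
  have h5 : μ.ker = (V ⊓ W).subgroupOf V := by
    ext v
    rw [MonoidHom.mem_ker, Subgroup.mem_subgroupOf, Subgroup.mem_inf]
    constructor
    · intro h6
      exact ⟨v.2, (h.mu_zero v v.2).1 (ofAdd_eq_one.1 h6)⟩
    · intro h6
      exact ofAdd_eq_one.2 ((h.mu_zero v v.2).2 h6.2)
  rw [h5, Nat.card_congr (Subgroup.subgroupOfEquivOfLe (inf_le_left : V ⊓ W ≤ V)).toEquiv, mul_comm] at h4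
  exact h4

open Classical in
/-- the first coordinate on `T` -/
noncomputable def mh (_ : Crd K V W D mu lam zet) (t : Ω) : K :=
  if h : ∃ v, v ∈ V ∧ ∃ w ∈ W, t = v * w then mu h.choose else 0

open Classical in
/-- the second coordinate on `T` -/
noncomputable def lh (_ : Crd K V W D mu lam zet) (t : Ω) : K :=
  if h : ∃ w, w ∈ W ∧ ∃ v ∈ V, t = v * w then lam h.choose else 0

theorem mu_eq {v v' : Ω} (hv : v ∈ V) (hv' : v' ∈ V) (hw : v⁻¹ * v' ∈ W) : mu v' = mu v := by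
  have h1 := h.mu_mul v hv (v⁻¹ * v') (V.mul_mem (V.inv_mem hv) hv')
  rw [mul_inv_cancel_left, (h.mu_zero _ (V.mul_mem (V.inv_mem hv) hv')).2 hw, add_zero] at h1
  exact h1

theorem lam_eq {v v' : Ω} (hv : v ∈ W) (hv' : v' ∈ W) (hw : v⁻¹ * v' ∈ V) : lam v' = lam v := by
  have h1 := h.lam_mul v hv (v⁻¹ * v') (W.mul_mem (W.inv_mem hv) hv')
  rw [mul_inv_cancel_left, (h.lam_zero _ (W.mul_mem (W.inv_mem hv) hv')).2 hw, add_zero] at h1
  exact h1

theorem mh_eq {v w : Ω} (hv : v ∈ V) (hw : w ∈ W) : h.mh (v * w) = mu v := by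
  have h1 : ∃ v', v' ∈ V ∧ ∃ w' ∈ W, v * w = v' * w' := ⟨v, hv, w, hw, rfl⟩
  unfold mh
  rw [dif_pos h1]
  obtain ⟨h2, w', hw', h3⟩ := h1.choose_spec
  apply h.mu_eq hv h2
  have : v⁻¹ * h1.choose = w * w'⁻¹ := by
    rw [eq_mul_inv_iff_mul_eq, mul_assoc, ← h3]
    group
  rw [this]
  exact W.mul_mem hw (W.inv_mem hw')

theorem lh_eq {v w : Ω} (hv : v ∈ V) (hw : w ∈ W) : h.lh (v * w) = lam w := by
  have h1 : ∃ w', w' ∈ W ∧ ∃ v' ∈ V, v * w = v' * w' := ⟨w, hw, v, hv, rfl⟩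
  unfold lh
  rw [dif_pos h1]
  obtain ⟨h2, v', hv', h3⟩ := h1.choose_spec
  apply h.lam_eq hw h2
  have e : h1.choose = v'⁻¹ * (v * w) := (inv_mul_eq_of_eq_mul h3).symm
  have e2 : w⁻¹ * h1.choose = w⁻¹ * (v'⁻¹ * v) * w := by
    generalize h1.choose = c at e
    rw [e]
    group
  rw [e2]
  have := h.conjV (V.mul_mem (V.inv_mem hv') hv) (W.inv_mem hw)
  rwa [inv_inv] at this

theorem mh_V {v : Ω} (hv : v ∈ V) : h.mh v = mu v := by
  have := h.mh_eq hv W.one_mem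
  rwa [mul_one] at this

theorem mh_W {w : Ω} (hw : w ∈ W) : h.mh w = 0 := by
  have := h.mh_eq V.one_mem hw
  rwa [one_mul, (h.mu_zero 1 V.one_mem).2 W.one_mem] at this

theorem lh_W {w : Ω} (hw : w ∈ W) : h.lh w = lam w := by
  have := h.lh_eq V.one_mem hw
  rwa [one_mul] at this

theorem lh_V {v : Ω} (hv : v ∈ V) : h.lh v = 0 := by
  have := h.lh_eq hv W.one_mem
  rwa [mul_one, (h.lam_zero 1 W.one_mem).2 V.one_mem] at this

theorem mh_mul {s t : Ω} (hs : s ∈ V ⊔ W) (ht : t ∈ V ⊔ W) : h.mh (s * t) = h.mh s + h.mh t := by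
  obtain ⟨v, hv, w, hw, rfl⟩ := h.mem_sup.1 hs
  obtain ⟨v', hv', w', hw', rfl⟩ := h.mem_sup.1 ht
  have h1 := h.conjV hv' hw
  have e : v * w * (v' * w') = (v * (w * v' * w⁻¹)) * (w * w') := by group
  rw [e, h.mh_eq (V.mul_mem hv h1) (W.mul_mem hw hw'), h.mh_eq hv hw, h.mh_eq hv' hw', h.mu_mul _ hv _ h1]
  congr 1
  apply h.mu_eq hv' h1
  have e2 : v'⁻¹ * (w * v' * w⁻¹) = v'⁻¹ * w * v'⁻¹⁻¹ * w⁻¹ := by group
  rw [e2]
  exact (h.com _ (V.inv_mem hv') _ hw).2

theorem lh_mul {s t : Ω} (hs : s ∈ V ⊔ W) (ht : t ∈ V ⊔ W) : h.lh (s * t) = h.lh s + h.lh t := by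
  obtain ⟨v, hv, w, hw, rfl⟩ := h.mem_sup.1 hs
  obtain ⟨v', hv', w', hw', rfl⟩ := h.mem_sup.1 ht
  have h1 := h.conjV hv' hw
  have e : v * w * (v' * w') = (v * (w * v' * w⁻¹)) * (w * w') := by group
  rw [e, h.lh_eq (V.mul_mem hv h1) (W.mul_mem hw hw'), h.lh_eq hv hw, h.lh_eq hv' hw', h.lam_mul _ hw _ hw']

theorem mh_one : h.mh 1 = 0 := h.mh_W W.one_mem

theorem lh_one : h.lh 1 = 0 := h.lh_V V.one_mem

theorem mh_inv {s : Ω} (hs : s ∈ V ⊔ W) : h.mh s⁻¹ = h.mh s := by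
  have h1 := h.mh_mul hs ((V ⊔ W).inv_mem hs)
  rw [mul_inv_cancel, h.mh_one] at h1
  exact (h.eq_of_add h1.symm).symm

theorem lh_inv {s : Ω} (hs : s ∈ V ⊔ W) : h.lh s⁻¹ = h.lh s := by
  have h1 := h.lh_mul hs ((V ⊔ W).inv_mem hs)
  rw [mul_inv_cancel, h.lh_one] at h1
  exact (h.eq_of_add h1.symm).symm

/-- `Z` is the kernel -/
theorem mem_Z_iff {t : Ω} (ht : t ∈ V ⊔ W) : t ∈ V ⊓ W ↔ h.mh t = 0 ∧ h.lh t = 0 := by
  constructor
  · intro hz
    exact ⟨h.mh_W hz.2, h.lh_V hz.1⟩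
  · rintro ⟨h1, h2⟩
    obtain ⟨v, hv, w, hw, rfl⟩ := h.mem_sup.1 ht
    rw [h.mh_eq hv hw, h.mu_zero v hv] at h1
    rw [h.lh_eq hv hw, h.lam_zero w hw] at h2
    exact ⟨V.mul_mem hv h2, W.mul_mem h1 hw⟩

end Crd

end Cfsg.Agent.H456.HM
end

-- part: H780/HL/Coord
section
prune_inst 0x4e0100200182200000018000020001c66da0001020068000080400e0406c18f0020040121b4a000101002aa4420380020034c00500000000000000000011c0080100812069008a008400000000104000000000000000000000000000000000000000000000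
set_option linter.all false
open scoped Cfsg.Agent.FastGrp

-- part: H780/HL/SL3
section
/-!
# S5175 [L]: `SL₃(K)`, unitriangular matrices, diagonal-field automorphisms and the graph automorphism (helper780)
-/

set_option autoImplicit false

namespace Cfsg.Agent.H780.HL

open Matrix

abbrev SL3 (K : Type*) [Field K] := Matrix.SpecialLinearGroup (Fin 3) K

variable {K : Type*} [Field K]

theorem val_mul (g h : SL3 K) : (g * h).1 = g.1 * h.1 := rfl
theorem val_mul_apply (g h : SL3 K) (i j : Fin 3) :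
    (g * h).1 i j = g.1 i 0 * h.1 0 j + g.1 i 1 * h.1 1 j + g.1 i 2 * h.1 2 j := by
  rw [val_mul, Matrix.mul_apply, Fin.sum_univ_three]

theorem ext3 {g h : SL3 K} (e : ∀ i j, g.1 i j = h.1 i j) : g = h := Subtype.ext (Matrix.ext e)

/-- the unitriangular matrix with `(1,2)`-entry `b`, `(2,3)`-entry `a`, `(1,3)`-entry `c` -/
def um (a b c : K) : SL3 K := ⟨!![1, b, c; 0, 1, a; 0, 0, 1], by simp [Matrix.det_fin_three]⟩

theorem um_mul (a b c a' b' c' : K) : um a b c * um a' b' c' = um (a + a') (b + b') (c + c' + b * a') := by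
  refine ext3 fun i j => ?_
  rw [val_mul_apply]
  (revert i j; simp only [um, _root_.Fin.forall_fin_succ, Fin.isValue, _root_.Matrix.of_apply, _root_.Matrix.cons_val', _root_.Matrix.cons_val_zero, _root_.Matrix.cons_val_fin_one, _root_.Matrix.cons_val_one, _root_.Matrix.cons_val, _root_.mul_one, _root_.MulZeroClass.mul_zero, _root_.add_zero, _root_.Matrix.cons_val_succ, _root_.forall_const, _root_.true_and, _root_.one_mul, _root_.add_eq_right, _root_.mul_eq_zero, _root_.true_or, _root_.MulZeroClass.zero_mul, _root_.zero_add, _root_.and_self, _root_.implies_true, _root_.and_true]) <;> (repeat' with_reducible apply And.intro) <;> ring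

theorem um_zero : um (0 : K) 0 0 = 1 := by
  refine ext3 fun i j => ?_
  fin_cases i <;> fin_cases j <;> rfl

theorem um_inv (a b c : K) : (um a b c)⁻¹ = um (-a) (-b) (-c + b * a) := by
  rw [inv_eq_iff_mul_eq_one, um_mul, ← um_zero]
  congr 1 <;> ring

theorem um_injective {a b c a' b' c' : K} (h : um a b c = um a' b' c') : a = a' ∧ b = b' ∧ c = c' := by
  have h1 := congrArg Subtype.val h
  refine ⟨?_, ?_, ?_⟩
  · simpa [um] using congrFun (congrFun h1 1) 2
  · simpa [um] using congrFun (congrFun h1 0) 1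
  · simpa [um] using congrFun (congrFun h1 0) 2

/-- conjugation by an invertible diagonal matrix, as a map -/
def dmap (w : Fin 3 → Kˣ) (g : SL3 K) : SL3 K :=
  ⟨Matrix.of fun i j => (w i : K) * g.1 i j * ((w j)⁻¹ : Kˣ), by
    have h := g.2
    rw [Matrix.det_fin_three] at h ⊢
    have h0 : ((w 0 : Kˣ) : K) * ((w 0)⁻¹ : Kˣ) = 1 := by simp
    have h1 : ((w 1 : Kˣ) : K) * ((w 1)⁻¹ : Kˣ) = 1 := by simp
    have h2 : ((w 2 : Kˣ) : K) * ((w 2)⁻¹ : Kˣ) = 1 := by simp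
    simp only [Matrix.of_apply]
    calc _ = (((w 0 : Kˣ) : K) * ((w 0)⁻¹ : Kˣ)) * (((w 1 : Kˣ) : K) * ((w 1)⁻¹ : Kˣ)) * (((w 2 : Kˣ) : K) * ((w 2)⁻¹ : Kˣ)) *
        (g.1 0 0 * g.1 1 1 * g.1 2 2 - g.1 0 0 * g.1 1 2 * g.1 2 1 - g.1 0 1 * g.1 1 0 * g.1 2 2 + g.1 0 1 * g.1 1 2 * g.1 2 0 +
          g.1 0 2 * g.1 1 0 * g.1 2 1 - g.1 0 2 * g.1 1 1 * g.1 2 0) := by ring
      _ = 1 := by rw [h0, h1, h2, h]; ring⟩

theorem dmap_apply (w : Fin 3 → Kˣ) (g : SL3 K) (i j : Fin 3) :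
    (dmap w g).1 i j = (w i : K) * g.1 i j * ((w j)⁻¹ : Kˣ) := rfl

theorem dmap_mul (w : Fin 3 → Kˣ) (g h : SL3 K) : dmap w (g * h) = dmap w g * dmap w h := by
  refine ext3 fun i j => ?_
  rw [val_mul_apply, dmap_apply, dmap_apply, dmap_apply, dmap_apply, dmap_apply, dmap_apply, dmap_apply, val_mul_apply]
  have h0 : (((w 0)⁻¹ : Kˣ) : K) * (w 0 : K) = 1 := by simp
  have h1 : (((w 1)⁻¹ : Kˣ) : K) * (w 1 : K) = 1 := by simp
  have h2 : (((w 2)⁻¹ : Kˣ) : K) * (w 2 : K) = 1 := by simp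
  calc _ = (w i : K) * g.1 i 0 * 1 * h.1 0 j * ((w j)⁻¹ : Kˣ) + (w i : K) * g.1 i 1 * 1 * h.1 1 j * ((w j)⁻¹ : Kˣ) +
        (w i : K) * g.1 i 2 * 1 * h.1 2 j * ((w j)⁻¹ : Kˣ) := by ring
    _ = (w i : K) * g.1 i 0 * ((((w 0)⁻¹ : Kˣ) : K) * (w 0 : K)) * h.1 0 j * ((w j)⁻¹ : Kˣ) +
        (w i : K) * g.1 i 1 * ((((w 1)⁻¹ : Kˣ) : K) * (w 1 : K)) * h.1 1 j * ((w j)⁻¹ : Kˣ) +
        (w i : K) * g.1 i 2 * ((((w 2)⁻¹ : Kˣ) : K) * (w 2 : K)) * h.1 2 j * ((w j)⁻¹ : Kˣ) := by rw [h0, h1, h2]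
    _ = _ := by ring

theorem dmap_dmap (w w' : Fin 3 → Kˣ) (g : SL3 K) : dmap w (dmap w' g) = dmap (w * w') g := by
  refine ext3 fun i j => ?_
  rw [dmap_apply, dmap_apply, dmap_apply, Pi.mul_apply, Pi.mul_apply, _root_.mul_inv_rev]
  push_cast
  ring

theorem dmap_one (g : SL3 K) : dmap 1 g = g := by
  refine ext3 fun i j => ?_
  rw [dmap_apply]
  simp

/-- conjugation by an invertible diagonal matrix -/
def dconj (w : Fin 3 → Kˣ) : MulAut (SL3 K) where
  toFun := dmap w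
  invFun := dmap w⁻¹
  left_inv g := by rw [dmap_dmap, inv_mul_cancel, dmap_one]
  right_inv g := by rw [dmap_dmap, mul_inv_cancel, dmap_one]
  map_mul' := dmap_mul w

theorem dconj_apply (w : Fin 3 → Kˣ) (g : SL3 K) (i j : Fin 3) :
    (dconj w g).1 i j = (w i : K) * g.1 i j * ((w j)⁻¹ : Kˣ) := rfl

/-- the field automorphism -/
def fld (σ : K ≃+* K) : MulAut (SL3 K) where
  toFun g := Matrix.SpecialLinearGroup.map (σ : K →+* K) g
  invFun g := Matrix.SpecialLinearGroup.map (σ.symm : K →+* K) g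
  left_inv g := by apply Subtype.ext; ext i j; simp
  right_inv g := by apply Subtype.ext; ext i j; simp
  map_mul' g h := map_mul _ g h

/-- the diagonal matrix `diag(ν'ν, ν, 1)` -/
def wv (ν ν' : Kˣ) : Fin 3 → Kˣ := ![ν' * ν, ν, 1]

/-- the diagonal-field automorphism: `σ` followed by conjugation with `diag(ν'ν, ν, 1)` -/
def dg (ν ν' : Kˣ) (σ : K ≃+* K) : MulAut (SL3 K) := dconj (wv ν ν') * fld σ

theorem dg_apply (ν ν' : Kˣ) (σ : K ≃+* K) (g : SL3 K) (i j : Fin 3) :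
    (dg ν ν' σ g).1 i j = (wv ν ν' i : K) * σ (g.1 i j) * ((wv ν ν' j)⁻¹ : Kˣ) := rfl

theorem dg_um (ν ν' : Kˣ) (σ : K ≃+* K) (a b c : K) :
    dg ν ν' σ (um a b c) = um ((ν : K) * σ a) ((ν' : K) * σ b) ((ν : K) * ν' * σ c) := by
  refine ext3 fun i j => ?_
  rw [dg_apply]
  (revert i j; simp only [um, wv, _root_.Fin.forall_fin_succ, _root_.Matrix.of_apply, _root_.Matrix.cons_val', _root_.Matrix.cons_val_fin_one, _root_.Units.val_inv_eq_inv_val, Fin.isValue, _root_.Matrix.cons_val_zero, _root_.Units.val_mul, _root_.mul_inv_rev, _root_.Matrix.cons_val_succ, _root_.Units.val_one, _root_.inv_one, _root_.mul_one, _root_.forall_const, _root_.map_one, _root_.mul_eq_mul_right_iff, _root_.EmbeddingLike.map_eq_zero_iff, _root_.map_zero, _root_.MulZeroClass.mul_zero, _root_.MulZeroClass.zero_mul, _root_.ne_eq, _root_.Units.ne_zero, _root_.not_false_eq_true, _root_.mul_inv_cancel₀, _root_.implies_true, _root_.and_true, _root_.true_and])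 <;> (repeat' with_reducible apply And.intro)
  · field_simp
  · field_simp
  · left; ring

/-- the graph automorphism `g ↦ J g^{-T} J`, as a map -/
def gmap (g : SL3 K) : SL3 K :=
  ⟨Matrix.of fun i j => (g⁻¹).1 (Fin.rev j) (Fin.rev i), by
    obtain ⟨h, hh⟩ : ∃ h, h = g⁻¹ := ⟨_, rfl⟩
    rw [← hh]
    have h1 := h.2
    rw [Matrix.det_fin_three] at h1 ⊢
    simp only [Matrix.of_apply]
    have e0 : (Fin.rev 0 : Fin 3) = 2 := rfl
    have e1 : (Fin.rev 1 : Fin 3) = 1 := rfl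
    have e2 : (Fin.rev 2 : Fin 3) = 0 := rfl
    rw [e0, e1, e2]
    linear_combination h1⟩

theorem gmap_apply (g : SL3 K) (i j : Fin 3) : (gmap g).1 i j = (g⁻¹).1 (Fin.rev j) (Fin.rev i) := rfl

theorem gmap_mul (g h : SL3 K) : gmap (g * h) = gmap g * gmap h := by
  refine ext3 fun i j => ?_
  rw [val_mul_apply, gmap_apply, gmap_apply, gmap_apply, gmap_apply, gmap_apply, gmap_apply, gmap_apply, _root_.mul_inv_rev,
    val_mul_apply]
  have e0 : (Fin.rev 0 : Fin 3) = 2 := rfl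
  have e1 : (Fin.rev 1 : Fin 3) = 1 := rfl
  have e2 : (Fin.rev 2 : Fin 3) = 0 := rfl
  rw [e0, e1, e2]
  ring

theorem gmap_one : gmap (1 : SL3 K) = 1 := by
  have h1 : gmap (1 : SL3 K) * gmap 1 = gmap 1 * 1 := by rw [← gmap_mul, mul_one, mul_one]
  exact mul_left_cancel h1

theorem gmap_inv (g : SL3 K) : gmap g⁻¹ = (gmap g)⁻¹ := by
  rw [eq_inv_iff_mul_eq_one, ← gmap_mul, inv_mul_cancel, gmap_one]

theorem gmap_gmap (g : SL3 K) : gmap (gmap g) = g := by
  refine ext3 fun i j => ?_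
  rw [gmap_apply, ← gmap_inv, gmap_apply, inv_inv, Fin.rev_rev, Fin.rev_rev]

/-- the graph automorphism `g ↦ J g^{-T} J` -/
def gr : MulAut (SL3 K) where
  toFun := gmap
  invFun := gmap
  left_inv := gmap_gmap
  right_inv := gmap_gmap
  map_mul' := gmap_mul

theorem gr_apply (g : SL3 K) (i j : Fin 3) : (gr g).1 i j = (g⁻¹).1 (Fin.rev j) (Fin.rev i) := rfl

theorem gr_um (a b c : K) : gr (um a b c) = um (-b) (-a) (-c + b * a) := by
  refine ext3 fun i j => ?_
  rw [gr_apply, um_inv]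
  fin_cases i <;> fin_cases j <;> (conv_lhs => whnf) <;> (conv_rhs => whnf) <;> rfl

theorem gr_mul_gr : (gr : MulAut (SL3 K)) * gr = 1 := by
  ext1 g
  exact gmap_gmap g

theorem dg_mul_dg (ν ν' μ μ' : Kˣ) (σ τ : K ≃+* K) : dg ν ν' σ * dg μ μ' τ =
    dg (ν * Units.map (σ : K →* K) μ) (ν' * Units.map (σ : K →* K) μ') (τ.trans σ) := by
  ext1 g
  refine ext3 fun i j => ?_
  rw [MulAut.mul_apply, dg_apply, dg_apply, dg_apply]
  (revert i j; simp only [wv, _root_.Fin.forall_fin_succ, _root_.Units.val_inv_eq_inv_val, _root_.map_mul, _root_.map_inv₀, _root_.RingEquiv.coe_trans, _root_.Function.comp_apply, Fin.isValue, _root_.Matrix.cons_val_zero, _root_.Units.val_mul, _root_.mul_inv_rev, _root_.Units.coe_map, _root_.MonoidHom.coe_coe, _root_.Matrix.cons_val_succ, _root_.Fin.succ_zero_eq_one, _root_.Matrix.cons_val_fin_one, _root_.Units.val_one, _root_.map_one, _root_.inv_one, _root_.mul_one, _root_.Fin.succ_one_eq_two, _root_.IsEmpty.forall_iff,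 _root_.and_true, _root_.one_mul]) <;> (repeat' with_reducible apply And.intro) <;> field_simp

theorem gr_mul_dg (ν ν' : Kˣ) (σ : K ≃+* K) : gr * dg ν ν' σ = dg ν' ν σ * gr := by
  ext1 g
  refine ext3 fun i j => ?_
  rw [MulAut.mul_apply, MulAut.mul_apply, gr_apply, ← map_inv, dg_apply, dg_apply, gr_apply]
  generalize g⁻¹ = g'
  (revert i j; simp only [wv, _root_.Fin.forall_fin_succ, _root_.Units.val_inv_eq_inv_val, Fin.isValue, _root_.Fin.rev_zero, Fin.reduceLast, _root_.Matrix.cons_val, _root_.Units.val_one, _root_.one_mul, _root_.Matrix.cons_val_zero, _root_.Units.val_mul, _root_.mul_inv_rev, _root_.Matrix.cons_val_succ, _root_.Fin.succ_zero_eq_one, Fin.reduceRev, _root_.Matrix.cons_val_one, _root_.Matrix.cons_val_fin_one, _root_.inv_one, _root_.mul_one, _root_.Fin.succ_one_eq_two, _root_.IsEmpty.forall_iff, _root_.and_true, _root_.mul_eq_mul_right_iff, _root_.EmbeddingLike.map_eq_zero_iff, _root_.mul_eq_mul_left_iff])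 <;> (repeat' with_reducible apply And.intro) <;> field_simp <;> simp

theorem dg_one : dg (1 : Kˣ) 1 (RingEquiv.refl K) = 1 := by
  ext1 g
  refine ext3 fun i j => ?_
  rw [dg_apply]
  (revert i j; simp only [wv, _root_.Fin.forall_fin_succ, _root_.mul_one, _root_.RingEquiv.refl_apply, _root_.Units.val_inv_eq_inv_val, _root_.MulAut.one_apply, Fin.isValue, _root_.Matrix.cons_val_zero, _root_.Units.val_one, _root_.inv_one, _root_.Matrix.cons_val_succ, _root_.Fin.succ_zero_eq_one, _root_.Matrix.cons_val_fin_one, _root_.Fin.succ_one_eq_two, _root_.IsEmpty.forall_iff, _root_.and_true, _root_.one_mul, _root_.and_self, _root_.implies_true])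

theorem dg_inv (ν ν' : Kˣ) (σ : K ≃+* K) : (dg ν ν' σ)⁻¹ =
    dg (Units.map (σ.symm : K →* K) ν⁻¹) (Units.map (σ.symm : K →* K) ν'⁻¹) σ.symm := by
  rw [inv_eq_iff_mul_eq_one, dg_mul_dg, ← dg_one]
  congr 1
  · ext; simp only [_root_.map_inv, _root_.Units.val_mul, _root_.Units.val_inv_eq_inv_val, _root_.Units.coe_map, _root_.MonoidHom.coe_coe, _root_.RingEquiv.apply_symm_apply, _root_.ne_eq, _root_.Units.ne_zero, _root_.not_false_eq_true, _root_.mul_inv_cancel₀, _root_.Units.val_one]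
  · ext; simp only [_root_.map_inv, _root_.Units.val_mul, _root_.Units.val_inv_eq_inv_val, _root_.Units.coe_map, _root_.MonoidHom.coe_coe, _root_.RingEquiv.apply_symm_apply, _root_.ne_eq, _root_.Units.ne_zero, _root_.not_false_eq_true, _root_.mul_inv_cancel₀, _root_.Units.val_one]
  · ext; simp

variable (K)

/-- the diagonal-field automorphisms -/
def DF : Subgroup (MulAut (SL3 K)) where
  carrier := {α | ∃ ν ν' σ, α = dg ν ν' σ}
  one_mem' := ⟨1, 1, _, dg_one.symm⟩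
  mul_mem' := by
    rintro _ _ ⟨ν, ν', σ, rfl⟩ ⟨μ, μ', τ, rfl⟩
    exact ⟨_, _, _, dg_mul_dg ν ν' μ μ' σ τ⟩
  inv_mem' := by
    rintro _ ⟨ν, ν', σ, rfl⟩
    exact ⟨_, _, _, dg_inv ν ν' σ⟩

/-- the diagonal-field-graph automorphisms -/
def DD : Subgroup (MulAut (SL3 K)) where
  carrier := {α | ∃ ν ν' σ, α = dg ν ν' σ ∨ α = dg ν ν' σ * gr}
  one_mem' := ⟨1, 1, _, Or.inl dg_one.symm⟩
  mul_mem' := by
    rintro _ _ ⟨ν, ν', σ, rfl | rfl⟩ ⟨μ, μ', τ, rfl | rfl⟩
    · exact ⟨_, _, _, Or.inl (dg_mul_dg ν ν' μ μ' σ τ)⟩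
    · exact ⟨_, _, _, Or.inr (by rw [← mul_assoc, dg_mul_dg])⟩
    · exact ⟨_, _, _, Or.inr (by rw [mul_assoc, gr_mul_dg, ← mul_assoc, dg_mul_dg])⟩
    · exact ⟨_, _, _, Or.inl (by rw [mul_assoc, ← mul_assoc gr, gr_mul_dg, mul_assoc, gr_mul_gr, mul_one, dg_mul_dg])⟩
  inv_mem' := by
    rintro _ ⟨ν, ν', σ, rfl | rfl⟩
    · exact ⟨_, _, _, Or.inl (dg_inv ν ν' σ)⟩
    · have h1 : (gr : MulAut (SL3 K))⁻¹ = gr := inv_eq_of_mul_eq_one_left gr_mul_gr
      have h2 := gr_mul_dg (Units.map (σ.symm : K →* K) ν⁻¹) (Units.map (σ.symm : K →* K) ν'⁻¹) σ.symm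
      rw [← dg_inv] at h2
      exact ⟨_, _, _, Or.inr (by rw [_root_.mul_inv_rev, h1]; exact h2)⟩

/-- the inner automorphisms of the unitriangular matrices -/
def Th : Subgroup (MulAut (SL3 K)) where
  carrier := {α | ∃ a b c : K, α = MulAut.conj (um a b c)}
  one_mem' := ⟨0, 0, 0, by rw [um_zero, map_one]⟩
  mul_mem' := by
    rintro _ _ ⟨a, b, c, rfl⟩ ⟨a', b', c', rfl⟩
    exact ⟨_, _, _, by rw [← map_mul, um_mul]⟩
  inv_mem' := by
    rintro _ ⟨a, b, c, rfl⟩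
    exact ⟨_, _, _, by rw [← map_inv, um_inv]⟩

end Cfsg.Agent.H780.HL
end

-- part: H780/HL/Hs
section
/-!
# S5175 [L]: the Heisenberg group in coordinates and its automorphisms (helper780)
-/

set_option autoImplicit false

namespace Cfsg.Agent.H780.HL

/-- the Heisenberg group over `K`: `(a, b, c)` stands for `!![1, b, c; 0, 1, a; 0, 0, 1]` -/
@[ext] structure Hs (K : Type*) where
  a : K
  b : K
  c : K

variable {K : Type*} [Field K]

namespace Hs

instance : Mul (Hs K) := ⟨fun s t => ⟨s.a + t.a, s.b + t.b, s.c + t.c + s.b * t.a⟩⟩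
instance : One (Hs K) := ⟨⟨0, 0, 0⟩⟩
instance : Inv (Hs K) := ⟨fun s => ⟨-s.a, -s.b, -s.c + s.b * s.a⟩⟩

theorem mul_def (s t : Hs K) : s * t = ⟨s.a + t.a, s.b + t.b, s.c + t.c + s.b * t.a⟩ := rfl
theorem one_def : (1 : Hs K) = ⟨0, 0, 0⟩ := rfl
theorem inv_def (s : Hs K) : s⁻¹ = ⟨-s.a, -s.b, -s.c + s.b * s.a⟩ := rfl

instance : Group (Hs K) where
  mul_assoc s t u := by
    rw [mul_def, mul_def, mul_def, mul_def]
    ext <;> dsimp <;> ring
  one_mul s := by rw [one_def, mul_def]; ext <;> dsimp <;> ring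
  mul_one s := by rw [one_def, mul_def]; ext <;> dsimp <;> ring
  inv_mul_cancel s := by rw [inv_def, mul_def, one_def]; ext <;> dsimp <;> ring

@[simp] theorem mul_a (s t : Hs K) : (s * t).a = s.a + t.a := rfl
@[simp] theorem mul_b (s t : Hs K) : (s * t).b = s.b + t.b := rfl
@[simp] theorem mul_c (s t : Hs K) : (s * t).c = s.c + t.c + s.b * t.a := rfl
@[simp] theorem one_a : (1 : Hs K).a = 0 := rfl
@[simp] theorem one_b : (1 : Hs K).b = 0 := rfl
@[simp] theorem one_c : (1 : Hs K).c = 0 := rfl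
@[simp] theorem inv_a (s : Hs K) : (s⁻¹).a = -s.a := rfl
@[simp] theorem inv_b (s : Hs K) : (s⁻¹).b = -s.b := rfl
@[simp] theorem inv_c (s : Hs K) : (s⁻¹).c = -s.c + s.b * s.a := rfl

theorem conj_eq (t s : Hs K) : t * s * t⁻¹ = ⟨s.a, s.b, s.c + (t.b * s.a - s.b * t.a)⟩ := by
  ext <;> simp only [_root_.Cfsg.Agent.H780.HL.Hs.mul_a, _root_.Cfsg.Agent.H780.HL.Hs.inv_a, _root_.add_neg_cancel_comm, _root_.Cfsg.Agent.H780.HL.Hs.mul_b, _root_.Cfsg.Agent.H780.HL.Hs.inv_b, _root_.Cfsg.Agent.H780.HL.Hs.mul_c, _root_.Cfsg.Agent.H780.HL.Hs.inv_c, _root_.mul_neg] <;> ring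

theorem conj_apply (t s : Hs K) : MulAut.conj t s = ⟨s.a, s.b, s.c + (t.b * s.a - s.b * t.a)⟩ := conj_eq t s

/-- the embedding in `SL₃(K)` -/
def emb : Hs K →* SL3 K where
  toFun t := um t.a t.b t.c
  map_one' := um_zero
  map_mul' s t := (um_mul _ _ _ _ _ _).symm

theorem emb_apply (t : Hs K) : emb t = um t.a t.b t.c := rfl

theorem emb_injective : Function.Injective (emb : Hs K → SL3 K) := by
  intro s t h
  obtain ⟨h1, h2, h3⟩ := um_injective h
  exact Hs.ext h1 h2 h3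

/-- the diagonal-field automorphism of the Heisenberg group -/
def del (ν ν' : Kˣ) (σ : K ≃+* K) : MulAut (Hs K) where
  toFun t := ⟨(ν : K) * σ t.a, (ν' : K) * σ t.b, (ν : K) * ν' * σ t.c⟩
  invFun t := ⟨σ.symm (((ν⁻¹ : Kˣ) : K) * t.a), σ.symm (((ν'⁻¹ : Kˣ) : K) * t.b), σ.symm (((ν⁻¹ : Kˣ) : K) * (ν'⁻¹ : Kˣ) * t.c)⟩
  left_inv t := by
    ext
    · simp
    · simp
    · dsimp only
      rw [RingEquiv.symm_apply_eq]
      have h1 : ((ν⁻¹ : Kˣ) : K) * ν = 1 := by simp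
      have h2 : ((ν'⁻¹ : Kˣ) : K) * ν' = 1 := by simp
      linear_combination (((ν'⁻¹ : Kˣ) : K) * ν' * σ t.c) * h1 + (σ t.c) * h2
  right_inv t := by
    ext
    · simp
    · simp only [_root_.Units.val_inv_eq_inv_val, _root_.map_mul, _root_.map_inv₀, _root_.RingEquiv.apply_symm_apply, _root_.ne_eq, _root_.Units.ne_zero, _root_.not_false_eq_true, _root_.mul_inv_cancel_left₀]
    · dsimp only
      rw [RingEquiv.apply_symm_apply]
      have h1 : ((ν⁻¹ : Kˣ) : K) * ν = 1 := by simp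
      have h2 : ((ν'⁻¹ : Kˣ) : K) * ν' = 1 := by simp
      linear_combination (((ν'⁻¹ : Kˣ) : K) * ν' * t.c) * h1 + (t.c) * h2
  map_mul' s t := by
    ext
    · simp [mul_add]
    · simp only [mul_add, _root_.Cfsg.Agent.H780.HL.Hs.mul_b, _root_.map_add]
    · simp only [mul_c, map_add, map_mul]
      ring

theorem del_apply (ν ν' : Kˣ) (σ : K ≃+* K) (t : Hs K) :
    del ν ν' σ t = ⟨(ν : K) * σ t.a, (ν' : K) * σ t.b, (ν : K) * ν' * σ t.c⟩ := rfl

/-- the graph automorphism of the Heisenberg group -/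
def gam : MulAut (Hs K) where
  toFun t := ⟨-t.b, -t.a, -t.c + t.b * t.a⟩
  invFun t := ⟨-t.b, -t.a, -t.c + t.b * t.a⟩
  left_inv t := by ext <;> simp only [_root_.neg_neg, _root_.neg_add_rev, _root_.mul_neg, _root_.neg_mul]; ring
  right_inv t := by ext <;> simp only [_root_.neg_neg, _root_.neg_add_rev, _root_.mul_neg, _root_.neg_mul]; ring
  map_mul' s t := by
    ext
    · simp only [_root_.Cfsg.Agent.H780.HL.Hs.mul_b, _root_.neg_add_rev, _root_.Cfsg.Agent.H780.HL.Hs.mul_a]; ring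
    · simp only [_root_.Cfsg.Agent.H780.HL.Hs.mul_a, _root_.neg_add_rev, _root_.Cfsg.Agent.H780.HL.Hs.mul_b]; ring
    · simp only [_root_.Cfsg.Agent.H780.HL.Hs.mul_c, _root_.neg_add_rev, _root_.Cfsg.Agent.H780.HL.Hs.mul_b, _root_.Cfsg.Agent.H780.HL.Hs.mul_a, _root_.mul_neg, _root_.neg_mul, _root_.neg_neg]; ring

theorem gam_apply (t : Hs K) : gam t = ⟨-t.b, -t.a, -t.c + t.b * t.a⟩ := rfl

theorem dg_emb (ν ν' : Kˣ) (σ : K ≃+* K) (t : Hs K) : dg ν ν' σ (emb t) = emb (del ν ν' σ t) := by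
  rw [emb_apply, dg_um, emb_apply, del_apply]

theorem gr_emb (t : Hs K) : gr (emb t) = emb (gam t) := by
  rw [emb_apply, gr_um, emb_apply, gam_apply]

theorem gam_mul_gam : (gam : MulAut (Hs K)) * gam = 1 := by
  ext1 t
  apply emb_injective
  rw [MulAut.mul_apply, ← gr_emb, ← gr_emb, ← MulAut.mul_apply, gr_mul_gr]
  rfl

theorem del_mul_del (ν ν' μ μ' : Kˣ) (σ τ : K ≃+* K) : del ν ν' σ * del μ μ' τ =
    del (ν * Units.map (σ : K →* K) μ) (ν' * Units.map (σ : K →* K) μ') (τ.trans σ) := by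
  ext1 t
  apply emb_injective
  rw [MulAut.mul_apply, ← dg_emb, ← dg_emb, ← MulAut.mul_apply, dg_mul_dg, dg_emb]

theorem gam_mul_del (ν ν' : Kˣ) (σ : K ≃+* K) : gam * del ν ν' σ = del ν' ν σ * gam := by
  ext1 t
  apply emb_injective
  rw [MulAut.mul_apply, MulAut.mul_apply, ← gr_emb, ← dg_emb, ← dg_emb, ← gr_emb, ← MulAut.mul_apply, ← MulAut.mul_apply,
    gr_mul_dg]

theorem del_one : del (1 : Kˣ) 1 (RingEquiv.refl K) = 1 := by
  ext1 t
  ext <;> simp [del_apply]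

theorem del_inv (ν ν' : Kˣ) (σ : K ≃+* K) : (del ν ν' σ)⁻¹ =
    del (Units.map (σ.symm : K →* K) ν⁻¹) (Units.map (σ.symm : K →* K) ν'⁻¹) σ.symm := by
  rw [inv_eq_iff_mul_eq_one, del_mul_del, ← del_one]
  congr 1
  · ext; simp only [_root_.map_inv, _root_.Units.val_mul, _root_.Units.val_inv_eq_inv_val, _root_.Units.coe_map, _root_.MonoidHom.coe_coe, _root_.RingEquiv.apply_symm_apply, _root_.ne_eq, _root_.Units.ne_zero, _root_.not_false_eq_true, _root_.mul_inv_cancel₀, _root_.Units.val_one]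
  · ext; simp only [_root_.map_inv, _root_.Units.val_mul, _root_.Units.val_inv_eq_inv_val, _root_.Units.coe_map, _root_.MonoidHom.coe_coe, _root_.RingEquiv.apply_symm_apply, _root_.ne_eq, _root_.Units.ne_zero, _root_.not_false_eq_true, _root_.mul_inv_cancel₀, _root_.Units.val_one]
  · ext; simp

/-- `del ν ν' σ` and conjugations -/
theorem mul_conj {G : Type*} [Group G] (α : MulAut G) (t : G) : α * MulAut.conj t = MulAut.conj (α t) * α := by
  ext1 s
  simp only [MulAut.mul_apply, MulAut.conj_apply, _root_.map_mul, _root_.map_inv]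

variable (K)

/-- the diagonal-field-graph automorphisms -/
def DDh : Subgroup (MulAut (Hs K)) where
  carrier := {α | ∃ ν ν' σ, α = del ν ν' σ ∨ α = del ν ν' σ * gam}
  one_mem' := ⟨1, 1, _, Or.inl del_one.symm⟩
  mul_mem' := by
    rintro _ _ ⟨ν, ν', σ, rfl | rfl⟩ ⟨μ, μ', τ, rfl | rfl⟩
    · exact ⟨_, _, _, Or.inl (del_mul_del ν ν' μ μ' σ τ)⟩
    · exact ⟨_, _, _, Or.inr (by rw [← mul_assoc, del_mul_del])⟩
    · exact ⟨_, _, _, Or.inr (by rw [mul_assoc, gam_mul_del, ← mul_assoc, del_mul_del])⟩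
    · exact ⟨_, _, _, Or.inl (by rw [mul_assoc, ← mul_assoc gam, gam_mul_del, mul_assoc, gam_mul_gam, mul_one, del_mul_del])⟩
  inv_mem' := by
    rintro _ ⟨ν, ν', σ, rfl | rfl⟩
    · exact ⟨_, _, _, Or.inl (del_inv ν ν' σ)⟩
    · have h1 : (gam : MulAut (Hs K))⁻¹ = gam := inv_eq_of_mul_eq_one_left gam_mul_gam
      have h2 := gam_mul_del (Units.map (σ.symm : K →* K) ν⁻¹) (Units.map (σ.symm : K →* K) ν'⁻¹) σ.symm
      rw [← del_inv] at h2
      exact ⟨_, _, _, Or.inr (by rw [mul_inv_rev, h1]; exact h2)⟩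

variable {K}

/-- If `conj t * del ν ν' σ = del μ μ' τ` then `t` is central and the data agree on the coordinates. -/
theorem conj_del_inj {t : Hs K} {ν ν' μ μ' : Kˣ} {σ τ : K ≃+* K} (h : MulAut.conj t * del ν ν' σ = del μ μ' τ) :
    t.a = 0 ∧ t.b = 0 ∧ ν = μ ∧ ν' = μ' ∧ σ = τ := by
  have h1 : ∀ s, MulAut.conj t (del ν ν' σ s) = del μ μ' τ s := fun s => by rw [← h]; rfl
  have ha := fun x : K => h1 ⟨x, 0, 0⟩
  have hb := fun x : K => h1 ⟨0, x, 0⟩
  simp only [conj_apply, del_apply, map_zero, mul_zero, zero_mul, sub_zero, zero_sub, zero_add, Hs.mk.injEq] at ha hb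
  have e1 : (ν : K) = μ := by simpa using (ha 1).1
  have e2 : (ν' : K) = μ' := by simpa using (hb 1).2.1
  refine ⟨?_, ?_, Units.ext e1, Units.ext e2, ?_⟩
  · have := (hb 1).2.2
    simp at this
    exact this
  · have := (ha 1).2.2
    simp at this
    exact this
  · ext x
    have := (ha x).1
    rw [e1] at this
    exact mul_left_cancel₀ μ.ne_zero this

end Hs

end Cfsg.Agent.H780.HL
end

-- part: H780/HL/AutHs
section
/-!
# S5175 [L]: the automorphisms of the Heisenberg group preserving `V`, `V^x`, `E`, `E^x` (helper780)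
-/

set_option autoImplicit false

namespace Cfsg.Agent.H780.HL

namespace Hs

variable {K : Type*} [Field K]

/-- The functional equation `l (x y) = g x * f y` for additive maps. -/
theorem fun_eq [Finite K] (f g l : K →+ K) (h : ∀ x y, l (x * y) = g x * f y) (hl : l 1 ≠ 0) :
    ∃ (ν ν' : Kˣ) (σ : K ≃+* K), (∀ x, f x = ν * σ x) ∧ (∀ x, g x = ν' * σ x) ∧ ∀ x, l x = ν * ν' * σ x := by
  have h11 : l 1 = g 1 * f 1 := by rw [← h, mul_one]
  have hf : f 1 ≠ 0 := fun h0 => hl (by rw [h11, h0, mul_zero])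
  have hg : g 1 ≠ 0 := fun h0 => hl (by rw [h11, h0, zero_mul])
  have hmul : ∀ x y, l (x * y) * l 1 = l x * l y := by
    intro x y
    have e1 : l x = g x * f 1 := by rw [← h, mul_one]
    have e2 : l y = g 1 * f y := by rw [← h, one_mul]
    rw [e1, e2, h, h11]; ring
  let σ₀ : K →+* K :=
    { toFun := fun x => l x / l 1
      map_one' := div_self hl
      map_mul' := fun x y => by
        rw [div_mul_div_comm, ← hmul, mul_div_mul_right _ _ hl]
      map_zero' := by rw [map_zero, zero_div]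
      map_add' := fun x y => by rw [map_add, add_div] }
  have hσ : ∀ x, σ₀ x = l x / l 1 := fun x => rfl
  have hbij : Function.Bijective σ₀ := Finite.injective_iff_bijective.1 σ₀.injective
  let σ : K ≃+* K := RingEquiv.ofBijective σ₀ hbij
  have hσ' : ∀ x, σ x = l x / l 1 := fun x => rfl
  refine ⟨Units.mk0 (f 1) hf, Units.mk0 (g 1) hg, σ, fun x => ?_, fun x => ?_, fun x => ?_⟩
  · rw [hσ', Units.val_mk0, h11]
    have e2 : l x = g 1 * f x := by rw [← h, one_mul]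
    rw [e2]; field_simp
  · rw [hσ', Units.val_mk0, h11]
    have e2 : l x = g x * f 1 := by rw [← h, mul_one]
    rw [e2]; field_simp
  · rw [hσ', Units.val_mk0, Units.val_mk0, h11]
    field_simp

/-- on `V`: the image of the Weyl matrix is linear -/
def LinV (α : MulAut (Hs K)) : Prop :=
  ∃ p q r s : K, ∀ a c : K, α ⟨-c, 0, a⟩ =
    ⟨p * (α ⟨a, 0, c⟩).c + q * (α ⟨a, 0, c⟩).a, 0, r * (α ⟨a, 0, c⟩).c + s * (α ⟨a, 0, c⟩).a⟩

/-- on `V^x`: the image of the Weyl matrix is linear -/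
def LinV' (α : MulAut (Hs K)) : Prop :=
  ∃ p q r s : K, ∀ b c : K, α ⟨0, -c, b⟩ =
    ⟨0, p * (α ⟨0, b, c⟩).c + q * (α ⟨0, b, c⟩).b, r * (α ⟨0, b, c⟩).c + s * (α ⟨0, b, c⟩).b⟩

/-- **The automorphisms preserving the two abelian subgroups and the two natural modules.** -/
theorem aut_form [Finite K] (α : MulAut (Hs K)) (h1 : ∀ t : Hs K, t.b = 0 → (α t).b = 0)
    (h2 : ∀ t : Hs K, t.a = 0 → (α t).a = 0) (h3 : LinV α) (h4 : LinV' α) :
    ∃ (t : Hs K) (ν ν' : Kˣ) (σ : K ≃+* K), α = MulAut.conj t * del ν ν' σ := by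
  -- the additive maps
  have hV : ∀ a c a' c' : K, (⟨a, 0, c⟩ : Hs K) * ⟨a', 0, c'⟩ = ⟨a + a', 0, c + c'⟩ := by
    intro a c a' c'; ext <;> simp
  have hV' : ∀ b c b' c' : K, (⟨0, b, c⟩ : Hs K) * ⟨0, b', c'⟩ = ⟨0, b + b', c + c'⟩ := by
    intro a c a' c'; ext <;> simp
  have hbV : ∀ a c : K, (α ⟨a, 0, c⟩).b = 0 := fun a c => h1 _ rfl
  have haV : ∀ b c : K, (α ⟨0, b, c⟩).a = 0 := fun a c => h2 _ rfl
  have addV : ∀ a c a' c' : K, α ⟨a + a', 0, c + c'⟩ =
      ⟨(α ⟨a, 0, c⟩).a + (α ⟨a', 0, c'⟩).a, 0, (α ⟨a, 0, c⟩).c + (α ⟨a', 0, c'⟩).c⟩ := by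
    intro a c a' c'
    rw [← hV, map_mul]
    ext
    · simp
    · simp [hbV]
    · simp [hbV]
  have addV' : ∀ b c b' c' : K, α ⟨0, b + b', c + c'⟩ =
      ⟨0, (α ⟨0, b, c⟩).b + (α ⟨0, b', c'⟩).b, (α ⟨0, b, c⟩).c + (α ⟨0, b', c'⟩).c⟩ := by
    intro b c b' c'
    rw [← hV', map_mul]
    ext
    · simp [haV]
    · simp
    · simp [haV]
  let f : K →+ K := AddMonoidHom.mk' (fun a => (α ⟨a, 0, 0⟩).a) (fun a a' => by
    have := addV a 0 a' 0
    rw [add_zero] at this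
    rw [this])
  let g : K →+ K := AddMonoidHom.mk' (fun b => (α ⟨0, b, 0⟩).b) (fun b b' => by
    have := addV' b 0 b' 0
    rw [add_zero] at this
    rw [this])
  let l : K →+ K := AddMonoidHom.mk' (fun c => (α ⟨0, 0, c⟩).c) (fun c c' => by
    have := addV 0 c 0 c'
    rw [add_zero] at this
    rw [this])
  let μ : K →+ K := AddMonoidHom.mk' (fun a => (α ⟨a, 0, 0⟩).c) (fun a a' => by
    have := addV a 0 a' 0
    rw [add_zero] at this
    rw [this])
  let μ' : K →+ K := AddMonoidHom.mk' (fun b => (α ⟨0, b, 0⟩).c) (fun b b' => by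
    have := addV' b 0 b' 0
    rw [add_zero] at this
    rw [this])
  have hZ : ∀ c, α ⟨0, 0, c⟩ = ⟨0, 0, l c⟩ := by
    intro c
    ext
    · exact haV 0 c
    · exact hbV 0 c
    · rfl
  have hA : ∀ a, α ⟨a, 0, 0⟩ = ⟨f a, 0, μ a⟩ := by
    intro a
    ext
    · rfl
    · exact hbV a 0
    · rfl
  have hB : ∀ b, α ⟨0, b, 0⟩ = ⟨0, g b, μ' b⟩ := by
    intro b
    ext
    · exact haV b 0
    · rfl
    · rfl
  have hAC : ∀ a c, α ⟨a, 0, c⟩ = ⟨f a, 0, l c + μ a⟩ := by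
    intro a c
    have := addV 0 c a 0
    rw [zero_add, add_zero, hZ, hA] at this
    rw [this]
    ext <;> simp
  have hBC : ∀ b c, α ⟨0, b, c⟩ = ⟨0, g b, l c + μ' b⟩ := by
    intro b c
    have := addV' 0 c b 0
    rw [zero_add, add_zero, hZ, hB] at this
    rw [this]
    ext <;> simp
  -- the functional equation
  have hfe : ∀ x y, l (x * y) = g x * f y := by
    intro x y
    have e1 : (⟨0, x, 0⟩ : Hs K) * ⟨y, 0, 0⟩ = ⟨0, 0, x * y⟩ * (⟨y, 0, 0⟩ * ⟨0, x, 0⟩) := by ext <;> simp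
    have e2 := congrArg α e1
    simp only [map_mul, hA, hB, hZ] at e2
    have e3 := congrArg Hs.c e2
    simp only [mul_c, mul_a] at e3
    linear_combination -e3
  have hl1 : l 1 ≠ 0 := by
    intro h0
    have e1 : α ⟨0, 0, 1⟩ = α 1 := by
      rw [hZ, h0, map_one]; rfl
    have e2 := congrArg Hs.c (α.injective e1)
    simp at e2
  obtain ⟨ν, ν', σ, hf, hg, hl⟩ := fun_eq f g l hfe hl1
  -- the linearity of `μ`, `μ'`
  obtain ⟨m, hm⟩ : ∃ m, ∀ a, μ a = m * σ a := by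
    obtain ⟨p, q, r, s, hw⟩ := h3
    simp only [hAC] at hw
    have ea := fun a c => congrArg Hs.a (hw a c)
    simp only at ea
    have e1 := ea 0 1
    have e2 := fun a => ea a 0
    simp only [neg_zero, map_zero, zero_add, add_zero, mul_zero, map_neg, hf, hl, map_one, mul_one] at e1 e2
    have hp : p ≠ 0 := by
      rintro rfl
      rw [zero_mul] at e1
      exact ν.ne_zero (by simpa using e1)
    refine ⟨-(q * ν) / p, fun a => ?_⟩
    have e3 := e2 a
    field_simp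
    linear_combination -e3
  obtain ⟨m', hm'⟩ : ∃ m', ∀ b, μ' b = m' * σ b := by
    obtain ⟨p, q, r, s, hw⟩ := h4
    simp only [hBC] at hw
    have ea := fun a c => congrArg Hs.b (hw a c)
    simp only at ea
    have e1 := ea 0 1
    have e2 := fun a => ea a 0
    simp only [neg_zero, map_zero, zero_add, add_zero, mul_zero, map_neg, hg, hl, map_one, mul_one] at e1 e2
    have hp : p ≠ 0 := by
      rintro rfl
      rw [zero_mul] at e1
      exact ν'.ne_zero (by simpa using e1)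
    refine ⟨-(q * ν') / p, fun a => ?_⟩
    have e3 := e2 a
    field_simp
    linear_combination -e3
  refine ⟨⟨-(m' / ν'), m / ν, 0⟩, ν, ν', σ, ?_⟩
  ext1 t
  have ht : t = ⟨t.a, 0, t.c⟩ * ⟨0, t.b, 0⟩ := by ext <;> simp
  have e1 : α t = ⟨f t.a, 0, l t.c + μ t.a⟩ * ⟨0, g t.b, μ' t.b⟩ := by
    nth_rw 1 [ht]
    rw [map_mul, hAC, hB]
  rw [e1, MulAut.mul_apply, conj_apply, del_apply, hf, hg, hl, hm, hm']
  have hν := ν.ne_zero
  have hν' := ν'.ne_zero
  ext
  · simp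
  · simp
  · simp only [mul_c, mul_zero, add_zero]
    field_simp
    ring

end Hs

end Cfsg.Agent.H780.HL
end

-- part: H780/HL/HsT
section
/-!
# S5175 [L]: elementary abelian subgroups of the Heisenberg group in characteristic 2 (helper780)
-/

set_option autoImplicit false

namespace Cfsg.Agent.H780.HL

namespace Hs

variable {K : Type*} [Field K]

theorem comm_iff (s t : Hs K) : s * t = t * s ↔ s.b * t.a = t.b * s.a := by
  constructor
  · intro h
    have := congrArg Hs.c h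
    simp only [mul_c] at this
    linear_combination this
  · intro h
    ext
    · simp [add_comm]
    · simp [add_comm]
    · simp only [mul_c]
      linear_combination h

theorem ab_of_sq (h2 : (2 : K) = 0) {s : Hs K} (h : s * s = 1) : s.a = 0 ∨ s.b = 0 := by
  have := congrArg Hs.c h
  simp only [mul_c, one_c] at this
  have h3 : s.b * s.a = 0 := by linear_combination this - s.c * h2
  rcases mul_eq_zero.1 h3 with h | h
  · exact Or.inr h
  · exact Or.inl h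

theorem sq_of (h2 : (2 : K) = 0) {s : Hs K} (h : s.a = 0 ∨ s.b = 0) : s * s = 1 := by
  have h3 : s.b * s.a = 0 := by rcases h with h | h <;> rw [h] <;> simp
  ext
  · simp only [mul_a, one_a]; linear_combination s.a * h2
  · simp only [mul_b, one_b]; linear_combination s.b * h2
  · simp only [mul_c, one_c]; linear_combination s.c * h2 + h3

theorem ab_set (h2 : (2 : K) = 0) (B : Hs K → Prop) (h1 : ∀ s, B s → s * s = 1)
    (h3 : ∀ s, B s → ∀ s', B s' → s * s' = s' * s) : (∀ s, B s → s.b = 0) ∨ (∀ s, B s → s.a = 0) := by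
  by_cases h : ∀ s, B s → s.b = 0
  · exact Or.inl h
  · push Not at h
    obtain ⟨s, hs, hsb⟩ := h
    right
    intro t ht
    have h4 := (comm_iff s t).1 (h3 s hs t ht)
    have h5 : s.a = 0 := (ab_of_sq h2 (h1 s hs)).resolve_right hsb
    rw [h5, mul_zero] at h4
    exact (mul_eq_zero.1 h4).resolve_left hsb

theorem aut_cases (h2 : (2 : K) = 0) (α : MulAut (Hs K)) :
    ((∀ t : Hs K, t.b = 0 → (α t).b = 0) ∧ (∀ t : Hs K, t.a = 0 → (α t).a = 0)) ∨
    ((∀ t : Hs K, t.b = 0 → (α t).a = 0) ∧ (∀ t : Hs K, t.a = 0 → (α t).b = 0)) := by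
  have hV := ab_set h2 (fun s => ∃ t : Hs K, t.b = 0 ∧ α t = s) (by
    rintro _ ⟨t, ht, rfl⟩
    rw [← map_mul, sq_of h2 (Or.inr ht), map_one]) (by
    rintro _ ⟨t, ht, rfl⟩ _ ⟨t', ht', rfl⟩
    rw [← map_mul, ← map_mul, (comm_iff t t').2 (by rw [ht, ht', zero_mul, zero_mul])])
  have hV' := ab_set h2 (fun s => ∃ t : Hs K, t.a = 0 ∧ α t = s) (by
    rintro _ ⟨t, ht, rfl⟩
    rw [← map_mul, sq_of h2 (Or.inl ht), map_one]) (by
    rintro _ ⟨t, ht, rfl⟩ _ ⟨t', ht', rfl⟩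
    rw [← map_mul, ← map_mul, (comm_iff t t').2 (by rw [ht, ht', mul_zero, mul_zero])])
  have hdec : ∀ t : Hs K, t = ⟨t.a, 0, t.c⟩ * ⟨0, t.b, 0⟩ := by intro t; ext <;> simp
  rcases hV with hV | hV
  · rcases hV' with hV' | hV'
    · exfalso
      have key : ∀ t : Hs K, (α t).b = 0 := by
        intro t
        rw [hdec t, map_mul, mul_b, hV _ ⟨⟨t.a, 0, t.c⟩, rfl, rfl⟩, hV' _ ⟨⟨0, t.b, 0⟩, rfl, rfl⟩, add_zero]
      have := key (α⁻¹ ⟨0, 1, 0⟩)
      rw [MulAut.apply_inv_self] at this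
      exact one_ne_zero this
    · exact Or.inl ⟨fun t ht => hV _ ⟨t, ht, rfl⟩, fun t ht => hV' _ ⟨t, ht, rfl⟩⟩
  · rcases hV' with hV' | hV'
    · exact Or.inr ⟨fun t ht => hV _ ⟨t, ht, rfl⟩, fun t ht => hV' _ ⟨t, ht, rfl⟩⟩
    · exfalso
      have key : ∀ t : Hs K, (α t).a = 0 := by
        intro t
        rw [hdec t, map_mul, mul_a, hV _ ⟨⟨t.a, 0, t.c⟩, rfl, rfl⟩, hV' _ ⟨⟨0, t.b, 0⟩, rfl, rfl⟩, add_zero]
      have := key (α⁻¹ ⟨1, 0, 0⟩)
      rw [MulAut.apply_inv_self] at this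
      exact one_ne_zero this

theorem card_hs [Finite K] : Nat.card (Hs K) = Nat.card K ^ 3 := by
  have e : Hs K ≃ K × K × K :=
    { toFun := fun t => (t.a, t.b, t.c)
      invFun := fun v => ⟨v.1, v.2.1, v.2.2⟩
      left_inv := fun t => rfl
      right_inv := fun v => rfl }
  rw [Nat.card_congr e, Nat.card_prod, Nat.card_prod]; ring

end Hs

end Cfsg.Agent.H780.HL
end

-- part: H780/HL/Defs
section
/-!
# S5175 [L]: interface between the coordinates, the fusion side and the group side (helper780)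
-/

set_option autoImplicit false

namespace Cfsg.Agent.H780.HL

open Cfsg Cfsg.FusionSystem Cfsg.Agent.H756.HM

universe u

/-! ### Coordinates (helper770) -/

/-- Coordinates on `T` in the case `D = 1`: `u a b c` multiplies like the matrix `!![1, b, c; 0, 1, a; 0, 0, 1]`, `V = {b = 0}`,
`V^x = {a = 0}`, `E = SL₂(K)` on the vectors `(c, a)` of `V`, and `E^x = SL₂(K)` on the vectors `(c, b)` of `V^x`. -/
structure LC {Ω : Type*} [Group Ω] {S : Subgroup Ω} {F : FusionSystem S} {K : Type} [Field K] [Fintype K]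
    {V T : Subgroup Ω} {x : Ω} (B : Big F K V T x) where
  u : K → K → K → Ω
  mem : ∀ a b c, u a b c ∈ T
  surj : ∀ t ∈ T, ∃ a b c, t = u a b c
  inj : ∀ a b c a' b' c', u a b c = u a' b' c' → a = a' ∧ b = b' ∧ c = c'
  mul : ∀ a b c a' b' c', u a b c * u a' b' c' = u (a + a') (b + b') (c + c' + b * a')
  memV : ∀ a b c, u a b c ∈ V ↔ b = 0
  memVx : ∀ a b c, u a b c ∈ cj x V ↔ a = 0
  /-- every `e ∈ E` acts on `(c, a)` by a matrix of determinant one -/
  E1 : ∀ e ∈ B.E, ∃ g : Matrix.SpecialLinearGroup (Fin 2) K, ∀ (a c : K) (h : u a 0 c ∈ V),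
    ((e ⟨u a 0 c, h⟩ : V) : Ω) = u (g.1 1 0 * c + g.1 1 1 * a) 0 (g.1 0 0 * c + g.1 0 1 * a)
  /-- and every matrix of determinant one occurs -/
  E2 : ∀ g : Matrix.SpecialLinearGroup (Fin 2) K, ∃ e ∈ B.E, ∀ (a c : K) (h : u a 0 c ∈ V),
    ((e ⟨u a 0 c, h⟩ : V) : Ω) = u (g.1 1 0 * c + g.1 1 1 * a) 0 (g.1 0 0 * c + g.1 0 1 * a)
  /-- every `e^x`, `e ∈ E`, acts on `(c, b)` by a matrix of determinant one -/
  E3 : ∀ e ∈ B.E, ∃ g : Matrix.SpecialLinearGroup (Fin 2) K, ∀ (b c : K) (h : x⁻¹ * u 0 b c * x ∈ V),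
    x * ((e ⟨x⁻¹ * u 0 b c * x, h⟩ : V) : Ω) * x⁻¹ = u 0 (g.1 1 0 * c + g.1 1 1 * b) (g.1 0 0 * c + g.1 0 1 * b)
  /-- and every matrix of determinant one occurs -/
  E4 : ∀ g : Matrix.SpecialLinearGroup (Fin 2) K, ∃ e ∈ B.E, ∀ (b c : K) (h : x⁻¹ * u 0 b c * x ∈ V),
    x * ((e ⟨x⁻¹ * u 0 b c * x, h⟩ : V) : Ω) * x⁻¹ = u 0 (g.1 1 0 * c + g.1 1 1 * b) (g.1 0 0 * c + g.1 0 1 * b)

/-- the coordinates exist -/
def StLC : Prop :=
  ∀ {Ω : Type u} [Group Ω] {S : Subgroup Ω} [Finite S], IsPGroup 2 S →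
    ∀ (F : FusionSystem S), F.IsSaturated 2 →
    ∀ (K : Type) [Field K] [Fintype K] (V T : Subgroup Ω) (x : Ω) (b : Big F K V T x),
    fixS V b.E = ⊥ → Nonempty (LC b)

/-! ### Group side (helper497) -/

/-- `Y` is a group of diagonal-field-graph automorphisms of `SL₃(K)` of order `2 · odd`, containing the inner
automorphisms of the diagonal matrices, not contained in the group of diagonal-field automorphisms. -/
structure GY {K : Type} [Field K] [Fintype K] (Y : Subgroup (MulAut (SL3 K))) : Prop where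
  q4 : 4 ≤ Fintype.card K
  char2 : ∃ n : ℕ, Fintype.card K = 2 ^ n
  le : Y ≤ DD K
  tor : ∀ w : Fin 3 → Kˣ, w 0 * w 1 * w 2 = 1 → dconj w ∈ Y
  card : ∃ m : ℕ, Odd m ∧ Nat.card Y = 2 * m
  nle : ¬ Y ≤ DF K

/-- the inner automorphisms of `SL₃(K)` -/
abbrev InnS (K : Type) [Field K] : Subgroup (MulAut (SL3 K)) := (MulAut.conj : SL3 K →* MulAut (SL3 K)).range

/-- the group `PSL₃(K) Y` -/
abbrev GG {K : Type} [Field K] (Y : Subgroup (MulAut (SL3 K))) : Subgroup (MulAut (SL3 K)) := InnS K ⊔ Y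

/-- G1: orders -/
def StG1 : Prop := ∀ {K : Type} [Field K] [Fintype K] (Y : Subgroup (MulAut (SL3 K))), GY Y →
  (∃ m : ℕ, Odd m ∧ Nat.card (GG Y) = 2 * Fintype.card K ^ 3 * m) ∧
  (∃ m : ℕ, Odd m ∧ Nat.card (InnS K) = Fintype.card K ^ 3 * m) ∧ Nat.card (Th K) = Fintype.card K ^ 3

/-- G2: the normalizer of the unitriangular group in `GG Y` -/
def StG2 : Prop := ∀ {K : Type} [Field K] [Fintype K] (Y : Subgroup (MulAut (SL3 K))), GY Y →
  ∀ g ∈ GG Y, (∀ t ∈ Th K, g * t * g⁻¹ ∈ Th K) → ∃ t ∈ Th K, ∃ y ∈ Y, g = t * y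

/-- G3: the elements of `GG Y` normalizing `V = {um a 0 c}` -/
def StG3 : Prop := ∀ {K : Type} [Field K] [Fintype K] (Y : Subgroup (MulAut (SL3 K))), GY Y →
  ∀ g ∈ GG Y, (∀ a c : K, ∃ a' c' : K, g * MulAut.conj (um a 0 c) * g⁻¹ = MulAut.conj (um a' 0 c')) →
    ∃ m : SL3 K, m.1 2 0 = 0 ∧ m.1 2 1 = 0 ∧ m.1 2 2 = 1 ∧ ∃ y ∈ Y, y ∈ DF K ∧ g = MulAut.conj m * y

/-- G5: the structure of `G ≅ GG Y` -/
def StG5 : Prop := ∀ {K : Type} [Field K] [Fintype K] (Y : Subgroup (MulAut (SL3 K))), GY Y →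
  ∀ {G : Type u} [Group G] (_ : G ≃* ↥(GG Y)),
    Nonempty (↥(generalizedFittingSubgroup G) ≃* Matrix.ProjectiveSpecialLinearGroup (Fin 3) K) ∧
    generalizedFittingSubgroup G ≤ pResidual 2 G ∧
    Odd ((generalizedFittingSubgroup G).subgroupOf (pResidual 2 G)).index ∧
    (pResidual 2 G).index = 2

end Cfsg.Agent.H780.HL
end

-- part: H780/HL/Coord
section
/-!
# S5175 [L]: the coordinates of `T` and the maps of `F` on `T` (helper780)
-/

set_option autoImplicit false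
set_option linter.unusedSectionVars false

namespace Cfsg.Agent.H780.HL

open Cfsg Cfsg.FusionSystem Cfsg.Agent.H756.HM Cfsg.Agent.H752 Hs

universe u

variable {Ω : Type u} [Group Ω] {S : Subgroup Ω} {F : FusionSystem S} {K : Type} [Field K] [Fintype K]
  {V T : Subgroup Ω} {x : Ω}

theorem mem_cj {v : Ω} : v ∈ cj x V ↔ x⁻¹ * v * x ∈ V := by
  constructor
  · rintro ⟨w, hw, rfl⟩
    have : x⁻¹ * (MulAut.conj x).toMonoidHom w * x = w := by
      show x⁻¹ * (x * w * x⁻¹) * x = w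
      group
    rwa [this]
  · intro h
    exact ⟨_, h, by show x * (x⁻¹ * v * x) * x⁻¹ = v; group⟩

theorem T_le (b : Big F K V T x) : T ≤ S := by rw [← b.nor]; exact inf_le_left

theorem V_le_T (b : Big F K V T x) : V ≤ T := by
  rw [← b.nor]; exact le_inf b.V_le Subgroup.le_normalizer

theorem xT (b : Big F K V T x) {t : Ω} (ht : t ∈ T) : x * t * x⁻¹ ∈ T :=
  (Subgroup.mem_normalizer_iff.1 b.x_nor t).1 ht

theorem cj_le_T (b : Big F K V T x) : cj x V ≤ T := by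
  intro v hv
  have := xT b (V_le_T b (mem_cj.1 hv))
  have e : x * (x⁻¹ * v * x) * x⁻¹ = v := by group
  rwa [e] at this

theorem S_nor (b : Big F K V T x) {s t : Ω} (hs : s ∈ S) (ht : t ∈ T) : s * t * s⁻¹ ∈ T := by
  have h1 : (T.subgroupOf S).index = 2 := b.S_idx
  have h2 := Subgroup.normal_of_index_eq_two h1
  have := h2.conj_mem ⟨t, T_le b ht⟩ ht ⟨s, hs⟩
  exact this

theorem normalizerIn_T (b : Big F K V T x) : normalizerIn S T = S := by
  refine le_antisymm inf_le_left (le_inf le_rfl fun s hs => ?_)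
  rw [Subgroup.mem_normalizer_iff]
  intro t
  constructor
  · exact S_nor b hs
  · intro h
    have := S_nor b (S.inv_mem hs) h
    have e : s⁻¹ * (s * t * s⁻¹) * s⁻¹⁻¹ = t := by group
    rwa [e] at this

theorem S_dich (b : Big F K V T x) {s : Ω} (hs : s ∈ S) : s ∈ T ∨ x⁻¹ * s ∈ T := by
  have h1 : (T.subgroupOf S).index = 2 := b.S_idx
  by_cases h : s ∈ T
  · exact Or.inl h
  · right
    have h2 := (Subgroup.mul_mem_iff_of_index_two h1 (a := ⟨x⁻¹, S.inv_mem b.x_mem⟩) (b := ⟨s, hs⟩)).2 (by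
      constructor
      · intro h3
        exact (b.x_not ((Subgroup.inv_mem_iff T).1 h3)).elim
      · intro h3
        exact (h h3).elim)
    exact h2

theorem two_zero (b : Big F K V T x) : (2 : K) = 0 := by
  have h := FiniteField.cast_card_eq_zero K
  rw [b.hK, Nat.cast_pow] at h
  exact_mod_cast pow_eq_zero_iff (n := b.n) (by have := b.hn; omega) |>.1 h

section Kap

variable {b : Big F K V T x} (c : LC b)

/-- the parametrization of `T` by the Heisenberg group -/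
def kap : Hs K →* Ω where
  toFun t := c.u t.a t.b t.c
  map_one' := by
    have h := c.mul 0 0 0 0 0 0
    simp only [add_zero, mul_zero] at h
    exact mul_eq_left.1 h
  map_mul' s t := (c.mul _ _ _ _ _ _).symm

theorem kap_apply (t : Hs K) : kap c t = c.u t.a t.b t.c := rfl

theorem kap_inj : Function.Injective (kap c) := by
  intro s t h
  obtain ⟨h1, h2, h3⟩ := c.inj _ _ _ _ _ _ h
  exact Hs.ext h1 h2 h3

theorem kap_mem (t : Hs K) : kap c t ∈ T := c.mem _ _ _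

theorem kap_surj {t : Ω} (ht : t ∈ T) : ∃ s, kap c s = t := by
  obtain ⟨a, b', c', h⟩ := c.surj t ht
  exact ⟨⟨a, b', c'⟩, h.symm⟩

theorem kap_V (t : Hs K) : kap c t ∈ V ↔ t.b = 0 := c.memV _ _ _

theorem kap_Vx (t : Hs K) : kap c t ∈ cj x V ↔ t.a = 0 := c.memVx _ _ _

/-- the Heisenberg group is `T` -/
noncomputable def kapE : Hs K ≃* T :=
  MulEquiv.ofBijective ((kap c).codRestrict T (kap_mem c))
    ⟨fun s t h => kap_inj c (congrArg Subtype.val h), fun t => by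
      obtain ⟨s, hs⟩ := kap_surj c t.2
      exact ⟨s, Subtype.ext hs⟩⟩

theorem kapE_apply (t : Hs K) : ((kapE c t : T) : Ω) = kap c t := rfl

theorem kap_symm (t : T) : kap c ((kapE c).symm t) = t := by
  rw [← kapE_apply, MulEquiv.apply_symm_apply]

/-- a map of `F` on `T` with values in `T` is an automorphism of the Heisenberg group -/
theorem exists_alpha [Finite S] {f : Ω → Ω} (hf : Mp F T f) (hfT : ∀ t ∈ T, f t ∈ T) :
    ∃ α : MulAut (Hs K), ∀ t, f (kap c t) = kap c (α t) := by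
  have : Finite T := H802.finite_of_le (T_le b)
  obtain ⟨α, -, hα⟩ := hf.exists_aut hfT
  refine ⟨((kapE c).trans α).trans (kapE c).symm, fun t => ?_⟩
  have h1 : (((kapE c).trans α).trans (kapE c).symm) t = (kapE c).symm (α (kapE c t)) := rfl
  rw [h1, kap_symm, hα _ (kap_mem c t)]
  rfl

/-- the normality of `E`, for functions -/
theorem n1 [Finite S] (b : Big F K V T x) {f : Ω → Ω} (hf : Mp F V f) (hfV : ∀ v ∈ V, f v ∈ V) {e : MulAut V}
    (he : e ∈ b.E) : ∃ e' ∈ b.E, ∀ (v : Ω) (hv : v ∈ V) (hfv : f v ∈ V),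
      f ((e ⟨v, hv⟩ : V) : Ω) = ((e' ⟨f v, hfv⟩ : V) : Ω) := by
  have : Finite V := H802.finite_of_le b.V_le
  obtain ⟨α, hα, h1⟩ := hf.exists_aut hfV
  refine ⟨α * e * α⁻¹, b.E_nor α hα e he, fun v hv hfv => ?_⟩
  rw [h1 _ (e ⟨v, hv⟩).2]
  have h2 : (⟨f v, hfv⟩ : V) = α ⟨v, hv⟩ := Subtype.ext (h1 v hv)
  rw [h2, MulAut.mul_apply, MulAut.mul_apply, MulAut.inv_apply_self]

/-- the two charts of `V` -/
def ww (i : Bool) (a d : K) : Ω := if i then x⁻¹ * c.u 0 a d * x else c.u a 0 d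

theorem ww_mem (i : Bool) (a d : K) : ww c i a d ∈ V := by
  unfold ww
  split_ifs
  · exact mem_cj.1 ((c.memVx _ _ _).2 rfl)
  · exact (c.memV _ _ _).2 rfl

theorem ww_inj (i : Bool) {a d a' d' : K} (h : ww c i a d = ww c i a' d') : a = a' ∧ d = d' := by
  unfold ww at h
  split_ifs at h
  · have := c.inj _ _ _ _ _ _ (mul_left_cancel (mul_right_cancel h))
    exact ⟨this.2.1, this.2.2⟩
  · have := c.inj _ _ _ _ _ _ h
    exact ⟨this.1, this.2.2⟩

theorem ee (i : Bool) {e : MulAut V} (he : e ∈ b.E) : ∃ g : Matrix.SpecialLinearGroup (Fin 2) K, ∀ (a d : K)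
    (h : ww c i a d ∈ V), ((e ⟨ww c i a d, h⟩ : V) : Ω) = ww c i (g.1 1 0 * d + g.1 1 1 * a) (g.1 0 0 * d + g.1 0 1 * a) := by
  cases i
  · obtain ⟨g, hg⟩ := c.E1 e he
    exact ⟨g, fun a d h => hg a d h⟩
  · obtain ⟨g, hg⟩ := c.E3 e he
    refine ⟨g, fun a d h => ?_⟩
    have := hg a d h
    show _ = x⁻¹ * c.u 0 (g.1 1 0 * d + g.1 1 1 * a) (g.1 0 0 * d + g.1 0 1 * a) * x
    rw [← this]
    have e1 : ((e ⟨ww c true a d, h⟩ : V) : Ω) = ((e ⟨x⁻¹ * c.u 0 a d * x, h⟩ : V) : Ω) := rfl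
    rw [e1]
    group

theorem ee' (i : Bool) (g : Matrix.SpecialLinearGroup (Fin 2) K) : ∃ e ∈ b.E, ∀ (a d : K)
    (h : ww c i a d ∈ V), ((e ⟨ww c i a d, h⟩ : V) : Ω) = ww c i (g.1 1 0 * d + g.1 1 1 * a) (g.1 0 0 * d + g.1 0 1 * a) := by
  cases i
  · obtain ⟨e, he, hg⟩ := c.E2 g
    exact ⟨e, he, fun a d h => hg a d h⟩
  · obtain ⟨e, he, hg⟩ := c.E4 g
    refine ⟨e, he, fun a d h => ?_⟩
    have := hg a d h
    show _ = x⁻¹ * c.u 0 (g.1 1 0 * d + g.1 1 1 * a) (g.1 0 0 * d + g.1 0 1 * a) * x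
    rw [← this]
    have e1 : ((e ⟨ww c true a d, h⟩ : V) : Ω) = ((e ⟨x⁻¹ * c.u 0 a d * x, h⟩ : V) : Ω) := rfl
    rw [e1]
    group

/-- the linearity of the image of the Weyl matrix, in charts -/
theorem lin_chart [Finite S] (i j : Bool) {f : Ω → Ω} (hf : Mp F V f) (hfV : ∀ v ∈ V, f v ∈ V) (A B : K → K → K)
    (hA : ∀ a d, f (ww c i a d) = ww c j (A a d) (B a d)) :
    ∃ p q r s : K, ∀ a d, A (-d) a = p * B a d + q * A a d ∧ B (-d) a = r * B a d + s * A a d := by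
  obtain ⟨e, he, hE⟩ := ee' c i ⟨!![0, 1; -1, 0], by simp [Matrix.det_fin_two]⟩
  obtain ⟨e', he', h2⟩ := n1 b hf hfV he
  obtain ⟨g, hg⟩ := ee c j he'
  refine ⟨g.1 1 0, g.1 1 1, g.1 0 0, g.1 0 1, fun a d => ?_⟩
  have e1 := hE a d (ww_mem c i a d)
  have e2 := h2 _ (ww_mem c i a d) (hfV _ (ww_mem c i a d))
  have e3 : ww c i ((-1) * d + 0 * a) (0 * d + 1 * a) = ww c i (-d) a := by congr 1 <;> ring
  have e4 : ((e ⟨ww c i a d, ww_mem c i a d⟩ : V) : Ω) = ww c i (-d) a := by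
    rw [e1, ← e3]; rfl
  rw [e4, hA] at e2
  have e5 : (⟨f (ww c i a d), hfV _ (ww_mem c i a d)⟩ : V) = ⟨ww c j (A a d) (B a d), ww_mem c j _ _⟩ :=
    Subtype.ext (hA a d)
  rw [e5, hg] at e2
  exact ww_inj c j e2

/-- the maps of `F` on `T`, in coordinates, preserving `V` -/
theorem form_V [Finite S] {f : Ω → Ω} (hf : Mp F T f) {α : MulAut (Hs K)} (hα : ∀ t, f (kap c t) = kap c (α t))
    (h1 : ∀ t : Hs K, t.b = 0 → (α t).b = 0) (h2 : ∀ t : Hs K, t.a = 0 → (α t).a = 0) :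
    ∃ (t : Hs K) (ν ν' : Kˣ) (σ : K ≃+* K), α = MulAut.conj t * del ν ν' σ := by
  have hVk : ∀ v ∈ V, ∃ s : Hs K, s.b = 0 ∧ kap c s = v := by
    intro v hv
    obtain ⟨s, rfl⟩ := kap_surj c (V_le_T b hv)
    exact ⟨s, (kap_V c s).1 hv, rfl⟩
  have hVxk : ∀ v ∈ V, ∃ s : Hs K, s.a = 0 ∧ kap c s = x * v * x⁻¹ := by
    intro v hv
    obtain ⟨s, hs⟩ := kap_surj c (xT b (V_le_T b hv))
    refine ⟨s, (kap_Vx c s).1 ?_, hs⟩
    rw [hs]
    exact ⟨v, hv, rfl⟩
  refine aut_form α h1 h2 ?_ ?_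
  · obtain ⟨p, q, r, s, h⟩ := lin_chart c false false (hf.res (V_le_T b)) (by
      intro v hv
      obtain ⟨s, hs, rfl⟩ := hVk v hv
      rw [hα, kap_V]
      exact h1 s hs) (fun a d => (α ⟨a, 0, d⟩).a) (fun a d => (α ⟨a, 0, d⟩).c) (by
      intro a d
      show f (kap c ⟨a, 0, d⟩) = c.u _ 0 _
      rw [hα, kap_apply, h1 _ rfl])
    refine ⟨p, q, r, s, fun a d => ?_⟩
    ext
    · exact (h a d).1
    · exact h1 _ rfl
    · exact (h a d).2
  · have hm : Mp F V (fun v => x⁻¹ * f (x * v * x⁻¹) * x) := by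
      have e1 := (mp_conj F b.V_le b.x_mem).comp (hf.res le_rfl) (fun v hv => xT b (V_le_T b hv))
      have e2 := e1.comp (mp_conj F le_rfl (S.inv_mem b.x_mem)) (fun v hv => e1.mem hv)
      refine e2.congr fun v _ => ?_
      simp
    obtain ⟨p, q, r, s, h⟩ := lin_chart c true true hm (by
      intro v hv
      obtain ⟨s, hs, h3⟩ := hVxk v hv
      show x⁻¹ * f (x * v * x⁻¹) * x ∈ V
      rw [← mem_cj, ← h3, hα, kap_Vx]
      exact h2 s hs) (fun a d => (α ⟨0, a, d⟩).b) (fun a d => (α ⟨0, a, d⟩).c) (by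
      intro a d
      show x⁻¹ * f (x * (x⁻¹ * c.u 0 a d * x) * x⁻¹) * x = x⁻¹ * c.u 0 _ _ * x
      have e3 : x * (x⁻¹ * c.u 0 a d * x) * x⁻¹ = kap c ⟨0, a, d⟩ := by rw [kap_apply]; group
      rw [e3, hα, kap_apply, h2 _ rfl])
    refine ⟨p, q, r, s, fun a d => ?_⟩
    ext
    · exact h2 _ rfl
    · exact (h a d).1
    · exact (h a d).2

/-- the maps of `F` on `T`, in coordinates, exchanging `V` and `V^x` -/
theorem form_Vx [Finite S] {f : Ω → Ω} (hf : Mp F T f) {α : MulAut (Hs K)} (hα : ∀ t, f (kap c t) = kap c (α t))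
    (h1 : ∀ t : Hs K, t.b = 0 → (α t).a = 0) (h2 : ∀ t : Hs K, t.a = 0 → (α t).b = 0) :
    ∃ (t : Hs K) (ν ν' : Kˣ) (σ : K ≃+* K), α = MulAut.conj t * (del ν ν' σ * gam) := by
  have hVk : ∀ v ∈ V, ∃ s : Hs K, s.b = 0 ∧ kap c s = v := by
    intro v hv
    obtain ⟨s, rfl⟩ := kap_surj c (V_le_T b hv)
    exact ⟨s, (kap_V c s).1 hv, rfl⟩
  have hVxk : ∀ v ∈ V, ∃ s : Hs K, s.a = 0 ∧ kap c s = x * v * x⁻¹ := by
    intro v hv
    obtain ⟨s, hs⟩ := kap_surj c (xT b (V_le_T b hv))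
    refine ⟨s, (kap_Vx c s).1 ?_, hs⟩
    rw [hs]
    exact ⟨v, hv, rfl⟩
  have hga : ∀ t : Hs K, ((gam * α : MulAut (Hs K)) t).a = -(α t).b := fun t => rfl
  have hgb : ∀ t : Hs K, ((gam * α : MulAut (Hs K)) t).b = -(α t).a := fun t => rfl
  have hgc : ∀ t : Hs K, ((gam * α : MulAut (Hs K)) t).c = -(α t).c + (α t).b * (α t).a := fun t => rfl
  obtain ⟨t, ν, ν', σ, h⟩ := aut_form (gam * α) (fun t ht => by rw [hgb, h1 t ht, neg_zero])
    (fun t ht => by rw [hga, h2 t ht, neg_zero]) (by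
    have hm : Mp F V (fun v => x⁻¹ * f v * x) := by
      have e2 := (hf.res (V_le_T b)).comp (mp_conj F le_rfl (S.inv_mem b.x_mem)) (fun v hv => hf.mem (V_le_T b hv))
      refine e2.congr fun v _ => ?_
      simp
    obtain ⟨p, q, r, s, h⟩ := lin_chart c false true hm (by
      intro v hv
      obtain ⟨s, hs, rfl⟩ := hVk v hv
      rw [← mem_cj, hα, kap_Vx]
      exact h1 s hs) (fun a d => (α ⟨a, 0, d⟩).b) (fun a d => (α ⟨a, 0, d⟩).c) (by
      intro a d
      show x⁻¹ * f (kap c ⟨a, 0, d⟩) * x = x⁻¹ * c.u 0 _ _ * x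
      rw [hα, kap_apply, h1 _ rfl])
    refine ⟨p, q, r, s, fun a d => ?_⟩
    have h3 : ∀ a d : K, (α ⟨a, 0, d⟩).a = 0 := fun a d => h1 _ rfl
    have h4 := h a d
    ext
    · simp only [hga, hgc, h3, mul_zero, add_zero]
      rw [h4.1]; ring
    · simp only [hgb, h3, neg_zero]
    · simp only [hga, hgc, h3, mul_zero, add_zero]
      rw [h4.2]; ring) (by
    have hm : Mp F V (fun v => f (x * v * x⁻¹)) :=
      (mp_conj F b.V_le b.x_mem).comp (hf.res le_rfl) (fun v hv => xT b (V_le_T b hv))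
    obtain ⟨p, q, r, s, h⟩ := lin_chart c true false hm (by
      intro v hv
      obtain ⟨s, hs, h3⟩ := hVxk v hv
      show f (x * v * x⁻¹) ∈ V
      rw [← h3, hα, kap_V]
      exact h2 s hs) (fun a d => (α ⟨0, a, d⟩).a) (fun a d => (α ⟨0, a, d⟩).c) (by
      intro a d
      show f (x * (x⁻¹ * c.u 0 a d * x) * x⁻¹) = c.u _ 0 _
      have e3 : x * (x⁻¹ * c.u 0 a d * x) * x⁻¹ = kap c ⟨0, a, d⟩ := by rw [kap_apply]; group
      rw [e3, hα, kap_apply, h2 _ rfl])
    refine ⟨p, q, r, s, fun a d => ?_⟩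
    have h3 : ∀ a d : K, (α ⟨0, a, d⟩).b = 0 := fun a d => h2 _ rfl
    have h4 := h a d
    ext
    · simp only [hga, h3, neg_zero]
    · simp only [hgb, hgc, h3, zero_mul, add_zero]
      rw [h4.1]; ring
    · simp only [hgb, hgc, h3, zero_mul, add_zero]
      rw [h4.2]; ring)
  refine ⟨gam t, ν', ν, σ, ?_⟩
  have h5 : α = gam * (gam * α) := by rw [← mul_assoc, gam_mul_gam, one_mul]
  rw [h5, h, ← mul_assoc, Hs.mul_conj, mul_assoc, gam_mul_del]

end Kap

end Cfsg.Agent.H780.HL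
end

private theorem dce_974afce33119 : _root_.True := by
  try have : _root_.True := by simp only [_root_.Cfsg.Agent.H780.HL.um.eq_1]
  try have : _root_.True := by simp only [_root_.Cfsg.Agent.H780.HL.wv.eq_1]
  exact _root_.True.intro
end

-- part: H770/Hen/Fus
section
prune_inst 0x4e0304e007822020000000002a0001c66da00010200680001e0600f0607c9c700884681218e8004101012ae4400300020035c0050420000000a000000011d01a0900852069208a10c66000f800104000000000000000000000000000000000000000000000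
set_option linter.all false
open scoped Cfsg.Agent.FastGrp

-- part: H770/Hen/Crd
section
/-!
# S5175, sections L and J3: coordinates (helper770)

`T = {wb b * va a * zc c}`, the group of unitriangular `3 × 3` matrices over `K`, `V = {va a * zc c}`, `V' = {wb b * zc c}`,
`S = T⟨y⟩` with `y` swapping `V` and `V'`.
-/

set_option autoImplicit false

namespace Cfsg.Agent.H770.Hen

open Cfsg Cfsg.FusionSystem

/-- Coordinates of a Sylow 2-subgroup of `PSL₃(K).2` (unitary-graph or graph type according to `σ`) and of a fusion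
system on it in which `V ≅ K²` is acted on by `SL₂(K)`. -/
structure Crd {Ω : Type*} [Group Ω] {S : Subgroup Ω} (F : FusionSystem S) (K : Type) [Field K]
    (σ : K ≃+* K) where
  va : K → Ω
  wb : K → Ω
  zc : K → Ω
  y : Ω
  va_add : ∀ a b, va (a + b) = va a * va b
  wb_add : ∀ a b, wb (a + b) = wb a * wb b
  zc_add : ∀ a b, zc (a + b) = zc a * zc b
  va_zc : ∀ a c, va a * zc c = zc c * va a
  wb_zc : ∀ b c, wb b * zc c = zc c * wb b
  va_wb : ∀ a b, va a * wb b = wb b * va a * zc (a * b)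
  inj : ∀ a b c, wb b * va a * zc c = 1 → a = 0 ∧ b = 0 ∧ c = 0
  sig : ∀ a, σ (σ a) = a
  y_sq : y * y = 1
  y_va : ∀ a, y * va a * y⁻¹ = wb (σ a)
  y_zc : ∀ c, y * zc c * y⁻¹ = zc (σ c)
  y_not : ∀ a b c, y ≠ wb b * va a * zc c
  mem_S : ∀ s, s ∈ S ↔ ∃ a b c, s = wb b * va a * zc c ∨ s = wb b * va a * zc c * y
  /-- the subgroup `V` -/
  V : Subgroup Ω
  mem_V : ∀ v, v ∈ V ↔ ∃ a c, v = va a * zc c
  /-- `SL₂(K)` acts on `V` in `F` -/
  lin : ∀ p q r s : K, p * s - q * r = 1 → ∃ φ ∈ F.Hom V, ∀ (a c : K) (h : va a * zc c ∈ V),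
    φ ⟨va a * zc c, h⟩ = va (r * c + s * a) * zc (p * c + q * a)
  /-- the automorphisms of `V` in `F` are semilinear -/
  semi : ∀ φ ∈ F.Hom V, (∀ v : V, φ v ∈ V) → ∃ (θ : K ≃+* K) (p q r s : K), p * s - q * r ≠ 0 ∧
    ∀ (a c : K) (h : va a * zc c ∈ V),
      φ ⟨va a * zc c, h⟩ = va (r * θ c + s * θ a) * zc (p * θ c + q * θ a)
  /-- normalization of `y` for `σ = 1` -/
  tor : (∀ a, σ a = a) → ∀ l : K, l ≠ 0 → ∃ φ ∈ F.Hom S, (∀ (a : K) (h : va a ∈ S), φ ⟨va a, h⟩ = va (l * a)) ∧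
    (∀ (b : K) (h : wb b ∈ S), φ ⟨wb b, h⟩ = wb (l * b)) ∧
    (∀ (c : K) (h : zc c ∈ S), φ ⟨zc c, h⟩ = zc (l * l * c)) ∧ ∀ h : y ∈ S, φ ⟨y, h⟩ = y

end Cfsg.Agent.H770.Hen
end

-- part: H770/Hen/Calc
section
/-!
# S5175, sections L and J3: the calculus of coordinates (helper770)
-/

set_option autoImplicit false

namespace Cfsg.Agent.H770.Hen

open Cfsg Cfsg.FusionSystem Cfsg.Agent.H802

/-- The group relations. -/
structure Rel (Ω : Type*) [Group Ω] (K : Type) [Field K] (σ : K ≃+* K) where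
  va : K → Ω
  wb : K → Ω
  zc : K → Ω
  y : Ω
  va_add : ∀ a b, va (a + b) = va a * va b
  wb_add : ∀ a b, wb (a + b) = wb a * wb b
  zc_add : ∀ a b, zc (a + b) = zc a * zc b
  va_zc : ∀ a c, va a * zc c = zc c * va a
  wb_zc : ∀ b c, wb b * zc c = zc c * wb b
  va_wb : ∀ a b, va a * wb b = wb b * va a * zc (a * b)
  inj : ∀ a b c, wb b * va a * zc c = 1 → a = 0 ∧ b = 0 ∧ c = 0
  sig : ∀ a, σ (σ a) = a
  y_sq : ∃ k, y * y = zc k
  y_va : ∀ a, y * va a * y⁻¹ = wb (σ a)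
  y_zc : ∀ c, y * zc c * y⁻¹ = zc (σ c)
  y_not : ∀ a b c, y ≠ wb b * va a * zc c

namespace Rel

variable {Ω : Type*} [Group Ω] {K : Type} [Field K] {σ : K ≃+* K} (R : Rel Ω K σ)

theorem va_zero : R.va 0 = 1 := by
  have := R.va_add 0 0
  rw [add_zero] at this
  have h : R.va 0 * 1 = R.va 0 * R.va 0 := by rw [mul_one]; exact this
  exact (mul_left_cancel h).symm

theorem wb_zero : R.wb 0 = 1 := by
  have := R.wb_add 0 0
  rw [add_zero] at this
  have h : R.wb 0 * 1 = R.wb 0 * R.wb 0 := by rw [mul_one]; exact this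
  exact (mul_left_cancel h).symm

theorem zc_zero : R.zc 0 = 1 := by
  have := R.zc_add 0 0
  rw [add_zero] at this
  have h : R.zc 0 * 1 = R.zc 0 * R.zc 0 := by rw [mul_one]; exact this
  exact (mul_left_cancel h).symm

/-- The general element of `T`. -/
def e (a b c : K) : Ω := R.wb b * R.va a * R.zc c

theorem e_mul (a b c a' b' c' : K) : R.e a b c * R.e a' b' c' = R.e (a + a') (b + b') (c + c' + a * b') := by
  unfold e
  have h1 : R.wb b * R.va a * R.zc c * (R.wb b' * R.va a' * R.zc c') =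
      R.wb b * R.va a * (R.zc c * R.wb b') * R.va a' * R.zc c' := by group
  rw [h1, ← R.wb_zc]
  have h2 : R.wb b * R.va a * (R.wb b' * R.zc c) * R.va a' * R.zc c' =
      R.wb b * (R.va a * R.wb b') * (R.zc c * R.va a') * R.zc c' := by group
  rw [h2, R.va_wb, ← R.va_zc]
  have h3 : R.wb b * (R.wb b' * R.va a * R.zc (a * b')) * (R.va a' * R.zc c) * R.zc c' =
      R.wb b * R.wb b' * R.va a * (R.zc (a * b') * R.va a') * (R.zc c * R.zc c') := by group
  rw [h3, ← R.va_zc, R.va_add, R.wb_add, R.zc_add, R.zc_add]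
  have h4 : R.zc c * R.zc c' * R.zc (a * b') = R.zc (a * b') * (R.zc c * R.zc c') := by
    rw [← R.zc_add, ← R.zc_add, ← R.zc_add]
    congr 1
    ring
  rw [h4]
  group

theorem e_zero : R.e 0 0 0 = 1 := by
  unfold e
  rw [R.va_zero, R.wb_zero, R.zc_zero]
  group

theorem e_inv (a b c : K) : (R.e a b c)⁻¹ = R.e (-a) (-b) (-c + a * b) := by
  rw [inv_eq_iff_mul_eq_one, R.e_mul]
  have h1 : a + -a = 0 := by ring
  have h2 : b + -b = 0 := by ring
  have h3 : c + (-c + a * b) + a * -b = 0 := by ring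
  rw [h1, h2, h3, R.e_zero]

theorem e_eq_one {a b c : K} (h : R.e a b c = 1) : a = 0 ∧ b = 0 ∧ c = 0 := R.inj a b c h

theorem e_inj {a b c a' b' c' : K} (h : R.e a b c = R.e a' b' c') : a = a' ∧ b = b' ∧ c = c' := by
  have h1 : R.e a b c * (R.e a' b' c')⁻¹ = 1 := by rw [h, mul_inv_cancel]
  rw [R.e_inv, R.e_mul] at h1
  obtain ⟨h2, h3, h4⟩ := R.e_eq_one h1
  have ha : a = a' := by linear_combination h2
  have hb : b = b' := by linear_combination h3
  refine ⟨ha, hb, ?_⟩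
  subst ha hb
  linear_combination h4

theorem va_eq (a : K) : R.va a = R.e a 0 0 := by
  unfold e
  rw [R.wb_zero, R.zc_zero]; group

theorem zc_eq (c : K) : R.zc c = R.e 0 0 c := by
  unfold e
  rw [R.va_zero, R.wb_zero]; group

theorem y_sq_comm (a b c : K) : R.y * R.y * R.e a b c = R.e a b c * (R.y * R.y) := by
  obtain ⟨k, hk⟩ := R.y_sq
  rw [hk, R.zc_eq, R.e_mul, R.e_mul]
  congr 1 <;> ring

theorem y_wb (b : K) : R.y * R.wb b * R.y⁻¹ = R.va (σ b) := by
  have h1 := R.y_va (σ b)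
  rw [R.sig] at h1
  rw [← h1]
  have h2 : R.y * (R.y * R.va (σ b) * R.y⁻¹) * R.y⁻¹ = R.y * R.y * R.va (σ b) * (R.y * R.y)⁻¹ := by group
  rw [h2, R.va_eq, R.y_sq_comm, mul_inv_cancel_right]

theorem y_e (a b c : K) : R.y * R.e a b c * R.y⁻¹ = R.e (σ b) (σ a) (σ (c + a * b)) := by
  have h1 : R.y * R.e a b c * R.y⁻¹ = (R.y * R.wb b * R.y⁻¹) * (R.y * R.va a * R.y⁻¹) * (R.y * R.zc c * R.y⁻¹) := by
    unfold e; group
  rw [h1, R.y_va, R.y_wb, R.y_zc, R.va_wb]
  unfold e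
  rw [mul_assoc, ← R.zc_add]
  congr 2
  rw [map_add, map_mul]
  ring

/-- conjugation in `T` -/
theorem e_conj (a b c a' b' c' : K) : R.e a b c * R.e a' b' c' * (R.e a b c)⁻¹ =
    R.e a' b' (c' + a * b' - a' * b) := by
  rw [R.e_inv, R.e_mul, R.e_mul]
  congr 1 <;> ring

theorem y_inv_e (a b c : K) : R.y⁻¹ * R.e a b c * R.y = R.e (σ b) (σ a) (σ (c + a * b)) := by
  have h := R.y_e (σ b) (σ a) (σ (c + a * b))
  rw [R.sig, R.sig] at h
  have h2 : σ (σ (c + a * b) + σ b * σ a) = c + a * b + a * b := by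
    rw [← map_mul, ← map_add, R.sig]; ring
  rw [h2] at h
  -- `y² ` commutes with `T`
  have h3 := R.y_e a b c
  have h4 : R.y⁻¹ * R.e a b c * R.y = (R.y * R.y)⁻¹ * (R.y * R.e a b c * R.y⁻¹) * (R.y * R.y) := by group
  rw [h4, h3, mul_assoc, ← R.y_sq_comm, ← mul_assoc, inv_mul_cancel, one_mul]

/-- the two cosets -/
theorem e_mul_y_ne (a b c a' b' c' : K) : R.e a b c * R.y ≠ R.e a' b' c' := by
  intro h
  have h1 : R.y = (R.e a b c)⁻¹ * R.e a' b' c' := by rw [← h]; group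
  rw [R.e_inv, R.e_mul] at h1
  exact R.y_not _ _ _ h1

/-- The group `T`. -/
def T : Subgroup Ω where
  carrier := {t | ∃ a b c, t = R.e a b c}
  one_mem' := ⟨0, 0, 0, R.e_zero.symm⟩
  mul_mem' := by
    rintro _ _ ⟨a, b, c, rfl⟩ ⟨a', b', c', rfl⟩
    exact ⟨_, _, _, R.e_mul _ _ _ _ _ _⟩
  inv_mem' := by
    rintro _ ⟨a, b, c, rfl⟩
    exact ⟨_, _, _, R.e_inv _ _ _⟩

theorem mem_T {t : Ω} : t ∈ R.T ↔ ∃ a b c, t = R.e a b c := Iff.rfl

theorem e_mem_T (a b c : K) : R.e a b c ∈ R.T := ⟨a, b, c, rfl⟩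

/-- The group `V`. -/
def Vg : Subgroup Ω where
  carrier := {t | ∃ a c, t = R.e a 0 c}
  one_mem' := ⟨0, 0, R.e_zero.symm⟩
  mul_mem' := by
    rintro _ _ ⟨a, c, rfl⟩ ⟨a', c', rfl⟩
    exact ⟨_, _, (R.e_mul _ _ _ _ _ _).trans (by rw [add_zero])⟩
  inv_mem' := by
    rintro _ ⟨a, c, rfl⟩
    exact ⟨_, _, (R.e_inv _ _ _).trans (by rw [neg_zero])⟩

/-- The group `V'`. -/
def Wg : Subgroup Ω where
  carrier := {t | ∃ b c, t = R.e 0 b c}
  one_mem' := ⟨0, 0, R.e_zero.symm⟩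
  mul_mem' := by
    rintro _ _ ⟨a, c, rfl⟩ ⟨a', c', rfl⟩
    exact ⟨_, _, (R.e_mul _ _ _ _ _ _).trans (by rw [add_zero])⟩
  inv_mem' := by
    rintro _ ⟨a, c, rfl⟩
    exact ⟨_, _, (R.e_inv _ _ _).trans (by rw [neg_zero])⟩

/-- The group `Z`. -/
def Zg : Subgroup Ω where
  carrier := {t | ∃ c, t = R.e 0 0 c}
  one_mem' := ⟨0, R.e_zero.symm⟩
  mul_mem' := by
    rintro _ _ ⟨c, rfl⟩ ⟨c', rfl⟩
    exact ⟨_, (R.e_mul _ _ _ _ _ _).trans (by rw [add_zero])⟩
  inv_mem' := by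
    rintro _ ⟨c, rfl⟩
    exact ⟨_, (R.e_inv _ _ _).trans (by rw [neg_zero])⟩

theorem mem_Vg {t : Ω} : t ∈ R.Vg ↔ ∃ a c, t = R.e a 0 c := Iff.rfl
theorem mem_Wg {t : Ω} : t ∈ R.Wg ↔ ∃ b c, t = R.e 0 b c := Iff.rfl
theorem mem_Zg {t : Ω} : t ∈ R.Zg ↔ ∃ c, t = R.e 0 0 c := Iff.rfl

/-- The group `S`. -/
def Sg : Subgroup Ω where
  carrier := {s | ∃ a b c, s = R.e a b c ∨ s = R.e a b c * R.y}
  one_mem' := ⟨0, 0, 0, Or.inl R.e_zero.symm⟩
  mul_mem' := by
    obtain ⟨k, hk⟩ := R.y_sq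
    have hy : ∀ a b c, R.y * R.e a b c = R.e (σ b) (σ a) (σ (c + a * b)) * R.y := by
      intro a b c
      rw [← R.y_e, inv_mul_cancel_right]
    rintro _ _ ⟨a, b, c, rfl | rfl⟩ ⟨a', b', c', rfl | rfl⟩
    · exact ⟨_, _, _, Or.inl (R.e_mul _ _ _ _ _ _)⟩
    · exact ⟨_, _, _, Or.inr (by rw [← mul_assoc, R.e_mul])⟩
    · exact ⟨_, _, _, Or.inr (by rw [mul_assoc, hy, ← mul_assoc, R.e_mul])⟩
    · refine ⟨a + σ b' + 0, b + σ a' + 0, c + σ (c' + a' * b') + a * σ a' + k + (a + σ b') * 0, Or.inl ?_⟩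
      rw [← mul_assoc, mul_assoc (R.e a b c), hy, ← mul_assoc, mul_assoc, hk, R.zc_eq, R.e_mul, R.e_mul]
  inv_mem' := by
    obtain ⟨k, hk⟩ := R.y_sq
    rintro _ ⟨a, b, c, rfl | rfl⟩
    · exact ⟨_, _, _, Or.inl (R.e_inv _ _ _)⟩
    · have h1 : (R.e a b c * R.y)⁻¹ = (R.y⁻¹ * (R.e a b c)⁻¹ * R.y) * (R.y * R.y)⁻¹ * R.y := by group
      rw [R.e_inv, R.y_inv_e, hk, R.zc_eq, R.e_inv, R.e_mul] at h1
      exact ⟨_, _, _, Or.inr h1⟩

theorem mem_Sg {s : Ω} : s ∈ R.Sg ↔ ∃ a b c, s = R.e a b c ∨ s = R.e a b c * R.y := Iff.rfl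

theorem e_mem_V (a c : K) : R.e a 0 c ∈ R.Vg := ⟨a, c, rfl⟩
theorem e_mem_W (b c : K) : R.e 0 b c ∈ R.Wg := ⟨b, c, rfl⟩
theorem T_le_Sg : R.T ≤ R.Sg := by
  rintro _ ⟨a, b, c, rfl⟩
  exact ⟨a, b, c, Or.inl rfl⟩

theorem Vg_le_T : R.Vg ≤ R.T := by
  rintro _ ⟨a, c, rfl⟩
  exact ⟨_, _, _, rfl⟩

theorem Wg_le_T : R.Wg ≤ R.T := by
  rintro _ ⟨a, c, rfl⟩
  exact ⟨_, _, _, rfl⟩

theorem Zg_le_Vg : R.Zg ≤ R.Vg := by
  rintro _ ⟨c, rfl⟩
  exact ⟨_, _, rfl⟩

theorem Zg_le_Wg : R.Zg ≤ R.Wg := by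
  rintro _ ⟨c, rfl⟩
  exact ⟨_, _, rfl⟩

theorem y_mem_Sg : R.y ∈ R.Sg := ⟨0, 0, 0, Or.inr (by rw [R.e_zero, one_mul])⟩

theorem y_not_mem_T : R.y ∉ R.T := fun ⟨a, b, c, h⟩ => R.y_not a b c h

theorem e_y_not_mem_T (a b c : K) : R.e a b c * R.y ∉ R.T := fun ⟨_, _, _, h⟩ => R.e_mul_y_ne _ _ _ _ _ _ h

end Rel

end Cfsg.Agent.H770.Hen
end

-- part: H770/Hen/Fus
section
/-!
# S5175, sections L and J3: subgroups of `S` in coordinates (helper770)
-/

set_option autoImplicit false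

namespace Cfsg.Agent.H770.Hen

open Cfsg Cfsg.FusionSystem Cfsg.Agent.H802

namespace Rel

variable {Ω : Type*} [Group Ω] {K : Type} [Field K] {σ : K ≃+* K} (R : Rel Ω K σ)

include R in
/-- the relations force characteristic two -/
theorem two (a : K) : a + a = 0 := by
  have h1 := R.y_e 1 1 0
  have h2 : R.y * (R.y * R.e 1 1 0 * R.y⁻¹) * R.y⁻¹ = R.e 1 1 0 := by
    have h3 : R.y * (R.y * R.e 1 1 0 * R.y⁻¹) * R.y⁻¹ = R.y * R.y * R.e 1 1 0 * (R.y * R.y)⁻¹ := by group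
    rw [h3, R.y_sq_comm, mul_inv_cancel_right]
  rw [h1, R.y_e] at h2
  obtain ⟨-, -, h3⟩ := R.e_inj h2
  have h4 : (1 : K) + 1 = 0 := by
    have h5 : σ (σ (0 + 1 * 1) + σ 1 * σ 1) = 1 + 1 := by
      simp
    rw [h5] at h3
    exact h3
  linear_combination a * h4

include R in
theorem neg_eq (a : K) : -a = a := by linear_combination -(R.two a)

theorem e_sq (a b c : K) : R.e a b c * R.e a b c = R.e 0 0 (a * b) := by
  rw [R.e_mul, R.two, R.two, R.two, zero_add]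

theorem e_sq_eq_one {a b c : K} (h : R.e a b c ^ 2 = 1) : a = 0 ∨ b = 0 := by
  rw [pow_two, R.e_sq] at h
  exact mul_eq_zero.1 (R.e_eq_one h).2.2

/-- An elementary abelian subgroup of `T` is contained in `V` or in `V'`. -/
theorem le_of_sq {B : Subgroup Ω} (hB : B ≤ R.T) (hsq : ∀ x ∈ B, x ^ 2 = 1) : B ≤ R.Vg ∨ B ≤ R.Wg := by
  by_contra hc
  push Not at hc
  obtain ⟨hv, hw⟩ := hc
  obtain ⟨x, hx, hxv⟩ := SetLike.not_le_iff_exists.1 hv
  obtain ⟨y, hy, hyw⟩ := SetLike.not_le_iff_exists.1 hw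
  obtain ⟨a, b, c, rfl⟩ := hB hx
  obtain ⟨a', b', c', rfl⟩ := hB hy
  have hb : b ≠ 0 := fun h => hxv ⟨a, c, by rw [h]⟩
  have ha' : a' ≠ 0 := fun h => hyw ⟨b', c', by rw [h]⟩
  have ha : a = 0 := (R.e_sq_eq_one (hsq _ hx)).resolve_right hb
  have hb' : b' = 0 := (R.e_sq_eq_one (hsq _ hy)).resolve_left ha'
  have hxy := hsq _ (B.mul_mem hx hy)
  rw [R.e_mul] at hxy
  rcases R.e_sq_eq_one hxy with h | h
  · rw [ha, zero_add] at h; exact ha' h
  · rw [hb', add_zero] at h; exact hb h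

theorem card_Zg : Nat.card R.Zg = Nat.card K := by
  refine Nat.card_congr (Equiv.ofBijective (fun c : K => (⟨R.e 0 0 c, c, rfl⟩ : R.Zg)) ⟨?_, ?_⟩).symm
  · intro c c' h
    exact (R.e_inj (congrArg Subtype.val h)).2.2
  · rintro ⟨_, c, rfl⟩
    exact ⟨c, rfl⟩

theorem card_Vg : Nat.card R.Vg = Nat.card K * Nat.card K := by
  rw [← Nat.card_prod]
  refine Nat.card_congr (Equiv.ofBijective (fun c : K × K => (⟨R.e c.1 0 c.2, c.1, c.2, rfl⟩ : R.Vg)) ⟨?_, ?_⟩).symm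
  · intro c c' h
    obtain ⟨h1, -, h2⟩ := R.e_inj (congrArg Subtype.val h)
    exact Prod.ext h1 h2
  · rintro ⟨_, a, c, rfl⟩
    exact ⟨(a, c), rfl⟩

theorem card_Wg : Nat.card R.Wg = Nat.card K * Nat.card K := by
  rw [← Nat.card_prod]
  refine Nat.card_congr (Equiv.ofBijective (fun c : K × K => (⟨R.e 0 c.1 c.2, c.1, c.2, rfl⟩ : R.Wg)) ⟨?_, ?_⟩).symm
  · intro c c' h
    obtain ⟨-, h1, h2⟩ := R.e_inj (congrArg Subtype.val h)
    exact Prod.ext h1 h2
  · rintro ⟨_, a, c, rfl⟩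
    exact ⟨(a, c), rfl⟩

theorem finite_Vg [Finite K] : Finite R.Vg := by
  apply Nat.finite_of_card_ne_zero
  rw [R.card_Vg]
  exact mul_ne_zero Nat.card_pos.ne' Nat.card_pos.ne'

theorem finite_Wg [Finite K] : Finite R.Wg := by
  apply Nat.finite_of_card_ne_zero
  rw [R.card_Wg]
  exact mul_ne_zero Nat.card_pos.ne' Nat.card_pos.ne'

theorem sq_Vg {x : Ω} (hx : x ∈ R.Vg) : x ^ 2 = 1 := by
  obtain ⟨a, c, rfl⟩ := hx
  rw [pow_two, R.e_sq, mul_zero, R.e_zero]

theorem Vg_comm {x y : Ω} (hx : x ∈ R.Vg) (hy : y ∈ R.Vg) : x * y = y * x := by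
  obtain ⟨a, c, rfl⟩ := hx
  obtain ⟨a', c', rfl⟩ := hy
  rw [R.e_mul, R.e_mul]
  congr 1 <;> ring

theorem Wg_comm {x y : Ω} (hx : x ∈ R.Wg) (hy : y ∈ R.Wg) : x * y = y * x := by
  obtain ⟨a, c, rfl⟩ := hx
  obtain ⟨a', c', rfl⟩ := hy
  rw [R.e_mul, R.e_mul]
  congr 1 <;> ring

/-- conjugation by `e y` -/
theorem ey_conj (a b c a' b' c' : K) : R.e a b c * R.y * R.e a' b' c' * (R.e a b c * R.y)⁻¹ =
    R.e (σ b') (σ a') (σ (c' + a' * b') + a * σ a' - σ b' * b) := by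
  have h1 : R.e a b c * R.y * R.e a' b' c' * (R.e a b c * R.y)⁻¹ =
      R.e a b c * (R.y * R.e a' b' c' * R.y⁻¹) * (R.e a b c)⁻¹ := by group
  rw [h1, R.y_e, R.e_conj]

/-- elementary abelian subgroups of `S` -/
theorem el_cases [Finite K] {B : Subgroup Ω} (hB : B ≤ R.Sg) (hsq : ∀ x ∈ B, x ^ 2 = 1) :
    B ≤ R.Vg ∨ B ≤ R.Wg ∨ Nat.card B ≤ 2 * Nat.card K := by
  by_cases hT : B ≤ R.T
  · rcases R.le_of_sq hT hsq with h | h
    · exact Or.inl h
    · exact Or.inr (Or.inl h)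
  right; right
  obtain ⟨t, ht, htT⟩ := SetLike.not_le_iff_exists.1 hT
  have hcomm : ∀ x ∈ B, ∀ y ∈ B, x * y = y * x := by
    intro x hx y hy
    have h1 := hsq x hx
    have h2 := hsq y hy
    have h3 := hsq _ (B.mul_mem hx hy)
    rw [pow_two] at h1 h2 h3
    have h4 : x * y = (x * x) * (y * x) * (y * y) := by
      calc x * y = x * (x * y * (x * y)) * y := by rw [h3]; group
        _ = _ := by group
    rw [h4, h1, h2]; group
  obtain ⟨a0, b0, c0, rfl | rfl⟩ := hB ht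
  · exact absurd ⟨a0, b0, c0, rfl⟩ htT
  have key : ∀ s ∈ B, s ∈ R.T → ∃ k, s = R.e 0 0 k := by
    intro s hs hsT
    obtain ⟨a, b, c, rfl⟩ := hsT
    have h1 : R.e a0 b0 c0 * R.y * R.e a b c * (R.e a0 b0 c0 * R.y)⁻¹ = R.e a b c := by
      rw [hcomm _ ht _ hs, mul_inv_cancel_right]
    rw [R.ey_conj] at h1
    obtain ⟨h2, h3, -⟩ := R.e_inj h1
    rcases R.e_sq_eq_one (hsq _ hs) with h | h
    · rw [h, map_zero] at h3
      exact ⟨c, by rw [h, ← h3]⟩
    · rw [h, map_zero] at h2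
      exact ⟨c, by rw [h, ← h2]⟩
  have hrep : ∀ s : B, ∃ i : Bool, ∃ k : K, (s : Ω) = R.e 0 0 k * (if i then 1 else R.e a0 b0 c0 * R.y) := by
    intro s
    obtain ⟨a, b, c, h | h⟩ := hB s.2
    · obtain ⟨k, hk⟩ := key s s.2 (h ▸ R.e_mem_T a b c)
      exact ⟨true, k, by rw [hk]; simp⟩
    · have h1 : (s : Ω) * (R.e a0 b0 c0 * R.y)⁻¹ ∈ R.T := by
        rw [h]
        have : R.e a b c * R.y * (R.e a0 b0 c0 * R.y)⁻¹ = R.e a b c * (R.e a0 b0 c0)⁻¹ := by group
        rw [this]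
        exact R.T.mul_mem (R.e_mem_T _ _ _) (R.T.inv_mem (R.e_mem_T _ _ _))
      obtain ⟨k, hk⟩ := key _ (B.mul_mem s.2 (B.inv_mem ht)) h1
      refine ⟨false, k, ?_⟩
      rw [← hk, if_neg (by decide), inv_mul_cancel_right]
  choose i k hik using hrep
  have hinj : Function.Injective (fun s : B => (i s, k s)) := by
    intro s s' h
    have h1 : i s = i s' := congrArg Prod.fst h
    have h2 : k s = k s' := congrArg Prod.snd h
    apply Subtype.ext
    rw [hik s, hik s', h1, h2]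
  have h1 := Nat.card_le_card_of_injective _ hinj
  rw [Nat.card_prod] at h1
  have h2 : Nat.card Bool = 2 := by simp
  rwa [h2] at h1

theorem el_eq [Finite K] (hq : 4 ≤ Nat.card K) {B : Subgroup Ω} (hB : B ≤ R.Sg) (hsq : ∀ x ∈ B, x ^ 2 = 1)
    (hc : Nat.card K * Nat.card K ≤ Nat.card B) : B = R.Vg ∨ B = R.Wg := by
  have := R.finite_Vg
  have := R.finite_Wg
  rcases R.el_cases hB hsq with h | h | h
  · left
    exact Subgroup.eq_of_le_of_card_ge h (by rw [R.card_Vg]; exact hc)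
  · right
    exact Subgroup.eq_of_le_of_card_ge h (by rw [R.card_Wg]; exact hc)
  · exfalso
    have h1 : 4 * Nat.card K ≤ Nat.card K * Nat.card K := Nat.mul_le_mul_right _ hq
    omega

theorem Vg_inf_Wg {x : Ω} (h1 : x ∈ R.Vg) (h2 : x ∈ R.Wg) : x ∈ R.Zg := by
  obtain ⟨a, c, rfl⟩ := h1
  obtain ⟨b, c', h⟩ := h2
  exact ⟨c, by rw [(R.e_inj h).1]⟩

/-- `N_S(V) = T` -/
theorem normalizerIn_Vg : normalizerIn R.Sg R.Vg = R.T := by
  ext x
  constructor
  · rintro ⟨⟨a, b, c, rfl | rfl⟩, h2⟩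
    · exact R.e_mem_T _ _ _
    · exfalso
      have h3 := (Subgroup.mem_normalizer_iff.1 h2 (R.e 1 0 0)).1 ⟨1, 0, rfl⟩
      rw [R.ey_conj] at h3
      obtain ⟨a', c', h4⟩ := h3
      have h5 := (R.e_inj h4).2.1
      rw [map_one] at h5
      exact one_ne_zero h5
  · intro hx
    refine ⟨R.T_le_Sg hx, ?_⟩
    obtain ⟨a, b, c, rfl⟩ := hx
    refine Subgroup.mem_normalizer_iff.2 ?_
    intro x
    constructor
    · rintro ⟨a', c', rfl⟩
      rw [R.e_conj]
      exact ⟨_, _, rfl⟩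
    · rintro ⟨a', c', h⟩
      have h1 : x = (R.e a b c)⁻¹ * R.e a' 0 c' * ((R.e a b c)⁻¹)⁻¹ := by rw [← h]; group
      rw [h1, R.e_inv, R.e_conj]
      exact ⟨_, _, rfl⟩

/-- `N_S(V') = T` -/
theorem normalizerIn_Wg : normalizerIn R.Sg R.Wg = R.T := by
  ext x
  constructor
  · rintro ⟨⟨a, b, c, rfl | rfl⟩, h2⟩
    · exact R.e_mem_T _ _ _
    · exfalso
      have h3 := (Subgroup.mem_normalizer_iff.1 h2 (R.e 0 1 0)).1 ⟨1, 0, rfl⟩
      rw [R.ey_conj] at h3
      obtain ⟨a', c', h4⟩ := h3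
      have h5 := (R.e_inj h4).1
      rw [map_one] at h5
      exact one_ne_zero h5
  · intro hx
    refine ⟨R.T_le_Sg hx, ?_⟩
    obtain ⟨a, b, c, rfl⟩ := hx
    refine Subgroup.mem_normalizer_iff.2 ?_
    intro x
    constructor
    · rintro ⟨a', c', rfl⟩
      rw [R.e_conj]
      exact ⟨_, _, rfl⟩
    · rintro ⟨a', c', h⟩
      have h1 : x = (R.e a b c)⁻¹ * R.e 0 a' c' * ((R.e a b c)⁻¹)⁻¹ := by rw [← h]; group
      rw [h1, R.e_inv, R.e_conj]
      exact ⟨_, _, rfl⟩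

/-- `C_S(V) = V` -/
theorem mem_Vg_of_comm {x : Ω} (hx : x ∈ R.Sg) (h : ∀ v ∈ R.Vg, x * v = v * x) : x ∈ R.Vg := by
  have h1 := h (R.e 1 0 0) ⟨1, 0, rfl⟩
  rw [← mul_inv_eq_iff_eq_mul] at h1
  obtain ⟨a, b, c, rfl | rfl⟩ := hx
  · rw [R.e_conj] at h1
    have h2 := (R.e_inj h1).2.2
    have h3 : b = 0 := by linear_combination -h2
    exact ⟨a, c, by rw [h3]⟩
  · exfalso
    rw [R.ey_conj] at h1
    have h5 := (R.e_inj h1).2.1
    rw [map_one] at h5
    exact one_ne_zero h5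

theorem finite_Sg [Finite K] : Finite R.Sg := by
  have h : ∀ s : R.Sg, ∃ i : Bool, ∃ t : K × K × K, (s : Ω) = R.e t.1 t.2.1 t.2.2 * (if i then 1 else R.y) := by
    rintro ⟨_, a, b, c, rfl | rfl⟩
    · exact ⟨true, (a, b, c), by simp⟩
    · exact ⟨false, (a, b, c), by simp⟩
  choose i t hit using h
  refine Finite.of_injective (fun s => (i s, t s)) ?_
  intro s s' h
  have h1 : i s = i s' := congrArg Prod.fst h
  have h2 : t s = t s' := congrArg Prod.snd h
  apply Subtype.ext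
  rw [hit s, hit s', h1, h2]

/-- `yz` for `z ∈ Z` instead of `y` -/
def twist (j : K) (k : K) (hk : R.y * R.y = R.zc k) : Rel Ω K σ where
  va := R.va
  wb := R.wb
  zc := R.zc
  y := R.y * R.zc j
  va_add := R.va_add
  wb_add := R.wb_add
  zc_add := R.zc_add
  va_zc := R.va_zc
  wb_zc := R.wb_zc
  va_wb := R.va_wb
  inj := R.inj
  sig := R.sig
  y_sq := ⟨k + σ j + j, by
    have h1 : R.y * R.zc j * (R.y * R.zc j) = R.y * R.y * (R.y⁻¹ * R.zc j * R.y) * R.zc j := by group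
    rw [h1, hk, R.zc_eq j, R.y_inv_e, R.zc_eq k, R.e_mul, R.e_mul, R.zc_eq]
    congr 1 <;> simp⟩
  y_va a := by
    have h1 : R.y * R.zc j * R.va a * (R.y * R.zc j)⁻¹ = R.y * (R.zc j * R.va a * (R.zc j)⁻¹) * R.y⁻¹ := by group
    rw [h1, ← R.va_zc, mul_inv_cancel_right, R.y_va]
  y_zc a := by
    have h1 : R.y * R.zc j * R.zc a * (R.y * R.zc j)⁻¹ = R.y * (R.zc j * R.zc a * (R.zc j)⁻¹) * R.y⁻¹ := by group
    rw [h1, ← R.zc_add, add_comm, R.zc_add, mul_inv_cancel_right, R.y_zc]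
  y_not a b c h := by
    have h1 : R.y = R.e a b c * (R.zc j)⁻¹ := by
      rw [eq_mul_inv_iff_mul_eq]; exact h
    rw [R.zc_eq, R.e_inv, R.e_mul] at h1
    exact R.y_not _ _ _ h1

end Rel

end Cfsg.Agent.H770.Hen
end
end

-- part: H302/Hen/Lin_mg
section
prune_inst 0x4a01008001822000000180000a0001c429200000200480000002007060681cc20200380208a2004101000284420300020035c00400020000000000000011d01801000000080080000000006000000000000000000000000000000000000000000000000000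
set_option linter.all false
open scoped Cfsg.Agent.FastGrp

-- part: H302/Hen/Lin
section
/-!
# Linear algebra for `SL₂(K)` acting on `K²` (S5175, T10)
-/

set_option autoImplicit false

namespace Cfsg.Agent.H302.Hen

open Matrix

variable {K : Type*} [Field K]

/-- the action on column vectors -/
abbrev act (M : Matrix.SpecialLinearGroup (Fin 2) K) (u : Fin 2 → K) : Fin 2 → K :=
  (M : Matrix (Fin 2) (Fin 2) K).mulVec u

theorem act_apply_zero (M : Matrix.SpecialLinearGroup (Fin 2) K) (u : Fin 2 → K) :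
    act M u 0 = (M : Matrix (Fin 2) (Fin 2) K) 0 0 * u 0 + (M : Matrix (Fin 2) (Fin 2) K) 0 1 * u 1 := by
  simp only [act, Matrix.mulVec, dotProduct, Fin.sum_univ_two, _root_.Fin.isValue]

theorem act_apply_one (M : Matrix.SpecialLinearGroup (Fin 2) K) (u : Fin 2 → K) :
    act M u 1 = (M : Matrix (Fin 2) (Fin 2) K) 1 0 * u 0 + (M : Matrix (Fin 2) (Fin 2) K) 1 1 * u 1 := by
  simp only [act, Matrix.mulVec, dotProduct, Fin.sum_univ_two, _root_.Fin.isValue]

theorem act_mul (M N : Matrix.SpecialLinearGroup (Fin 2) K) (u : Fin 2 → K) :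
    act (M * N) u = act M (act N u) := by
  show ((M * N : Matrix.SpecialLinearGroup (Fin 2) K) : Matrix (Fin 2) (Fin 2) K).mulVec u = _
  rw [Matrix.SpecialLinearGroup.coe_mul, ← Matrix.mulVec_mulVec]

theorem act_one (u : Fin 2 → K) : act (1 : Matrix.SpecialLinearGroup (Fin 2) K) u = u := by
  simp [act]

theorem act_add (M : Matrix.SpecialLinearGroup (Fin 2) K) (u v : Fin 2 → K) :
    act M (u + v) = act M u + act M v := Matrix.mulVec_add _ _ _

theorem act_smul (M : Matrix.SpecialLinearGroup (Fin 2) K) (c : K) (v : Fin 2 → K) :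
    act M (c • v) = c • act M v := Matrix.mulVec_smul _ _ _

theorem act_zero (M : Matrix.SpecialLinearGroup (Fin 2) K) : act M 0 = 0 := Matrix.mulVec_zero _

/-- upper unitriangular -/
def U (c : K) : Matrix.SpecialLinearGroup (Fin 2) K := ⟨!![1, c; 0, 1], by simp [Matrix.det_fin_two_of]⟩

/-- lower unitriangular -/
def L (c : K) : Matrix.SpecialLinearGroup (Fin 2) K := ⟨!![1, 0; c, 1], by simp [Matrix.det_fin_two_of]⟩

theorem act_U (c : K) (u : Fin 2 → K) : act (U c) u = ![u 0 + c * u 1, u 1] := by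
  ext i
  fin_cases i
  · rw [show ((⟨0, by omega⟩ : Fin 2)) = 0 from rfl, act_apply_zero]
    simp [U]
  · rw [show ((⟨1, by omega⟩ : Fin 2)) = 1 from rfl, act_apply_one]
    simp [U]

theorem act_L (c : K) (u : Fin 2 → K) : act (L c) u = ![u 0, c * u 0 + u 1] := by
  ext i
  fin_cases i
  · rw [show ((⟨0, by omega⟩ : Fin 2)) = 0 from rfl, act_apply_zero]
    simp [L]
  · rw [show ((⟨1, by omega⟩ : Fin 2)) = 1 from rfl, act_apply_one]
    simp [L]

theorem act_injective {M N : Matrix.SpecialLinearGroup (Fin 2) K} (h : ∀ u, act M u = act N u) :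
    M = N := by
  apply Subtype.ext
  ext i j
  have h1 := h (Pi.single j 1)
  have h2 := congrFun h1 i
  simpa [act] using h2

/-- two elements of `SL₂(K)` agreeing on two independent vectors `(p, 0)` and `(r, s)` are equal -/
theorem eq_of_agree {M N : Matrix.SpecialLinearGroup (Fin 2) K} {w v : Fin 2 → K} (hw0 : w 0 ≠ 0)
    (hw1 : w 1 = 0) (hv : v 1 ≠ 0) (h1 : act M w = act N w) (h2 : act M v = act N v) : M = N := by
  apply act_injective
  intro u
  have hu : u = ((u 0 - u 1 / v 1 * v 0) / w 0) • w + (u 1 / v 1) • v := by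
    ext i
    fin_cases i
    · simp only [_root_.Fin.zero_eta, _root_.Fin.isValue, _root_.Pi.add_apply, _root_.Pi.smul_apply, _root_.smul_eq_mul]
      field_simp
      ring
    · simp [hw1, hv]
  rw [hu, act_add, act_add, act_smul, act_smul, act_smul, act_smul, h1, h2]

/-- the swap of two vectors in characteristic two -/
theorem exists_swap [CharP K 2] {w v : Fin 2 → K} (hw0 : w 0 ≠ 0)
    (hw1 : w 1 = 0) (hv : v 1 ≠ 0) :
    ∃ M : Matrix.SpecialLinearGroup (Fin 2) K, act M w = v ∧ act M v = w := by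
  have h2 : (2 : K) = 0 := CharP.cast_eq_zero K 2
  have hneg : ∀ a : K, -a = a := fun a => by
    have h3 : a + a = 0 := by rw [← two_mul, h2, zero_mul]
    exact neg_eq_of_add_eq_zero_left h3
  have hdet : (!![v 0 / w 0, (w 0 - v 0 / w 0 * v 0) / v 1; v 1 / w 0, (- (v 1 / w 0 * v 0)) / v 1] :
      Matrix (Fin 2) (Fin 2) K).det = 1 := by
    rw [Matrix.det_fin_two_of]
    field_simp
    linear_combination (-(w 0 ^ 2)) * h2
  have e0 := act_apply_zero ⟨_, hdet⟩ w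
  have e1 := act_apply_one ⟨_, hdet⟩ w
  have e2 := act_apply_zero ⟨_, hdet⟩ v
  have e3 := act_apply_one ⟨_, hdet⟩ v
  refine ⟨⟨_, hdet⟩, ?_, ?_⟩
  · ext i
    fin_cases i
    · refine e0.trans ?_
      simp only [hw1, _root_.Fin.isValue, _root_.Matrix.of_apply, _root_.Matrix.cons_val', _root_.Matrix.cons_val_zero, _root_.Matrix.cons_val_fin_one, _root_.Matrix.cons_val_one, _root_.MulZeroClass.mul_zero, _root_.add_zero, _root_.Fin.zero_eta]
      field_simp
    · refine e1.trans ?_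
      simp only [hw1, _root_.Fin.isValue, _root_.Matrix.of_apply, _root_.Matrix.cons_val', _root_.Matrix.cons_val_zero, _root_.Matrix.cons_val_fin_one, _root_.Matrix.cons_val_one, _root_.MulZeroClass.mul_zero, _root_.add_zero, _root_.Fin.mk_one]
      field_simp
  · ext i
    fin_cases i
    · refine e2.trans ?_
      simp only [_root_.Fin.isValue, _root_.Matrix.of_apply, _root_.Matrix.cons_val', _root_.Matrix.cons_val_zero, _root_.Matrix.cons_val_fin_one, _root_.Matrix.cons_val_one, _root_.Fin.zero_eta]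
      field_simp
      ring
    · refine e3.trans ?_
      simp only [hw1, _root_.Fin.isValue, _root_.Matrix.of_apply, _root_.Matrix.cons_val', _root_.Matrix.cons_val_zero, _root_.Matrix.cons_val_fin_one, _root_.Matrix.cons_val_one, _root_.Fin.mk_one]
      field_simp
      ring

/-- an additive map commuting with `SL₂(K)` is a scalar -/
theorem scalar_of_commute (φ : (Fin 2 → K) → (Fin 2 → K)) (hadd : ∀ u v, φ (u + v) = φ u + φ v)
    (hc : ∀ (M : Matrix.SpecialLinearGroup (Fin 2) K) u, φ (act M u) = act M (φ u)) :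
    ∃ c : K, ∀ u, φ u = c • u := by
  have h1 : ∀ b : K, φ ![b, 0] = ![b * φ ![0, 1] 1, 0] := by
    intro b
    have h2 := hc (U b) ![0, 1]
    rw [act_U, act_U] at h2
    have h3 : (![(![0, 1] : Fin 2 → K) 0 + b * (![0, 1] : Fin 2 → K) 1, (![0, 1] : Fin 2 → K) 1] : Fin 2 → K) =
        ![b, 0] + ![0, 1] := by
      ext i; fin_cases i <;> simp
    rw [h3, hadd] at h2
    have h4 : φ ![b, 0] = ![φ ![0, 1] 0 + b * φ ![0, 1] 1, φ ![0, 1] 1] - φ ![0, 1] :=
      eq_sub_of_add_eq h2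
    rw [h4]
    ext i; fin_cases i <;> simp
  have h2 : ∀ b : K, φ ![0, b] = ![0, b * φ ![1, 0] 0] := by
    intro b
    have h2 := hc (L b) ![1, 0]
    rw [act_L, act_L] at h2
    have h3 : (![(![1, 0] : Fin 2 → K) 0, b * (![1, 0] : Fin 2 → K) 0 + (![1, 0] : Fin 2 → K) 1] : Fin 2 → K) =
        ![0, b] + ![1, 0] := by
      ext i; fin_cases i <;> simp
    rw [h3, hadd] at h2
    have h4 : φ ![0, b] = ![φ ![1, 0] 0, b * φ ![1, 0] 0 + φ ![1, 0] 1] - φ ![1, 0] :=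
      eq_sub_of_add_eq h2
    rw [h4]
    ext i; fin_cases i <;> simp
  refine ⟨φ ![1, 0] 0, fun u => ?_⟩
  have h3 : φ ![0, 1] 1 = φ ![1, 0] 0 := by
    have h4 := congrFun (h1 1) 0
    simp at h4
    exact h4.symm
  have hu : u = ![u 0, 0] + ![0, u 1] := by
    ext i; fin_cases i <;> simp
  conv_lhs => rw [hu]
  rw [hadd, h1 (u 0), h2 (u 1), h3]
  ext i; fin_cases i
  · simp
    ring
  · simp
    ring

/-- an additive automorphism normalizing `SL₂(K)` is semilinear -/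
theorem semilinear (φ : (Fin 2 → K) ≃+ (Fin 2 → K))
    (h : ∀ M' : Matrix.SpecialLinearGroup (Fin 2) K, ∃ M : Matrix.SpecialLinearGroup (Fin 2) K,
      ∀ u, φ (act M u) = act M' (φ u)) :
    ∃ σ : K →+* K, ∀ (c : K) u, φ (c • u) = σ c • φ u := by
  have key : ∀ c : K, ∃ s : K, ∀ u, φ (c • u) = s • φ u := by
    intro c
    obtain ⟨s, hs⟩ := scalar_of_commute (fun u => φ (c • φ.symm u))
      (fun u v => by simp only [map_add, smul_add])
      (fun M' u => by
        obtain ⟨M, hM⟩ := h M'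
        have h1 := hM (φ.symm u)
        rw [AddEquiv.apply_symm_apply] at h1
        have h2 : φ.symm (act M' u) = act M (φ.symm u) := by
          rw [← h1, AddEquiv.symm_apply_apply]
        show φ (c • φ.symm (act M' u)) = act M' (φ (c • φ.symm u))
        rw [h2, ← hM (c • φ.symm u), act_smul])
    refine ⟨s, fun u => ?_⟩
    have h1 := hs (φ u)
    simp only [AddEquiv.symm_apply_apply] at h1
    exact h1
  choose σ hσ using key
  have hne : φ ![1, 0] ≠ 0 := by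
    intro h0
    have h1 : (![1, 0] : Fin 2 → K) = 0 := by
      apply φ.injective
      rw [h0, map_zero]
    have h2 := congrFun h1 0
    simp at h2
  have hinj : ∀ {a b : K}, a • φ ![1, 0] = b • φ ![1, 0] → a = b := fun {a b} hab =>
    smul_left_injective K hne hab
  refine ⟨{ toFun := σ, map_one' := ?_, map_mul' := ?_, map_zero' := ?_, map_add' := ?_ }, hσ⟩
  · apply hinj
    rw [← hσ, one_smul, one_smul]
  · intro a b
    apply hinj
    rw [← hσ, mul_smul, hσ, hσ, mul_smul]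
  · apply hinj
    rw [← hσ, zero_smul, zero_smul, map_zero]
  · intro a b
    apply hinj
    rw [← hσ, add_smul, map_add, hσ, hσ, add_smul]

/-- `σ(t) a + t = s` is solvable if `σ` is an involutory automorphism and `σ(s) a = s` -/
theorem one_dim [CharP K 2] (σ : K →+* K) (hσ : ∃ c, σ c ≠ c) (hσ2 : ∀ c, σ (σ c) = c) (a s : K)
    (h : σ s * a = s) : ∃ t, σ t * a + t = s := by
  obtain ⟨β, hβ⟩ := hσ
  have h2 : (2 : K) = 0 := CharP.cast_eq_zero K 2
  have hγ : σ β + β ≠ 0 := by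
    intro h0
    apply hβ
    have h3 : β + β = 0 := by rw [← two_mul, h2, zero_mul]
    exact add_right_cancel (h0.trans h3.symm)
  have hσγ : σ (σ β + β) = σ β + β := by
    rw [map_add, hσ2, add_comm]
  refine ⟨β / (σ β + β) * s, ?_⟩
  rw [map_mul, map_div₀, hσγ]
  have h4 : σ β / (σ β + β) * σ s * a + β / (σ β + β) * s =
      σ β / (σ β + β) * (σ s * a) + β / (σ β + β) * s := by ring
  rw [h4, h]
  field_simp

/-- an element of `2`-power order of a field of characteristic two is trivial -/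
theorem eq_one_of_pow [CharP K 2] {a : K} {k : ℕ} (h : a ^ 2 ^ k = 1) : a = 1 := by
  have h1 : (a - 1) ^ 2 ^ k = 0 := by
    rw [sub_pow_char_pow (p := 2) a 1, h]
    simp
  exact sub_eq_zero.1 (eq_zero_of_pow_eq_zero h1)

/-- `SL₂(K)` is transitive on nonzero vectors -/
theorem exists_to_vec {w : Fin 2 → K} (hw : w ≠ 0) :
    ∃ N : Matrix.SpecialLinearGroup (Fin 2) K, act N ![1, 0] = w := by
  by_cases h0 : w 0 = 0
  · have h1 : w 1 ≠ 0 := by
      intro h1
      apply hw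
      ext i; fin_cases i
      · exact h0
      · exact h1
    have hdet : (!![0, -(w 1)⁻¹; w 1, 0] : Matrix (Fin 2) (Fin 2) K).det = 1 := by
      rw [Matrix.det_fin_two_of]
      field_simp
      simp
    refine ⟨⟨_, hdet⟩, ?_⟩
    have e0 := act_apply_zero ⟨_, hdet⟩ ![1, 0]
    have e1 := act_apply_one ⟨_, hdet⟩ ![1, 0]
    ext i; fin_cases i
    · refine e0.trans ?_
      simp [h0]
    · refine e1.trans ?_
      simp
  · have hdet : (!![w 0, 0; w 1, (w 0)⁻¹] : Matrix (Fin 2) (Fin 2) K).det = 1 := by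
      rw [Matrix.det_fin_two_of]
      field_simp
      simp
    refine ⟨⟨_, hdet⟩, ?_⟩
    have e0 := act_apply_zero ⟨_, hdet⟩ ![1, 0]
    have e1 := act_apply_one ⟨_, hdet⟩ ![1, 0]
    ext i; fin_cases i
    · refine e0.trans ?_
      simp
    · refine e1.trans ?_
      simp

/-- an element of `SL₂(K)` fixing the first basis vector is upper unitriangular -/
theorem eq_U_of_fix {M : Matrix.SpecialLinearGroup (Fin 2) K} (h : act M ![1, 0] = ![1, 0]) :
    M = U ((M : Matrix (Fin 2) (Fin 2) K) 0 1) := by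
  have h0 := congrFun h 0
  have h1 := congrFun h 1
  rw [act_apply_zero] at h0
  rw [act_apply_one] at h1
  simp only [_root_.Fin.isValue, _root_.Matrix.cons_val_zero, _root_.mul_one, _root_.Matrix.cons_val_one, _root_.Matrix.cons_val_fin_one, _root_.MulZeroClass.mul_zero, _root_.add_zero, _root_.Nat.succ_eq_add_one, _root_.Nat.reduceAdd] at h0 h1
  have hd := M.2
  rw [Matrix.det_fin_two, h0, h1] at hd
  simp at hd
  apply Subtype.ext
  ext i j
  (revert i j; simp only [U, h0, h1, hd, _root_.Fin.forall_fin_succ, Fin.isValue, _root_.Matrix.of_apply, _root_.Matrix.cons_val', _root_.Matrix.cons_val_fin_one, _root_.Matrix.cons_val_zero, _root_.Matrix.cons_val_succ, _root_.Fin.succ_zero_eq_one, _root_.IsEmpty.forall_iff, _root_.and_true, _root_.and_self])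

end Cfsg.Agent.H302.Hen
end

-- part: H770/Hen/Base
section
/-!
# S5175, sections L and J3: first coordinates of `V` (helper770)
-/

set_option autoImplicit false

namespace Cfsg.Agent.H770.Hen

open Cfsg Cfsg.FusionSystem Cfsg.Agent.H802 Cfsg.Agent.H756.HM

/-- `V ≅ K²` with `E = SL₂(K)`, and `V'` acting by upper unitriangular matrices. -/
structure Pre {Ω : Type*} [Group Ω] (V V' : Subgroup Ω) (E : Subgroup (MulAut V)) (K : Type) [Field K] where
  f : K → K → Ω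
  add : ∀ c a c' a', f (c + c') (a + a') = f c a * f c' a'
  inj : ∀ c a, f c a = 1 → c = 0 ∧ a = 0
  mem : ∀ v, v ∈ V ↔ ∃ c a, v = f c a
  act : ∀ w ∈ V', ∃ t, ∀ c a, w * f c a * w⁻¹ = f (c + t * a) a
  E1 : ∀ e ∈ E, ∃ p q r s : K, p * s - q * r = 1 ∧ ∀ (c a : K) (h : f c a ∈ V),
    ((e ⟨f c a, h⟩ : V) : Ω) = f (p * c + q * a) (r * c + s * a)
  E2 : ∀ p q r s : K, p * s - q * r = 1 → ∃ e ∈ E, ∀ (c a : K) (h : f c a ∈ V),
    ((e ⟨f c a, h⟩ : V) : Ω) = f (p * c + q * a) (r * c + s * a)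

/-- a matrix of determinant one with given first column -/
theorem exists_sl {K : Type} [Field K] (v : Fin 2 → K) (hv : v ≠ 0) :
    ∃ M : Matrix.SpecialLinearGroup (Fin 2) K, (M : Matrix (Fin 2) (Fin 2) K).mulVec ![1, 0] = v := by
  by_cases h0 : v 0 = 0
  · have h1 : v 1 ≠ 0 := by
      intro h1
      apply hv
      ext i
      fin_cases i
      · exact h0
      · exact h1
    refine ⟨⟨!![0, -(v 1)⁻¹; v 1, 0], ?_⟩, ?_⟩
    · rw [Matrix.det_fin_two_of]
      field_simp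
      ring
    · ext i
      fin_cases i
      · simp [Matrix.mulVec, h0]
      · simp [Matrix.mulVec]
  · refine ⟨⟨!![v 0, 0; v 1, (v 0)⁻¹], ?_⟩, ?_⟩
    · rw [Matrix.det_fin_two_of]
      field_simp
      ring
    · ext i
      fin_cases i
      · simp [Matrix.mulVec]
      · simp [Matrix.mulVec]

theorem sl_mulVec {K : Type} [Field K] (M : Matrix (Fin 2) (Fin 2) K) (c a : K) :
    M.mulVec ![c, a] = ![M 0 0 * c + M 0 1 * a, M 1 0 * c + M 1 1 * a] := by
  ext i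
  fin_cases i
  · simp only [Matrix.mulVec, dotProduct, Fin.sum_univ_two, _root_.Fin.zero_eta, _root_.Fin.isValue, _root_.Matrix.cons_val_zero, _root_.Matrix.cons_val_one, _root_.Matrix.cons_val_fin_one, _root_.Nat.succ_eq_add_one, _root_.Nat.reduceAdd]
  · simp only [Matrix.mulVec, dotProduct, Fin.sum_univ_two, _root_.Fin.mk_one, _root_.Fin.isValue, _root_.Matrix.cons_val_zero, _root_.Matrix.cons_val_one, _root_.Matrix.cons_val_fin_one, _root_.Nat.succ_eq_add_one, _root_.Nat.reduceAdd]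

theorem exists_pre {Ω : Type*} [Group Ω] {S : Subgroup Ω} [Finite S] (hS : IsPGroup 2 S)
    {F : FusionSystem S} {K : Type} [Field K] [Fintype K] {V T : Subgroup Ω} {x : Ω} (B : Big F K V T x)
    (hD : fixS V B.E = ⊥) : Nonempty (Pre V (cj x V) B.E K) := by
  classical
  have hfp : Fact (Nat.Prime 2) := ⟨Nat.prime_two⟩
  have hVfin : Finite V := finite_of_le B.V_le
  -- ψ is an isomorphism
  have hinj : Function.Injective B.ψ := by
    rw [injective_iff_map_eq_one]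
    intro v hv
    have h1 := (B.ψ_ker v).1 hv
    rw [hD, Subgroup.mem_bot] at h1
    exact Subtype.ext h1
  let ψe : V ≃* Multiplicative (Fin 2 → K) := MulEquiv.ofBijective B.ψ ⟨hinj, B.ψ_surj⟩
  have hψe : ∀ v, ψe v = B.ψ v := fun _ => rfl
  have hcardV : Nat.card V = (2 ^ B.n) ^ 2 := by
    rw [Nat.card_congr ψe.toEquiv, Nat.card_congr Multiplicative.toAdd, Nat.card_eq_fintype_card,
      Fintype.card_fun, Fintype.card_fin, B.hK]
  -- a fixed point
  set A := autInducedBy (cj x V) V with hA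
  have hVx : cj x V ≤ S := by
    rintro _ ⟨v, hv, rfl⟩
    exact S.mul_mem (S.mul_mem B.x_mem (B.V_le hv)) (S.inv_mem B.x_mem)
  have hAp : IsPGroup 2 A := isPGroup_autInducedBy (hS.to_le hVx) V
  have hfix : ∃ u : V, u ≠ 1 ∧ ∀ α ∈ A, α u = u := by
    have h1 : (1 : V) ∈ MulAction.fixedPoints A V := by
      intro α
      exact map_one (α : MulAut V)
    have h2 : 2 ∣ Nat.card V := by
      rw [hcardV]
      refine dvd_pow ?_ two_ne_zero
      exact dvd_pow_self 2 (by have := B.hn; omega)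
    obtain ⟨u, hu, hne⟩ := hAp.exists_fixed_point_of_prime_dvd_card_of_fixed_point V h2 h1
    exact ⟨u, hne.symm, fun α hα => hu ⟨α, hα⟩⟩
  obtain ⟨u, hu1, hufix⟩ := hfix
  set u0 : Fin 2 → K := Multiplicative.toAdd (B.ψ u) with hu0
  have hu0ne : u0 ≠ 0 := by
    intro h
    apply hu1
    apply hinj
    rw [map_one]
    exact Multiplicative.toAdd.injective h
  obtain ⟨M, hM⟩ := exists_sl u0 hu0ne
  let f : K → K → Ω := fun c a => (ψe.symm (Multiplicative.ofAdd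
    ((M : Matrix (Fin 2) (Fin 2) K).mulVec ![c, a])) : V)
  have hfψ : ∀ (c a : K) (h : f c a ∈ V), Multiplicative.toAdd (B.ψ ⟨f c a, h⟩) =
      (M : Matrix (Fin 2) (Fin 2) K).mulVec ![c, a] := by
    intro c a h
    have h1 : (⟨f c a, h⟩ : V) = ψe.symm (Multiplicative.ofAdd ((M : Matrix (Fin 2) (Fin 2) K).mulVec ![c, a])) :=
      Subtype.ext rfl
    rw [h1, ← hψe, ψe.apply_symm_apply]
    rfl
  have hfmem : ∀ c a, f c a ∈ V := fun c a => (ψe.symm _).2
  have hMM : ∀ w : Fin 2 → K, (M : Matrix (Fin 2) (Fin 2) K).mulVec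
      (((M⁻¹ : Matrix.SpecialLinearGroup (Fin 2) K) : Matrix (Fin 2) (Fin 2) K).mulVec w) = w := by
    intro w
    rw [Matrix.mulVec_mulVec, ← Matrix.SpecialLinearGroup.coe_mul, mul_inv_cancel,
      Matrix.SpecialLinearGroup.coe_one, Matrix.one_mulVec]
  have hfe : ∀ (v : V) (c a : K), Multiplicative.toAdd (B.ψ v) = (M : Matrix (Fin 2) (Fin 2) K).mulVec ![c, a] →
      (v : Ω) = f c a := by
    intro v c a h
    have h1 : v = ⟨f c a, hfmem c a⟩ := by
      apply hinj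
      apply Multiplicative.toAdd.injective
      rw [h, hfψ]
    exact congrArg Subtype.val h1
  -- action of E
  have hE : ∀ e (he : e ∈ B.E) (c a : K) (h : f c a ∈ V), ((e ⟨f c a, h⟩ : V) : Ω) =
      f ((M⁻¹ * B.ρ ⟨e, he⟩ * M : Matrix.SpecialLinearGroup (Fin 2) K) 0 0 * c +
          (M⁻¹ * B.ρ ⟨e, he⟩ * M : Matrix.SpecialLinearGroup (Fin 2) K) 0 1 * a)
        ((M⁻¹ * B.ρ ⟨e, he⟩ * M : Matrix.SpecialLinearGroup (Fin 2) K) 1 0 * c +
          (M⁻¹ * B.ρ ⟨e, he⟩ * M : Matrix.SpecialLinearGroup (Fin 2) K) 1 1 * a) := by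
    intro e he c a h
    apply hfe
    have h1 := B.ψ_eq ⟨e, he⟩ ⟨f c a, h⟩
    rw [h1, hfψ, ← sl_mulVec, Matrix.mulVec_mulVec, Matrix.mulVec_mulVec]
    congr 1
    rw [← Matrix.SpecialLinearGroup.coe_mul, ← Matrix.SpecialLinearGroup.coe_mul]
    congr 1
    rw [mul_assoc M⁻¹, mul_inv_cancel_left]
  refine ⟨⟨f, ?_, ?_, ?_, ?_, ?_, ?_⟩⟩
  · intro c a c' a'
    have h1 : (f c a * f c' a' : Ω) = ((⟨f c a, hfmem c a⟩ * ⟨f c' a', hfmem c' a'⟩ : V) : Ω) := rfl
    rw [h1]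
    symm
    apply hfe
    rw [map_mul, toAdd_mul, hfψ, hfψ, ← Matrix.mulVec_add]
    congr 1
    ext i
    (revert i; simp only [_root_.Fin.forall_fin_succ, _root_.Pi.add_apply, Fin.isValue, _root_.Matrix.cons_val_zero, _root_.Matrix.cons_val_succ, _root_.Matrix.cons_val_fin_one, _root_.implies_true, _root_.and_self])
  · intro c a h
    have h1 : (⟨f c a, hfmem c a⟩ : V) = 1 := Subtype.ext h
    have h2 := hfψ c a (hfmem c a)
    rw [h1, map_one, toAdd_one] at h2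
    have h3 : ![c, a] = (0 : Fin 2 → K) := by
      have h4 := congrArg (((M⁻¹ : Matrix.SpecialLinearGroup (Fin 2) K) : Matrix (Fin 2) (Fin 2) K).mulVec) h2
      rw [Matrix.mulVec_zero, Matrix.mulVec_mulVec, ← Matrix.SpecialLinearGroup.coe_mul, inv_mul_cancel,
        Matrix.SpecialLinearGroup.coe_one, Matrix.one_mulVec] at h4
      exact h4.symm
    exact ⟨congrFun h3 0, congrFun h3 1⟩
  · intro v
    constructor
    · intro hv
      set w := ((M⁻¹ : Matrix.SpecialLinearGroup (Fin 2) K) : Matrix (Fin 2) (Fin 2) K).mulVec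
        (Multiplicative.toAdd (B.ψ ⟨v, hv⟩)) with hw
      refine ⟨w 0, w 1, ?_⟩
      have h1 : ![w 0, w 1] = w := by ext i; fin_cases i <;> rfl
      have := hfe ⟨v, hv⟩ (w 0) (w 1) (by rw [h1, hw, hMM])
      exact this
    · rintro ⟨c, a, rfl⟩
      exact hfmem c a
  · intro w hw
    -- w normalizes V
    have hwT : w ∈ T := by
      rw [B.T_eq]; exact Subgroup.mem_sup_right hw
    have hwN : w ∈ Subgroup.normalizer (V : Set Ω) := by
      rw [← B.nor] at hwT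
      exact hwT.2
    obtain ⟨α, hα⟩ := exists_conjAut hwN
    have hαA : α ∈ A := (mem_autInducedBy_iff _ _ _).2 ⟨w, hw, hα⟩
    have hαE : α ∈ B.E := B.A_le hαA
    set g : Matrix.SpecialLinearGroup (Fin 2) K := M⁻¹ * B.ρ ⟨α, hαE⟩ * M with hg
    have h1 : (g : Matrix (Fin 2) (Fin 2) K).mulVec ![1, 0] = ![1, 0] := by
      have h2 := B.ψ_eq ⟨α, hαE⟩ u
      have h3 : ((⟨α, hαE⟩ : B.E) : MulAut V) u = u := hufix α hαA
      rw [h3] at h2
      change u0 = _ at h2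
      rw [hg, Matrix.SpecialLinearGroup.coe_mul, Matrix.SpecialLinearGroup.coe_mul, ← Matrix.mulVec_mulVec,
        ← Matrix.mulVec_mulVec, hM]
      change ((M⁻¹ : Matrix.SpecialLinearGroup (Fin 2) K) : Matrix (Fin 2) (Fin 2) K).mulVec
        ((((B.ρ ⟨α, hαE⟩ : Matrix.SpecialLinearGroup (Fin 2) K) : Matrix (Fin 2) (Fin 2) K)).mulVec
          (Multiplicative.toAdd (B.ψ u))) = _
      rw [← h2, ← hM, Matrix.mulVec_mulVec, ← Matrix.SpecialLinearGroup.coe_mul, inv_mul_cancel,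
        Matrix.SpecialLinearGroup.coe_one, Matrix.one_mulVec]
    rw [sl_mulVec] at h1
    have h2 : g 0 0 = 1 := by
      have := congrFun h1 0
      simpa only [_root_.Fin.isValue, _root_.Nat.succ_eq_add_one, _root_.Nat.reduceAdd, _root_.mul_one, _root_.MulZeroClass.mul_zero, _root_.add_zero, _root_.Matrix.cons_val_zero] using this
    have h3 : g 1 0 = 0 := by
      have := congrFun h1 1
      simpa using this
    have h4 : g 1 1 = 1 := by
      have h5 := g.2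
      rw [Matrix.det_fin_two] at h5
      change g 0 0 * g 1 1 - g 0 1 * g 1 0 = 1 at h5
      rw [h2, h3, mul_zero, sub_zero, one_mul] at h5
      exact h5
    refine ⟨g 0 1, fun c a => ?_⟩
    have h5 := hE α hαE c a (hfmem c a)
    rw [hα] at h5
    rw [h5]
    change f (g 0 0 * c + g 0 1 * a) (g 1 0 * c + g 1 1 * a) = _
    rw [h2, h3, h4, one_mul, zero_mul, zero_add, one_mul]
  · intro e he
    set g : Matrix.SpecialLinearGroup (Fin 2) K := M⁻¹ * B.ρ ⟨e, he⟩ * M with hg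
    refine ⟨g 0 0, g 0 1, g 1 0, g 1 1, ?_, fun c a h => hE e he c a h⟩
    have h5 := g.2
    rw [Matrix.det_fin_two] at h5
    exact h5
  · intro p q r s hdet
    set N : Matrix.SpecialLinearGroup (Fin 2) K := ⟨!![p, q; r, s], by rw [Matrix.det_fin_two_of]; exact hdet⟩ with hN
    set e := B.ρ.symm (M * N * M⁻¹) with he
    refine ⟨e, e.2, fun c a h => ?_⟩
    have h1 := hE e e.2 c a h
    have h2 : M⁻¹ * B.ρ ⟨(e : MulAut V), e.2⟩ * M = N := by
      have h3 : (⟨(e : MulAut V), e.2⟩ : B.E) = e := rfl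
      rw [h3, he, MulEquiv.apply_symm_apply]
      group
    rw [h2] at h1
    exact h1

end Cfsg.Agent.H770.Hen
end

-- part: H770/Hen/Coord
section
/-!
# S5175, sections L and J3: the coordinate theorem (helper770)
-/

set_option autoImplicit false

namespace Cfsg.Agent.H770.Hen

open Cfsg Cfsg.FusionSystem Cfsg.Agent.H802 Cfsg.Agent.H756.HM

/-- The functional equation: one field automorphism of order at most two. -/
theorem exists_sigma {K : Type} [Field K] (u δ : K → K) (hadd : ∀ a b, u (a + b) = u a + u b)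
    (hinj : ∀ a, u a = 0 → a = 0) (h : ∀ a b, δ (u b * a) = u a * b) :
    ∃ (σ : K ≃+* K) (m : K), m ≠ 0 ∧ (∀ a, σ (σ a) = a) ∧ (∀ b, u b = m * σ b) ∧ ∀ s, δ s = m * σ (s / m) := by
  have hm : u 1 ≠ 0 := fun h1 => one_ne_zero (hinj 1 h1)
  set m := u 1 with hmdef
  have h1 : ∀ a, δ (m * a) = u a := by
    intro a
    have := h a 1
    rwa [← hmdef, mul_one] at this
  set s0 : K → K := fun a => u a / m with hs0
  have hu : ∀ a, u a = m * s0 a := fun a => by rw [hs0]; field_simp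
  have h2 : ∀ a b, s0 (s0 b * a) = s0 a * b := by
    intro a b
    have h3 : u (s0 b * a) = u a * b := by
      rw [← h1, ← mul_assoc, ← hu, h]
    rw [hs0]
    show u (s0 b * a) / m = u a / m * b
    rw [h3]; field_simp
  have hone : s0 1 = 1 := by
    rw [hs0]; exact div_self hm
  have h4 : ∀ b, s0 (s0 b) = b := by
    intro b
    have := h2 1 b
    rwa [mul_one, hone, one_mul] at this
  have h5 : ∀ a b, s0 (b * a) = s0 b * s0 a := by
    intro a b
    have := h2 a (s0 b)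
    rw [h4] at this
    rw [this, mul_comm]
  have h6 : ∀ a b, s0 (a + b) = s0 a + s0 b := by
    intro a b
    rw [hs0]
    show u (a + b) / m = u a / m + u b / m
    rw [hadd, add_div]
  refine ⟨{ toFun := s0, invFun := s0, left_inv := h4, right_inv := h4, map_mul' := fun a b => h5 b a, map_add' := h6 },
    m, hm, h4, hu, ?_⟩
  intro s
  show δ s = m * s0 (s / m)
  rw [← hu, ← h1]
  congr 1
  field_simp

/-- The coordinates attached to the main configuration. -/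
structure BRel {Ω : Type*} [Group Ω] {S : Subgroup Ω} {F : FusionSystem S} {K : Type} [Field K] [Fintype K]
    {V T : Subgroup Ω} {x : Ω} (B : Big F K V T x) {σ : K ≃+* K} (R : Rel Ω K σ) : Prop where
  S_eq : S = R.Sg
  T_eq : T = R.T
  V_eq : V = R.Vg
  W_eq : cj x V = R.Wg
  xy : ∃ w ∈ cj x V, x = w * R.y
  E1 : ∀ e ∈ B.E, ∃ p q r s : K, p * s - q * r = 1 ∧ ∀ (a c : K) (h : R.e a 0 c ∈ V),
    ((e ⟨R.e a 0 c, h⟩ : V) : Ω) = R.e (r * c + s * a) 0 (p * c + q * a)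
  E2 : ∀ p q r s : K, p * s - q * r = 1 → ∃ e ∈ B.E, ∀ (a c : K) (h : R.e a 0 c ∈ V),
    ((e ⟨R.e a 0 c, h⟩ : V) : Ω) = R.e (r * c + s * a) 0 (p * c + q * a)

theorem exists_rel {Ω : Type*} [Group Ω] {S : Subgroup Ω} [Finite S] (hS : IsPGroup 2 S)
    {F : FusionSystem S} {K : Type} [Field K] [Fintype K] {V T : Subgroup Ω} {x : Ω} (B : Big F K V T x)
    (hD : fixS V B.E = ⊥) : ∃ (σ : K ≃+* K) (R : Rel Ω K σ), BRel B R := by
  classical
  obtain ⟨P⟩ := exists_pre hS B hD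
  set W := cj x V with hW
  set f := P.f with hf
  have hVS : V ≤ S := B.V_le
  have mW : ∀ w, w ∈ W ↔ x⁻¹ * w * x ∈ V := by
    intro w
    constructor
    · rintro ⟨v, hv, rfl⟩
      show x⁻¹ * (x * v * x⁻¹) * x ∈ V
      have : x⁻¹ * (x * v * x⁻¹) * x = v := by group
      rw [this]; exact hv
    · intro h
      refine ⟨x⁻¹ * w * x, h, ?_⟩
      show x * (x⁻¹ * w * x) * x⁻¹ = w
      group
  have hWS : W ≤ S := by
    rintro _ ⟨v, hv, rfl⟩
    exact S.mul_mem (S.mul_mem B.x_mem (B.V_le hv)) (S.inv_mem B.x_mem)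
  have hVV : ∀ a ∈ V, ∀ b ∈ V, a * b = b * a := by
    intro a ha b hb
    have h1 := B.el a ha
    have h2 := B.el b hb
    have h3 := B.el _ (V.mul_mem ha hb)
    rw [pow_two] at h1 h2 h3
    have h4 : a * b = (a * a) * (b * a) * (b * b) := by
      calc a * b = a * (a * b * (a * b)) * b := by rw [h3]; group
        _ = _ := by group
    rw [h4, h1, h2]; group
  have hWW : ∀ a ∈ W, ∀ b ∈ W, a * b = b * a := by
    intro a ha b hb
    have h1 := hVV _ ((mW a).1 ha) _ ((mW b).1 hb)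
    have h2 : x⁻¹ * (a * b) * x = x⁻¹ * (b * a) * x := by
      calc x⁻¹ * (a * b) * x = (x⁻¹ * a * x) * (x⁻¹ * b * x) := by group
        _ = (x⁻¹ * b * x) * (x⁻¹ * a * x) := h1
        _ = _ := by group
    exact mul_left_cancel (mul_right_cancel h2)
  have hTV : ∀ t ∈ T, ∀ v ∈ V, t * v * t⁻¹ ∈ V := by
    intro t ht v hv
    rw [← B.nor] at ht
    exact (Subgroup.mem_normalizer_iff.1 ht.2 v).1 hv
  have hxT : ∀ t, t ∈ T ↔ x * t * x⁻¹ ∈ T := fun t => Subgroup.mem_normalizer_iff.1 B.x_nor t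
  have hxT' : ∀ t ∈ T, x⁻¹ * t * x ∈ T := by
    intro t ht
    rw [hxT]
    have : x * (x⁻¹ * t * x) * x⁻¹ = t := by group
    rw [this]; exact ht
  have hTW : ∀ t ∈ T, ∀ w ∈ W, t * w * t⁻¹ ∈ W := by
    intro t ht w hw
    rw [mW]
    have h1 := hTV _ (hxT' t ht) _ ((mW w).1 hw)
    have : x⁻¹ * (t * w * t⁻¹) * x = (x⁻¹ * t * x) * (x⁻¹ * w * x) * (x⁻¹ * t * x)⁻¹ := by group
    rw [this]; exact h1
  have hVT : V ≤ T := by rw [B.T_eq]; exact le_sup_left
  have hWT : W ≤ T := by rw [B.T_eq]; exact le_sup_right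
  have hTS : T ≤ S := by rw [← B.nor]; exact inf_le_left
  have hx2 : x * x ∈ T := by rw [← pow_two]; exact B.x_sq
  have hxW : ∀ w ∈ W, x * w * x⁻¹ ∈ V := by
    intro w hw
    have h1 := hTV _ hx2 _ ((mW w).1 hw)
    have : x * w * x⁻¹ = x * x * (x⁻¹ * w * x) * (x * x)⁻¹ := by group
    rw [this]; exact h1
  have hxV : ∀ v ∈ V, x * v * x⁻¹ ∈ W := fun v hv => ⟨v, hv, rfl⟩
  have hdec : ∀ t ∈ T, ∃ w ∈ W, ∃ v ∈ V, t = w * v := by
    intro t ht
    have h1 : W ≤ Subgroup.normalizer (V : Set Ω) := by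
      intro w hw
      have := hWT hw
      rw [← B.nor] at this
      exact this.2
    rw [B.T_eq, sup_comm, ← SetLike.mem_coe, Subgroup.coe_mul_of_left_le_normalizer_right _ _ h1] at ht
    obtain ⟨w, hw, v, hv, rfl⟩ := Set.mem_mul.1 ht
    exact ⟨w, hw, v, hv, rfl⟩
  -- centralizers
  have hCV : ∀ s ∈ S, (∀ v ∈ V, s * v = v * s) → s ∈ V := by
    intro s hs h
    rw [← B.cent]
    exact ⟨hs, Subgroup.mem_centralizer_iff.2 fun v hv => (h v hv).symm⟩
  have hCW : ∀ s ∈ S, (∀ w ∈ W, s * w = w * s) → s ∈ W := by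
    intro s hs h
    rw [mW]
    apply hCV _ (S.mul_mem (S.mul_mem (S.inv_mem B.x_mem) hs) B.x_mem)
    intro v hv
    have h1 := h _ (hxV v hv)
    calc x⁻¹ * s * x * v = x⁻¹ * (s * (x * v * x⁻¹)) * x := by group
      _ = x⁻¹ * ((x * v * x⁻¹) * s) * x := by rw [h1]
      _ = v * (x⁻¹ * s * x) := by group
  -- the element y
  obtain ⟨w, hw, v, hv, hxx⟩ := hdec _ (T.inv_mem hx2)
  -- x * x = v⁻¹ * w⁻¹
  have hxx' : x * x = v⁻¹ * w⁻¹ := by
    rw [← mul_inv_rev, ← hxx, inv_inv]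
  set y := w * x with hy
  have hyS : y ∈ S := S.mul_mem (hWS hw) B.x_mem
  have hyT : y ∉ T := by
    intro h
    apply B.x_not
    have : x = w⁻¹ * y := by rw [hy]; group
    rw [this]
    exact T.mul_mem (T.inv_mem (hWT hw)) h
  have hyV : ∀ v ∈ V, y * v * y⁻¹ ∈ W := by
    intro v' hv'
    have h1 := hxV v' hv'
    have : y * v' * y⁻¹ = w * (x * v' * x⁻¹) * w⁻¹ := by rw [hy]; group
    rw [this]
    exact W.mul_mem (W.mul_mem hw h1) (W.inv_mem hw)
  have hyW : ∀ v ∈ W, y * v * y⁻¹ ∈ V := by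
    intro v' hv'
    have h1 := hxW v' hv'
    have : y * v' * y⁻¹ = w * (x * v' * x⁻¹) * w⁻¹ := by rw [hy]; group
    rw [this]
    exact hTV _ (hWT hw) _ h1
  -- y² ∈ Z
  set v1 := x * w⁻¹ * x⁻¹ with hv1
  set w1 := x * v⁻¹ * x⁻¹ with hw1
  have hv1V : v1 ∈ V := hxW _ (W.inv_mem hw)
  have hw1W : w1 ∈ W := hxV _ (V.inv_mem hv)
  have hrel : v⁻¹ * w⁻¹ = w1 * v1 := by
    have h1 : x * x = x * (x * x) * x⁻¹ := by group
    rw [hxx'] at h1
    rw [h1, hw1, hv1]; group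
  set z0 := v1⁻¹ * v⁻¹ with hz0
  have hz0V : z0 ∈ V := V.mul_mem (V.inv_mem hv1V) (V.inv_mem hv)
  have hz0W : z0 ∈ W := by
    have h1 : z0 = v1⁻¹ * w1 * v1⁻¹⁻¹ * w := by
      rw [hz0]
      have h2 : v⁻¹ = w1 * v1 * w := by rw [← hrel]; group
      rw [h2]; group
    rw [h1]
    exact W.mul_mem (hTW _ (hVT (V.inv_mem hv1V)) _ hw1W) hw
  have hyy : y * y = z0 := by
    have h1 : y * y = w * (x * w⁻¹ * x⁻¹)⁻¹ * (x * x) := by rw [hy]; group
    rw [h1, ← hv1, hxx']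
    have h2 : w * v1⁻¹ * (v⁻¹ * w⁻¹) = w * z0 * w⁻¹ := by rw [hz0]; group
    rw [h2, hWW _ hw _ hz0W, mul_inv_cancel_right]
  have hyyV : ∀ v' ∈ V, y * (y * v' * y⁻¹) * y⁻¹ = v' := by
    intro v' hv'
    have : y * (y * v' * y⁻¹) * y⁻¹ = (y * y) * v' * (y * y)⁻¹ := by group
    rw [this, hyy, hVV _ hz0V _ hv', mul_inv_cancel_right]
  have hyyW : ∀ v' ∈ W, y * (y * v' * y⁻¹) * y⁻¹ = v' := by
    intro v' hv'
    have : y * (y * v' * y⁻¹) * y⁻¹ = (y * y) * v' * (y * y)⁻¹ := by group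
    rw [this, hyy, hWW _ hz0W _ hv', mul_inv_cancel_right]
  have hyiV : ∀ v' ∈ V, y⁻¹ * v' * y = y * v' * y⁻¹ := by
    intro v' hv'
    have h1 := hyyV v' hv'
    have : y⁻¹ * v' * y = y⁻¹ * (y * (y * v' * y⁻¹) * y⁻¹) * y := by rw [h1]
    rw [this]; group
  have hyiW : ∀ v' ∈ W, y⁻¹ * v' * y = y * v' * y⁻¹ := by
    intro v' hv'
    have h1 := hyyW v' hv'
    have : y⁻¹ * v' * y = y⁻¹ * (y * (y * v' * y⁻¹) * y⁻¹) * y := by rw [h1]
    rw [this]; group
  -- f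
  have hfmem : ∀ c a, f c a ∈ V := fun c a => (P.mem _).2 ⟨c, a, rfl⟩
  have hfadd : ∀ c a c' a', f (c + c') (a + a') = f c a * f c' a' := P.add
  have hf0 : f 0 0 = 1 := by
    have h1 := hfadd 0 0 0 0
    rw [add_zero] at h1
    have h2 : f 0 0 * 1 = f 0 0 * f 0 0 := by rw [mul_one]; exact h1
    exact (mul_left_cancel h2).symm
  have hfinj : ∀ c a c' a', f c a = f c' a' → c = c' ∧ a = a' := by
    intro c a c' a' h
    have h1 : f (c + -c') (a + -a') = 1 := by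
      rw [hfadd, h, ← hfadd, add_neg_cancel, add_neg_cancel, hf0]
    obtain ⟨h2, h3⟩ := P.inj _ _ h1
    exact ⟨by linear_combination h2, by linear_combination h3⟩
  have hfinv : ∀ c a, (f c a)⁻¹ = f c a := by
    intro c a
    rw [inv_eq_iff_mul_eq_one, ← pow_two]
    exact B.el _ (hfmem c a)
  set f' : K → K → Ω := fun c a => y * f c a * y⁻¹ with hf'
  have hf'mem : ∀ c a, f' c a ∈ W := fun c a => hyV _ (hfmem c a)
  have hf'add : ∀ c a c' a', f' (c + c') (a + a') = f' c a * f' c' a' := by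
    intro c a c' a'
    show y * f (c + c') (a + a') * y⁻¹ = y * f c a * y⁻¹ * (y * f c' a' * y⁻¹)
    rw [hfadd]; group
  have hf'inj : ∀ c a c' a', f' c a = f' c' a' → c = c' ∧ a = a' := fun c a c' a' h =>
    hfinj _ _ _ _ (mul_left_cancel (mul_right_cancel h))
  have hWf' : ∀ w' ∈ W, ∃ c a, w' = f' c a := by
    intro w' hw'
    have h1 : y⁻¹ * w' * y ∈ V := by rw [hyiW w' hw']; exact hyW w' hw'
    obtain ⟨c, a, h2⟩ := (P.mem _).1 h1
    refine ⟨c, a, ?_⟩
    show w' = y * P.f c a * y⁻¹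
    rw [← h2]; group
  -- Z
  have hZ1 : ∀ c, f c 0 ∈ W := by
    intro c
    apply hCW _ (hVS (hfmem c 0))
    intro w' hw'
    obtain ⟨t, ht⟩ := P.act w' hw'
    have h1 := ht c 0
    rw [mul_zero, add_zero, mul_inv_eq_iff_eq_mul] at h1
    exact h1.symm
  have hf'0 : ∀ c, f' c 0 ∈ V := fun c => hyW _ (hZ1 c)
  choose u hu using fun b => P.act (f' 0 b) (hf'mem 0 b)
  have hu' : ∀ d b c a, f' d b * f c a * (f' d b)⁻¹ = f (c + u b * a) a := by
    intro d b c a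
    have h1 : f' d b = f' 0 b * f' d 0 := by rw [← hf'add]; simp
    rw [h1]
    have h2 : f' 0 b * f' d 0 * f c a * (f' 0 b * f' d 0)⁻¹ = f' 0 b * (f' d 0 * f c a * (f' d 0)⁻¹) * (f' 0 b)⁻¹ := by
      group
    rw [h2, hVV _ (hf'0 d) _ (hfmem c a), mul_inv_cancel_right]
    exact hu b c a
  have hne : ∃ b, u b ≠ 0 := by
    by_contra hall
    push Not at hall
    have hWV : W ≤ V := by
      intro w' hw'
      apply hCV _ (hWS hw')
      intro v' hv'
      obtain ⟨d, b, rfl⟩ := hWf' w' hw'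
      obtain ⟨c, a, rfl⟩ := (P.mem _).1 hv'
      have h1 := hu' d b c a
      rw [hall, zero_mul, add_zero, mul_inv_eq_iff_eq_mul] at h1
      exact h1
    -- then x normalizes V
    apply B.x_not
    rw [← B.nor]
    refine ⟨B.x_mem, ?_⟩
    refine Subgroup.mem_normalizer_iff.2 fun v' => ?_
    constructor
    · intro hv'
      exact hWV (hxV v' hv')
    · intro h
      have h1 : x * (x * v' * x⁻¹) * x⁻¹ ∈ V := hWV (hxV _ h)
      have h2 := hTV _ (T.inv_mem hx2) _ h1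
      have h3 : (x * x)⁻¹ * (x * (x * v' * x⁻¹) * x⁻¹) * (x * x)⁻¹⁻¹ = v' := by group
      rwa [h3] at h2
  have hZ2 : ∀ c a, f c a ∈ W → a = 0 := by
    intro c a h
    obtain ⟨b, hb⟩ := hne
    have h1 := hu b c a
    rw [hWW _ (hf'mem 0 b) _ h, mul_inv_cancel_right] at h1
    have h2 := (hfinj _ _ _ _ h1).1
    have h3 : u b * a = 0 := by linear_combination -h2
    exact (mul_eq_zero.1 h3).resolve_left hb
  have hZ3 : ∀ c a, f' c a ∈ V → a = 0 := by
    intro c a h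
    apply hZ2 c a
    have h1 : f c a = y⁻¹ * f' c a * y := by
      show f c a = y⁻¹ * (y * f c a * y⁻¹) * y
      group
    rw [h1, hyiV _ h]
    exact hyV _ h
  have hδ : ∀ s, ∃ c, f s 0 = f' c 0 := by
    intro s
    obtain ⟨c, a, h1⟩ := hWf' _ (hZ1 s)
    have h2 : a = 0 := hZ3 c a (h1 ▸ hfmem s 0)
    exact ⟨c, by rw [h1, h2]⟩
  choose δ hδ using hδ
  -- V acts on W
  have hact : ∀ c a d b, f c a * f' d b * (f c a)⁻¹ = f' (d + u a * b) b := by
    intro c a d b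
    have h1 : f c a = y * f' c a * y⁻¹ := by
      show f c a = y * (y * f c a * y⁻¹) * y⁻¹
      rw [hyyV _ (hfmem c a)]
    rw [h1]
    show y * f' c a * y⁻¹ * (y * f d b * y⁻¹) * (y * f' c a * y⁻¹)⁻¹ = y * f (d + u a * b) b * y⁻¹
    have h2 : y * f' c a * y⁻¹ * (y * f d b * y⁻¹) * (y * f' c a * y⁻¹)⁻¹ =
        y * (f' c a * f d b * (f' c a)⁻¹) * y⁻¹ := by group
    rw [h2, hu']
  have huadd : ∀ a b, u (a + b) = u a + u b := by
    intro a b
    have h1 := hu (a + b) 0 1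
    have h2 : f' 0 (a + b) = f' 0 a * f' 0 b := by rw [← hf'add]; simp
    rw [h2] at h1
    have h3 : f' 0 a * f' 0 b * f 0 1 * (f' 0 a * f' 0 b)⁻¹ = f' 0 a * (f' 0 b * f 0 1 * (f' 0 b)⁻¹) * (f' 0 a)⁻¹ := by
      group
    rw [h3, hu, hu] at h1
    have h4 := (hfinj _ _ _ _ h1).1
    linear_combination -h4
  have huinj : ∀ b, u b = 0 → b = 0 := by
    intro b hb
    apply hZ3 0 b
    apply hCV _ (hWS (hf'mem 0 b))
    intro v' hv'
    obtain ⟨c, a, rfl⟩ := (P.mem _).1 hv'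
    have h1 := hu b c a
    rw [hb, zero_mul, add_zero, mul_inv_eq_iff_eq_mul] at h1
    exact h1
  have hfun : ∀ a b, δ (u b * a) = u a * b := by
    intro a b
    have h1 : f' 0 b * f 0 a * (f' 0 b)⁻¹ * (f 0 a)⁻¹ = f (u b * a) 0 := by
      rw [hu, hfinv, ← hfadd]
      have h2 : f (0 + u b * a + 0) (a + a) = f (u b * a) 0 * f 0 a * f 0 a := by
        rw [← hfadd, ← hfadd]; congr 1 <;> ring
      rw [h2, mul_assoc]
      have h3 : f 0 a * f 0 a = 1 := by rw [← pow_two]; exact B.el _ (hfmem 0 a)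
      rw [h3, mul_one]
    have h2 : f 0 a * f' 0 b * (f 0 a)⁻¹ * (f' 0 b)⁻¹ = f' (u a * b) 0 := by
      rw [hact]
      have h3 : f' (0 + u a * b) b = f' (u a * b) 0 * f' 0 b := by
        rw [← hf'add]; congr 1 <;> ring
      rw [h3, mul_inv_cancel_right]
    have h3 : (f' 0 b * f 0 a * (f' 0 b)⁻¹ * (f 0 a)⁻¹)⁻¹ = f 0 a * f' 0 b * (f 0 a)⁻¹ * (f' 0 b)⁻¹ := by group
    rw [h1, h2, hfinv, hδ] at h3
    exact (hf'inj _ _ _ _ h3).1
  obtain ⟨σ, m, hm, hσ, huσ, hδσ⟩ := exists_sigma u δ huadd huinj hfun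
  have hf'1 : ∀ c a, f' c a = f' 0 a * f' c 0 := by
    intro c a
    rw [← hf'add]; simp
  have hf1 : ∀ c a, f c a = f 0 a * f c 0 := by
    intro c a
    rw [← hfadd]; simp
  -- the relations
  have R_va_zc : ∀ a c, f 0 a * f (m * c) 0 = f (m * c) 0 * f 0 a := fun a c =>
    hVV _ (hfmem _ _) _ (hfmem _ _)
  have R_wb_zc : ∀ b c, f' 0 (σ b) * f (m * c) 0 = f (m * c) 0 * f' 0 (σ b) := fun b c =>
    hWW _ (hf'mem _ _) _ (hZ1 _)
  have R_va_wb : ∀ a b, f 0 a * f' 0 (σ b) = f' 0 (σ b) * f 0 a * f (m * (a * b)) 0 := by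
    intro a b
    have h1 := hact 0 a 0 (σ b)
    rw [mul_inv_eq_iff_eq_mul] at h1
    rw [h1, hf'1, zero_add]
    have h2 : f' (u a * σ b) 0 = f (m * (a * b)) 0 := by
      rw [hδ, hδσ, huσ]
      congr 1
      rw [mul_div_cancel_left₀ _ hm, map_mul]
      ring
    rw [h2, mul_assoc (f' 0 (σ b)), mul_assoc (f' 0 (σ b)), hVV _ (hfmem _ _) _ (hfmem _ _)]
  have R_inj : ∀ a b c, f' 0 (σ b) * f 0 a * f (m * c) 0 = 1 → a = 0 ∧ b = 0 ∧ c = 0 := by
    intro a b c h
    have h1 : f (m * c) a = (f' 0 (σ b))⁻¹ := by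
      rw [hf1, eq_inv_iff_mul_eq_one, ← hf1, ← mul_eq_one_iff_eq_inv.2 (eq_inv_of_mul_eq_one_left (a := f' 0 (σ b)) (b := f 0 a * f (m * c) 0) (by rw [← mul_assoc]; exact h))]
      rw [← hf1]
      have h2 : f' 0 (σ b) * f (m * c) a = 1 := by rw [hf1, ← mul_assoc]; exact h
      have h3 := mul_eq_one_comm.1 h2
      rw [h3, h2]
    have ha : a = 0 := hZ2 (m * c) a (by rw [h1]; exact W.inv_mem (hf'mem _ _))
    have hb : σ b = 0 := by
      apply hZ3 0 (σ b)
      have h2 : f' 0 (σ b) = (f (m * c) a)⁻¹ := by rw [h1, inv_inv]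
      rw [h2]
      exact V.inv_mem (hfmem _ _)
    have hb' : b = 0 := (map_eq_zero σ).1 hb
    refine ⟨ha, hb', ?_⟩
    rw [ha, hb] at h
    have h4 : f' 0 0 = 1 := by
      show y * f 0 0 * y⁻¹ = 1
      rw [hf0]; group
    rw [h4, hf0, one_mul, one_mul] at h
    exact (mul_eq_zero.1 (P.inj _ _ h).1).resolve_left hm
  have R_y_zc : ∀ c, y * f (m * c) 0 * y⁻¹ = f (m * σ c) 0 := by
    intro c
    show f' (m * c) 0 = _
    rw [hδ, hδσ, mul_div_cancel_left₀ _ hm, hσ]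
  obtain ⟨c0, a0, hz0f⟩ := (P.mem _).1 hz0V
  have ha0 : a0 = 0 := hZ2 c0 a0 (by
    show P.f c0 a0 ∈ W
    rw [← hz0f]; exact hz0W)
  have hallT : ∀ a b c, f' 0 (σ b) * f 0 a * f (m * c) 0 ∈ T := fun a b c =>
    T.mul_mem (T.mul_mem (hWT (hf'mem _ _)) (hVT (hfmem _ _))) (hVT (hfmem _ _))
  let R : Rel Ω K σ :=
    { va := fun a => f 0 a
      wb := fun b => f' 0 (σ b)
      zc := fun c => f (m * c) 0
      y := y
      va_add := fun a b => by rw [← hfadd, add_zero]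
      wb_add := fun a b => by rw [← hf'add, add_zero, map_add]
      zc_add := fun a b => by rw [← hfadd, add_zero, mul_add]
      va_zc := R_va_zc
      wb_zc := R_wb_zc
      va_wb := R_va_wb
      inj := R_inj
      sig := hσ
      y_sq := ⟨c0 / m, by rw [hyy, hz0f, ha0, mul_div_cancel₀ _ hm]⟩
      y_va := fun a => by
        show y * f 0 a * y⁻¹ = f' 0 (σ (σ a))
        rw [hσ]
      y_zc := R_y_zc
      y_not := fun a b c h => hyT (h ▸ hallT a b c) }
  have hRe : ∀ a b c, R.e a b c = f' 0 (σ b) * f 0 a * f (m * c) 0 := fun _ _ _ => rfl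
  have hRe0 : ∀ a c, R.e a 0 c = f (m * c) a := by
    intro a c
    rw [hRe, map_zero, hf1 (m * c) a]
    have h4 : f' 0 0 = 1 := by
      show y * f 0 0 * y⁻¹ = 1
      rw [hf0]; group
    rw [h4, one_mul]
  have hRe1 : ∀ b c, R.e 0 b c = f' (m * σ c) (σ b) := by
    intro b c
    rw [hRe, hf0, mul_one, hf'1 (m * σ c) (σ b)]
    have h1 : f (m * c) 0 = f' (m * σ c) 0 := by
      rw [hδ, hδσ, mul_div_cancel_left₀ _ hm]
    rw [h1]
  have hVeq : V = R.Vg := by
    ext v'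
    rw [P.mem, R.mem_Vg]
    constructor
    · rintro ⟨c, a, rfl⟩
      exact ⟨a, c / m, by rw [hRe0, mul_div_cancel₀ _ hm]⟩
    · rintro ⟨a, c, rfl⟩
      exact ⟨m * c, a, hRe0 a c⟩
  have hWeq : W = R.Wg := by
    ext w'
    rw [R.mem_Wg]
    constructor
    · intro hw'
      obtain ⟨c, b, rfl⟩ := hWf' w' hw'
      refine ⟨σ b, σ (c / m), ?_⟩
      rw [hRe1, hσ, hσ, mul_div_cancel₀ _ hm]
    · rintro ⟨b, c, rfl⟩
      rw [hRe1]
      exact hf'mem _ _
  have hTeq : T = R.T := by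
    ext t
    rw [R.mem_T]
    constructor
    · intro ht
      obtain ⟨w', hw', v', hv', rfl⟩ := hdec t ht
      rw [hWeq] at hw'
      rw [hVeq] at hv'
      obtain ⟨b, c, rfl⟩ := R.mem_Wg.1 hw'
      obtain ⟨a', c', rfl⟩ := R.mem_Vg.1 hv'
      exact ⟨_, _, _, R.e_mul _ _ _ _ _ _⟩
    · rintro ⟨a, b, c, rfl⟩
      exact hallT a b c
  have hSeq : S = R.Sg := by
    ext s
    rw [R.mem_Sg]
    constructor
    · intro hs
      by_cases hsT : s ∈ T
      · rw [hTeq, R.mem_T] at hsT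
        obtain ⟨a, b, c, h⟩ := hsT
        exact ⟨a, b, c, Or.inl h⟩
      · have hidx : (T.subgroupOf S).index = 2 := B.S_idx
        have h1 := (Subgroup.mul_mem_iff_of_index_two hidx (a := (⟨s, hs⟩ : S)) (b := (⟨y⁻¹, S.inv_mem hyS⟩ : S))).2
          (by
            constructor
            · intro h
              exact absurd (Subgroup.mem_subgroupOf.1 h) hsT
            · intro h
              have h2 : y⁻¹ ∈ T := Subgroup.mem_subgroupOf.1 h
              exact absurd (inv_mem_iff.1 h2) hyT)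
        have h2 : s * y⁻¹ ∈ T := Subgroup.mem_subgroupOf.1 h1
        rw [hTeq, R.mem_T] at h2
        obtain ⟨a, b, c, h⟩ := h2
        refine ⟨a, b, c, Or.inr ?_⟩
        rw [← h]
        show s = s * y⁻¹ * y
        group
    · rintro ⟨a, b, c, rfl | rfl⟩
      · exact hTS (hallT a b c)
      · exact S.mul_mem (hTS (hallT a b c)) hyS
  refine ⟨σ, R, ⟨hSeq, hTeq, hVeq, hWeq, ⟨w⁻¹, W.inv_mem hw, ?_⟩, ?_, ?_⟩⟩
  · show x = w⁻¹ * y
    rw [hy]; group
  · intro e he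
    obtain ⟨p, q, r, s, hd, h⟩ := P.E1 e he
    refine ⟨p, q / m, r * m, s, ?_, ?_⟩
    · have : p * s - q / m * (r * m) = p * s - q * r := by field_simp
      rw [this]; exact hd
    · intro a c h1
      have h2 : (⟨R.e a 0 c, h1⟩ : V) = ⟨f (m * c) a, hfmem _ _⟩ := Subtype.ext (hRe0 a c)
      rw [h2, h, hRe0]
      congr 1
      · field_simp
      · ring
  · intro p q r s hd
    obtain ⟨e, he, h⟩ := P.E2 p (q * m) (r / m) s (by
      have : p * s - q * m * (r / m) = p * s - q * r := by field_simp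
      rw [this]; exact hd)
    refine ⟨e, he, fun a c h1 => ?_⟩
    have h2 : (⟨R.e a 0 c, h1⟩ : V) = ⟨f (m * c) a, hfmem _ _⟩ := Subtype.ext (hRe0 a c)
    rw [h2, h, hRe0]
    congr 1
    · ring
    · field_simp

end Cfsg.Agent.H770.Hen
end

private theorem dce_a15422d6a166 : _root_.True := by
  try have : _root_.True := by simp only [_root_.Cfsg.Agent.H302.Hen.U.eq_1]
  try have : _root_.True := by simp only [_root_.Cfsg.Agent.H302.Hen.L.eq_1]
  exact _root_.True.intro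
end
end

-- part: H869/SP/Asm
section
set_option linter.all false
open scoped Cfsg.Agent.FastGrp

-- part: H869/SP/Lin
section
/-!
# S5175, SP1: linear algebra

Coordinates on the indecomposable `SL₂(K)`-module `V` with `V / D` natural and `D` trivial, `|D| = |K|`.
-/

set_option autoImplicit false

namespace Cfsg.Agent.H869.SP

open Matrix

variable {K : Type*} [Field K]

/-- the upper root element -/
def up (t : K) : _root_.Matrix.SpecialLinearGroup (Fin 2) K := ⟨!![1, t; 0, 1], by simp [Matrix.det_fin_two]⟩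

/-- the diagonal elements -/
def dg (r : K) (hr : r ≠ 0) : _root_.Matrix.SpecialLinearGroup (Fin 2) K :=
  ⟨!![r, 0; 0, r⁻¹], by simp [Matrix.det_fin_two, hr]⟩

/-- the Weyl element (characteristic 2) -/
def wy [CharP K 2] : _root_.Matrix.SpecialLinearGroup (Fin 2) K :=
  ⟨!![0, 1; 1, 0], by simp [Matrix.det_fin_two, CharTwo.neg_eq]⟩

@[simp] theorem coe_up (t : K) : (up t : Matrix (Fin 2) (Fin 2) K) = !![1, t; 0, 1] := rfl
@[simp] theorem coe_dg (r : K) (hr : r ≠ 0) : (dg r hr : Matrix (Fin 2) (Fin 2) K) = !![r, 0; 0, r⁻¹] := rfl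
@[simp] theorem coe_wy [CharP K 2] : ((wy : _root_.Matrix.SpecialLinearGroup (Fin 2) K) : Matrix (Fin 2) (Fin 2) K) = !![0, 1; 1, 0] := rfl

theorem up_add (t t' : K) : up (t + t') = up t * up t' := by
  ext i j
  (revert i j; simp [add_comm, _root_.Fin.forall_fin_succ])

theorem up_zero : up (0 : K) = 1 := by
  ext i j
  (revert i j; simp only [_root_.Fin.forall_fin_succ, _root_.Cfsg.Agent.H869.SP.coe_up, _root_.Matrix.of_apply, _root_.Matrix.cons_val', _root_.Matrix.cons_val_fin_one, _root_.Matrix.SpecialLinearGroup.coe_one, Fin.isValue, _root_.Matrix.cons_val_zero, _root_.Matrix.cons_val_succ, _root_.IsEmpty.forall_iff, _root_.and_true, _root_.Matrix.one_apply_eq, Nat.reduceAdd, _root_.Fin.succ_zero_eq_one, _root_.ne_eq, _root_.zero_ne_one, _root_.not_false_eq_true, _root_.Matrix.one_apply_ne, _root_.and_self, _root_.Fin.succ_ne_zero, _root_.true_and])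

theorem up_inj {t t' : K} (h : up t = up t') : t = t' := by
  have := congrArg (fun g : _root_.Matrix.SpecialLinearGroup (Fin 2) K => g 0 1) h
  simpa using this

theorem dg_up (r : K) (hr : r ≠ 0) (t : K) : dg r hr * up t * (dg r hr)⁻¹ = up (r ^ 2 * t) := by
  rw [mul_inv_eq_iff_eq_mul]
  ext i j
  (revert i j; simp only [_root_.Fin.forall_fin_succ, _root_.Matrix.SpecialLinearGroup.coe_mul, _root_.Cfsg.Agent.H869.SP.coe_dg, _root_.Cfsg.Agent.H869.SP.coe_up, _root_.Matrix.cons_mul, _root_.Nat.succ_eq_add_one, Nat.reduceAdd, _root_.Matrix.vecMul_cons, _root_.Matrix.head_cons, _root_.Matrix.smul_cons, _root_.smul_eq_mul, _root_.mul_one, _root_.Matrix.smul_empty, _root_.Matrix.tail_cons, _root_.zero_smul, _root_.Matrix.empty_vecMul, _root_.add_zero, _root_.MulZeroClass.mul_zero, _root_.zero_add, _root_.Matrix.empty_mul, _root_.Equiv.symm_apply_apply, _root_.Matrix.of_apply, _root_.Matrix.cons_val', _root_.Matrix.cons_val_fin_one,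 _root_.one_smul, _root_.Matrix.add_cons, _root_.Matrix.empty_add_empty, Fin.isValue, _root_.Matrix.cons_val_zero, _root_.Matrix.cons_val_succ, _root_.forall_const, _root_.implies_true, _root_.and_true, _root_.true_and]) <;> (repeat' with_reducible apply And.intro)
  field_simp

/-- Bruhat decomposition as an induction principle -/
theorem sl_induction [CharP K 2] {p : _root_.Matrix.SpecialLinearGroup (Fin 2) K → Prop}
    (hu : ∀ t, p (up t)) (hd : ∀ r hr, p (dg r hr)) (hw : p wy) (hm : ∀ a b, p a → p b → p (a * b))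
    (g : _root_.Matrix.SpecialLinearGroup (Fin 2) K) : p g := by
  have hdet : g 0 0 * g 1 1 - g 0 1 * g 1 0 = 1 := by
    have := g.det_coe
    rwa [Matrix.det_fin_two] at this
  by_cases hs : g 1 0 = 0
  · rw [hs, mul_zero, sub_zero] at hdet
    have h0 : g 0 0 ≠ 0 := fun h => by rw [h, zero_mul] at hdet; exact zero_ne_one hdet
    have h1 : g 1 1 = (g 0 0)⁻¹ := eq_inv_of_mul_eq_one_left (by rw [mul_comm]; exact hdet)
    have : g = dg (g 0 0) h0 * up (g 0 1 / g 0 0) := by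
      ext i j
      fin_cases i <;> fin_cases j
      · simp
      · simp
        field_simp
      · simp [hs]
      · simp [h1]
    rw [this]
    exact hm _ _ (hd _ _) (hu _)
  · have : g = up (g 0 0 / g 1 0) * (wy * dg (g 1 0) hs) * up (g 1 1 / g 1 0) := by
      ext i j
      fin_cases i <;> fin_cases j
      · simp only [_root_.Fin.zero_eta, _root_.Fin.isValue, _root_.Matrix.SpecialLinearGroup.coe_mul, _root_.Cfsg.Agent.H869.SP.coe_up, _root_.Cfsg.Agent.H869.SP.coe_wy, _root_.Cfsg.Agent.H869.SP.coe_dg, _root_.Matrix.cons_mul, _root_.Nat.succ_eq_add_one, _root_.Nat.reduceAdd, _root_.Matrix.vecMul_cons, _root_.Matrix.head_cons, _root_.zero_smul, _root_.Matrix.tail_cons, _root_.one_smul, _root_.Matrix.empty_vecMul, _root_.add_zero, _root_.zero_add, _root_.Matrix.empty_mul, _root_.Equiv.symm_apply_apply, _root_.Matrix.smul_cons, _root_.smul_eq_mul, _root_.MulZeroClass.mul_zero, _root_.Matrix.smul_empty, _root_.Matrix.add_cons,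 _root_.Matrix.empty_add_empty, _root_.mul_one, _root_.Matrix.of_apply, _root_.Matrix.cons_val', _root_.Matrix.cons_val_zero, _root_.Matrix.cons_val_fin_one]
        field_simp
      · simp only [_root_.Fin.zero_eta, _root_.Fin.isValue, _root_.Fin.mk_one, _root_.Matrix.SpecialLinearGroup.coe_mul, _root_.Cfsg.Agent.H869.SP.coe_up, _root_.Cfsg.Agent.H869.SP.coe_wy, _root_.Cfsg.Agent.H869.SP.coe_dg, _root_.Matrix.cons_mul, _root_.Nat.succ_eq_add_one, _root_.Nat.reduceAdd, _root_.Matrix.vecMul_cons, _root_.Matrix.head_cons, _root_.zero_smul, _root_.Matrix.tail_cons, _root_.one_smul, _root_.Matrix.empty_vecMul, _root_.add_zero, _root_.zero_add, _root_.Matrix.empty_mul, _root_.Equiv.symm_apply_apply, _root_.Matrix.smul_cons, _root_.smul_eq_mul, _root_.MulZeroClass.mul_zero, _root_.Matrix.smul_empty, _root_.Matrix.add_cons, _root_.Matrix.empty_add_empty, _root_.mul_one, _root_.Matrix.of_apply, _root_.Matrix.cons_val', _root_.Matrix.cons_val_one,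 _root_.Matrix.cons_val_fin_one, _root_.Matrix.cons_val_zero]
        field_simp
        have h2 : g 0 1 * g 1 0 = g 0 0 * g 1 1 - 1 := by linear_combination -hdet
        rw [h2, sub_eq_add_neg, CharTwo.neg_eq]
        try ring
      · simp only [_root_.Fin.mk_one, _root_.Fin.isValue, _root_.Fin.zero_eta, _root_.Matrix.SpecialLinearGroup.coe_mul, _root_.Cfsg.Agent.H869.SP.coe_up, _root_.Cfsg.Agent.H869.SP.coe_wy, _root_.Cfsg.Agent.H869.SP.coe_dg, _root_.Matrix.cons_mul, _root_.Nat.succ_eq_add_one, _root_.Nat.reduceAdd, _root_.Matrix.vecMul_cons, _root_.Matrix.head_cons, _root_.zero_smul, _root_.Matrix.tail_cons, _root_.one_smul, _root_.Matrix.empty_vecMul, _root_.add_zero, _root_.zero_add, _root_.Matrix.empty_mul, _root_.Equiv.symm_apply_apply, _root_.Matrix.smul_cons, _root_.smul_eq_mul, _root_.MulZeroClass.mul_zero, _root_.Matrix.smul_empty, _root_.Matrix.add_cons, _root_.Matrix.empty_add_empty, _root_.mul_one, _root_.Matrix.of_apply,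 _root_.Matrix.cons_val', _root_.Matrix.cons_val_zero, _root_.Matrix.cons_val_fin_one, _root_.Matrix.cons_val_one]
      · simp only [_root_.Fin.mk_one, _root_.Fin.isValue, _root_.Matrix.SpecialLinearGroup.coe_mul, _root_.Cfsg.Agent.H869.SP.coe_up, _root_.Cfsg.Agent.H869.SP.coe_wy, _root_.Cfsg.Agent.H869.SP.coe_dg, _root_.Matrix.cons_mul, _root_.Nat.succ_eq_add_one, _root_.Nat.reduceAdd, _root_.Matrix.vecMul_cons, _root_.Matrix.head_cons, _root_.zero_smul, _root_.Matrix.tail_cons, _root_.one_smul, _root_.Matrix.empty_vecMul, _root_.add_zero, _root_.zero_add, _root_.Matrix.empty_mul, _root_.Equiv.symm_apply_apply, _root_.Matrix.smul_cons, _root_.smul_eq_mul, _root_.MulZeroClass.mul_zero, _root_.Matrix.smul_empty, _root_.Matrix.add_cons, _root_.Matrix.empty_add_empty, _root_.mul_one, _root_.Matrix.of_apply, _root_.Matrix.cons_val', _root_.Matrix.cons_val_one, _root_.Matrix.cons_val_fin_one]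
        field_simp
    rw [this]
    exact hm _ _ (hm _ _ (hu _) (hm _ _ hw (hd _ _))) (hu _)

/-- A subgroup of order `|K|` of `SL₂(K)`, `|K| = 2ⁿ`, is conjugate to the upper unitriangular group. -/
theorem exists_conj_up [Fintype K] {n : ℕ} (hn : 1 ≤ n) (hK : Fintype.card K = 2 ^ n)
    (A : Subgroup (_root_.Matrix.SpecialLinearGroup (Fin 2) K)) (hA : Nat.card A = Fintype.card K) :
    ∃ M : _root_.Matrix.SpecialLinearGroup (Fin 2) K, (∀ a ∈ A, ∃ t, M⁻¹ * a * M = up t) ∧ ∀ t, M * up t * M⁻¹ ∈ A := by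
  classical
  have hp : Fact (Nat.Prime 2) := ⟨Nat.prime_two⟩
  have hAp : IsPGroup 2 A := IsPGroup.of_card (hA.trans hK)
  let act : MulAction A (Fin 2 → K) :=
    { smul := fun a v => ((a : _root_.Matrix.SpecialLinearGroup (Fin 2) K) : Matrix (Fin 2) (Fin 2) K).mulVec v
      one_smul := fun v => by
        show (((1 : A) : _root_.Matrix.SpecialLinearGroup (Fin 2) K) : Matrix (Fin 2) (Fin 2) K).mulVec v = v
        simp only [_root_.OneMemClass.coe_one, _root_.Matrix.SpecialLinearGroup.coe_one, _root_.Matrix.one_mulVec]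
      mul_smul := fun a b v => by
        show (((a * b : A) : _root_.Matrix.SpecialLinearGroup (Fin 2) K) : Matrix (Fin 2) (Fin 2) K).mulVec v =
          ((a : _root_.Matrix.SpecialLinearGroup (Fin 2) K) : Matrix (Fin 2) (Fin 2) K).mulVec
            (((b : _root_.Matrix.SpecialLinearGroup (Fin 2) K) : Matrix (Fin 2) (Fin 2) K).mulVec v)
        rw [Matrix.mulVec_mulVec, Subgroup.coe_mul, Matrix.SpecialLinearGroup.coe_mul] }
  have hsm : ∀ (a : A) (v : Fin 2 → K), a • v =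
      ((a : _root_.Matrix.SpecialLinearGroup (Fin 2) K) : Matrix (Fin 2) (Fin 2) K).mulVec v := fun _ _ => rfl
  have hfinA : Finite A := Nat.finite_of_card_ne_zero (by rw [hA, hK]; positivity)
  obtain ⟨v, hv, hv0⟩ : ∃ v : Fin 2 → K, v ∈ MulAction.fixedPoints A (Fin 2 → K) ∧ v ≠ 0 := by
    have h1 : (0 : Fin 2 → K) ∈ MulAction.fixedPoints A (Fin 2 → K) := fun a => by
      rw [hsm, Matrix.mulVec_zero]
    obtain ⟨v, hv, hne⟩ := hAp.exists_fixed_point_of_prime_dvd_card_of_fixed_point (Fin 2 → K)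
      (by
        rw [Nat.card_eq_fintype_card, Fintype.card_pi]
        simp only [Fin.prod_univ_two, hK]
        exact dvd_mul_of_dvd_left (dvd_pow_self 2 (by omega)) _) h1
    exact ⟨v, hv, hne.symm⟩
  have hv' : ∀ a ∈ A, (a : Matrix (Fin 2) (Fin 2) K).mulVec v = v := fun a ha => hv ⟨a, ha⟩
  -- a matrix moving `e₁` to `v`
  obtain ⟨M, hM⟩ : ∃ M : _root_.Matrix.SpecialLinearGroup (Fin 2) K, (M : Matrix (Fin 2) (Fin 2) K).mulVec ![1, 0] = v := by
    by_cases h0 : v 0 = 0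
    · have h1 : v 1 ≠ 0 := fun h => hv0 (by ext i; fin_cases i <;> simp [h0, h])
      refine ⟨⟨!![0, -(v 1)⁻¹; v 1, 0], by simp [Matrix.det_fin_two, h1]⟩, ?_⟩
      ext i
      (revert i; simp only [Matrix.mulVec, dotProduct, Fin.sum_univ_two, h0, _root_.Fin.forall_fin_succ, Fin.isValue, _root_.Matrix.of_apply, _root_.Matrix.cons_val', _root_.Matrix.cons_val_fin_one, _root_.Matrix.cons_val_zero, _root_.mul_one, _root_.Matrix.cons_val_one, _root_.MulZeroClass.mul_zero, _root_.add_zero, _root_.Matrix.cons_val_succ, _root_.Fin.succ_zero_eq_one, _root_.IsEmpty.forall_iff, _root_.and_self])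
    · refine ⟨⟨!![v 0, 0; v 1, (v 0)⁻¹], by simp [Matrix.det_fin_two, h0]⟩, ?_⟩
      ext i
      (revert i; simp only [Matrix.mulVec, dotProduct, Fin.sum_univ_two, _root_.Fin.forall_fin_succ, Fin.isValue, _root_.Matrix.of_apply, _root_.Matrix.cons_val', _root_.Matrix.cons_val_fin_one, _root_.Matrix.cons_val_zero, _root_.mul_one, _root_.Matrix.cons_val_one, _root_.MulZeroClass.mul_zero, _root_.add_zero, _root_.Matrix.cons_val_succ, _root_.Fin.succ_zero_eq_one, _root_.IsEmpty.forall_iff, _root_.and_self])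
  have hMi : ((M⁻¹ : _root_.Matrix.SpecialLinearGroup (Fin 2) K) : Matrix (Fin 2) (Fin 2) K).mulVec v = ![1, 0] := by
    rw [← hM, Matrix.mulVec_mulVec, ← Matrix.SpecialLinearGroup.coe_mul, inv_mul_cancel,
      Matrix.SpecialLinearGroup.coe_one, Matrix.one_mulVec]
  have key : ∀ a ∈ A, ∃ t, M⁻¹ * a * M = up t := by
    intro a ha
    set b := M⁻¹ * a * M with hb
    have h1 : (b : Matrix (Fin 2) (Fin 2) K).mulVec ![1, 0] = ![1, 0] := by
      rw [hb, Matrix.SpecialLinearGroup.coe_mul, Matrix.SpecialLinearGroup.coe_mul, ← Matrix.mulVec_mulVec,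
        hM, ← Matrix.mulVec_mulVec, hv' a ha, hMi]
    have h00 : b 0 0 = 1 := by
      have := congrFun h1 0
      simpa only [Matrix.mulVec, dotProduct, Fin.sum_univ_two, _root_.Fin.isValue, _root_.Matrix.cons_val_zero, _root_.mul_one, _root_.Matrix.cons_val_one, _root_.Matrix.cons_val_fin_one, _root_.MulZeroClass.mul_zero, _root_.add_zero, _root_.Nat.succ_eq_add_one, _root_.Nat.reduceAdd] using this
    have h10 : b 1 0 = 0 := by
      have := congrFun h1 1
      simpa [Matrix.mulVec, dotProduct, Fin.sum_univ_two] using this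
    have hdet : b 0 0 * b 1 1 - b 0 1 * b 1 0 = 1 := by
      have := b.det_coe
      rwa [Matrix.det_fin_two] at this
    have h11 : b 1 1 = 1 := by simpa [h00, h10] using hdet
    refine ⟨b 0 1, ?_⟩
    ext i j
    fin_cases i <;> fin_cases j
    · simpa using h00
    · simp
    · simpa using h10
    · simpa using h11
  refine ⟨M, key, ?_⟩
  choose! τ hτ using key
  have hinj : Function.Injective (fun a : A => τ a) := by
    intro a b hab
    have h1 := hτ a a.2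
    have h2 := hτ b b.2
    have h3 : τ (a : _root_.Matrix.SpecialLinearGroup (Fin 2) K) = τ b := hab
    rw [h3, ← h2] at h1
    exact Subtype.ext (mul_left_cancel (mul_right_cancel h1))
  have hbij := (Nat.bijective_iff_injective_and_card (fun a : A => τ a)).2
    ⟨hinj, by rw [hA, Nat.card_eq_fintype_card]⟩
  intro t
  obtain ⟨a, ha⟩ := hbij.2 t
  have h1 := hτ a a.2
  have h3 : τ (a : _root_.Matrix.SpecialLinearGroup (Fin 2) K) = t := ha
  rw [h3] at h1
  rw [← h1]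
  have : M * (M⁻¹ * (a : _root_.Matrix.SpecialLinearGroup (Fin 2) K) * M) * M⁻¹ = a := by group
  rw [this]
  exact a.2

end Cfsg.Agent.H869.SP
end

-- part: H869/SP/Mod
section
/-!
# S5175, SP1: coordinates on the module `V`
-/

set_option autoImplicit false

namespace Cfsg.Agent.H869.SP

open Matrix (SpecialLinearGroup)

section

variable {K : Type*} [Field K] [CharP K 2]

/-- the Frobenius endomorphism of `SL₂(K)` -/
def fr : _root_.Matrix.SpecialLinearGroup (Fin 2) K →* _root_.Matrix.SpecialLinearGroup (Fin 2) K :=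
  SpecialLinearGroup.map (frobenius K 2)

theorem fr_apply (g : _root_.Matrix.SpecialLinearGroup (Fin 2) K) (i j : Fin 2) : fr g i j = g i j ^ 2 := by
  simp [fr, frobenius_def]

theorem fr_up (t : K) : fr (up t) = up (t ^ 2) := by
  ext i j
  rw [fr_apply]
  (revert i j; simp only [_root_.Fin.forall_fin_succ, _root_.Cfsg.Agent.H869.SP.coe_up, _root_.Matrix.of_apply, _root_.Matrix.cons_val', _root_.Matrix.cons_val_fin_one, Fin.isValue, _root_.Matrix.cons_val_zero, _root_.Matrix.cons_val_succ, _root_.forall_const, _root_.one_pow, _root_.and_self, _root_.ne_eq, _root_.OfNat.ofNat_ne_zero, _root_.not_false_eq_true, _root_.zero_pow, _root_.implies_true])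

theorem fr_dg (r : K) (hr : r ≠ 0) : fr (dg r hr) = dg (r ^ 2) (pow_ne_zero 2 hr) := by
  ext i j
  rw [fr_apply]
  (revert i j; simp only [_root_.Fin.forall_fin_succ, _root_.Cfsg.Agent.H869.SP.coe_dg, _root_.Matrix.of_apply, _root_.Matrix.cons_val', _root_.Matrix.cons_val_fin_one, Fin.isValue, _root_.Matrix.cons_val_zero, _root_.Matrix.cons_val_succ, _root_.forall_const, _root_.ne_eq, _root_.OfNat.ofNat_ne_zero, _root_.not_false_eq_true, _root_.zero_pow, _root_.and_self, _root_.inv_pow, _root_.implies_true])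

theorem fr_wy : fr (wy : _root_.Matrix.SpecialLinearGroup (Fin 2) K) = wy := by
  ext i j
  rw [fr_apply]
  (revert i j; simp only [_root_.Fin.forall_fin_succ, _root_.Cfsg.Agent.H869.SP.coe_wy, _root_.Matrix.of_apply, _root_.Matrix.cons_val', _root_.Matrix.cons_val_fin_one, Fin.isValue, _root_.Matrix.cons_val_zero, _root_.Matrix.cons_val_succ, _root_.forall_const, _root_.ne_eq, _root_.OfNat.ofNat_ne_zero, _root_.not_false_eq_true, _root_.zero_pow, _root_.one_pow, _root_.and_self, _root_.implies_true])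

omit [CharP K 2] in
theorem dg_comm (r s : K) (hr : r ≠ 0) (hs : s ≠ 0) : dg r hr * dg s hs = dg s hs * dg r hr := by
  ext i j
  (revert i j; simp [mul_comm, _root_.Fin.forall_fin_succ])

theorem wy_dg (r : K) (hr : r ≠ 0) :
    (wy : _root_.Matrix.SpecialLinearGroup (Fin 2) K) * dg r hr = (dg r hr)⁻¹ * wy := by
  rw [eq_inv_mul_iff_mul_eq]
  ext i j
  (revert i j; simp [hr, _root_.Fin.forall_fin_succ])

end

theorem exists_coords {V : Type*} [Group V] {K : Type*} [Field K] [CharP K 2]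
    (hc : ∀ a b : V, a * b = b * a) (h2 : ∀ a : V, a * a = 1) (E : Subgroup (MulAut V))
    (ρ : E ≃* _root_.Matrix.SpecialLinearGroup (Fin 2) K) (ψ : V →* Multiplicative (Fin 2 → K))
    (hs : Function.Surjective ψ) (hk : ∀ v, ψ v = 1 → ∀ e ∈ E, e v = v)
    (he : ∀ (e : E) (v : V), Multiplicative.toAdd (ψ ((e : MulAut V) v)) =
      ((ρ e : _root_.Matrix.SpecialLinearGroup (Fin 2) K) : Matrix (Fin 2) (Fin 2) K).mulVec (Multiplicative.toAdd (ψ v)))
    (r : K) (hr : r ≠ 0) (hr1 : r ≠ 1) (D' : Subgroup V)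
    (hD1 : ∀ d ∈ D', ∃ d' ∈ D', (ρ.symm (dg r hr) : MulAut V) d' * d'⁻¹ = d)
    (hD2 : ∀ d ∈ D', ∀ t, (ρ.symm (up t) : MulAut V) d = d)
    (hD3 : ∀ w, ∃ d ∈ D', Multiplicative.toAdd (ψ d) = ![w, 0]) :
    ∃ (σ : K → K → V) (δ : K → V),
      (∀ w u w' u', σ (w + w') (u + u') = σ w u * σ w' u') ∧ (∀ v v', δ (v + v') = δ v * δ v') ∧
      (∀ w u, Multiplicative.toAdd (ψ (σ w u)) = ![w, u]) ∧ (∀ v, ψ (δ v) = 1) ∧ (∀ w, σ w 0 ∈ D') ∧
      ∀ (g : _root_.Matrix.SpecialLinearGroup (Fin 2) K) (w u : K), (ρ.symm (fr g) : MulAut V) (σ w u) =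
        σ (g 0 0 ^ 2 * w + g 0 1 ^ 2 * u) (g 1 0 ^ 2 * w + g 1 1 ^ 2 * u) *
          δ (g 0 0 * g 1 0 * w + g 0 1 * g 1 1 * u) := by
  classical
  have hinv : ∀ a : V, a⁻¹ = a := fun a => inv_eq_of_mul_eq_one_left (h2 a)
  -- the action of `SL₂`
  set M : _root_.Matrix.SpecialLinearGroup (Fin 2) K → MulAut V := fun g => (ρ.symm g : MulAut V) with hM
  have hMm : ∀ g g', M (g * g') = M g * M g' := fun g g' => by simp [hM]
  have hMa : ∀ g g' v, M (g * g') v = M g (M g' v) := fun g g' v => by rw [hMm]; rfl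
  have hMψ : ∀ g v, Multiplicative.toAdd (ψ (M g v)) =
      (g : Matrix (Fin 2) (Fin 2) K).mulVec (Multiplicative.toAdd (ψ v)) := fun g v => by
    have := he (ρ.symm g) v
    rwa [MulEquiv.apply_symm_apply] at this
  have hMk : ∀ g v, ψ v = 1 → M g v = v := fun g v hv => hk v hv _ (ρ.symm g).2
  -- the map `h - 1`
  set h : _root_.Matrix.SpecialLinearGroup (Fin 2) K := dg r hr with hh
  set N : V → V := fun v => M h v * v⁻¹ with hN
  have hNm : ∀ a b, N (a * b) = N a * N b := fun a b => by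
    simp only [hN, map_mul, mul_inv_rev]
    calc M h a * M h b * (b⁻¹ * a⁻¹) = M h a * (M h b * b⁻¹) * a⁻¹ := by group
      _ = M h a * (a⁻¹ * (M h b * b⁻¹)) := by rw [mul_assoc, hc (M h b * b⁻¹) a⁻¹]
      _ = _ := by group
  have hN1 : ∀ v, ψ v = 1 → N v = 1 := fun v hv => by simp only [hN, hMk h v hv, mul_inv_cancel]
  have hNψ : ∀ v, Multiplicative.toAdd (ψ (N v)) =
      ![(r - 1) * Multiplicative.toAdd (ψ v) 0, (r⁻¹ - 1) * Multiplicative.toAdd (ψ v) 1] := by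
    intro v
    have h1 : Multiplicative.toAdd (ψ (N v)) = Multiplicative.toAdd (ψ (M h v)) - Multiplicative.toAdd (ψ v) := by
      simp only [hN, map_mul, map_inv, toAdd_mul, toAdd_inv, sub_eq_add_neg]
    rw [h1, hMψ]
    ext i
    (revert i; simp only [hh, dotProduct, Fin.sum_univ_two, _root_.Fin.forall_fin_succ, _root_.Cfsg.Agent.H869.SP.coe_dg, _root_.Matrix.cons_mulVec, Fin.isValue, _root_.Matrix.cons_val_zero, _root_.Matrix.cons_val_one, _root_.Matrix.cons_val_fin_one, _root_.MulZeroClass.zero_mul, _root_.add_zero, _root_.zero_add, _root_.Matrix.empty_mulVec, _root_.Pi.sub_apply, _root_.Nat.succ_eq_add_one, Nat.reduceAdd, _root_.Matrix.cons_val_succ, _root_.Fin.succ_zero_eq_one, _root_.IsEmpty.forall_iff, _root_.and_true]) <;> (repeat' with_reducible apply And.intro) <;> ring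
  have hr' : r - 1 ≠ 0 := sub_ne_zero.2 hr1
  have hr'' : r⁻¹ - 1 ≠ 0 := sub_ne_zero.2 (fun h => hr1 (inv_eq_one.1 h))
  have hNu : ∀ v v', Multiplicative.toAdd (ψ (N v)) = Multiplicative.toAdd (ψ (N v')) → N v = N v' := by
    intro v v' hvv
    rw [hNψ, hNψ] at hvv
    have h0 := congrFun hvv 0
    have h1 := congrFun hvv 1
    simp only [Matrix.cons_val_zero, Matrix.cons_val_one] at h0 h1
    have h0' := mul_left_cancel₀ hr' h0
    have h1' := mul_left_cancel₀ hr'' h1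
    have h3 : ψ (v * v'⁻¹) = 1 := by
      rw [map_mul, map_inv, mul_inv_eq_one]
      apply Multiplicative.toAdd.injective
      ext i
      fin_cases i
      · exact h0'
      · exact h1'
    have h4 := hN1 _ h3
    rw [hNm] at h4
    have h5 : N v' * N v'⁻¹ = 1 := by rw [← hNm, mul_inv_cancel, hN1 1 (map_one ψ)]
    rw [eq_comm, ← mul_left_inj (N v'⁻¹), h5, h4]
  have hlift : ∀ p : Fin 2 → K, ∃ v, Multiplicative.toAdd (ψ v) = p := fun p => by
    obtain ⟨v, hv⟩ := hs (Multiplicative.ofAdd p)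
    exact ⟨v, by rw [hv]; rfl⟩
  choose Lf hLf using hlift
  set σ : K → K → V := fun w u => N (Lf ![w / (r - 1), u / (r⁻¹ - 1)]) with hσ
  have hσψ : ∀ w u, Multiplicative.toAdd (ψ (σ w u)) = ![w, u] := by
    intro w u
    simp only [hσ]
    rw [hNψ, hLf]
    ext i
    fin_cases i
    · simp; field_simp
    · simp; field_simp
  have hσu : ∀ w u v, Multiplicative.toAdd (ψ (N v)) = ![w, u] → N v = σ w u := by
    intro w u v hv
    exact hNu _ _ (hv.trans (hσψ w u).symm)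
  have hσadd : ∀ w u w' u', σ (w + w') (u + u') = σ w u * σ w' u' := by
    intro w u w' u'
    symm
    have : σ w u * σ w' u' = N (Lf ![w / (r - 1), u / (r⁻¹ - 1)] * Lf ![w' / (r - 1), u' / (r⁻¹ - 1)]) := by
      rw [hNm]
    rw [this]
    apply hσu
    rw [← this, map_mul, toAdd_mul, hσψ, hσψ]
    simp
  -- the fixed elements
  have hσ0 : ∀ w, σ w 0 ∈ D' := by
    intro w
    obtain ⟨d, hd, hdw⟩ := hD3 w
    obtain ⟨d', hd', hdd⟩ := hD1 d hd
    have h1 : N d' = d := hdd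
    rw [← hσu w 0 d' (by rw [h1]; exact hdw), h1]
    exact hd
  have hfix : ∀ w t, M (up t) (σ w 0) = σ w 0 := fun w t => hD2 _ (hσ0 w) t
  -- elements commuting with `h`
  have hcomm : ∀ g : _root_.Matrix.SpecialLinearGroup (Fin 2) K, g * h = h * g → ∀ v, M g (N v) = N (M g v) := by
    intro g hg v
    simp only [hN, map_mul, map_inv]
    rw [← hMa, hg, hMa]
  have hdgσ : ∀ (s : K) (hs0 : s ≠ 0) (w u : K), M (dg s hs0) (σ w u) = σ (s * w) (s⁻¹ * u) := by
    intro s hs0 w u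
    have h1 : M (dg s hs0) (σ w u) = N (M (dg s hs0) (Lf ![w / (r - 1), u / (r⁻¹ - 1)])) :=
      hcomm _ (dg_comm s r hs0 hr) _
    rw [h1]
    apply hσu
    rw [← h1, hMψ, hσψ]
    ext i
    (revert i; simp only [Matrix.mulVec, dotProduct, Fin.sum_univ_two, _root_.Fin.forall_fin_succ, _root_.Cfsg.Agent.H869.SP.coe_dg, _root_.Matrix.of_apply, _root_.Matrix.cons_val', _root_.Matrix.cons_val_fin_one, _root_.Nat.succ_eq_add_one, Nat.reduceAdd, Fin.isValue, _root_.Matrix.cons_val_zero, _root_.Matrix.cons_val_one, _root_.MulZeroClass.zero_mul, _root_.add_zero, _root_.Matrix.cons_val_succ, _root_.zero_add, _root_.implies_true, _root_.and_self])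
  have hwyσ : ∀ w u, M wy (σ w u) = σ u w := by
    intro w u
    set v := Lf ![w / (r - 1), u / (r⁻¹ - 1)] with hv
    have h1 : M wy (σ w u) = N (M h⁻¹ (M wy v)) := by
      show M wy (M h v * v⁻¹) = M h (M h⁻¹ (M wy v)) * (M h⁻¹ (M wy v))⁻¹
      rw [map_mul, map_inv, ← hMa, hh, wy_dg, hMa, ← hMa (dg r hr), mul_inv_cancel]
      have : M 1 (M wy v) = M wy v := by
        have h1 : M (1 : _root_.Matrix.SpecialLinearGroup (Fin 2) K) = 1 := by simp only [hM, _root_.map_one, _root_.OneMemClass.coe_one]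
        rw [h1]
        rfl
      rw [this, hc]
      congr 1
      · exact hinv _
      · exact (hinv _).symm
    rw [h1]
    apply hσu
    rw [← h1, hMψ, hσψ]
    ext i
    (revert i; simp only [Matrix.mulVec, dotProduct, Fin.sum_univ_two, _root_.Fin.forall_fin_succ, _root_.Cfsg.Agent.H869.SP.coe_wy, _root_.Matrix.of_apply, _root_.Matrix.cons_val', _root_.Matrix.cons_val_fin_one, _root_.Nat.succ_eq_add_one, Nat.reduceAdd, Fin.isValue, _root_.Matrix.cons_val_zero, _root_.Matrix.cons_val_one, _root_.MulZeroClass.zero_mul, _root_.one_mul, _root_.zero_add, _root_.Matrix.cons_val_succ, _root_.add_zero, _root_.implies_true, _root_.and_self])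
  -- the map `δ`
  set δ : K → V := fun u => M (up 1) (σ 0 u) * (σ u u)⁻¹ with hδ
  have hδψ : ∀ u, ψ (δ u) = 1 := by
    intro u
    simp only [hδ]
    rw [map_mul, map_inv, mul_inv_eq_one]
    apply Multiplicative.toAdd.injective
    rw [hMψ, hσψ, hσψ]
    ext i
    (revert i; simp only [Matrix.mulVec, dotProduct, Fin.sum_univ_two, _root_.Fin.forall_fin_succ, _root_.Cfsg.Agent.H869.SP.coe_up, _root_.Matrix.of_apply, _root_.Matrix.cons_val', _root_.Matrix.cons_val_fin_one, _root_.Nat.succ_eq_add_one, Nat.reduceAdd, Fin.isValue, _root_.Matrix.cons_val_zero, _root_.MulZeroClass.mul_zero, _root_.Matrix.cons_val_one, _root_.zero_add, _root_.one_mul, _root_.Matrix.cons_val_succ, _root_.implies_true, _root_.and_self])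
  have hδadd : ∀ v v', δ (v + v') = δ v * δ v' := by
    intro v v'
    simp only [hδ]
    have h1 : σ 0 (v + v') = σ 0 v * σ 0 v' := by rw [← hσadd, add_zero]
    rw [h1, hσadd, map_mul, mul_inv_rev]
    calc M (up 1) (σ 0 v) * M (up 1) (σ 0 v') * ((σ v' v')⁻¹ * (σ v v)⁻¹)
        = M (up 1) (σ 0 v) * ((M (up 1) (σ 0 v') * (σ v' v')⁻¹) * (σ v v)⁻¹) := by group
      _ = M (up 1) (σ 0 v) * ((σ v v)⁻¹ * (M (up 1) (σ 0 v') * (σ v' v')⁻¹)) := by rw [hc (M (up 1) (σ 0 v') * (σ v' v')⁻¹)]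
      _ = _ := by group
  have hδ1 : ∀ u, M (up 1) (σ 0 u) = σ u u * δ u := by
    intro u
    simp only [hδ]
    rw [hc (σ u u), inv_mul_cancel_right]
  have hMδ : ∀ g v, M g (δ v) = δ v := fun g v => hMk g _ (hδψ v)
  have hδ0 : δ 0 = 1 := by
    have := hδadd 0 0
    rw [add_zero] at this
    exact (mul_eq_left.1 this.symm)
  have hσ00 : σ 0 0 = 1 := by
    have := hσadd 0 0 0 0
    rw [add_zero] at this
    exact (mul_eq_left.1 this.symm)
  have hup : ∀ t u, M (up (t ^ 2)) (σ 0 u) = σ (t ^ 2 * u) u * δ (t * u) := by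
    intro t u
    by_cases ht : t = 0
    · subst ht
      have h1 : M (1 : _root_.Matrix.SpecialLinearGroup (Fin 2) K) = 1 := by simp only [hM, _root_.map_one, _root_.OneMemClass.coe_one]
      have h0 : ((0 : K) ^ 2) = 0 := by simp
      rw [h0, up_zero, h1, zero_mul, hδ0, mul_one]
      rfl
    · have h1 : up (t ^ 2) = dg t ht * up 1 * (dg t ht)⁻¹ := by rw [dg_up, mul_one]
      have h2' : (dg t ht)⁻¹ = dg t⁻¹ (inv_ne_zero ht) := by
        rw [inv_eq_iff_mul_eq_one]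
        ext i j
        (revert i j; simp only [ht, _root_.Fin.forall_fin_succ, _root_.Matrix.SpecialLinearGroup.coe_mul, _root_.Cfsg.Agent.H869.SP.coe_dg, _root_.inv_inv, _root_.Matrix.cons_mul, _root_.Nat.succ_eq_add_one, Nat.reduceAdd, _root_.Matrix.vecMul_cons, _root_.Matrix.head_cons, _root_.Matrix.smul_cons, _root_.smul_eq_mul, _root_.ne_eq, _root_.not_false_eq_true, _root_.mul_inv_cancel₀, _root_.MulZeroClass.mul_zero, _root_.Matrix.smul_empty, _root_.Matrix.tail_cons, _root_.zero_smul, _root_.Matrix.empty_vecMul, _root_.add_zero, _root_.inv_mul_cancel₀, _root_.zero_add, _root_.Matrix.empty_mul, _root_.Equiv.symm_apply_apply, _root_.Matrix.of_apply, _root_.Matrix.cons_val', _root_.Matrix.cons_val_fin_one, _root_.Matrix.SpecialLinearGroup.coe_one, Fin.isValue, _root_.Matrix.cons_val_zero, _root_.Matrix.cons_val_succ, _root_.IsEmpty.forall_iff, _root_.and_true, _root_.Matrix.one_apply_eq, _root_.Fin.succ_zero_eq_one,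 _root_.zero_ne_one, _root_.Matrix.one_apply_ne, _root_.and_self, _root_.Fin.succ_ne_zero, _root_.true_and])
      rw [h1, hMa, hMa, h2', hdgσ, inv_inv, mul_zero, hδ1, map_mul, hdgσ, hMδ]
      congr 2
      · ring
      · field_simp
  refine ⟨σ, δ, hσadd, hδadd, hσψ, hδψ, hσ0, ?_⟩
  intro g
  show ∀ w u, M (fr g) (σ w u) =
        σ (g 0 0 ^ 2 * w + g 0 1 ^ 2 * u) (g 1 0 ^ 2 * w + g 1 1 ^ 2 * u) *
          δ (g 0 0 * g 1 0 * w + g 0 1 * g 1 1 * u)
  clear_value σ δ M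
  refine sl_induction (p := fun g => ∀ w u, M (fr g) (σ w u) =
        σ (g 0 0 ^ 2 * w + g 0 1 ^ 2 * u) (g 1 0 ^ 2 * w + g 1 1 ^ 2 * u) *
          δ (g 0 0 * g 1 0 * w + g 0 1 * g 1 1 * u)) ?_ ?_ ?_ ?_ g
  · intro t w u
    have h1 : σ w u = σ w 0 * σ 0 u := by rw [← hσadd, add_zero, zero_add]
    rw [fr_up, h1, map_mul, hfix, hup, ← mul_assoc, ← hσadd]
    simp
  · intro s hs0 w u
    rw [fr_dg, hdgσ]
    simp only [hδ0, _root_.Fin.isValue, _root_.Cfsg.Agent.H869.SP.coe_dg, _root_.Matrix.of_apply, _root_.Matrix.cons_val', _root_.Matrix.cons_val_zero, _root_.Matrix.cons_val_fin_one, _root_.Matrix.cons_val_one, _root_.ne_eq, _root_.OfNat.ofNat_ne_zero, _root_.not_false_eq_true, _root_.zero_pow, _root_.MulZeroClass.zero_mul, _root_.add_zero, _root_.inv_pow, _root_.zero_add, _root_.MulZeroClass.mul_zero, _root_.mul_one]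
  · intro w u
    rw [fr_wy, hwyσ]
    simp [hδ0]
  · intro a b ha hb w u
    have hab : fr (a * b) = fr a * fr b := map_mul fr a b
    rw [hab, hMa, hb, map_mul, hMδ, ha, mul_assoc, ← hδadd]
    have hdet : a 0 0 * a 1 1 + a 0 1 * a 1 0 = 1 := by
      have := a.det_coe
      rwa [Matrix.det_fin_two, sub_eq_add_neg, CharTwo.neg_eq] at this
    have hdetb : b 0 0 * b 1 1 + b 0 1 * b 1 0 = 1 := by
      have := b.det_coe
      rwa [Matrix.det_fin_two, sub_eq_add_neg, CharTwo.neg_eq] at this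
    have h2K : (2 : K) = 0 := CharTwo.two_eq_zero
    have e00 : (a * b) 0 0 = a 0 0 * b 0 0 + a 0 1 * b 1 0 := by simp only [Matrix.mul_apply, Fin.sum_univ_two, _root_.Fin.isValue, _root_.Matrix.SpecialLinearGroup.coe_mul]
    have e01 : (a * b) 0 1 = a 0 0 * b 0 1 + a 0 1 * b 1 1 := by simp only [Matrix.mul_apply, Fin.sum_univ_two, _root_.Fin.isValue, _root_.Matrix.SpecialLinearGroup.coe_mul]
    have e10 : (a * b) 1 0 = a 1 0 * b 0 0 + a 1 1 * b 1 0 := by simp only [Matrix.mul_apply, Fin.sum_univ_two, _root_.Fin.isValue, _root_.Matrix.SpecialLinearGroup.coe_mul]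
    have e11 : (a * b) 1 1 = a 1 0 * b 0 1 + a 1 1 * b 1 1 := by simp only [Matrix.mul_apply, Fin.sum_univ_two, _root_.Fin.isValue, _root_.Matrix.SpecialLinearGroup.coe_mul]
    rw [e00, e01, e10, e11]
    congr 1
    · congr 1
      · linear_combination (-(a 0 0 * b 0 0 * (a 0 1 * b 1 0)) * w - (a 0 0 * b 0 1 * (a 0 1 * b 1 1)) * u) * h2K
      · linear_combination (-(a 1 0 * b 0 0 * (a 1 1 * b 1 0)) * w - (a 1 0 * b 0 1 * (a 1 1 * b 1 1)) * u) * h2K
    · congr 1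
      linear_combination (-(b 0 0 * b 1 0 * w + b 0 1 * b 1 1 * u)) * hdet

end Cfsg.Agent.H869.SP
end

-- part: H869/SP/Base
section
/-!
# S5175, SP1: basic facts on the configuration
-/

set_option autoImplicit false

namespace Cfsg.Agent.H869.SP

open Cfsg Cfsg.FusionSystem Cfsg.Agent.H756.HM Cfsg.Agent.H802
open Matrix (SpecialLinearGroup)

universe u

variable {Ω : Type u} [Group Ω] {S : Subgroup Ω}

theorem mem_cj {x g : Ω} {V : Subgroup Ω} : g ∈ cj x V ↔ x⁻¹ * g * x ∈ V := by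
  constructor
  · rintro ⟨v, hv, rfl⟩
    simpa [mul_assoc] using hv
  · intro h
    exact ⟨_, h, by simp only [mul_assoc, _root_.MulEquiv.toMonoidHom_eq_coe, _root_.MonoidHom.coe_coe, _root_.MulAut.conj_apply, _root_.mul_inv_cancel_left, _root_.mul_inv_cancel, _root_.mul_one]⟩

theorem cj_mem {x g : Ω} {V : Subgroup Ω} (h : g ∈ V) : x * g * x⁻¹ ∈ cj x V := ⟨g, h, rfl⟩

theorem mem_fixS {V : Subgroup Ω} {E : Subgroup (MulAut V)} (v : V) :
    (v : Ω) ∈ fixS V E ↔ ∀ e ∈ E, e v = v := by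
  constructor
  · rintro ⟨w, hw, h⟩
    have : w = v := Subtype.ext h
    rw [← this]
    exact hw
  · intro h
    exact ⟨v, h, rfl⟩

theorem fixS_le {V : Subgroup Ω} {E : Subgroup (MulAut V)} : fixS V E ≤ V := by
  rintro _ ⟨w, -, rfl⟩
  exact w.2

theorem comm_of_sq {G : Type*} [Group G] {A : Subgroup G} (h : ∀ a ∈ A, a ^ 2 = 1) : ∀ a ∈ A, ∀ b ∈ A, a * b = b * a := by
  intro a ha b hb
  have h1 := h a ha
  have h2 := h b hb
  have h3 := h _ (A.mul_mem ha hb)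
  rw [pow_two] at h1 h2 h3
  have ha' : a⁻¹ = a := inv_eq_of_mul_eq_one_left h1
  have hb' : b⁻¹ = b := inv_eq_of_mul_eq_one_left h2
  have : (a * b)⁻¹ = a * b := inv_eq_of_mul_eq_one_left h3
  rw [mul_inv_rev, ha', hb'] at this
  exact this.symm

section
variable {F : FusionSystem S} {K : Type} [Field K] [Fintype K] {V T : Subgroup Ω} {x : Ω} (c : Conf F K V T x)
include c

theorem Vcomm : ∀ a ∈ V, ∀ b ∈ V, a * b = b * a := comm_of_sq c.el

theorem T_le : T ≤ S := by rw [← c.nor]; exact inf_le_left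

theorem T_nV {t : Ω} (ht : t ∈ T) : t ∈ Subgroup.normalizer (V : Set Ω) := by
  rw [← c.nor] at ht
  exact ht.2

theorem T_conj {t v : Ω} (ht : t ∈ T) (hv : v ∈ V) : t * v * t⁻¹ ∈ V :=
  (Subgroup.mem_normalizer_iff.1 (T_nV c ht) v).1 hv

theorem V_le_T : V ≤ T := by
  rw [← c.nor]
  exact le_normalizerIn c.V_le

theorem x_conj {t : Ω} (ht : t ∈ T) : x * t * x⁻¹ ∈ T := (Subgroup.mem_normalizer_iff.1 c.x_nor t).1 ht

theorem xi_conj {t : Ω} (ht : t ∈ T) : x⁻¹ * t * x ∈ T := by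
  have := (Subgroup.mem_normalizer_iff.1 ((Subgroup.normalizer (T : Set Ω)).inv_mem c.x_nor) t).1 ht
  simpa using this

theorem W_le_T : cj x V ≤ T := by
  rintro _ ⟨v, hv, rfl⟩
  exact x_conj c (V_le_T c hv)

theorem T_conjW {t w : Ω} (ht : t ∈ T) (hw : w ∈ cj x V) : t * w * t⁻¹ ∈ cj x V := by
  rw [mem_cj] at hw ⊢
  have h1 := T_conj c (xi_conj c ht) hw
  have : x⁻¹ * t * x * (x⁻¹ * w * x) * (x⁻¹ * t * x)⁻¹ = x⁻¹ * (t * w * t⁻¹) * x := by group
  rwa [this] at h1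

theorem x_conjW {w : Ω} (hw : w ∈ cj x V) : x * w * x⁻¹ ∈ V := by
  rw [mem_cj] at hw
  have h1 := T_conj c c.x_sq hw
  have : x ^ 2 * (x⁻¹ * w * x) * (x ^ 2)⁻¹ = x * w * x⁻¹ := by group
  rwa [this] at h1

theorem Wsq : ∀ a ∈ cj x V, a ^ 2 = 1 := by
  rintro _ ⟨v, hv, rfl⟩
  show (x * v * x⁻¹) ^ 2 = 1
  rw [conj_pow, c.el v hv]
  simp

theorem Wcomm : ∀ a ∈ cj x V, ∀ b ∈ cj x V, a * b = b * a := comm_of_sq (Wsq c)

theorem mem_V_of_comm {g : Ω} (hg : g ∈ S) (h : ∀ v ∈ V, g * v = v * g) : g ∈ V := by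
  have : g ∈ centralizerIn S V := ⟨hg, Subgroup.mem_centralizer_iff.2 fun v hv => (h v hv).symm⟩
  rwa [c.cent] at this

theorem mem_W_of_comm {g : Ω} (hg : g ∈ S) (h : ∀ v ∈ cj x V, g * v = v * g) : g ∈ cj x V := by
  rw [mem_cj]
  apply mem_V_of_comm c (S.mul_mem (S.mul_mem (S.inv_mem c.x_mem) hg) c.x_mem)
  intro v hv
  have h1 := h _ (cj_mem (x := x) hv)
  calc x⁻¹ * g * x * v = x⁻¹ * (g * (x * v * x⁻¹)) * x := by group
    _ = x⁻¹ * (x * v * x⁻¹ * g) * x := by rw [h1]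
    _ = _ := by group

/-- elements of `V ⊓ W` commute with `T` -/
theorem Z_comm (hT : T = V ⊔ cj x V) {z : Ω} (hz : z ∈ V ⊓ cj x V) : ∀ t ∈ T, t * z = z * t := by
  intro t ht
  have : T ≤ Subgroup.centralizer {z} := by
    rw [hT]
    refine sup_le ?_ ?_
    · intro v hv
      exact Subgroup.mem_centralizer_singleton_iff.2 (Vcomm c v hv z hz.1)
    · intro v hv
      exact Subgroup.mem_centralizer_singleton_iff.2 (Wcomm c v hv z hz.2)
  exact Subgroup.mem_centralizer_singleton_iff.1 (this ht)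

theorem T_decomp (hT : T = V ⊔ cj x V) {t : Ω} (ht : t ∈ T) : ∃ v ∈ V, ∃ a ∈ cj x V, t = v * a := by
  rw [hT] at ht
  refine Subgroup.closure_induction (p := fun t _ => ∃ v ∈ V, ∃ a ∈ cj x V, t = v * a) ?_ ?_ ?_ ?_
    (show t ∈ Subgroup.closure ((V : Set Ω) ∪ (cj x V : Subgroup Ω)) by
      rwa [Subgroup.closure_union, Subgroup.closure_eq, Subgroup.closure_eq])
  · rintro y (hy | hy)
    · exact ⟨y, hy, 1, Subgroup.one_mem _, by simp⟩
    · exact ⟨1, Subgroup.one_mem _, y, hy, by simp⟩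
  · exact ⟨1, Subgroup.one_mem _, 1, Subgroup.one_mem _, by simp⟩
  · rintro _ _ _ _ ⟨v, hv, a, ha, rfl⟩ ⟨v', hv', a', ha', rfl⟩
    exact ⟨v * (a * v' * a⁻¹), V.mul_mem hv (T_conj c (W_le_T c ha) hv'), a * a',
      Subgroup.mul_mem _ ha ha', by group⟩
  · rintro _ _ ⟨v, hv, a, ha, rfl⟩
    exact ⟨a⁻¹ * v⁻¹ * a⁻¹⁻¹, T_conj c (W_le_T c ((cj x V).inv_mem ha)) (V.inv_mem hv), a⁻¹,
      Subgroup.inv_mem _ ha, by group⟩

end

/-- a normalised version of `ρ`, `ψ` -/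
structure Frm {F : FusionSystem S} {K : Type} [Field K] [Fintype K] {V T : Subgroup Ω} {x : Ω}
    (c : Conf F K V T x) where
  ρ : c.E ≃* _root_.Matrix.SpecialLinearGroup (Fin 2) K
  ψ : V →* Multiplicative (Fin 2 → K)
  surj : Function.Surjective ψ
  ker : ∀ v : V, ψ v = 1 ↔ (v : Ω) ∈ fixS V c.E
  eq : ∀ (e : c.E) (v : V), Multiplicative.toAdd (ψ ((e : MulAut V) v)) =
    ((ρ e : _root_.Matrix.SpecialLinearGroup (Fin 2) K) : Matrix (Fin 2) (Fin 2) K).mulVec (Multiplicative.toAdd (ψ v))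
  up : ∀ a ∈ cj x V, ∃ t : K, ∀ v : V, (((ρ.symm (up t) : MulAut V) v : V) : Ω) = a * v * a⁻¹
  dn : ∀ t : K, ∃ a ∈ cj x V, ∀ v : V, (((ρ.symm (SP.up t) : MulAut V) v : V) : Ω) = a * v * a⁻¹

theorem exists_frm {F : FusionSystem S} {K : Type} [Field K] [Fintype K] {V T : Subgroup Ω} {x : Ω}
    (c : Conf F K V T x) : Nonempty (Frm c) := by
  classical
  set A₀ : Subgroup c.E := (autInducedBy (cj x V) V).subgroupOf c.E with hA₀
  set A : Subgroup (_root_.Matrix.SpecialLinearGroup (Fin 2) K) := A₀.map c.ρ.toMonoidHom with hA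
  have hcard : Nat.card A = Fintype.card K := by
    rw [← c.A_card]
    have h1 : Nat.card A = Nat.card A₀ :=
      Subgroup.card_map_of_injective c.ρ.injective
    have h2 : Nat.card A₀ = Nat.card (autInducedBy (cj x V) V) :=
      Nat.card_congr (Subgroup.subgroupOfEquivOfLe c.A_le).toEquiv
    rw [h1, h2]
  obtain ⟨M, hM1, hM2⟩ := exists_conj_up c.hn c.hK A hcard
  refine ⟨⟨c.ρ.trans (MulAut.conj M⁻¹), 
    { toFun := fun v => Multiplicative.ofAdd
        (((M⁻¹ : _root_.Matrix.SpecialLinearGroup (Fin 2) K) : Matrix (Fin 2) (Fin 2) K).mulVec (Multiplicative.toAdd (c.ψ v)))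
      map_one' := by simp only [_root_.Matrix.SpecialLinearGroup.coe_inv, _root_.map_one, _root_.toAdd_one, _root_.Matrix.mulVec_zero, _root_.ofAdd_zero]
      map_mul' := fun a b => by
        rw [map_mul, toAdd_mul, Matrix.mulVec_add, ofAdd_add] }, ?_, ?_, ?_, ?_, ?_⟩⟩
  · intro p
    obtain ⟨v, hv⟩ := c.ψ_surj (Multiplicative.ofAdd ((M : Matrix (Fin 2) (Fin 2) K).mulVec (Multiplicative.toAdd p)))
    refine ⟨v, ?_⟩
    show Multiplicative.ofAdd (((M⁻¹ : _root_.Matrix.SpecialLinearGroup (Fin 2) K) : Matrix (Fin 2) (Fin 2) K).mulVec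
      (Multiplicative.toAdd (c.ψ v))) = p
    rw [hv, toAdd_ofAdd, Matrix.mulVec_mulVec, ← Matrix.SpecialLinearGroup.coe_mul, inv_mul_cancel,
      Matrix.SpecialLinearGroup.coe_one, Matrix.one_mulVec]
    rfl
  · intro v
    rw [← c.ψ_ker]
    show Multiplicative.ofAdd (((M⁻¹ : _root_.Matrix.SpecialLinearGroup (Fin 2) K) : Matrix (Fin 2) (Fin 2) K).mulVec
      (Multiplicative.toAdd (c.ψ v))) = 1 ↔ _
    constructor
    · intro h
      have h1 : ((M⁻¹ : _root_.Matrix.SpecialLinearGroup (Fin 2) K) : Matrix (Fin 2) (Fin 2) K).mulVec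
        (Multiplicative.toAdd (c.ψ v)) = 0 := h
      have h2 := congrArg (fun p => (M : Matrix (Fin 2) (Fin 2) K).mulVec p) h1
      simp only [Matrix.mulVec_zero] at h2
      rw [Matrix.mulVec_mulVec, ← Matrix.SpecialLinearGroup.coe_mul, mul_inv_cancel,
        Matrix.SpecialLinearGroup.coe_one, Matrix.one_mulVec] at h2
      exact h2
    · intro h
      rw [h]
      simp
  · intro e v
    show ((M⁻¹ : _root_.Matrix.SpecialLinearGroup (Fin 2) K) : Matrix (Fin 2) (Fin 2) K).mulVec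
        (Multiplicative.toAdd (c.ψ ((e : MulAut V) v))) =
      ((M⁻¹ * c.ρ e * M⁻¹⁻¹ : _root_.Matrix.SpecialLinearGroup (Fin 2) K) : Matrix (Fin 2) (Fin 2) K).mulVec
        (((M⁻¹ : _root_.Matrix.SpecialLinearGroup (Fin 2) K) : Matrix (Fin 2) (Fin 2) K).mulVec (Multiplicative.toAdd (c.ψ v)))
    rw [c.ψ_eq, Matrix.mulVec_mulVec, Matrix.mulVec_mulVec, ← Matrix.SpecialLinearGroup.coe_mul,
      ← Matrix.SpecialLinearGroup.coe_mul]
    have : M⁻¹ * c.ρ e * M⁻¹⁻¹ * M⁻¹ = M⁻¹ * c.ρ e := by simp only [mul_assoc, _root_.inv_inv, _root_.mul_inv_cancel, _root_.mul_one]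
    rw [this]
  · intro a ha
    obtain ⟨α, hα⟩ := exists_conjAut (T_nV c (W_le_T c ha))
    have hαA : α ∈ autInducedBy (cj x V) V := (mem_autInducedBy_iff _ _ _).2 ⟨a, ha, hα⟩
    have hαE : α ∈ c.E := c.A_le hαA
    obtain ⟨t, ht⟩ := hM1 (c.ρ ⟨α, hαE⟩) ⟨⟨α, hαE⟩, hαA, rfl⟩
    refine ⟨t, fun v => ?_⟩
    have : (c.ρ.trans (MulAut.conj M⁻¹)).symm (SP.up t) = ⟨α, hαE⟩ := by
      rw [MulEquiv.symm_apply_eq, ← ht]
      show M⁻¹ * c.ρ ⟨α, hαE⟩ * M = M⁻¹ * c.ρ ⟨α, hαE⟩ * M⁻¹⁻¹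
      rw [inv_inv]
    rw [this]
    exact hα v
  · intro t
    obtain ⟨e, he, het⟩ := hM2 t
    obtain ⟨a, ha, hae⟩ := (mem_autInducedBy_iff _ _ _).1 (show (e : MulAut V) ∈ autInducedBy (cj x V) V from he)
    refine ⟨a, ha, fun v => ?_⟩
    have : (c.ρ.trans (MulAut.conj M⁻¹)).symm (SP.up t) = e := by
      rw [MulEquiv.symm_apply_eq]
      show SP.up t = M⁻¹ * c.ρ e * M⁻¹⁻¹
      have h2 : c.ρ e = M * SP.up t * M⁻¹ := het
      rw [h2]
      group
    rw [this]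
    exact hae v

end Cfsg.Agent.H869.SP
end

-- part: H869/SP/Lift
section
/-!
# S5175, SP1: the Cartan subgroup lifts to `T`
-/

set_option autoImplicit false

namespace Cfsg.Agent.H869.SP

open Cfsg Cfsg.FusionSystem Cfsg.Agent.H756.HM Cfsg.Agent.H802
open Matrix (SpecialLinearGroup)

universe u

variable {Ω : Type u} [Group Ω] {S : Subgroup Ω}
  {F : FusionSystem S} {K : Type} [Field K] [Fintype K] {V T : Subgroup Ω} {x : Ω} {c : Conf F K V T x}

theorem up_mulVec (t : K) (p : Fin 2 → K) :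
    (up t : Matrix (Fin 2) (Fin 2) K).mulVec p = ![p 0 + t * p 1, p 1] := by
  ext i
  (revert i; simp [Matrix.vecHead, Matrix.vecTail, _root_.Fin.forall_fin_succ])

theorem dg_mulVec (r : K) (hr : r ≠ 0) (p : Fin 2 → K) :
    (dg r hr : Matrix (Fin 2) (Fin 2) K).mulVec p = ![r * p 0, r⁻¹ * p 1] := by
  ext i
  (revert i; simp [Matrix.vecHead, Matrix.vecTail, _root_.Fin.forall_fin_succ])

namespace Frm

variable (fm : Frm c)
include fm

theorem fix_of_D {v : V} (h : (v : Ω) ∈ fixS V c.E) (g : _root_.Matrix.SpecialLinearGroup (Fin 2) K) :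
    (fm.ρ.symm g : MulAut V) v = v := (mem_fixS v).1 h _ (fm.ρ.symm g).2

theorem eq' (g : _root_.Matrix.SpecialLinearGroup (Fin 2) K) (v : V) :
    Multiplicative.toAdd (fm.ψ ((fm.ρ.symm g : MulAut V) v)) =
      (g : Matrix (Fin 2) (Fin 2) K).mulVec (Multiplicative.toAdd (fm.ψ v)) := by
  have := fm.eq (fm.ρ.symm g) v
  rwa [MulEquiv.apply_symm_apply] at this

theorem D_le_W : fixS V c.E ≤ cj x V := by
  intro d hd
  have hdV := fixS_le hd
  apply mem_W_of_comm c (c.V_le hdV)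
  intro a ha
  obtain ⟨t, ht⟩ := fm.up a ha
  have h1 := ht ⟨d, hdV⟩
  rw [fm.fix_of_D (v := ⟨d, hdV⟩) hd] at h1
  have h2 : d = a * d * a⁻¹ := h1
  calc d * a = a * d * a⁻¹ * a := by rw [← h2]
    _ = a * d := by group

theorem D'_le_V : cj x (fixS V c.E) ≤ V := by
  rintro _ ⟨d, hd, rfl⟩
  exact x_conjW c (fm.D_le_W hd)

omit fm in
theorem D'_le_W : cj x (fixS V c.E) ≤ cj x V := Subgroup.map_mono fixS_le

theorem ψ_of_W {v : V} (h : (v : Ω) ∈ cj x V) : Multiplicative.toAdd (fm.ψ v) 1 = 0 := by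
  obtain ⟨a, ha, hav⟩ := fm.dn 1
  have h1 : (fm.ρ.symm (SP.up 1) : MulAut V) v = v := by
    apply Subtype.ext
    rw [hav, Wcomm c a ha v h]
    group
  have h2 := fm.eq' (SP.up 1) v
  rw [h1, up_mulVec] at h2
  have h3 := congrFun h2 0
  simp only [Matrix.cons_val_zero, one_mul, left_eq_add] at h3
  exact h3

theorem exists_D' (hD : Nat.card (fixS V c.E) = Fintype.card K) (w : K) :
    ∃ d : V, (d : Ω) ∈ cj x (fixS V c.E) ∧ Multiplicative.toAdd (fm.ψ d) = ![w, 0] := by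
  have hDV : ∀ d : fixS V c.E, x * (d : Ω) * x⁻¹ ∈ V := fun d => fm.D'_le_V (cj_mem d.2)
  set f : fixS V c.E → K := fun d => Multiplicative.toAdd (fm.ψ ⟨_, hDV d⟩) 0 with hf
  have hinj : Function.Injective f := by
    intro d1 d2 h12
    have e1 := fm.ψ_of_W (v := ⟨_, hDV d1⟩) (D'_le_W (c := c) (cj_mem d1.2))
    have e2 := fm.ψ_of_W (v := ⟨_, hDV d2⟩) (D'_le_W (c := c) (cj_mem d2.2))
    have h3 : fm.ψ (⟨_, hDV d1⟩ * ⟨_, hDV d2⟩⁻¹) = 1 := by
      rw [map_mul, map_inv, mul_inv_eq_one]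
      apply Multiplicative.toAdd.injective
      ext i
      fin_cases i
      · exact h12
      · exact e1.trans e2.symm
    rw [fm.ker] at h3
    have h4 : x * ((d1 : Ω) * (d2 : Ω)⁻¹) * x⁻¹ ∈ fixS V c.E ⊓ cj x (fixS V c.E) := by
      refine ⟨?_, cj_mem (Subgroup.mul_mem _ d1.2 (Subgroup.inv_mem _ d2.2))⟩
      have : x * ((d1 : Ω) * (d2 : Ω)⁻¹) * x⁻¹ = x * (d1 : Ω) * x⁻¹ * (x * (d2 : Ω) * x⁻¹)⁻¹ := by group
      rw [this]
      exact h3
    rw [c.DD, Subgroup.mem_bot] at h4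
    have h5 : (d1 : Ω) * (d2 : Ω)⁻¹ = 1 := by
      have := congrArg (fun z => x⁻¹ * z * x) h4
      simpa only [mul_assoc, _root_.inv_mul_cancel_left, _root_.inv_mul_cancel, _root_.mul_one] using this
    exact Subtype.ext (mul_inv_eq_one.1 h5)
  have hfin : Finite (fixS V c.E) := Nat.finite_of_card_ne_zero (by rw [hD]; exact Fintype.card_ne_zero)
  have hbij := (Nat.bijective_iff_injective_and_card f).2 ⟨hinj, by rw [hD, Nat.card_eq_fintype_card]⟩
  obtain ⟨d, hd⟩ := hbij.2 w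
  refine ⟨⟨_, hDV d⟩, cj_mem d.2, ?_⟩
  ext i
  fin_cases i
  · exact hd
  · exact fm.ψ_of_W (v := ⟨_, hDV d⟩) (D'_le_W (c := c) (cj_mem d.2))

/-- elements of `V` with vanishing second coordinate lie in `D D'` -/
theorem exists_DD' (hD : Nat.card (fixS V c.E) = Fintype.card K) {v : V}
    (h : Multiplicative.toAdd (fm.ψ v) 1 = 0) :
    ∃ d ∈ fixS V c.E, ∃ d' ∈ cj x (fixS V c.E), (v : Ω) = d * d' := by
  obtain ⟨d', hd', hd'2⟩ := fm.exists_D' hD (Multiplicative.toAdd (fm.ψ v) 0)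
  have h3 : fm.ψ (v * d'⁻¹) = 1 := by
    rw [map_mul, map_inv, mul_inv_eq_one]
    apply Multiplicative.toAdd.injective
    rw [hd'2]
    ext i
    fin_cases i
    · rfl
    · exact h
  rw [fm.ker] at h3
  exact ⟨_, h3, _, hd', by simp⟩

theorem mem_W_iff (hD : Nat.card (fixS V c.E) = Fintype.card K) (v : V) :
    (v : Ω) ∈ cj x V ↔ Multiplicative.toAdd (fm.ψ v) 1 = 0 := by
  refine ⟨fm.ψ_of_W, fun h => ?_⟩
  obtain ⟨d, hd, d', hd', he⟩ := fm.exists_DD' hD h
  rw [he]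
  exact Subgroup.mul_mem _ (fm.D_le_W hd) (D'_le_W (c := c) hd')

/-- involutions of `T` -/
theorem sq_mem (hT : T = V ⊔ cj x V) (hD : Nat.card (fixS V c.E) = Fintype.card K) {t : Ω} (ht : t ∈ T)
    (h2 : t ^ 2 = 1) : t ∈ V ∨ t ∈ cj x V := by
  obtain ⟨v, hv, a, ha, rfl⟩ := T_decomp c hT ht
  by_cases haV : a ∈ V
  · exact Or.inl (V.mul_mem hv haV)
  right
  obtain ⟨s, hs⟩ := fm.up a ha
  have hs0 : s ≠ 0 := by
    rintro rfl
    apply haV
    apply mem_V_of_comm c (T_le c (W_le_T c ha))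
    intro w hw
    have h3 := hs ⟨w, hw⟩
    rw [up_zero, map_one] at h3
    have h4 : w = a * w * a⁻¹ := h3
    calc a * w = a * w * a⁻¹ * a := by group
      _ = w * a := by rw [← h4]
  have h3 : a * v * a⁻¹ = v := by
    have ha2 : a * a = 1 := by rw [← pow_two]; exact Wsq c a ha
    have hai : a⁻¹ = a := inv_eq_of_mul_eq_one_left ha2
    have hv2 : v * v = 1 := by rw [← pow_two]; exact c.el v hv
    have hvi : v⁻¹ = v := inv_eq_of_mul_eq_one_left hv2
    rw [pow_two] at h2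
    rw [hai]
    have : v⁻¹ * (v * a * (v * a)) = v⁻¹ := by rw [h2, mul_one]
    rw [hvi] at this
    calc a * v * a = v * (v * a * (v * a)) := by
          rw [show v * (v * a * (v * a)) = (v * v) * a * v * a by group, hv2, one_mul]
      _ = v := this
  have h4 : (fm.ρ.symm (SP.up s) : MulAut V) ⟨v, hv⟩ = ⟨v, hv⟩ := Subtype.ext ((hs ⟨v, hv⟩).trans h3)
  have h5 := fm.eq' (SP.up s) ⟨v, hv⟩
  rw [h4, up_mulVec] at h5
  have h6 := congrFun h5 0
  simp only [Matrix.cons_val_zero, left_eq_add, mul_eq_zero, hs0, false_or] at h6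
  exact Subgroup.mul_mem _ ((fm.mem_W_iff hD ⟨v, hv⟩).2 h6) ha

end Frm

/-- Extension of an element of `Aut_F(V)` normalizing `Aut_T(V)` to `T`. -/
theorem exists_lift [Finite S] (hS : IsPGroup 2 S) (hF : F.IsSaturated 2) (c : Conf F K V T x) {γ : MulAut V}
    (hγ : γ ∈ F.autGroup V)
    (h : ∀ t ∈ T, ∃ t' ∈ T, ∀ (v : V) (hv : t * (v : Ω) * t⁻¹ ∈ V), ((γ ⟨t * v * t⁻¹, hv⟩ : V) : Ω) = t' * (γ v : V) * t'⁻¹) :
    ∃ φ ∈ F.Hom T, (∀ v : V, φ ⟨v, V_le_T c v.2⟩ = (γ v : V)) ∧ ∀ t : T, φ t ∈ T := by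
  have hp : Fact (Nat.Prime 2) := ⟨Nat.prime_two⟩
  have hfinV : Finite V := finite_of_le c.V_le
  have hγ' := (mem_autGroup_iff F c.V_le γ).1 hγ
  have hr : (V.subtype.comp γ.toMonoidHom).range = V := range_eq_of_mapsTo hγ' (fun v => (γ v).2)
  obtain ⟨ψ, hψ, hψe⟩ := (isReceptive_of_isFullyNormalized hS hF c.fn).2 V _ hγ' hr
  have hTE : T ≤ extender S V (V.subtype.comp γ.toMonoidHom) := by
    intro t ht
    rw [mem_extender_iff]
    refine ⟨T_le c ht, T_nV c ht, ?_⟩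
    obtain ⟨t', ht', h'⟩ := h t ht
    exact ⟨t', T_le c ht', fun v hv => h' v hv⟩
  refine ⟨_, restrict_mem hψ hTE, ?_, ?_⟩
  · intro v
    exact hψe v v.2 _
  · intro t
    have := apply_mem_normalizerIn (P := V) (Q := V) (φ := V.subtype.comp γ.toMonoidHom) (restrict_mem hψ hTE)
      (V_le_T c) (fun t ht => T_nV c ht) hr (fun v hv => hψe v hv _) t
    rwa [c.nor] at this

/-- the diagonal elements extend to `T` -/
theorem exists_lift_dg [Finite S] (hS : IsPGroup 2 S) (hF : F.IsSaturated 2) (hT : T = V ⊔ cj x V)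
    (fm : Frm c) (r : K) (hr : r ≠ 0) :
    ∃ φ ∈ F.Hom T, (∀ v : V, φ ⟨v, V_le_T c v.2⟩ = ((fm.ρ.symm (dg r hr) : MulAut V) v : V)) ∧
      (∀ t : T, φ t ∈ T) ∧ ∀ (s : K) (t : T), (t : Ω) ∈ cj x V →
        (∀ v : V, (((fm.ρ.symm (SP.up s) : MulAut V) v : V) : Ω) = (t : Ω) * v * (t : Ω)⁻¹) →
        ∀ v : V, (((fm.ρ.symm (SP.up (r ^ 2 * s)) : MulAut V) v : V) : Ω) = φ t * v * (φ t)⁻¹ := by
  have key : ∀ (s : K) (a : Ω), (∀ v : V, (((fm.ρ.symm (SP.up s) : MulAut V) v : V) : Ω) = a * v * a⁻¹) →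
      ∀ (v : V) (hv : a * (v : Ω) * a⁻¹ ∈ V), (fm.ρ.symm (dg r hr) : MulAut V) ⟨a * v * a⁻¹, hv⟩ =
        (fm.ρ.symm (SP.up (r ^ 2 * s)) : MulAut V) ((fm.ρ.symm (dg r hr) : MulAut V) v) := by
    intro s a ha v hv
    have h1 : (⟨a * v * a⁻¹, hv⟩ : V) = (fm.ρ.symm (SP.up s) : MulAut V) v := Subtype.ext (ha v).symm
    have h2 : dg r hr * SP.up s = SP.up (r ^ 2 * s) * dg r hr := by rw [← dg_up r hr s, inv_mul_cancel_right]
    have h3 := congrArg (fun g => ((fm.ρ.symm g : MulAut V) v)) h2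
    simp only [map_mul, Subgroup.coe_mul, MulAut.mul_apply] at h3
    rw [h1, h3]
  obtain ⟨φ, hφ, h1, h2⟩ := exists_lift hS hF c (γ := (fm.ρ.symm (dg r hr) : MulAut V))
    (c.E_le (fm.ρ.symm (dg r hr)).2) (by
      intro t ht
      obtain ⟨v0, hv0, a, ha, rfl⟩ := T_decomp c hT ht
      obtain ⟨s, hs⟩ := fm.up a ha
      obtain ⟨a', ha', hs'⟩ := fm.dn (r ^ 2 * s)
      refine ⟨a', W_le_T c ha', fun v hv => ?_⟩
      have h3 : v0 * a * (v : Ω) * (v0 * a)⁻¹ = a * v * a⁻¹ := by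
        have h4 := T_conj c (W_le_T c ha) v.2
        calc v0 * a * (v : Ω) * (v0 * a)⁻¹ = v0 * (a * v * a⁻¹) * v0⁻¹ := by group
          _ = (a * v * a⁻¹) * v0 * v0⁻¹ := by rw [Vcomm c v0 hv0 _ h4]
          _ = _ := by group
      have hv' : a * (v : Ω) * a⁻¹ ∈ V := T_conj c (W_le_T c ha) v.2
      have h5 : (⟨v0 * a * (v : Ω) * (v0 * a)⁻¹, hv⟩ : V) = ⟨a * v * a⁻¹, hv'⟩ := Subtype.ext h3
      rw [h5, key s a hs v hv', hs'])
  refine ⟨φ, hφ, h1, h2, ?_⟩
  intro s t ht hs v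
  obtain ⟨w, rfl⟩ := (fm.ρ.symm (dg r hr) : MulAut V).surjective v
  have hv' : (t : Ω) * (w : Ω) * (t : Ω)⁻¹ ∈ V := T_conj c t.2 w.2
  rw [← key s t hs w hv', ← h1, ← h1]
  have : (⟨((⟨(t : Ω) * w * (t : Ω)⁻¹, hv'⟩ : V) : Ω), V_le_T c hv'⟩ : T) = t * ⟨w, V_le_T c w.2⟩ * t⁻¹ := rfl
  rw [this, map_mul, map_mul, map_inv]

/-- the extension normalizes `W = V^x` -/
theorem lift_W (hT : T = V ⊔ cj x V) (fm : Frm c) (hD : Nat.card (fixS V c.E) = Fintype.card K)
    {φ : T →* Ω} (hφ : φ ∈ F.Hom T) (h1 : ∀ v : V, φ ⟨v, V_le_T c v.2⟩ ∈ V) (h2 : ∀ t : T, φ t ∈ T) [Finite S] :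
    ∀ t : T, (t : Ω) ∈ cj x V → φ t ∈ cj x V := by
  have hfinV : Finite V := finite_of_le c.V_le
  have hinj := F.injective_of_mem hφ
  have hmem : ∀ t : T, (t : Ω) ∈ cj x V → φ t ∈ V ∨ φ t ∈ cj x V := by
    intro t ht
    apply fm.sq_mem hT hD (h2 t)
    rw [← map_pow]
    have : t ^ 2 = 1 := Subtype.ext (Wsq c _ ht)
    rw [this, map_one]
  -- not all in `V`
  obtain ⟨a, ha, hav⟩ := fm.dn 1
  have haV : a ∉ V := by
    intro haV
    have h3 : ∀ v : V, (fm.ρ.symm (SP.up 1) : MulAut V) v = v := by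
      intro v
      apply Subtype.ext
      rw [hav, Vcomm c a haV v v.2]
      group
    have h4 : fm.ρ.symm (SP.up 1) = 1 := Subtype.ext (MulEquiv.ext h3)
    have h5 : SP.up (1 : K) = 1 := by
      rw [← map_one fm.ρ.symm] at h4
      exact fm.ρ.symm.injective h4
    rw [← up_zero] at h5
    exact one_ne_zero (up_inj h5)
  -- `φ` maps `V` onto `V`
  have hsurj : ∀ v ∈ V, ∃ v' : V, φ ⟨v', V_le_T c v'.2⟩ = v := by
    have hi : Function.Injective (fun v : V => (⟨φ ⟨v, V_le_T c v.2⟩, h1 v⟩ : V)) := by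
      intro v v' hvv
      have h3 : φ ⟨v, V_le_T c v.2⟩ = φ ⟨v', V_le_T c v'.2⟩ := congrArg Subtype.val hvv
      have h4 := congrArg Subtype.val (hinj h3)
      exact Subtype.ext h4
    have hb := Finite.surjective_of_injective hi
    intro v hv
    obtain ⟨v', hv'⟩ := hb ⟨v, hv⟩
    exact ⟨v', congrArg Subtype.val hv'⟩
  have hnot : φ ⟨a, W_le_T c ha⟩ ∉ V := by
    intro h
    obtain ⟨v', hv'⟩ := hsurj _ h
    have := congrArg Subtype.val (hinj hv')
    have h6 : (v' : Ω) = a := this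
    exact haV (h6 ▸ v'.2)
  have haW : φ ⟨a, W_le_T c ha⟩ ∈ cj x V := (hmem _ ha).resolve_left hnot
  intro t ht
  by_contra htW
  have htV : φ t ∈ V := (hmem t ht).resolve_right htW
  rcases hmem (t * ⟨a, W_le_T c ha⟩) (Subgroup.mul_mem _ ht ha) with h | h
  · rw [map_mul] at h
    exact hnot ((Subgroup.mul_mem_cancel_left V htV).1 h)
  · rw [map_mul] at h
    exact htW ((Subgroup.mul_mem_cancel_right (cj x V) haW).1 h)

end Cfsg.Agent.H869.SP
end

-- part: H869/SP/Coord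
section
/-!
# S5175, SP1: coordinates
-/

set_option autoImplicit false

namespace Cfsg.Agent.H869.SP

open Cfsg Cfsg.FusionSystem Cfsg.Agent.H756.HM Cfsg.Agent.H802
open Matrix (SpecialLinearGroup)

universe u

theorem field_aut {K : Type*} [Field K] [CharP K 2] (β τ : K → K) (hadd : ∀ a b, β (a + b) = β a + β b)
    (hb : Function.Bijective β) (h1 : β 1 = 1) (R : ∀ u' u, τ (β u' * u) = β u ^ 2 * u') :
    ∃ θ : K ≃+* K, (∀ u, β (θ u) = u) ∧ (∀ u, θ (θ u) = u ^ 2) ∧ ∀ u, τ u = θ u := by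
  have hτ : ∀ u, τ u = β u ^ 2 := fun u => by
    have := R 1 u
    rwa [h1, one_mul, mul_one] at this
  have hsq : ∀ a b : K, a ^ 2 = b ^ 2 → a = b := fun a b hab => by
    have : frobenius K 2 a = frobenius K 2 b := by rw [frobenius_def, frobenius_def, hab]
    exact frobenius_inj K 2 this
  have hββ : ∀ u, β (β u) ^ 2 = u := fun u => by
    have := R u 1
    rwa [h1, one_pow, one_mul, mul_one, hτ] at this
  have hmul : ∀ a b, β (a * b) = β a * β b := by
    intro a b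
    obtain ⟨a', rfl⟩ := hb.2 a
    apply hsq
    have := R a' b
    rw [hτ] at this
    rw [this, mul_pow, hββ]
    ring
  let B : K ≃+* K := RingEquiv.ofBijective
    ({ toFun := β, map_one' := h1, map_mul' := hmul, map_add' := hadd,
       map_zero' := by
        have := hadd 0 0
        rw [add_zero] at this
        exact (left_eq_add.1 this) } : K →+* K) hb
  have hB : ∀ u, B u = β u := fun _ => rfl
  have hθ : ∀ u, B.symm u = β u ^ 2 := fun u => by
    rw [RingEquiv.symm_apply_eq, map_pow, hB, hββ]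
  refine ⟨B.symm, fun u => ?_, fun u => ?_, fun u => ?_⟩
  · rw [← hB, RingEquiv.apply_symm_apply]
  · have : B.symm (B.symm u) = B.symm (β u) ^ 2 := by rw [hθ u, map_pow]
    rw [this, ← hB, RingEquiv.symm_apply_apply]
  · rw [hτ, hθ]

theorem fr_surjective {K : Type*} [Field K] [Finite K] [CharP K 2] :
    Function.Surjective (fr : _root_.Matrix.SpecialLinearGroup (Fin 2) K →* _root_.Matrix.SpecialLinearGroup (Fin 2) K) := by
  have : Finite (_root_.Matrix.SpecialLinearGroup (Fin 2) K) := inferInstance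
  apply Finite.surjective_of_injective
  intro a b hab
  ext i j
  have h1 : fr a i j = fr b i j := by rw [hab]
  rw [fr_apply, fr_apply] at h1
  have : frobenius K 2 (a i j) = frobenius K 2 (b i j) := by rw [frobenius_def, frobenius_def, h1]
  exact frobenius_inj K 2 this

variable {Ω : Type u} [Group Ω] {S : Subgroup Ω}
  {F : FusionSystem S} {K : Type} [Field K] [Fintype K] {V T : Subgroup Ω} {x : Ω}

/-- transport of a map on `T` normalizing `W` back to `V` -/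
theorem exists_back [Finite S] (c : Conf F K V T x) {φ : T →* Ω} (hφ : φ ∈ F.Hom T)
    (hW : ∀ t : T, (t : Ω) ∈ cj x V → φ t ∈ cj x V) :
    ∃ α ∈ F.autGroup V, ∀ (v : V) (h : x * (v : Ω) * x⁻¹ ∈ T), x * ((α v : V) : Ω) * x⁻¹ = φ ⟨x * v * x⁻¹, h⟩ := by
  have hfinV : Finite V := finite_of_le c.V_le
  have h0 : conjHom V x ∈ F.Hom V := F.conj_mem c.V_le c.x_mem
  obtain ⟨χ, hχ, hχe⟩ := exists_comp h0 hφ (fun v => W_le_T c (cj_mem v.2))
  have h1 : conjHom (cj x V) x⁻¹ ∈ F.Hom (cj x V) :=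
    F.conj_mem ((W_le_T c).trans (T_le c)) (S.inv_mem c.x_mem)
  obtain ⟨χ', hχ', hχe'⟩ := exists_comp hχ h1 (fun v => by
    rw [hχe]
    exact hW _ (cj_mem v.2))
  have hr : χ'.range = V := range_eq_of_mapsTo hχ' (fun v => by
    rw [hχe']
    have h2 : χ v ∈ cj x V := by
      rw [hχe]
      exact hW _ (cj_mem v.2)
    show x⁻¹ * χ v * x⁻¹⁻¹ ∈ V
    rw [inv_inv]
    exact mem_cj.1 h2)
  obtain ⟨α, hα, hαe⟩ := exists_aut hχ' hr
  refine ⟨α, hα, fun v h => ?_⟩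
  rw [hαe, hχe']
  show x * (x⁻¹ * χ v * x⁻¹⁻¹) * x⁻¹ = _
  rw [hχe]
  show x * (x⁻¹ * φ ⟨x * v * x⁻¹, _⟩ * x⁻¹⁻¹) * x⁻¹ = _
  group

theorem aut_D (c : Conf F K V T x) (hE : ∀ a ∈ F.autGroup V, ∀ e ∈ c.E, a * e * a⁻¹ ∈ c.E) {α : MulAut V}
    (hα : α ∈ F.autGroup V) {v : V} (hv : (v : Ω) ∈ fixS V c.E) : ((α v : V) : Ω) ∈ fixS V c.E := by
  rw [mem_fixS] at hv ⊢
  intro e he
  have h1 := hE _ (Subgroup.inv_mem _ hα) e he
  have h2 := hv _ h1
  have h3 : α ((α⁻¹ * e * α⁻¹⁻¹) v) = e (α v) := by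
    simp only [inv_inv, MulAut.mul_apply]
    exact α.apply_symm_apply _
  rw [← h3, h2]

theorem charTwo_of (c : Conf F K V T x) : CharP K 2 := by
  obtain ⟨p, hp⟩ := CharP.exists K
  have hp' : p.Prime := (CharP.char_is_prime_or_zero K p).resolve_right
    (fun h0 => by subst h0; exact CharP.char_ne_zero_of_finite K 0 rfl)
  obtain ⟨k, hk1, hk2⟩ := FiniteField.card K p
  have : p = 2 := by
    have h1 : p ∣ 2 ^ c.n := by
      rw [← c.hK, hk2]
      exact dvd_pow_self p k.pos.ne'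
    exact (Nat.prime_dvd_prime_iff_eq hp' Nat.prime_two).mp (hp'.dvd_of_dvd_pow h1)
  exact this ▸ hp

/-- the lifts of the diagonal elements normalize `D' = D^x` -/
theorem dg_D' [Finite S] (hS : IsPGroup 2 S) (hF : F.IsSaturated 2) (c : Conf F K V T x)
    (hT : T = V ⊔ cj x V) (hE : ∀ a ∈ F.autGroup V, ∀ e ∈ c.E, a * e * a⁻¹ ∈ c.E)
    (fm : Frm c) (hD : Nat.card (fixS V c.E) = Fintype.card K) (r : K) (hr : r ≠ 0) (v : V)
    (hv : (v : Ω) ∈ cj x (fixS V c.E)) :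
    (((fm.ρ.symm (dg r hr) : MulAut V) v : V) : Ω) ∈ cj x (fixS V c.E) := by
  obtain ⟨φ, hφ, h1, h2, -⟩ := exists_lift_dg hS hF hT fm r hr
  have hW := lift_W hT fm hD hφ (fun v => by rw [h1]; exact Subtype.coe_prop _) h2
  obtain ⟨α, hα, hαe⟩ := exists_back c hφ hW
  obtain ⟨v', hv'⟩ := v
  obtain ⟨d, hd, hdv⟩ := hv
  have hdv' : x * d * x⁻¹ = v' := hdv
  subst hdv'
  have hdT : x * d * x⁻¹ ∈ T := V_le_T c hv'
  rw [← h1]
  have h3 := hαe ⟨d, fixS_le hd⟩ hdT
  show φ ⟨x * d * x⁻¹, _⟩ ∈ _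
  rw [← h3]
  exact cj_mem (aut_D c hE hα hd)

/-- **Coordinates on `V`.** -/
theorem exists_coordsV [Finite S] [CharP K 2] (hS : IsPGroup 2 S) (hF : F.IsSaturated 2) (c : Conf F K V T x)
    (hT : T = V ⊔ cj x V) (hE : ∀ a ∈ F.autGroup V, ∀ e ∈ c.E, a * e * a⁻¹ ∈ c.E) (h4 : 4 ≤ Fintype.card K)
    (fm : Frm c) (hD : Nat.card (fixS V c.E) = Fintype.card K) (hcom : comS V c.E = V) :
    ∃ (σ : K → K → V) (δ : K → V),
      (∀ w u w' u', σ (w + w') (u + u') = σ w u * σ w' u') ∧ (∀ v v', δ (v + v') = δ v * δ v') ∧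
      (∀ w u, Multiplicative.toAdd (fm.ψ (σ w u)) = ![w, u]) ∧ (∀ v, (δ v : Ω) ∈ fixS V c.E) ∧
      (∀ w, (σ w 0 : Ω) ∈ cj x (fixS V c.E)) ∧
      (∀ (g : _root_.Matrix.SpecialLinearGroup (Fin 2) K) (w u : K), (fm.ρ.symm (fr g) : MulAut V) (σ w u) =
        σ (g 0 0 ^ 2 * w + g 0 1 ^ 2 * u) (g 1 0 ^ 2 * w + g 1 1 ^ 2 * u) *
          δ (g 0 0 * g 1 0 * w + g 0 1 * g 1 1 * u)) ∧
      (∀ d ∈ fixS V c.E, ∃ v, (δ v : Ω) = d) ∧ Function.Injective δ ∧
      (∀ d ∈ cj x (fixS V c.E), ∃ w, (σ w 0 : Ω) = d) := by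
  classical
  have hfinV : Finite V := finite_of_le c.V_le
  have hc : ∀ a b : V, a * b = b * a := fun a b => Subtype.ext (Vcomm c a a.2 b b.2)
  have h2 : ∀ a : V, a * a = 1 := fun a => Subtype.ext (by
    show (a : Ω) * a = 1
    rw [← pow_two]
    exact c.el a a.2)
  obtain ⟨r, hr, hr1⟩ : ∃ r : K, r ≠ 0 ∧ r ≠ 1 := by
    by_contra hno
    push Not at hno
    have : (Finset.univ : Finset K) ⊆ {0, 1} := by
      intro r _
      by_cases hr : r = 0
      · simp only [hr, _root_.Finset.mem_insert, _root_.Finset.mem_singleton, _root_.zero_ne_one, _root_.or_false]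
      · simp only [hno r hr, _root_.Finset.mem_insert, _root_.one_ne_zero, _root_.Finset.mem_singleton, _root_.or_true]
    have h5 := Finset.card_le_card this
    have h6 : ({0, 1} : Finset K).card ≤ 2 := Finset.card_le_two
    rw [Finset.card_univ] at h5
    omega
  have hinD : ∀ v : V, (v : Ω) ∈ cj x (fixS V c.E) → fm.ψ v = 1 → v = 1 := by
    intro v h1 h3
    rw [fm.ker] at h3
    have h5 : (v : Ω) ∈ fixS V c.E ⊓ cj x (fixS V c.E) := ⟨h3, h1⟩
    rw [c.DD, Subgroup.mem_bot] at h5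
    exact Subtype.ext h5
  set D' : Subgroup V := (cj x (fixS V c.E)).subgroupOf V with hD'
  have hD1 : ∀ d ∈ D', ∃ d' ∈ D', (fm.ρ.symm (dg r hr) : MulAut V) d' * d'⁻¹ = d := by
    have hmem : ∀ d : D', (fm.ρ.symm (dg r hr) : MulAut V) d * (d : V)⁻¹ ∈ D' := fun d =>
      D'.mul_mem (dg_D' hS hF c hT hE fm hD r hr d d.2) (D'.inv_mem d.2)
    have hinj : Function.Injective (fun d : D' => (⟨_, hmem d⟩ : D')) := by
      intro d1 d2 h12
      have h3 : (fm.ρ.symm (dg r hr) : MulAut V) d1 * (d1 : V)⁻¹ =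
        (fm.ρ.symm (dg r hr) : MulAut V) d2 * (d2 : V)⁻¹ := congrArg Subtype.val h12
      set M := (fm.ρ.symm (dg r hr) : MulAut V) with hM
      have h5 : M ((d1 : V) * (d2 : V)⁻¹) = (d1 : V) * (d2 : V)⁻¹ := by
        rw [map_mul, map_inv]
        have h6 : M d1 = M d2 * (d2 : V)⁻¹ * d1 := by rw [← h3]; group
        rw [h6, mul_assoc (M d2), hc (M (d2 : V)), mul_assoc, mul_inv_cancel, mul_one, hc]
      have h6 := fm.eq' (dg r hr) ((d1 : V) * (d2 : V)⁻¹)
      rw [← hM, h5, dg_mulVec] at h6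
      have h7 : fm.ψ ((d1 : V) * (d2 : V)⁻¹) = 1 := by
        apply Multiplicative.toAdd.injective
        ext i
        have e0 := congrFun h6 0
        have e1 := congrFun h6 1
        simp only [Matrix.cons_val_zero, Matrix.cons_val_one] at e0 e1
        fin_cases i
        · show Multiplicative.toAdd (fm.ψ ((d1 : V) * (d2 : V)⁻¹)) 0 = 0
          by_contra h0
          exact hr1 (mul_right_cancel₀ h0 (by rw [one_mul]; exact e0.symm))
        · show Multiplicative.toAdd (fm.ψ ((d1 : V) * (d2 : V)⁻¹)) 1 = 0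
          by_contra h0
          exact hr1 (inv_eq_one.1 (mul_right_cancel₀ h0 (by rw [one_mul]; exact e1.symm)))
      have h8 := hinD ((d1 : V) * (d2 : V)⁻¹) (D'.mul_mem d1.2 (D'.inv_mem d2.2)) h7
      exact Subtype.ext (mul_inv_eq_one.1 h8)
    have hsurj := Finite.surjective_of_injective hinj
    intro d hd
    obtain ⟨d', hd'⟩ := hsurj ⟨d, hd⟩
    exact ⟨d', d'.2, congrArg Subtype.val hd'⟩
  have hD2 : ∀ d ∈ D', ∀ t, (fm.ρ.symm (up t) : MulAut V) d = d := by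
    intro d hd t
    obtain ⟨a, ha, hav⟩ := fm.dn t
    apply Subtype.ext
    rw [hav, Wcomm c a ha d (Frm.D'_le_W (c := c) hd)]
    group
  have hD3 : ∀ w, ∃ d ∈ D', Multiplicative.toAdd (fm.ψ d) = ![w, 0] := fun w => fm.exists_D' hD w
  obtain ⟨σ, δ, hσ, hδ, hσψ, hδψ, hσ0, hform⟩ := exists_coords hc h2 c.E fm.ρ fm.ψ fm.surj
    (fun v hv => (mem_fixS v).1 ((fm.ker v).1 hv)) fm.eq r hr hr1 D' hD1 hD2 hD3
  have hδD : ∀ v, (δ v : Ω) ∈ fixS V c.E := fun v => (fm.ker _).1 (hδψ v)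
  have hσ00 : σ 0 0 = 1 := by
    have := hσ 0 0 0 0
    rw [add_zero] at this
    exact (mul_eq_left.1 this.symm)
  have hσinv : ∀ w u, (σ w u)⁻¹ = σ w u := fun w u => inv_eq_of_mul_eq_one_left (h2 _)
  -- the subgroup generated
  set N : Subgroup V :=
    { carrier := {v | ∃ w u v', v = σ w u * δ v'}
      mul_mem' := by
        rintro _ _ ⟨w, u, v, rfl⟩ ⟨w', u', v', rfl⟩
        refine ⟨w + w', u + u', v + v', ?_⟩
        rw [hσ, hδ]
        calc σ w u * δ v * (σ w' u' * δ v') = σ w u * (δ v * σ w' u') * δ v' := by group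
          _ = σ w u * (σ w' u' * δ v) * δ v' := by rw [hc (δ v)]
          _ = _ := by group
      one_mem' := ⟨0, 0, 0, by
        have h5 : δ 0 = 1 := by
          have := hδ 0 0
          rw [add_zero] at this
          exact (mul_eq_left.1 this.symm)
        rw [hσ00, h5, mul_one]⟩
      inv_mem' := by
        rintro _ ⟨w, u, v, rfl⟩
        refine ⟨w, u, v, ?_⟩
        exact inv_eq_of_mul_eq_one_left (h2 _) } with hN
  have hNtop : ∀ v : V, v ∈ N := by
    intro v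
    have h5 : comS V c.E ≤ N.map V.subtype := by
      apply Subgroup.map_mono
      rw [Subgroup.closure_le]
      rintro _ ⟨v, e, he, rfl⟩
      obtain ⟨g, hg⟩ := fr_surjective (fm.ρ ⟨e, he⟩)
      have hge : (fm.ρ.symm (fr g) : MulAut V) = e := by rw [hg, MulEquiv.symm_apply_apply]
      set w := Multiplicative.toAdd (fm.ψ v) 0 with hw
      set u := Multiplicative.toAdd (fm.ψ v) 1 with hu
      have hψd : fm.ψ (v * (σ w u)⁻¹) = 1 := by
        rw [map_mul, map_inv, mul_inv_eq_one]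
        apply Multiplicative.toAdd.injective
        rw [hσψ]
        ext i
        fin_cases i <;> rfl
      rw [fm.ker] at hψd
      have h6 := (mem_fixS _).1 hψd e he
      have h7 : v = (v * (σ w u)⁻¹) * σ w u := by group
      have h8 : e v = (v * (σ w u)⁻¹) * e (σ w u) := by
        conv_lhs => rw [h7]
        rw [map_mul, h6]
      refine ⟨w + (g 0 0 ^ 2 * w + g 0 1 ^ 2 * u), u + (g 1 0 ^ 2 * w + g 1 1 ^ 2 * u),
        g 0 0 * g 1 0 * w + g 0 1 * g 1 1 * u, ?_⟩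
      have h9 : σ (w + (g 0 0 ^ 2 * w + g 0 1 ^ 2 * u)) (u + (g 1 0 ^ 2 * w + g 1 1 ^ 2 * u)) =
        σ w u * σ (g 0 0 ^ 2 * w + g 0 1 ^ 2 * u) (g 1 0 ^ 2 * w + g 1 1 ^ 2 * u) := hσ _ _ _ _
      rw [h8, ← hge, hform, h9, hσinv]
      group
    have h6 : (v : Ω) ∈ comS V c.E := by
      rw [hcom]
      exact v.2
    obtain ⟨v', hv', hvv⟩ := h5 h6
    have : v' = v := Subtype.ext hvv
    rw [← this]
    exact hv'
  have hδs : ∀ d ∈ fixS V c.E, ∃ v, (δ v : Ω) = d := by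
    intro d hd
    obtain ⟨w, u, v', he⟩ := hNtop ⟨d, fixS_le hd⟩
    have h5 : fm.ψ (σ w u * δ v') = 1 := by rw [← he, fm.ker]; exact hd
    rw [map_mul, hδψ, mul_one] at h5
    have h6 := hσψ w u
    rw [h5] at h6
    have e0 : (0 : K) = w := congrFun h6 0
    have e1 : (0 : K) = u := congrFun h6 1
    refine ⟨v', ?_⟩
    rw [← e0, ← e1, hσ00, one_mul] at he
    exact (congrArg Subtype.val he).symm
  have hδi : Function.Injective δ := by
    have hfD : Finite (fixS V c.E) := finite_of_le (fixS_le.trans c.V_le)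
    have hs : Function.Surjective (fun v : K => (⟨δ v, hδD v⟩ : fixS V c.E)) := by
      rintro ⟨d, hd⟩
      obtain ⟨v, hv⟩ := hδs d hd
      exact ⟨v, Subtype.ext hv⟩
    have hb := (Nat.bijective_iff_surjective_and_card (fun v : K => (⟨δ v, hδD v⟩ : fixS V c.E))).2
      ⟨hs, by rw [hD, Nat.card_eq_fintype_card]⟩
    intro a b hab
    exact hb.1 (show (⟨δ a, hδD a⟩ : fixS V c.E) = ⟨δ b, hδD b⟩ from
      Subtype.ext (show (δ a : Ω) = δ b by rw [hab]))
  refine ⟨σ, δ, hσ, hδ, hσψ, hδD, hσ0, hform, hδs, hδi, ?_⟩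
  intro d hd
  have hdV := fm.D'_le_V hd
  refine ⟨Multiplicative.toAdd (fm.ψ ⟨d, hdV⟩) 0, ?_⟩
  have h5 : σ (Multiplicative.toAdd (fm.ψ ⟨d, hdV⟩) 0) 0 * (⟨d, hdV⟩ : V)⁻¹ = 1 := by
    apply hinD
    · exact Subgroup.mul_mem _ (hσ0 _) (Subgroup.inv_mem _ hd)
    · rw [map_mul, map_inv, mul_inv_eq_one]
      apply Multiplicative.toAdd.injective
      rw [hσψ]
      ext i
      fin_cases i
      · rfl
      · exact (fm.ψ_of_W (v := ⟨d, hdV⟩) (Frm.D'_le_W (c := c) hd)).symm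
  exact congrArg Subtype.val (mul_inv_eq_one.1 h5)

end Cfsg.Agent.H869.SP
end

-- part: H869/SP/Sw
section
/-!
# S5175, SP1: the involution swapping `V` and `V^x`, the final coordinates
-/

set_option autoImplicit false

namespace Cfsg.Agent.H869.SP

open Cfsg Cfsg.FusionSystem Cfsg.Agent.H756.HM Cfsg.Agent.H802
open Matrix (SpecialLinearGroup)

universe u

variable {Ω : Type u} [Group Ω] {S : Subgroup Ω}
  {F : FusionSystem S} {K : Type} [Field K] [Fintype K] {V T : Subgroup Ω} {x : Ω}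

/-- an involution in `S \ T` -/
theorem exists_inv_swap (c : Conf F K V T x) (hT : T = V ⊔ cj x V)
    (fm : Frm c) (hD : Nat.card (fixS V c.E) = Fintype.card K) :
    ∃ s ∈ S, s ∉ T ∧ s * s = 1 ∧ (∀ v ∈ V, s * v * s ∈ cj x V) ∧ (∀ v ∈ cj x V, s * v * s ∈ V) ∧
      (∀ d ∈ fixS V c.E, s * d * s = x * d * x⁻¹) ∧ cj s V = cj x V ∧ (∃ t ∈ T, s = t * x) := by
  obtain ⟨v, hv, a, ha, hx2⟩ := T_decomp c hT c.x_sq
  rw [pow_two] at hx2
  set y := v⁻¹ * x with hy
  have hyy : y * y = v⁻¹ * (x * a * x⁻¹) := by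
    have h1 : x * (v * a) * x⁻¹ = x * x := by rw [← hx2]; group
    calc y * y = v⁻¹ * (x * v⁻¹ * x⁻¹) * (x * x) := by rw [hy]; group
      _ = v⁻¹ * (x * v⁻¹ * x⁻¹) * (x * (v * a) * x⁻¹) := by rw [h1]
      _ = _ := by group
  have hyyV : y * y ∈ V := by
    rw [hyy]
    exact V.mul_mem (V.inv_mem hv) (x_conjW c ha)
  have hyc : ∀ w, y * w * y⁻¹ = v⁻¹ * (x * w * x⁻¹) * v := fun w => by rw [hy]; group
  have hyV : ∀ w ∈ V, y * w * y⁻¹ ∈ cj x V := by
    intro w hw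
    rw [hyc]
    have := T_conjW c (V_le_T c (V.inv_mem hv)) (cj_mem (x := x) hw)
    rwa [inv_inv] at this
  have hyW : ∀ w ∈ cj x V, y * w * y⁻¹ ∈ V := by
    intro w hw
    rw [hyc]
    have := T_conj c (V_le_T c (V.inv_mem hv)) (x_conjW c hw)
    rwa [inv_inv] at this
  have hyyW : y * y ∈ cj x V := by
    have := hyV _ hyyV
    have h1 : y * (y * y) * y⁻¹ = y * y := by group
    rwa [h1] at this
  obtain ⟨d, hd, d', hd', he⟩ := fm.exists_DD' hD (v := ⟨y * y, hyyV⟩) (fm.ψ_of_W hyyW)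
  have he' : y * y = d * d' := he
  have hDZ : ∀ d ∈ fixS V c.E, d ∈ V ⊓ cj x V := fun d hd => ⟨fixS_le hd, fm.D_le_W hd⟩
  have hD'Z : ∀ d ∈ cj x (fixS V c.E), d ∈ V ⊓ cj x V := fun d hd =>
    ⟨fm.D'_le_V hd, Frm.D'_le_W (c := c) hd⟩
  -- the action of `y` on `D` and `D'`
  have hyd : ∀ d ∈ fixS V c.E, y * d * y⁻¹ = x * d * x⁻¹ := by
    intro d hd
    have h1 := Z_comm c hT (hD'Z _ (cj_mem (x := x) hd)) v (V_le_T c hv)
    rw [hyc]
    calc v⁻¹ * (x * d * x⁻¹) * v = v⁻¹ * (x * d * x⁻¹ * v) := by group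
      _ = v⁻¹ * (v * (x * d * x⁻¹)) := by rw [h1]
      _ = _ := by group
  obtain ⟨d1, hd1, hd1e⟩ := hd'
  have hd1e' : x * d1 * x⁻¹ = d' := hd1e
  have hd' : d' ∈ cj x (fixS V c.E) := ⟨d1, hd1, hd1e⟩
  have hyd' : y * d' * y⁻¹ = d1 := by
    have h1 := Z_comm c hT (hDZ _ hd1) v (V_le_T c hv)
    have h2 := Z_comm c hT (hDZ _ hd1) (x * x) (by rw [← pow_two]; exact c.x_sq)
    rw [hyc, ← hd1e']
    calc v⁻¹ * (x * (x * d1 * x⁻¹) * x⁻¹) * v = v⁻¹ * ((x * x) * d1) * (x * x)⁻¹ * v := by group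
      _ = v⁻¹ * (d1 * (x * x)) * (x * x)⁻¹ * v := by rw [h2]
      _ = v⁻¹ * (d1 * v) := by group
      _ = v⁻¹ * (v * d1) := by rw [h1]
      _ = _ := by group
  have hdd' : x * d * x⁻¹ = d' := by
    have h1 : y * (y * y) * y⁻¹ = y * y := by group
    rw [he'] at h1
    have h2 : y * (d * d') * y⁻¹ = (y * d * y⁻¹) * (y * d' * y⁻¹) := by group
    rw [h2, hyd d hd, hyd'] at h1
    -- `(x d x⁻¹) d1 = d d'`
    have h3 : d⁻¹ * d1 = (x * d * x⁻¹)⁻¹ * d' := by
      have h4 : (x * d * x⁻¹) * d1 = d1 * (x * d * x⁻¹) :=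
        Vcomm c _ (fm.D'_le_V (cj_mem hd)) _ (fixS_le hd1)
      rw [h4] at h1
      calc d⁻¹ * d1 = d⁻¹ * (d1 * (x * d * x⁻¹)) * (x * d * x⁻¹)⁻¹ := by group
        _ = d⁻¹ * (d * d') * (x * d * x⁻¹)⁻¹ := by rw [h1]
        _ = d' * (x * d * x⁻¹)⁻¹ := by group
        _ = _ := Vcomm c _ (fm.D'_le_V hd') _ (V.inv_mem (fm.D'_le_V (cj_mem hd)))
    have h5 : d⁻¹ * d1 ∈ fixS V c.E ⊓ cj x (fixS V c.E) :=
      ⟨Subgroup.mul_mem _ (Subgroup.inv_mem _ hd) hd1, by
        rw [h3]; exact Subgroup.mul_mem _ (Subgroup.inv_mem _ (cj_mem hd)) hd'⟩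
    rw [c.DD, Subgroup.mem_bot] at h5
    have h6 : d = d1 := (inv_mul_eq_one.1 h5)
    rw [h6]
    exact hd1e'
  have hd2 : d * d = 1 := by rw [← pow_two]; exact c.el d (fixS_le hd)
  have hdi : d⁻¹ = d := inv_eq_of_mul_eq_one_left hd2
  have hd'2 : d' * d' = 1 := by rw [← pow_two]; exact c.el d' (fm.D'_le_V hd')
  have hcomm : d * d' = d' * d := Vcomm c _ (fixS_le hd) _ (fm.D'_le_V hd')
  have hydd : y * d = d' * y := by
    have := hyd d hd
    rw [hdd'] at this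
    rw [← this]
    group
  set s := d * y with hs
  have hss : s * s = 1 := by
    calc s * s = d * (y * d) * y := by rw [hs]; group
      _ = d * (d' * y) * y := by rw [hydd]
      _ = d * d' * (y * y) := by group
      _ = d * d' * (d * d') := by rw [he']
      _ = d * (d' * d) * d' := by group
      _ = d * (d * d') * d' := by rw [hcomm]
      _ = (d * d) * (d' * d') := by group
      _ = 1 := by rw [hd2, hd'2, one_mul]
  have hsi : s⁻¹ = s := inv_eq_of_mul_eq_one_left hss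
  have hdT : d ∈ T := V_le_T c (fixS_le hd)
  have hst : s = (d * v⁻¹) * x := by rw [hs, hy]; group
  have htT : d * v⁻¹ ∈ T := T.mul_mem hdT (T.inv_mem (V_le_T c hv))
  have hsc : ∀ w, s * w * s = (d * v⁻¹) * (x * w * x⁻¹) * (d * v⁻¹)⁻¹ := by
    intro w
    conv_lhs => rw [show s * w * s = s * w * s⁻¹ by rw [hsi]]
    rw [hst]
    group
  have hsV : ∀ w ∈ V, s * w * s ∈ cj x V := fun w hw => by
    rw [hsc]
    exact T_conjW c htT (cj_mem hw)
  have hsW : ∀ w ∈ cj x V, s * w * s ∈ V := fun w hw => by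
    rw [hsc]
    exact T_conj c htT (x_conjW c hw)
  refine ⟨s, ?_, ?_, hss, hsV, hsW, ?_, ?_, d * v⁻¹, htT, hst⟩
  · rw [hst]
    exact S.mul_mem (T_le c htT) c.x_mem
  · intro h
    rw [hst] at h
    exact c.x_not ((Subgroup.mul_mem_cancel_left T htT).1 h)
  · intro d0 hd0
    rw [hsc, Z_comm c hT (hD'Z _ (cj_mem (x := x) hd0)) _ htT]
    group
  · ext g
    rw [mem_cj]
    constructor
    · intro h
      have h1 := hsV _ h
      rw [hsi] at h1
      have h2 : s * (s * g * s) * s = g := by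
        calc s * (s * g * s) * s = (s * s) * g * (s * s) := by group
          _ = g := by rw [hss, one_mul, mul_one]
      rwa [h2] at h1
    · intro h
      rw [hsi]
      exact hsW _ h

end Cfsg.Agent.H869.SP
end

-- part: H869/SP/Co
section
/-!
# S5175, SP1: the final coordinates
-/

set_option autoImplicit false

namespace Cfsg.Agent.H869.SP

open Cfsg Cfsg.FusionSystem Cfsg.Agent.H756.HM Cfsg.Agent.H802 Cfsg.Agent.H124.SP
open Matrix (SpecialLinearGroup)

universe u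

variable {Ω : Type u} [Group Ω] {S : Subgroup Ω}
  {F : FusionSystem S} {K : Type} [Field K] [Fintype K] {V T : Subgroup Ω} {x : Ω}

/-- the elements of `E` in coordinates -/
def SlAct {θ : K ≃+* K} (co : SpCo S T V K θ) (g : _root_.Matrix.SpecialLinearGroup (Fin 2) K) (e : MulAut V) : Prop :=
  ∀ (u v w : K) (h : co.xb u * co.xc v * co.xd w ∈ V),
    ((e ⟨co.xb u * co.xc v * co.xd w, h⟩ : V) : Ω) = co.xb (g 1 0 ^ 2 * w + g 1 1 ^ 2 * u) *
      co.xc (v + (g 0 0 * g 1 0 * w + g 0 1 * g 1 1 * u)) * co.xd (g 0 0 ^ 2 * w + g 0 1 ^ 2 * u)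

theorem exists_co [Finite S] (hS : IsPGroup 2 S) (hF : F.IsSaturated 2) (b : Big F K V T x)
    (hD : Nat.card (fixS V b.E) = Fintype.card K) (hcom : comS V b.E = V) :
    ∃ (θ : K ≃+* K) (_ : ∀ t, θ (θ t) = t ^ 2) (co : SpCo S T V K θ) (fm : Frm b.toConf),
      (∃ t ∈ T, co.y = t * x) ∧ (∀ v, co.xc v ∈ fixS V b.E) ∧ (∀ w, co.xd w ∈ cj x (fixS V b.E)) ∧
      (∀ t, co.xa t ∈ cj x V) ∧
      (∀ (t : K) (v : V), (((fm.ρ.symm (up (t ^ 2)) : MulAut V) v : V) : Ω) = co.xa t * v * (co.xa t)⁻¹) ∧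
      ∀ g, SlAct co g (fm.ρ.symm ((@fr K _ (charTwo_of b.toConf)) g) : MulAut V) := by
  classical
  set c : Conf F K V T x := b.toConf with hcdef
  have hch : CharP K 2 := charTwo_of c
  have hT : T = V ⊔ cj x V := b.T_eq
  have hfinV : Finite V := finite_of_le c.V_le
  obtain ⟨fm⟩ := exists_frm c
  obtain ⟨σ, δ, hσ, hδ, hσψ, hδD, hσ0, hform, hδs, hδi, hσs⟩ :=
    exists_coordsV hS hF c hT b.E_nor b.q4 fm hD hcom
  obtain ⟨s, hsS, hsT, hss, hsV, hsW, hsD, hcjs, ht0⟩ := exists_inv_swap c hT fm hD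
  have hsi : s⁻¹ = s := inv_eq_of_mul_eq_one_left hss
  have hsss : ∀ g, s * (s * g * s) * s = g := fun g => by
    calc s * (s * g * s) * s = (s * s) * g * (s * s) := by group
      _ = g := by rw [hss, one_mul, mul_one]
  have hc : ∀ a b : V, a * b = b * a := fun a b => Subtype.ext (Vcomm c a a.2 b b.2)
  have hsq : Function.Surjective (fun a : K => a ^ 2) := by
    apply Finite.surjective_of_injective
    intro a b hab
    have : frobenius K 2 a = frobenius K 2 b := by rw [frobenius_def, frobenius_def]; exact hab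
    exact frobenius_inj K 2 this
  have hsq' : ∀ a b : K, a ^ 2 = b ^ 2 → a = b := fun a b hab => by
    have : frobenius K 2 a = frobenius K 2 b := by rw [frobenius_def, frobenius_def]; exact hab
    exact frobenius_inj K 2 this
  -- `β`
  have hβex : ∀ u : K, ∃ t : K, ∀ v : V, (((fm.ρ.symm (up (t ^ 2)) : MulAut V) v : V) : Ω) =
      (s * (σ 0 u : Ω) * s) * v * (s * (σ 0 u : Ω) * s)⁻¹ := by
    intro u
    obtain ⟨t, ht⟩ := fm.up _ (hsV _ (σ 0 u).2)
    obtain ⟨t', rfl⟩ := hsq t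
    exact ⟨t', ht⟩
  choose β hβ using hβex
  have huniq : ∀ t t' : K, (∀ v : V, (fm.ρ.symm (up (t ^ 2)) : MulAut V) v = (fm.ρ.symm (up (t' ^ 2)) : MulAut V) v) →
      t = t' := by
    intro t t' h
    have h1 : fm.ρ.symm (up (t ^ 2)) = fm.ρ.symm (up (t' ^ 2)) := Subtype.ext (MulEquiv.ext h)
    exact hsq' _ _ (up_inj (fm.ρ.symm.injective h1))
  have hσu : ∀ u u', σ 0 (u + u') = σ 0 u * σ 0 u' := fun u u' => by
    rw [← hσ, add_zero]
  have hσw : ∀ w w', σ (w + w') 0 = σ w 0 * σ w' 0 := fun u u' => by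
    rw [← hσ, add_zero]
  have hβadd : ∀ u u', β (u + u') = β u + β u' := by
    intro u u'
    apply huniq
    intro v
    apply Subtype.ext
    have h1 : up ((β u + β u') ^ 2) = up (β u ^ 2) * up (β u' ^ 2) := by
      rw [← up_add, CharTwo.add_sq]
    rw [hβ, h1, map_mul]
    show _ = (((fm.ρ.symm (up (β u ^ 2)) : MulAut V) ((fm.ρ.symm (up (β u' ^ 2)) : MulAut V) v) : V) : Ω)
    rw [hβ, hβ, hσu]
    have h2 : s * ((σ 0 u * σ 0 u' : V) : Ω) * s = (s * (σ 0 u : Ω) * s) * (s * (σ 0 u' : Ω) * s) := by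
      show s * ((σ 0 u : Ω) * (σ 0 u' : Ω)) * s = _
      calc s * ((σ 0 u : Ω) * (σ 0 u' : Ω)) * s = s * (σ 0 u : Ω) * (s * s) * (σ 0 u' : Ω) * s := by
            rw [hss]; group
        _ = _ := by group
    rw [h2]
    group
  have hσψ1 : ∀ w u, Multiplicative.toAdd (fm.ψ (σ w u)) 1 = u := fun w u => by rw [hσψ]; rfl
  have hσψ0 : ∀ w u, Multiplicative.toAdd (fm.ψ (σ w u)) 0 = w := fun w u => by rw [hσψ]; rfl
  have hβinj : Function.Injective β := by
    have h0 : ∀ u, β u = 0 → u = 0 := by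
      intro u hu
      have h1 : s * (σ 0 u : Ω) * s ∈ V := by
        apply mem_V_of_comm c (T_le c (W_le_T c (hsV _ (σ 0 u).2)))
        intro v hv
        have h3 := hβ u ⟨v, hv⟩
        have h0 : ((0 : K) ^ 2) = 0 := by simp
        rw [hu, h0, up_zero, map_one] at h3
        have h4 : v = (s * (σ 0 u : Ω) * s) * v * (s * (σ 0 u : Ω) * s)⁻¹ := h3
        calc (s * (σ 0 u : Ω) * s) * v = (s * (σ 0 u : Ω) * s) * v * (s * (σ 0 u : Ω) * s)⁻¹ * (s * (σ 0 u : Ω) * s) := by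
              rw [inv_mul_cancel_right]
          _ = v * (s * (σ 0 u : Ω) * s) := by rw [← h4]
      have h2 := hsV _ h1
      rw [hsss] at h2
      have h3 := fm.ψ_of_W h2
      rwa [hσψ1] at h3
    intro a b hab
    have h1 := hβadd (a - b) b
    rw [sub_add_cancel] at h1
    have h2 : β (a - b) = 0 := by
      rw [hab] at h1
      exact (right_eq_add.1 h1)
    exact sub_eq_zero.1 (h0 _ h2)
  have hβbij : Function.Bijective β := ⟨hβinj, Finite.surjective_of_injective hβinj⟩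
  -- `τ`
  have hτex : ∀ v : K, ∃ w : K, (σ w 0 : Ω) = s * (δ v : Ω) * s := by
    intro v
    rw [hsD _ (hδD v)]
    exact hσs _ (cj_mem (hδD v))
  choose τ hτ using hτex
  -- elements of `D'` and `D`
  have hsD' : ∀ d ∈ cj x (fixS V c.E), s * d * s ∈ fixS V c.E := by
    rintro _ ⟨d, hd, rfl⟩
    show s * (x * d * x⁻¹) * s ∈ _
    rw [← hsD d hd, hsss]
    exact hd
  have hZ : ∀ d ∈ fixS V c.E, d ∈ V ⊓ cj x V := fun d hd => ⟨fixS_le hd, fm.D_le_W hd⟩
  have hZ' : ∀ d ∈ cj x (fixS V c.E), d ∈ V ⊓ cj x V := fun d hd =>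
    ⟨fm.D'_le_V hd, Frm.D'_le_W (c := c) hd⟩
  have hact : ∀ u' u : K, (s * (σ 0 u' : Ω) * s) * (σ 0 u : Ω) * (s * (σ 0 u' : Ω) * s)⁻¹ =
      (σ (β u' ^ 2 * u) u : Ω) * (δ (β u' * u) : Ω) := by
    intro u' u
    rw [← hβ, ← fr_up, hform]
    simp
  have hinv : ∀ g ∈ V, g⁻¹ = g := fun g hg => inv_eq_of_mul_eq_one_left (by rw [← pow_two]; exact c.el g hg)
  have hsinv : ∀ g ∈ V, (s * g * s)⁻¹ = s * g * s := fun g hg => by
    rw [mul_inv_rev, mul_inv_rev, hsi, hinv g hg, mul_assoc]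
  have hRrel : ∀ u' u, τ (β u' * u) = β u ^ 2 * u' := by
    intro u' u
    have hV1 := (σ 0 u').2
    have hV2 := (σ 0 u).2
    set a := (σ 0 u' : Ω) with ha
    set a₂ := (σ 0 u : Ω) with ha₂
    have h1 := hact u' u
    have h2 := hact u u'
    rw [← ha, ← ha₂] at h1 h2
    rw [hsinv a hV1] at h1
    rw [hsinv a₂ hV2] at h2
    -- conjugate the first relation by `s`
    have h3 : a * (s * a₂ * s) * a = (s * (σ (β u' ^ 2 * u) u : Ω) * s) * (s * (δ (β u' * u) : Ω) * s) := by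
      have h4 : s * (s * a * s * a₂ * (s * a * s)) * s = a * (s * a₂ * s) * a := by
        calc s * (s * a * s * a₂ * (s * a * s)) * s = (s * s) * a * (s * a₂ * s) * a * (s * s) := by group
          _ = _ := by rw [hss, one_mul, mul_one]
      rw [← h4, h1]
      calc s * ((σ (β u' ^ 2 * u) u : Ω) * (δ (β u' * u) : Ω)) * s =
          s * (σ (β u' ^ 2 * u) u : Ω) * (s * s) * (δ (β u' * u) : Ω) * s := by rw [hss]; group
        _ = _ := by group
    have h5 : (σ (β u' ^ 2 * u) u : Ω) = (σ (β u' ^ 2 * u) 0 : Ω) * a₂ := by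
      have : σ (β u' ^ 2 * u) u = σ (β u' ^ 2 * u) 0 * σ 0 u := by rw [← hσ, add_zero, zero_add]
      rw [this]
      rfl
    have h6 : s * (σ (β u' ^ 2 * u) u : Ω) * s = (s * (σ (β u' ^ 2 * u) 0 : Ω) * s) * (s * a₂ * s) := by
      rw [h5]
      calc s * ((σ (β u' ^ 2 * u) 0 : Ω) * a₂) * s = s * (σ (β u' ^ 2 * u) 0 : Ω) * (s * s) * a₂ * s := by
            rw [hss]; group
        _ = _ := by group
    have hd1 : s * (σ (β u' ^ 2 * u) 0 : Ω) * s ∈ fixS V c.E := hsD' _ (hσ0 _)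
    set d1 := s * (σ (β u' ^ 2 * u) 0 : Ω) * s with hd1def
    set a' := s * a₂ * s with ha'
    have ha'T : a' ∈ T := W_le_T c (hsV _ hV2)
    have haT : a ∈ T := V_le_T c hV1
    rw [h6, ← hτ] at h3
    -- `a' a a' = σ (β u ^ 2 u') u' δ`
    have ha'2 : a' * a' = 1 := by
      rw [ha']
      calc s * a₂ * s * (s * a₂ * s) = s * a₂ * (s * s) * a₂ * s := by group
        _ = s * (a₂ * a₂) * s := by rw [hss]; group
        _ = 1 := by rw [← pow_two, c.el _ hV2, mul_one, hss]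
    have haa : a * a = 1 := by rw [← pow_two, c.el _ hV1]
    have h7 : (σ (β u ^ 2 * u') u' : Ω) = (σ (β u ^ 2 * u') 0 : Ω) * a := by
      have : σ (β u ^ 2 * u') u' = σ (β u ^ 2 * u') 0 * σ 0 u' := by rw [← hσ, add_zero, zero_add]
      rw [this]
      rfl
    rw [h7] at h2
    -- `h2 : a' * a * a' = z₁ * a * δ₁`, `h3 : a * a' * a = d1 * a' * z₂`
    have h8 : (σ (β u ^ 2 * u') 0 : Ω) * (δ (β u * u') : Ω) = (σ (τ (β u' * u)) 0 : Ω) * d1 := by
      have hz1 := Z_comm c hT (hZ' _ (hσ0 (β u ^ 2 * u')))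
      have hz2 := Z_comm c hT (hZ' _ (hσ0 (τ (β u' * u))))
      have hz3 := Z_comm c hT (hZ _ hd1)
      have hz4 := Z_comm c hT (hZ _ (hδD (β u * u')))
      have e1 : a' * (a * a' * a) = (σ (β u ^ 2 * u') 0 : Ω) * (δ (β u * u') : Ω) := by
        calc a' * (a * a' * a) = (a' * a * a') * a := by group
          _ = (σ (β u ^ 2 * u') 0 : Ω) * a * (δ (β u * u') : Ω) * a := by rw [h2]
          _ = (σ (β u ^ 2 * u') 0 : Ω) * (a * (δ (β u * u') : Ω)) * a := by group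
          _ = (σ (β u ^ 2 * u') 0 : Ω) * ((δ (β u * u') : Ω) * a) * a := by rw [hz4 a haT]
          _ = (σ (β u ^ 2 * u') 0 : Ω) * (δ (β u * u') : Ω) * (a * a) := by group
          _ = _ := by rw [haa, mul_one]
      have e2 : a' * (a * a' * a) = (σ (τ (β u' * u)) 0 : Ω) * d1 := by
        rw [h3]
        calc a' * (d1 * a' * (σ (τ (β u' * u)) 0 : Ω)) = (a' * d1) * (a' * (σ (τ (β u' * u)) 0 : Ω)) := by group
          _ = (d1 * a') * (a' * (σ (τ (β u' * u)) 0 : Ω)) := by rw [hz3 a' ha'T]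
          _ = d1 * (a' * a') * (σ (τ (β u' * u)) 0 : Ω) := by group
          _ = d1 * (σ (τ (β u' * u)) 0 : Ω) := by rw [ha'2, mul_one]
          _ = _ := hz2 d1 (V_le_T c (fixS_le hd1))
      rw [← e1, e2]
    have h9 : σ (β u ^ 2 * u') 0 * δ (β u * u') = σ (τ (β u' * u)) 0 * ⟨d1, fixS_le hd1⟩ := Subtype.ext h8
    have h10 := congrArg (fun v => Multiplicative.toAdd (fm.ψ v) 0) h9
    have hk1 : fm.ψ (δ (β u * u')) = 1 := (fm.ker _).2 (hδD _)
    have hk2 : fm.ψ (⟨d1, fixS_le hd1⟩ : V) = 1 := (fm.ker _).2 hd1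
    simp only [map_mul, hk1, hk2, mul_one] at h10
    rw [hσψ0, hσψ0] at h10
    exact h10.symm
  -- rescaling
  obtain ⟨u0, hu0⟩ := hβbij.2 1
  have hu00 : u0 ≠ 0 := by
    rintro rfl
    have := hβadd 0 0
    rw [add_zero, hu0] at this
    exact one_ne_zero (left_eq_add.1 this)
  obtain ⟨θ, hθ1, hθ2, hθ3⟩ := field_aut (fun u => β (u0 * u)) (fun v => u0⁻¹ * τ (u0 * v))
    (fun a b => by rw [mul_add, hβadd])
    ⟨fun a b hab => mul_left_cancel₀ hu00 (hβbij.1 hab), fun t => by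
      obtain ⟨u, hu⟩ := hβbij.2 t
      exact ⟨u0⁻¹ * u, by show β (u0 * (u0⁻¹ * u)) = t; rw [mul_inv_cancel_left₀ hu00, hu]⟩⟩
    (by rw [mul_one, hu0])
    (fun u' u => by
      show u0⁻¹ * τ (u0 * (β (u0 * u') * u)) = β (u0 * u) ^ 2 * u'
      have : u0 * (β (u0 * u') * u) = β (u0 * u') * (u0 * u) := by ring
      rw [this, hRrel]
      field_simp)
  have hθ1' : ∀ u, β (u0 * θ u) = u := hθ1
  have hθ3' : ∀ u, u0⁻¹ * τ (u0 * u) = θ u := hθ3
  have hδ0 : δ 0 = 1 := by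
    have := hδ 0 0
    rw [add_zero] at this
    exact (mul_eq_left.1 this.symm)
  have hσ00 : σ 0 0 = 1 := by
    have := hσ 0 0 0 0
    rw [add_zero] at this
    exact (mul_eq_left.1 this.symm)
  have hdec : ∀ w u, (σ w u : Ω) = (σ 0 u : Ω) * (σ w 0 : Ω) := by
    intro w u
    have : σ w u = σ 0 u * σ w 0 := by rw [← hσ, add_zero, zero_add]
    rw [this]
    rfl
  -- the action of `xa t`
  have hxa : ∀ (t : K) (v : V), (((fm.ρ.symm (up (t ^ 2)) : MulAut V) v : V) : Ω) =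
      (s * (σ 0 (u0 * θ t) : Ω) * s) * v * (s * (σ 0 (u0 * θ t) : Ω) * s)⁻¹ := by
    intro t v
    rw [← hβ, hθ1']
  have hmemZ : ∀ v w, (δ v : Ω) * (σ w 0 : Ω) ∈ V ⊓ cj x V := fun v w =>
    Subgroup.mul_mem _ (hZ _ (hδD v)) (hZ' _ (hσ0 w))
  have hVdec : ∀ g ∈ V, ∃ u v w, g = (σ 0 (u0 * u) : Ω) * (δ (u0 * v) : Ω) * (σ (u0 * w) 0 : Ω) := by
    intro g hg
    set w := Multiplicative.toAdd (fm.ψ ⟨g, hg⟩) 0 with hw
    set u := Multiplicative.toAdd (fm.ψ ⟨g, hg⟩) 1 with hu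
    have hψd : fm.ψ ((⟨g, hg⟩ : V) * (σ w u)⁻¹) = 1 := by
      rw [map_mul, map_inv, mul_inv_eq_one]
      apply Multiplicative.toAdd.injective
      rw [hσψ]
      ext i
      fin_cases i <;> rfl
    rw [fm.ker] at hψd
    obtain ⟨v, hv⟩ := hδs _ hψd
    refine ⟨u0⁻¹ * u, u0⁻¹ * v, u0⁻¹ * w, ?_⟩
    rw [mul_inv_cancel_left₀ hu00, mul_inv_cancel_left₀ hu00, mul_inv_cancel_left₀ hu00, hv]
    have h1 : ((((⟨g, hg⟩ : V) * (σ w u)⁻¹ : V)) : Ω) = g * (σ w u : Ω)⁻¹ := rfl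
    rw [h1, hdec w u, Vcomm c _ (σ 0 u).2 _ (σ w 0).2, mul_inv_rev]
    have h2 := Vcomm c _ (σ 0 u).2 g hg
    calc g = (σ 0 u : Ω)⁻¹ * ((σ 0 u : Ω) * g) := by group
      _ = (σ 0 u : Ω)⁻¹ * (g * (σ 0 u : Ω)) := by rw [h2]
      _ = ((σ 0 u : Ω)⁻¹ * g) * (σ 0 u : Ω) := by group
      _ = (σ 0 u : Ω) * ((σ 0 u : Ω)⁻¹ * g) := by
          rw [Vcomm c _ (V.mul_mem (V.inv_mem (σ 0 u).2) hg) _ (σ 0 u).2]
      _ = (σ 0 u : Ω) * (g * (σ 0 u : Ω)⁻¹) := by
          rw [Vcomm c _ (V.inv_mem (σ 0 u).2) g hg]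
      _ = _ := by group
  have hTdec : ∀ g ∈ T, ∃ t u v w, g = s * (σ 0 (u0 * θ t) : Ω) * s * (σ 0 (u0 * u) : Ω) * (δ (u0 * v) : Ω) *
      (σ (u0 * w) 0 : Ω) := by
    intro g hg
    obtain ⟨v, hv, a, ha, rfl⟩ := T_decomp c hT hg
    obtain ⟨t', ht'⟩ := fm.up a ha
    obtain ⟨t, rfl⟩ := hsq t'
    set a' := s * (σ 0 (u0 * θ t) : Ω) * s with ha'
    have ha'T : a' ∈ T := W_le_T c (hsV _ (Subtype.coe_prop _))
    have h1 : a'⁻¹ * a ∈ V := by
      apply mem_V_of_comm c (T_le c (T.mul_mem (T.inv_mem ha'T) (W_le_T c ha)))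
      intro z hz
      have e1 := ht' ⟨z, hz⟩
      have e2 := hxa t ⟨z, hz⟩
      rw [← ha'] at e2
      have e3 : a * z * a⁻¹ = a' * z * a'⁻¹ := e1.symm.trans e2
      calc a'⁻¹ * a * z = a'⁻¹ * (a * z * a⁻¹) * a := by group
        _ = a'⁻¹ * (a' * z * a'⁻¹) * a := by rw [e3]
        _ = _ := by group
    have h2 : a'⁻¹ * v * a' ∈ V := by
      have := T_conj c (T.inv_mem ha'T) hv
      rwa [inv_inv] at this
    obtain ⟨u, v', w, he⟩ := hVdec _ (V.mul_mem h2 h1)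
    refine ⟨t, u, v', w, ?_⟩
    calc v * a = a' * ((a'⁻¹ * v * a') * (a'⁻¹ * a)) := by group
      _ = _ := by rw [he, ha']; group
  refine ⟨θ, hθ2, 
    { xa := fun t => s * (σ 0 (u0 * θ t) : Ω) * s
      xb := fun u => (σ 0 (u0 * u) : Ω)
      xc := fun v => (δ (u0 * v) : Ω)
      xd := fun w => (σ (u0 * w) 0 : Ω)
      y := s
      xa_add := ?_
      xb_add := ?_
      xc_add := ?_
      xd_add := ?_
      ab := ?_
      ac := ?_
      ad := ?_
      bc := ?_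
      bd := ?_
      cd := ?_
      y_sq := hss
      ya := ?_
      yc := ?_
      inj := ?_
      y_mem := hsS
      y_not := hsT
      hS := ?_
      hT := ?_
      hV := ?_ }, fm, ht0, ?_, ?_, ?_, hxa, ?_⟩
  · intro a b
    rw [map_add, mul_add, hσu]
    show s * ((σ 0 (u0 * θ a) : Ω) * (σ 0 (u0 * θ b) : Ω)) * s = _
    calc s * ((σ 0 (u0 * θ a) : Ω) * (σ 0 (u0 * θ b) : Ω)) * s =
        s * (σ 0 (u0 * θ a) : Ω) * (s * s) * (σ 0 (u0 * θ b) : Ω) * s := by rw [hss]; group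
      _ = _ := by group
  · intro a b
    rw [mul_add, hσu]
    rfl
  · intro a b
    rw [mul_add, hδ]
    rfl
  · intro a b
    rw [mul_add, hσw]
    rfl
  · -- ab
    intro t u
    have h1 := hact (u0 * θ t) (u0 * u)
    rw [hθ1'] at h1
    set a := s * (σ 0 (u0 * θ t) : Ω) * s with ha
    have haT : a ∈ T := W_le_T c (hsV _ (σ 0 (u0 * θ t)).2)
    have h2 : a * (σ 0 (u0 * u) : Ω) = (σ (t ^ 2 * (u0 * u)) (u0 * u) : Ω) * (δ (t * (u0 * u)) : Ω) * a := by
      rw [← h1]; group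
    rw [h2, hdec (t ^ 2 * (u0 * u))]
    have e1 : t ^ 2 * (u0 * u) = u0 * (t ^ 2 * u) := by ring
    have e2 : t * (u0 * u) = u0 * (t * u) := by ring
    rw [e1, e2]
    have h3 := Z_comm c hT (hmemZ (u0 * (t * u)) (u0 * (t ^ 2 * u))) a haT
    have h4 : (σ (u0 * (t ^ 2 * u)) 0 : Ω) * (δ (u0 * (t * u)) : Ω) =
        (δ (u0 * (t * u)) : Ω) * (σ (u0 * (t ^ 2 * u)) 0 : Ω) :=
      Vcomm c _ (Subtype.coe_prop _) _ (Subtype.coe_prop _)
    calc (σ 0 (u0 * u) : Ω) * (σ (u0 * (t ^ 2 * u)) 0 : Ω) * (δ (u0 * (t * u)) : Ω) * a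
        = (σ 0 (u0 * u) : Ω) * ((σ (u0 * (t ^ 2 * u)) 0 : Ω) * (δ (u0 * (t * u)) : Ω)) * a := by group
      _ = (σ 0 (u0 * u) : Ω) * (((δ (u0 * (t * u)) : Ω) * (σ (u0 * (t ^ 2 * u)) 0 : Ω)) * a) := by
          rw [h4]; group
      _ = (σ 0 (u0 * u) : Ω) * (a * ((δ (u0 * (t * u)) : Ω) * (σ (u0 * (t ^ 2 * u)) 0 : Ω))) := by rw [h3]
      _ = _ := by group
  · intro t v
    exact Z_comm c hT (hZ _ (hδD _)) _ (W_le_T c (hsV _ (Subtype.coe_prop _)))
  · intro t v
    exact Z_comm c hT (hZ' _ (hσ0 _)) _ (W_le_T c (hsV _ (Subtype.coe_prop _)))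
  · intro t v
    exact Vcomm c _ (Subtype.coe_prop _) _ (Subtype.coe_prop _)
  · intro t v
    exact Vcomm c _ (Subtype.coe_prop _) _ (Subtype.coe_prop _)
  · intro t v
    exact Vcomm c _ (Subtype.coe_prop _) _ (Subtype.coe_prop _)
  · intro t
    exact hsss _
  · intro v
    show s * (δ (u0 * v) : Ω) * s = (σ (u0 * θ v) 0 : Ω)
    rw [← hθ3', mul_inv_cancel_left₀ hu00, hτ]
  · -- inj
    intro t u v w h
    have haV : s * (σ 0 (u0 * θ t) : Ω) * s ∈ V := by
      have h1 : s * (σ 0 (u0 * θ t) : Ω) * s = ((σ 0 (u0 * u) : Ω) * (δ (u0 * v) : Ω) * (σ (u0 * w) 0 : Ω))⁻¹ := by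
        rw [eq_inv_iff_mul_eq_one, ← h]
        group
      rw [h1]
      exact V.inv_mem (V.mul_mem (V.mul_mem (Subtype.coe_prop _) (Subtype.coe_prop _)) (Subtype.coe_prop _))
    have ht : t = 0 := by
      apply huniq
      intro v'
      apply Subtype.ext
      have h0 : ((0 : K) ^ 2) = 0 := by simp
      rw [hxa, Vcomm c _ haV v' v'.2, h0, up_zero, map_one, mul_inv_cancel_right]
      rfl
    subst ht
    have h1 : (σ 0 (u0 * θ 0) : Ω) = 1 := by
      rw [map_zero, mul_zero, hσ00]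
      rfl
    have h2 : σ 0 (u0 * u) * δ (u0 * v) * σ (u0 * w) 0 = 1 := by
      apply Subtype.ext
      show (σ 0 (u0 * u) : Ω) * (δ (u0 * v) : Ω) * (σ (u0 * w) 0 : Ω) = 1
      rw [h1, mul_one, hss, one_mul] at h
      exact h
    have h3 := congrArg (fun z => Multiplicative.toAdd (fm.ψ z)) h2
    have hk1 : fm.ψ (δ (u0 * v)) = 1 := (fm.ker _).2 (hδD _)
    simp only [map_mul, hk1, mul_one, map_one, toAdd_one, toAdd_mul] at h3
    rw [hσψ, hσψ] at h3
    have e0 := congrFun h3 0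
    have e1 := congrFun h3 1
    simp [hu00] at e0 e1
    subst e0 e1
    rw [mul_zero, hσ00, one_mul, mul_one, ← hδ0] at h2
    have h4 := hδi h2
    refine ⟨rfl, rfl, ?_, rfl⟩
    exact (mul_eq_zero.1 h4).resolve_left hu00
  · -- S
    intro g
    constructor
    · intro hg
      by_cases hgT : g ∈ T
      · obtain ⟨t, u, v, w, he⟩ := hTdec g hgT
        exact ⟨t, u, v, w, Or.inl he⟩
      · have h1 : g * s ∈ T := by
          have hidx : (T.subgroupOf S).index = 2 := b.S_idx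
          have := (Subgroup.mul_mem_iff_of_index_two hidx (a := ⟨g, hg⟩) (b := ⟨s, hsS⟩)).2
            ⟨fun h => absurd h hgT, fun h => absurd h hsT⟩
          exact this
        obtain ⟨t, u, v, w, he⟩ := hTdec _ h1
        refine ⟨t, u, v, w, Or.inr ?_⟩
        rw [← he, mul_assoc, hss, mul_one]
    · rintro ⟨t, u, v, w, rfl | rfl⟩
      · exact S.mul_mem (S.mul_mem (S.mul_mem (S.mul_mem (S.mul_mem hsS (c.V_le (Subtype.coe_prop _))) hsS)
          (c.V_le (Subtype.coe_prop _))) (c.V_le (Subtype.coe_prop _))) (c.V_le (Subtype.coe_prop _))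
      · exact S.mul_mem (S.mul_mem (S.mul_mem (S.mul_mem (S.mul_mem (S.mul_mem hsS (c.V_le (Subtype.coe_prop _))) hsS)
          (c.V_le (Subtype.coe_prop _))) (c.V_le (Subtype.coe_prop _))) (c.V_le (Subtype.coe_prop _))) hsS
  · intro g
    refine ⟨hTdec g, ?_⟩
    rintro ⟨t, u, v, w, rfl⟩
    exact T.mul_mem (T.mul_mem (T.mul_mem (W_le_T c (hsV _ (Subtype.coe_prop _))) (V_le_T c (Subtype.coe_prop _)))
      (V_le_T c (Subtype.coe_prop _))) (V_le_T c (Subtype.coe_prop _))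
  · intro g
    refine ⟨hVdec g, ?_⟩
    rintro ⟨u, v, w, rfl⟩
    exact V.mul_mem (V.mul_mem (Subtype.coe_prop _) (Subtype.coe_prop _)) (Subtype.coe_prop _)
  · exact fun v => hδD _
  · exact fun w => hσ0 _
  · exact fun t => hsV _ (Subtype.coe_prop _)
  · -- action of `SL₂`
    intro g u v w h
    have h1 : (⟨(σ 0 (u0 * u) : Ω) * (δ (u0 * v) : Ω) * (σ (u0 * w) 0 : Ω), h⟩ : V) =
        σ (u0 * w) (u0 * u) * δ (u0 * v) := by
      apply Subtype.ext
      show (σ 0 (u0 * u) : Ω) * (δ (u0 * v) : Ω) * (σ (u0 * w) 0 : Ω) =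
        (σ (u0 * w) (u0 * u) : Ω) * (δ (u0 * v) : Ω)
      rw [hdec (u0 * w) (u0 * u), mul_assoc, mul_assoc, Vcomm c _ (δ (u0 * v)).2 _ (σ (u0 * w) 0).2]
    show (((fm.ρ.symm (fr g) : MulAut V) (⟨(σ 0 (u0 * u) : Ω) * (δ (u0 * v) : Ω) * (σ (u0 * w) 0 : Ω), h⟩ : V) : V) : Ω) = _
    rw [h1, map_mul, hform, fm.fix_of_D (hδD _), mul_assoc, ← hδ, hc (σ _ _) (δ _)]
    have e1 : g 0 0 ^ 2 * (u0 * w) + g 0 1 ^ 2 * (u0 * u) = u0 * (g 0 0 ^ 2 * w + g 0 1 ^ 2 * u) := by ring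
    have e2 : g 1 0 ^ 2 * (u0 * w) + g 1 1 ^ 2 * (u0 * u) = u0 * (g 1 0 ^ 2 * w + g 1 1 ^ 2 * u) := by ring
    have e3 : g 0 0 * g 1 0 * (u0 * w) + g 0 1 * g 1 1 * (u0 * u) + u0 * v =
      u0 * (v + (g 0 0 * g 1 0 * w + g 0 1 * g 1 1 * u)) := by ring
    rw [e1, e2, e3]
    show (δ (u0 * (v + (g 0 0 * g 1 0 * w + g 0 1 * g 1 1 * u))) : Ω) *
      (σ (u0 * (g 0 0 ^ 2 * w + g 0 1 ^ 2 * u)) (u0 * (g 1 0 ^ 2 * w + g 1 1 ^ 2 * u)) : Ω) =
      (σ 0 (u0 * (g 1 0 ^ 2 * w + g 1 1 ^ 2 * u)) : Ω) * (δ (u0 * (v + (g 0 0 * g 1 0 * w + g 0 1 * g 1 1 * u))) : Ω) *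
        (σ (u0 * (g 0 0 ^ 2 * w + g 0 1 ^ 2 * u)) 0 : Ω)
    rw [hdec (u0 * (g 0 0 ^ 2 * w + g 0 1 ^ 2 * u)) (u0 * (g 1 0 ^ 2 * w + g 1 1 ^ 2 * u)), ← mul_assoc,
      Vcomm c _ (δ (u0 * (v + (g 0 0 * g 1 0 * w + g 0 1 * g 1 1 * u)))).2 _
        (σ 0 (u0 * (g 1 0 ^ 2 * w + g 1 1 ^ 2 * u))).2]

end Cfsg.Agent.H869.SP
end

-- part: H869/SP/Par
section
/-!
# S5175, SP1: a finite field of characteristic 2 with a square root of the Frobenius automorphism has odd degree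
-/

set_option autoImplicit false

namespace Cfsg.Agent.H869.SP

theorem odd_of_theta {K : Type*} [Field K] [Fintype K] [CharP K 2] {n : ℕ} (hK : Fintype.card K = 2 ^ n)
    (θ : K ≃+* K) (hθ : ∀ t, θ (θ t) = t ^ 2) : Odd n := by
  classical
  by_contra hn
  rw [Nat.not_odd_iff_even] at hn
  obtain ⟨m, rfl⟩ := hn
  have h2 : (2 : K) = 0 := CharTwo.two_eq_zero
  have h3 : Nat.Prime 3 := Nat.prime_three
  have : Fact (Nat.Prime 3) := ⟨h3⟩
  have hdvd : 3 ∣ Nat.card Kˣ := by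
    rw [Nat.card_eq_fintype_card, Fintype.card_units, hK]
    have h1 : 2 ^ (m + m) = 4 ^ m := by rw [← two_mul, pow_mul]; norm_num
    rw [h1]
    have h4 : 1 ≤ 4 ^ m := Nat.one_le_pow _ _ (by norm_num)
    have h5 : 4 ^ m % 3 = 1 := by rw [Nat.pow_mod]; norm_num
    omega
  obtain ⟨u, hu⟩ := exists_prime_orderOf_dvd_card' 3 hdvd
  set ω : K := (u : K) with hω
  have hω3 : ω ^ 3 = 1 := by
    have := pow_orderOf_eq_one u
    rw [hu] at this
    have h6 := congrArg (Units.val) this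
    simpa only [_root_.Units.val_pow_eq_pow_val, _root_.Units.val_one] using h6
  have hω1 : ω ≠ 1 := by
    intro h
    have : u = 1 := Units.ext h
    rw [this, orderOf_one] at hu
    omega
  have hq : ω ^ 2 + ω + 1 = 0 := by
    have : (ω - 1) * (ω ^ 2 + ω + 1) = 0 := by
      linear_combination hω3
    exact (mul_eq_zero.1 this).resolve_left (sub_ne_zero.2 hω1)
  have hθ3 : θ ω ^ 3 = 1 := by rw [← map_pow, hω3, map_one]
  have hprod : (θ ω - 1) * ((θ ω - ω) * (θ ω - ω ^ 2)) = 0 := by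
    linear_combination hθ3 - θ ω ^ 2 * hq + θ ω * hω3 + θ ω * hq - hω3
  have hne : θ ω ≠ 1 := fun h => hω1 (by rw [← map_one θ] at h; exact θ.injective h)
  have hω0 : ω ≠ 0 := u.ne_zero
  rcases mul_eq_zero.1 ((mul_eq_zero.1 hprod).resolve_left (sub_ne_zero.2 hne)) with h | h
  · have h1 : θ ω = ω := sub_eq_zero.1 h
    have h4 := hθ ω
    rw [h1, h1] at h4
    apply hω1
    have : ω * (ω - 1) = 0 := by linear_combination -h4
    exact sub_eq_zero.1 ((mul_eq_zero.1 this).resolve_left hω0)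
  · have h1 : θ ω = ω ^ 2 := sub_eq_zero.1 h
    have h4 := hθ ω
    rw [h1, map_pow, h1] at h4
    -- `ω ^ 4 = ω ^ 2`
    apply hω1
    have : ω * (ω - 1) = 0 := by linear_combination -h4 + ω * hω3
    exact sub_eq_zero.1 ((mul_eq_zero.1 this).resolve_left hω0)

end Cfsg.Agent.H869.SP
end

-- part: H311/SP/NE
section
/-!
# S5175 (SP): the normalizer of `SL₂(K)` acting on symmetric matrices (helper311)

`K` finite of characteristic 2, `|K| ≥ 4`. `K³ ∋ (u, v, w) ↔ [[w, v], [v, u]]`, `g` acts by `X ↦ g X gᵀ`.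
An additive automorphism of `K³` normalising `SL₂(K)` is `X ↦ g φ(X) gᵀ` with `g ∈ GL₂(K)`, `φ ∈ Aut K`.
-/

set_option autoImplicit false

namespace Cfsg.Agent.H311.SP

open Matrix

variable {K : Type*} [Field K]

/-- the action of a matrix on the triples -/
def actM (g : Matrix (Fin 2) (Fin 2) K) (X : K × K × K) : K × K × K :=
  (g 1 0 ^ 2 * X.2.2 + g 1 1 ^ 2 * X.1,
    (g 0 0 * g 1 1 + g 0 1 * g 1 0) * X.2.1 + g 0 0 * g 1 0 * X.2.2 + g 0 1 * g 1 1 * X.1,
    g 0 0 ^ 2 * X.2.2 + g 0 1 ^ 2 * X.1)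

/-- a field automorphism on the triples -/
def fm (φ : K ≃+* K) (X : K × K × K) : K × K × K := (φ X.1, φ X.2.1, φ X.2.2)

theorem actM_add (g : Matrix (Fin 2) (Fin 2) K) (X Y : K × K × K) : actM g (X + Y) = actM g X + actM g Y := by
  unfold actM
  ext <;> simp only [_root_.Fin.isValue, _root_.Prod.snd_add, _root_.Prod.fst_add, _root_.Prod.mk_add_mk] <;> ring

theorem actM_one (X : K × K × K) : actM (1 : Matrix (Fin 2) (Fin 2) K) X = X := by
  unfold actM
  ext <;> simp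

theorem actM_mul [CharP K 2] (g h : Matrix (Fin 2) (Fin 2) K) (X : K × K × K) :
    actM (g * h) X = actM g (actM h X) := by
  have h2 : (2 : K) = 0 := CharTwo.two_eq_zero
  obtain ⟨u, v, w⟩ := X
  unfold actM
  simp only [Matrix.mul_apply, Fin.sum_univ_two]
  refine Prod.ext ?_ (Prod.ext ?_ ?_)
  · simp only
    linear_combination (g 1 0 * h 0 0 * g 1 1 * h 1 0 * w + g 1 0 * h 0 1 * g 1 1 * h 1 1 * u) * h2
  · simp only
    linear_combination (g 0 0 * h 0 0 * g 1 0 * h 0 1 * v + g 0 1 * h 1 0 * g 1 1 * h 1 1 * v) * h2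
  · simp only
    linear_combination (g 0 0 * h 0 0 * g 0 1 * h 1 0 * w + g 0 0 * h 0 1 * g 0 1 * h 1 1 * u) * h2

theorem fm_actM (φ : K ≃+* K) (g : Matrix (Fin 2) (Fin 2) K) (X : K × K × K) :
    fm φ (actM g X) = actM (g.map φ) (fm φ X) := by
  unfold fm actM
  simp only [_root_.Fin.isValue, _root_.map_add, _root_.map_mul, _root_.map_pow, _root_.Matrix.map_apply]

theorem fm_add (φ : K ≃+* K) (X Y : K × K × K) : fm φ (X + Y) = fm φ X + fm φ Y := by
  unfold fm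
  ext <;> simp only [_root_.Prod.fst_add, _root_.map_add, _root_.Prod.mk_add_mk, _root_.Prod.snd_add]

theorem fm_symm (φ : K ≃+* K) (X : K × K × K) : fm φ (fm φ.symm X) = X := by
  unfold fm
  simp

theorem actM_inj [CharP K 2] {g h : _root_.Matrix.SpecialLinearGroup (Fin 2) K}
    (H : ∀ X, actM (g : Matrix (Fin 2) (Fin 2) K) X = actM (h : Matrix (Fin 2) (Fin 2) K) X) : g = h := by
  have h1 := H (0, 0, 1)
  have h2 := H (1, 0, 0)
  unfold actM at h1 h2
  simp only [mul_zero, mul_one, add_zero, zero_add, Prod.mk.injEq] at h1 h2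
  apply Subtype.ext
  ext i j
  fin_cases i <;> fin_cases j
  · exact CharTwo.sq_injective h1.2.2
  · exact CharTwo.sq_injective h2.2.2
  · exact CharTwo.sq_injective h1.1
  · exact CharTwo.sq_injective h2.1

/-! ### additive maps commuting with `SL₂(K)` -/

theorem exists_sq_eq [Finite K] [CharP K 2] (c : K) : ∃ m : K, m ^ 2 = c := by
  obtain ⟨m, hm⟩ := (Finite.injective_iff_surjective.1 (CharTwo.sq_injective (R := K))) c
  exact ⟨m, hm⟩

/-- an additive map commuting with `SL₂(K)` is a scalar -/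
theorem scalar_of_comm [Finite K] [CharP K 2] (h4 : ∃ l : K, l ≠ 0 ∧ l ≠ 1) (d : K × K × K → K × K × K)
    (hadd : ∀ X Y, d (X + Y) = d X + d Y)
    (hc : ∀ (g : _root_.Matrix.SpecialLinearGroup (Fin 2) K) X, d (actM (g : Matrix (Fin 2) (Fin 2) K) X) =
      actM (g : Matrix (Fin 2) (Fin 2) K) (d X)) :
    ∃ c : K, ∀ u v w : K, d (u, v, w) = (c * u, c * v, c * w) := by
  have h2 : ∀ z : K, z + z = 0 := CharTwo.add_self_eq_zero
  -- the torus
  have ht : ∀ l : K, l ≠ 0 → ∀ X, d (l⁻¹ ^ 2 * X.1, X.2.1, l ^ 2 * X.2.2) =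
      (l⁻¹ ^ 2 * (d X).1, (d X).2.1, l ^ 2 * (d X).2.2) := by
    intro l hl X
    have h := hc ⟨!![l, 0; 0, l⁻¹], by simp [Matrix.det_fin_two, hl]⟩ X
    unfold actM at h
    simpa only [hl, _root_.inv_pow, _root_.Fin.isValue, _root_.Matrix.of_apply, _root_.Matrix.cons_val', _root_.Matrix.cons_val_zero, _root_.Matrix.cons_val_fin_one, _root_.Matrix.cons_val_one, _root_.ne_eq, _root_.OfNat.ofNat_ne_zero, _root_.not_false_eq_true, _root_.zero_pow, _root_.MulZeroClass.zero_mul, _root_.zero_add, _root_.mul_inv_cancel₀, _root_.MulZeroClass.mul_zero, _root_.add_zero, _root_.one_mul] using h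
  have hup : ∀ r : K, ∀ X, d (X.1, X.2.1 + r * X.1, X.2.2 + r ^ 2 * X.1) =
      ((d X).1, (d X).2.1 + r * (d X).1, (d X).2.2 + r ^ 2 * (d X).1) := by
    intro r X
    have h := hc ⟨!![1, r; 0, 1], by simp [Matrix.det_fin_two]⟩ X
    unfold actM at h
    simpa using h
  have hlo : ∀ s : K, ∀ X, d (s ^ 2 * X.2.2 + X.1, X.2.1 + s * X.2.2, X.2.2) =
      (s ^ 2 * (d X).2.2 + (d X).1, (d X).2.1 + s * (d X).2.2, (d X).2.2) := by
    intro s X
    have h := hc ⟨!![1, 0; s, 1], by simp [Matrix.det_fin_two]⟩ X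
    unfold actM at h
    simpa using h
  have hd0 : d 0 = 0 := by
    have h := hadd 0 0
    rw [add_zero] at h
    exact left_eq_add.1 h
  obtain ⟨l, hl0, hl1⟩ := h4
  have hl2 : l ^ 2 ≠ 1 := by
    intro h
    apply hl1
    have h3 : (l - 1) ^ 2 = 0 := by
      have h4 := h2 1
      have h5 := h2 l
      linear_combination h + h4 - h5
    have h4 := pow_eq_zero_iff (two_ne_zero) |>.1 h3
    exact sub_eq_zero.1 h4
  have hl3 : l⁻¹ ^ 2 ≠ 1 := by
    intro h
    apply hl2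
    rw [inv_pow, inv_eq_one] at h
    exact h
  -- the three coordinate subgroups
  have d2 : ∀ v : K, ∃ b : K, d (0, v, 0) = (0, b, 0) := by
    intro v
    have h := ht l hl0 (0, v, 0)
    simp only [mul_zero] at h
    rw [Prod.ext_iff, Prod.ext_iff] at h
    obtain ⟨h1, -, h3⟩ := h
    simp only at h1 h3
    refine ⟨(d (0, v, 0)).2.1, Prod.ext ?_ (Prod.ext rfl ?_)⟩
    · by_contra hne
      apply hl3
      have h5 : (l⁻¹ ^ 2 - 1) * (d (0, v, 0)).1 = 0 := by linear_combination -h1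
      rcases mul_eq_zero.1 h5 with h6 | h6
      · exact sub_eq_zero.1 h6
      · exact absurd h6 hne
    · by_contra hne
      apply hl2
      have h5 : (l ^ 2 - 1) * (d (0, v, 0)).2.2 = 0 := by linear_combination -h3
      rcases mul_eq_zero.1 h5 with h6 | h6
      · exact sub_eq_zero.1 h6
      · exact absurd h6 hne
  have d1 : ∀ u : K, (d (u, 0, 0)).2.2 = 0 := by
    intro u
    have h := hlo 1 (u, 0, 0)
    simp only [mul_zero, one_pow, one_mul, zero_add, add_zero] at h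
    rw [Prod.ext_iff] at h
    have h1 := h.1
    simp only at h1
    exact left_eq_add.1 (by rw [add_comm] at h1; exact h1)
  have d3 : ∀ w : K, (d (0, 0, w)).1 = 0 := by
    intro w
    have h := hup 1 (0, 0, w)
    simp only [mul_zero, one_pow, one_mul, add_zero] at h
    rw [Prod.ext_iff, Prod.ext_iff] at h
    have h1 := h.2.2
    simp only at h1
    exact left_eq_add.1 h1
  -- the second coordinate
  have e1 : ∀ u : K, (d (u, 0, 0)).2.1 = 0 := by
    have hk : ∀ x : K, x ≠ 0 → (d (x, 0, 0)).2.1 = (d (1, 0, 0)).2.1 := by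
      intro x hx
      obtain ⟨m, hm⟩ := exists_sq_eq x
      have hm0 : m ≠ 0 := by rintro rfl; apply hx; rw [← hm]; ring
      have h := ht m⁻¹ (inv_ne_zero hm0) (1, 0, 0)
      simp only [inv_inv, mul_one, mul_zero, hm] at h
      rw [h]
    have hs : (d (1, 0, 0)).2.1 = 0 := by
      have h5 : l + 1 ≠ 0 := by
        intro h6
        apply hl1
        have := h2 1
        linear_combination h6 - this
      have h7 : d (l + 1, 0, 0) = d (l, 0, 0) + d (1, 0, 0) := by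
        rw [← hadd]
        simp
      have h8 := hk _ h5
      rw [h7, Prod.snd_add, Prod.fst_add, hk l hl0] at h8
      exact left_eq_add.1 h8.symm
    intro u
    by_cases hu : u = 0
    · subst hu
      have : ((0 : K), (0 : K), (0 : K)) = 0 := rfl
      rw [this, hd0]; rfl
    · rw [hk u hu, hs]
  have e3 : ∀ w : K, (d (0, 0, w)).2.1 = 0 := by
    have hk : ∀ x : K, x ≠ 0 → (d (0, 0, x)).2.1 = (d (0, 0, 1)).2.1 := by
      intro x hx
      obtain ⟨m, hm⟩ := exists_sq_eq x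
      have hm0 : m ≠ 0 := by rintro rfl; apply hx; rw [← hm]; ring
      have h := ht m hm0 (0, 0, 1)
      simp only [mul_one, mul_zero, hm] at h
      rw [h]
    have hs : (d (0, 0, 1)).2.1 = 0 := by
      have h5 : l + 1 ≠ 0 := by
        intro h6
        apply hl1
        have := h2 1
        linear_combination h6 - this
      have h7 : d (0, 0, l + 1) = d (0, 0, l) + d (0, 0, 1) := by
        rw [← hadd]
        simp
      have h8 := hk _ h5
      rw [h7, Prod.snd_add, Prod.fst_add, hk l hl0] at h8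
      exact left_eq_add.1 h8.symm
    intro u
    by_cases hu : u = 0
    · subst hu
      have : ((0 : K), (0 : K), (0 : K)) = 0 := rfl
      rw [this, hd0]; rfl
    · rw [hk u hu, hs]
  -- the first coordinate
  set c := (d (1, 0, 0)).1 with hcdef
  have f1 : ∀ u : K, d (u, 0, 0) = (c * u, 0, 0) := by
    intro u
    refine Prod.ext ?_ (Prod.ext (e1 u) (d1 u))
    by_cases hu : u = 0
    · subst hu
      have : ((0 : K), (0 : K), (0 : K)) = 0 := rfl
      rw [this, hd0]; simp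
    · obtain ⟨m, hm⟩ := exists_sq_eq u
      have hm0 : m ≠ 0 := by rintro rfl; apply hu; rw [← hm]; ring
      have h := ht m⁻¹ (inv_ne_zero hm0) (1, 0, 0)
      simp only [inv_inv, mul_one, mul_zero, hm] at h
      rw [h]
      simp only
      rw [mul_comm]
  have hsum : ∀ u v w : K, d (u, v, w) = d (u, 0, 0) + d (0, v, 0) + d (0, 0, w) := by
    intro u v w
    rw [← hadd, ← hadd]
    simp
  have f2 : ∀ x : K, d (0, x, 0) = (0, c * x, 0) ∧ d (0, 0, x) = (0, 0, c * x) := by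
    have key : ∀ u : K, ∀ r : K, d (0, r * u, 0) + d (0, 0, r ^ 2 * u) = (0, r * (c * u), r ^ 2 * (c * u)) := by
      intro u r
      have h := hup r (u, 0, 0)
      simp only [zero_add] at h
      rw [f1 u, hsum, f1 u] at h
      simp only [zero_add] at h
      have h3 : d (0, r * u, 0) + d (0, 0, r ^ 2 * u) =
          ((c * u, r * (c * u), r ^ 2 * (c * u)) : K × K × K) - (c * u, 0, 0) := by
        rw [← h]; abel
      rw [h3]
      simp
    intro x
    obtain ⟨b, hb⟩ := d2 x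
    have h := key x 1
    simp only [one_mul, one_pow] at h
    rw [Prod.ext_iff, Prod.ext_iff] at h
    obtain ⟨-, h1, h3⟩ := h
    rw [Prod.snd_add, Prod.fst_add, e3, hb] at h1
    rw [Prod.snd_add, Prod.snd_add, hb] at h3
    simp only [add_zero, zero_add] at h1 h3
    exact ⟨by rw [hb, h1], Prod.ext (d3 x) (Prod.ext (e3 x) h3)⟩
  refine ⟨c, fun u v w => ?_⟩
  rw [hsum, f1, (f2 v).1, (f2 w).2]
  simp

/-- **additive automorphisms of `K³` normalising `SL₂(K)`** -/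
theorem NE [Finite K] [CharP K 2] (h4 : ∃ l : K, l ≠ 0 ∧ l ≠ 1) (γ : K × K × K → K × K × K)
    (hbij : Function.Bijective γ) (hadd : ∀ X Y, γ (X + Y) = γ X + γ Y)
    (h : ∀ g : _root_.Matrix.SpecialLinearGroup (Fin 2) K, ∃ g1 : _root_.Matrix.SpecialLinearGroup (Fin 2) K,
      ∀ X, γ (actM (g : Matrix (Fin 2) (Fin 2) K) X) = actM (g1 : Matrix (Fin 2) (Fin 2) K) (γ X)) :
    ∃ (g : GL (Fin 2) K) (φ : K ≃+* K), ∀ X, γ X = actM (g : Matrix (Fin 2) (Fin 2) K) (fm φ X) := by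
  classical
  choose σ hσ using h
  have hmul : ∀ g k, σ (g * k) = σ g * σ k := by
    intro g k
    apply actM_inj
    intro Y
    obtain ⟨X, rfl⟩ := hbij.2 Y
    rw [← hσ]
    show γ (actM (g.1 * k.1) X) = actM ((σ g).1 * (σ k).1) (γ X)
    rw [actM_mul, actM_mul, hσ, hσ]
  have hinj : Function.Injective σ := by
    intro g k hgk
    apply actM_inj
    intro X
    apply hbij.1
    rw [hσ, hσ, hgk]
  have : Finite (_root_.Matrix.SpecialLinearGroup (Fin 2) K) := inferInstance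
  let α : MulAut (_root_.Matrix.SpecialLinearGroup (Fin 2) K) :=
    MulEquiv.ofBijective (MonoidHom.mk' σ hmul) ⟨hinj, Finite.injective_iff_surjective.1 hinj⟩
  obtain ⟨a, φ, hα⟩ := Cfsg.Agent.Lib.AutSL2Out.exists_eq α
  have hσ2 : ∀ g, (σ g : Matrix (Fin 2) (Fin 2) K) = a.1 * (g.1.map φ) * a⁻¹.1 := by
    intro g
    have h1 : σ g = α g := rfl
    rw [h1, hα]
    rfl
  have ha1 : a⁻¹.1 * a.1 = 1 := by rw [← Units.val_mul, inv_mul_cancel, Units.val_one]
  have ha2 : a.1 * a⁻¹.1 = 1 := by rw [← Units.val_mul, mul_inv_cancel, Units.val_one]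
  let d : K × K × K → K × K × K := fun X => fm φ.symm (actM a⁻¹.1 (γ X))
  have hγ : ∀ X, γ X = actM a.1 (fm φ (d X)) := by
    intro X
    show γ X = actM a.1 (fm φ (fm φ.symm (actM a⁻¹.1 (γ X))))
    rw [fm_symm, ← actM_mul, ha2, actM_one]
  obtain ⟨c, hc⟩ := scalar_of_comm h4 d (fun X Y => by
      show fm φ.symm (actM a⁻¹.1 (γ (X + Y))) = _
      rw [hadd, actM_add, fm_add]) (fun g X => by
      show fm φ.symm (actM a⁻¹.1 (γ (actM g.1 X))) = actM g.1 (fm φ.symm (actM a⁻¹.1 (γ X)))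
      rw [hσ, ← actM_mul, hσ2, ← Matrix.mul_assoc, ← Matrix.mul_assoc, ha1, Matrix.one_mul, actM_mul, fm_actM]
      congr 1
      ext i j
      simp)
  have hc0 : c ≠ 0 := by
    rintro rfl
    have h1 : γ (1, 0, 0) = γ (0, 0, 0) := by
      rw [hγ, hγ, hc, hc]
      simp
    have h2 := hbij.1 h1
    simp at h2
  obtain ⟨m, hm⟩ := exists_sq_eq (φ c)
  have hm0 : m ≠ 0 := by
    rintro rfl
    apply hc0
    have : φ c = 0 := by rw [← hm]; ring
    exact (map_eq_zero φ).1 this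
  refine ⟨a * (Matrix.GeneralLinearGroup.mkOfDetNeZero !![m, 0; 0, m] (by simp [Matrix.det_fin_two, hm0])), φ,
    fun X => ?_⟩
  obtain ⟨u, v, w⟩ := X
  rw [hγ, hc, Units.val_mul, actM_mul]
  congr 1
  show fm φ (c * u, c * v, c * w) = actM !![m, 0; 0, m] (fm φ (u, v, w))
  unfold fm actM
  simp only [map_mul]
  refine Prod.ext ?_ (Prod.ext ?_ ?_)
  · show φ c * φ u = (0 : K) ^ 2 * φ w + m ^ 2 * φ u
    rw [hm]; ring
  · show φ c * φ v = (m * m + 0 * 0) * φ v + m * 0 * φ w + 0 * m * φ u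
    rw [← hm]; ring
  · show φ c * φ w = m ^ 2 * φ w + (0 : K) ^ 2 * φ u
    rw [hm]; ring

/-- the action of `SL₂(K)` on the triples, explicitly -/
theorem actM_sl [CharP K 2] (g : _root_.Matrix.SpecialLinearGroup (Fin 2) K) (u v w : K) :
    actM (g : Matrix (Fin 2) (Fin 2) K) (u, v, w) =
      (g.1 1 0 ^ 2 * w + g.1 1 1 ^ 2 * u, v + g.1 0 0 * g.1 1 0 * w + g.1 0 1 * g.1 1 1 * u,
        g.1 0 0 ^ 2 * w + g.1 0 1 ^ 2 * u) := by
  have h2 : (2 : K) = 0 := CharTwo.two_eq_zero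
  have h1 : g.1 0 0 * g.1 1 1 + g.1 0 1 * g.1 1 0 = 1 := by
    have h := g.2
    rw [Matrix.det_fin_two] at h
    linear_combination h + (g.1 0 1 * g.1 1 0) * h2
  show (_, (g.1 0 0 * g.1 1 1 + g.1 0 1 * g.1 1 0) * v + _ + _, _) = _
  rw [h1, one_mul]

/-- the same with `4 ≤ |K|` -/
theorem NE_card [Fintype K] [CharP K 2] (h4 : 4 ≤ Fintype.card K) (γ : K × K × K ≃+ K × K × K)
    (h : ∀ g : _root_.Matrix.SpecialLinearGroup (Fin 2) K, ∃ g1 : _root_.Matrix.SpecialLinearGroup (Fin 2) K,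
      ∀ X, γ (actM (g : Matrix (Fin 2) (Fin 2) K) X) = actM (g1 : Matrix (Fin 2) (Fin 2) K) (γ X)) :
    ∃ (g : GL (Fin 2) K) (φ : K ≃+* K), ∀ X, γ X = actM (g : Matrix (Fin 2) (Fin 2) K) (fm φ X) := by
  classical
  refine NE ?_ γ γ.bijective (map_add γ) h
  by_contra hne
  push Not at hne
  have h1 : Finset.univ ⊆ ({0, 1} : Finset K) := by
    intro l _
    rw [Finset.mem_insert, Finset.mem_singleton]
    by_cases hl : l = 0
    · exact Or.inl hl
    · exact Or.inr (hne l hl)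
  have h2 := Finset.card_le_card h1
  rw [Finset.card_univ] at h2
  have h3 : ({0, 1} : Finset K).card ≤ 2 := Finset.card_le_two
  omega

end Cfsg.Agent.H311.SP
end

-- part: H869/SP/Gam
section
/-!
# S5175, SP1: the automizer of `V`; the interface theorem
-/

set_option autoImplicit false

namespace Cfsg.Agent.H869.SP

open Cfsg Cfsg.FusionSystem Cfsg.Agent.H756.HM Cfsg.Agent.H802 Cfsg.Agent.H124.SP Cfsg.Agent.H311.SP
open Matrix (SpecialLinearGroup)

universe u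

variable {Ω : Type u} [Group Ω] {S : Subgroup Ω}
  {F : FusionSystem S} {K : Type} [Field K] [Fintype K] {V T : Subgroup Ω} {x : Ω}

/-- transport of a map on `T` back to `V` by an element `y` swapping `V` and `W` -/
theorem exists_back' [Finite S] (c : Conf F K V T x) {φ : T →* Ω} (hφ : φ ∈ F.Hom T)
    (hW : ∀ t : T, (t : Ω) ∈ cj x V → φ t ∈ cj x V) {y : Ω} (hy : y ∈ S) (h1 : ∀ v ∈ V, y * v * y⁻¹ ∈ cj x V)
    (h2 : ∀ v ∈ cj x V, y⁻¹ * v * y ∈ V) :
    ∃ α ∈ F.autGroup V, ∀ (v : V) (h : y * (v : Ω) * y⁻¹ ∈ T), y * ((α v : V) : Ω) * y⁻¹ = φ ⟨y * v * y⁻¹, h⟩ := by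
  have hfinV : Finite V := finite_of_le c.V_le
  have h0 : conjHom V y ∈ F.Hom V := F.conj_mem c.V_le hy
  obtain ⟨χ, hχ, hχe⟩ := exists_comp h0 hφ (fun v => W_le_T c (h1 v v.2))
  have h1' : conjHom (cj x V) y⁻¹ ∈ F.Hom (cj x V) :=
    F.conj_mem ((W_le_T c).trans (T_le c)) (S.inv_mem hy)
  have hχW : ∀ v, χ v ∈ cj x V := fun v => by
    rw [hχe]
    exact hW _ (h1 v v.2)
  obtain ⟨χ', hχ', hχe'⟩ := exists_comp hχ h1' hχW
  have hr : χ'.range = V := range_eq_of_mapsTo hχ' (fun v => by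
    rw [hχe']
    show y⁻¹ * χ v * y⁻¹⁻¹ ∈ V
    rw [inv_inv]
    exact h2 _ (hχW v))
  obtain ⟨α, hα, hαe⟩ := exists_aut hχ' hr
  refine ⟨α, hα, fun v h => ?_⟩
  rw [hαe, hχe']
  show y * (y⁻¹ * χ v * y⁻¹⁻¹) * y⁻¹ = _
  rw [hχe]
  show y * (y⁻¹ * φ ⟨y * v * y⁻¹, _⟩ * y⁻¹⁻¹) * y⁻¹ = _
  group

section coords
omit [Fintype K]

variable {θ : K ≃+* K} (co : SpCo S T V K θ)

/-- the point of `V` with given coordinates -/
def pt (X : K × K × K) : V := ⟨co.xb X.1 * co.xc X.2.1 * co.xd X.2.2, (co.hV _).2 ⟨_, _, _, rfl⟩⟩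

theorem pt_surj : Function.Surjective (pt co) := by
  rintro ⟨g, hg⟩
  obtain ⟨u, v, w, he⟩ := (co.hV g).1 hg
  exact ⟨(u, v, w), Subtype.ext he.symm⟩

theorem pt_add (X Y : K × K × K) : pt co (X + Y) = pt co X * pt co Y := by
  apply Subtype.ext
  show co.xb (X.1 + Y.1) * co.xc (X.2.1 + Y.2.1) * co.xd (X.2.2 + Y.2.2) =
    (co.xb X.1 * co.xc X.2.1 * co.xd X.2.2) * (co.xb Y.1 * co.xc Y.2.1 * co.xd Y.2.2)
  rw [co.xb_add, co.xc_add, co.xd_add]
  calc co.xb X.1 * co.xb Y.1 * (co.xc X.2.1 * co.xc Y.2.1) * (co.xd X.2.2 * co.xd Y.2.2)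
      = co.xb X.1 * (co.xb Y.1 * co.xc X.2.1) * co.xc Y.2.1 * co.xd X.2.2 * co.xd Y.2.2 := by group
    _ = co.xb X.1 * (co.xc X.2.1 * co.xb Y.1) * co.xc Y.2.1 * co.xd X.2.2 * co.xd Y.2.2 := by rw [co.bc]
    _ = co.xb X.1 * co.xc X.2.1 * co.xb Y.1 * (co.xc Y.2.1 * co.xd X.2.2) * co.xd Y.2.2 := by group
    _ = co.xb X.1 * co.xc X.2.1 * co.xb Y.1 * (co.xd X.2.2 * co.xc Y.2.1) * co.xd Y.2.2 := by rw [co.cd]
    _ = co.xb X.1 * co.xc X.2.1 * (co.xb Y.1 * co.xd X.2.2) * co.xc Y.2.1 * co.xd Y.2.2 := by group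
    _ = co.xb X.1 * co.xc X.2.1 * (co.xd X.2.2 * co.xb Y.1) * co.xc Y.2.1 * co.xd Y.2.2 := by rw [co.bd]
    _ = _ := by group

theorem xa_zero : co.xa 0 = 1 := by
  have := co.xa_add 0 0
  rw [add_zero] at this
  exact (mul_eq_left.1 this.symm)

theorem xb_zero : co.xb 0 = 1 := by
  have := co.xb_add 0 0
  rw [add_zero] at this
  exact (mul_eq_left.1 this.symm)

theorem xc_zero : co.xc 0 = 1 := by
  have := co.xc_add 0 0
  rw [add_zero] at this
  exact (mul_eq_left.1 this.symm)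

theorem xd_zero : co.xd 0 = 1 := by
  have := co.xd_add 0 0
  rw [add_zero] at this
  exact (mul_eq_left.1 this.symm)

theorem pt_inj : Function.Injective (pt co) := by
  have h0 : ∀ X, pt co X = 1 → X = 0 := by
    intro X hX
    have h1 : co.xb X.1 * co.xc X.2.1 * co.xd X.2.2 = 1 := congrArg Subtype.val hX
    obtain ⟨-, h2, h3, h4⟩ := co.inj 0 X.1 X.2.1 X.2.2 (by rw [xa_zero, one_mul, h1])
    exact Prod.ext h2 (Prod.ext h3 h4)
  intro X Y hXY
  have h1 := pt_add co (X - Y) Y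
  rw [sub_add_cancel, hXY] at h1
  exact sub_eq_zero.1 (h0 _ (right_eq_mul.1 h1))

theorem isAct_iff (g : GL (Fin 2) K) (φ : K ≃+* K) (α : MulAut V) :
    IsAct co g φ α ↔ ∀ X, α (pt co X) = pt co (act g φ X) := by
  constructor
  · intro h X
    apply Subtype.ext
    exact h X.1 X.2.1 X.2.2 _
  · intro h u v w hm
    exact congrArg Subtype.val (h (u, v, w))

theorem act_eq_actM (g : GL (Fin 2) K) (φ : K ≃+* K) (X : K × K × K) :
    act g φ X = actM (g : Matrix (Fin 2) (Fin 2) K) (fm φ X) := by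
  unfold act actM fm
  refine Prod.ext rfl (Prod.ext ?_ rfl)
  show _ = _
  simp only
  ring

theorem fm_one (X : K × K × K) : fm (1 : K ≃+* K) X = X := rfl

theorem slAct_iff [CharP K 2] (g : _root_.Matrix.SpecialLinearGroup (Fin 2) K) (e : MulAut V) :
    SlAct co g e ↔ ∀ X, e (pt co X) = pt co (actM (g : Matrix (Fin 2) (Fin 2) K) X) := by
  constructor
  · intro h X
    apply Subtype.ext
    obtain ⟨u, v, w⟩ := X
    rw [actM_sl]
    have h1 := h u v w ((co.hV _).2 ⟨_, _, _, rfl⟩)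
    rw [← add_assoc] at h1
    exact h1
  · intro h u v w hm
    have h1 := congrArg Subtype.val (h (u, v, w))
    rw [actM_sl] at h1
    rw [← add_assoc]
    exact h1

end coords

/-- **SP1**: the interface theorem. -/
theorem sp1 [Finite S] (hS : IsPGroup 2 S) (hF : F.IsSaturated 2) (b : Big F K V T x)
    (hD : Nat.card (fixS V b.E) = Fintype.card K) (hcom : comS V b.E = V) :
    ∃ k : ℕ, 1 ≤ k ∧ Fintype.card K = 2 ^ (2 * k + 1) ∧ ∃ θ : K ≃+* K, (∀ t, θ (θ t) = t ^ 2) ∧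
      ∃ (co : SpCo S T V K θ) (Φ : Subgroup (K ≃+* K)),
        ∀ α : MulAut V, α ∈ F.autGroup V ↔ ∃ g : GL (Fin 2) K, ∃ φ ∈ Φ, IsAct co g φ α := by
  classical
  have hch : CharP K 2 := charTwo_of b.toConf
  set c : Conf F K V T x := b.toConf with hcdef
  have hT : T = V ⊔ cj x V := b.T_eq
  have hfinV : Finite V := finite_of_le c.V_le
  obtain ⟨θ, hθ, co, fr', ⟨t0, ht0, hyt⟩, hxc, hxd, hxa, hxact, hsl⟩ := exists_co hS hF b hD hcom
  -- parity
  have hodd := odd_of_theta c.hK θ hθ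
  obtain ⟨k, hk⟩ := hodd
  have hk1 : 1 ≤ k := by
    by_contra hk0
    have : k = 0 := by omega
    subst this
    have h4 := b.q4
    rw [c.hK, hk] at h4
    norm_num at h4
  refine ⟨k, hk1, by rw [← hk]; exact c.hK, θ, hθ, co, ?_⟩
  set M : _root_.Matrix.SpecialLinearGroup (Fin 2) K → MulAut V := fun g => (fr'.ρ.symm (fr g) : MulAut V) with hM
  have hMP : ∀ g X, M g (pt co X) = pt co (actM (g : Matrix (Fin 2) (Fin 2) K) X) := fun g =>
    (slAct_iff co g (M g)).1 (hsl g)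
  have hME : ∀ g, M g ∈ c.E := fun g => (fr'.ρ.symm (fr g)).2
  have hMF : ∀ g, M g ∈ F.autGroup V := fun g => c.E_le (hME g)
  have hEM : ∀ e ∈ c.E, ∃ g, M g = e := by
    intro e he
    obtain ⟨g, hg⟩ := fr_surjective (fr'.ρ ⟨e, he⟩)
    refine ⟨g, ?_⟩
    show ((fr'.ρ.symm (fr g) : c.E) : MulAut V) = e
    rw [hg, MulEquiv.symm_apply_apply]
  -- normal form
  have hnf : ∀ α ∈ F.autGroup V, ∃ (g : GL (Fin 2) K) (φ : K ≃+* K), IsAct co g φ α := by
    intro α hα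
    set P : K × K × K ≃ V := Equiv.ofBijective (pt co) ⟨pt_inj co, pt_surj co⟩ with hP
    have hPe : ∀ X, P X = pt co X := fun _ => rfl
    let γ : K × K × K ≃+ K × K × K :=
      { toFun := fun X => P.symm (α (P X))
        invFun := fun X => P.symm (α.symm (P X))
        left_inv := fun X => by simp
        right_inv := fun X => by simp
        map_add' := fun X Y => by
          apply P.injective
          rw [Equiv.apply_symm_apply, hPe, hPe, pt_add, pt_add, map_mul, ← hPe (P.symm _), ← hPe (P.symm _),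
            Equiv.apply_symm_apply, Equiv.apply_symm_apply]
          rfl }
    have hγ : ∀ X, pt co (γ X) = α (pt co X) := fun X => P.apply_symm_apply _
    obtain ⟨g, φ, h⟩ := NE_card b.q4 γ (by
      intro g
      obtain ⟨g1, hg1⟩ := hEM _ (b.E_nor α hα (M g) (hME g))
      refine ⟨g1, fun X => ?_⟩
      apply pt_inj co
      rw [hγ, ← hMP, ← hMP, hγ, hg1]
      simp only [_root_.MulAut.mul_apply, _root_.MulAut.inv_apply, _root_.MulEquiv.symm_apply_apply])
    refine ⟨g, φ, (isAct_iff co g φ α).2 fun X => ?_⟩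
    rw [act_eq_actM, ← h, hγ]
  -- all of `GL₂`
  have hyi : co.y⁻¹ = co.y := inv_eq_of_mul_eq_one_left co.y_sq
  have hyV : ∀ v ∈ V, co.y * v * co.y⁻¹ ∈ cj x V := by
    intro v hv
    rw [hyt]
    have : t0 * x * v * (t0 * x)⁻¹ = t0 * (x * v * x⁻¹) * t0⁻¹ := by group
    rw [this]
    exact T_conjW c ht0 (cj_mem hv)
  have hyW : ∀ v ∈ cj x V, co.y⁻¹ * v * co.y ∈ V := by
    intro v hv
    have h1 : co.y * v * co.y⁻¹ ∈ V := by
      rw [hyt]
      have : t0 * x * v * (t0 * x)⁻¹ = t0 * (x * v * x⁻¹) * t0⁻¹ := by group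
      rw [this]
      exact T_conj c ht0 (x_conjW c hv)
    rwa [hyi] at h1 ⊢
  have hgl1 : ∀ r : K, r ≠ 0 → ∃ (g : GL (Fin 2) K) (α : MulAut V), α ∈ F.autGroup V ∧ IsAct co g 1 α ∧
      g 0 0 * g 1 1 + g 0 1 * g 1 0 = r := by
    intro r hr
    -- `r = θ⁻¹ (ρ²)`
    obtain ⟨ρ, hρ⟩ : ∃ ρ : K, ρ ^ 2 = θ r := exists_sq_eq (θ r)
    have hρ0 : ρ ≠ 0 := by
      rintro rfl
      apply hr
      have h0 : θ r = 0 := by rw [← hρ]; simp
      exact (map_eq_zero θ).1 h0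
    obtain ⟨φ, hφ, h1, h2, -⟩ := exists_lift_dg hS hF hT fr' (ρ ^ 2) (pow_ne_zero 2 hρ0)
    have hW := lift_W hT fr' hD hφ (fun v => by rw [h1]; exact Subtype.coe_prop _) h2
    obtain ⟨α, hα, hαe⟩ := exists_back' c hφ hW co.y_mem hyV hyW
    obtain ⟨g, ψ, hg⟩ := hnf α hα
    have hg' := (isAct_iff co g ψ α).1 hg
    -- the action on `D`
    have hαD : ∀ v : K, α (pt co (0, v, 0)) = pt co (0, r * v, 0) := by
      intro v
      have e0 : ∀ v : K, ((pt co (0, v, 0) : V) : Ω) = co.xc v := fun v => by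
        show co.xb 0 * co.xc v * co.xd 0 = _
        rw [xb_zero, xd_zero, one_mul, mul_one]
      have e1 : co.y * co.xc v * co.y⁻¹ = co.xd (θ v) := by rw [hyi, co.yc]
      have e3 : ((pt co (0, 0, θ v) : V) : Ω) = co.xd (θ v) := by
        show co.xb 0 * co.xc 0 * co.xd (θ v) = _
        rw [xb_zero, xc_zero, one_mul, one_mul]
      have e1' : co.y * ((pt co (0, v, 0) : V) : Ω) * co.y⁻¹ = ((pt co (0, 0, θ v) : V) : Ω) := by
        rw [e0, e1, e3]
      have e2 := hαe (pt co (0, v, 0)) (by rw [e1']; exact V_le_T c (Subtype.coe_prop _))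
      have e4 : φ ⟨co.y * ((pt co (0, v, 0) : V) : Ω) * co.y⁻¹, by rw [e1']; exact V_le_T c (Subtype.coe_prop _)⟩ =
          (((fr'.ρ.symm (dg (ρ ^ 2) (pow_ne_zero 2 hρ0)) : MulAut V) (pt co (0, 0, θ v)) : V) : Ω) := by
        rw [← h1]
        congr 1
        exact Subtype.ext e1'
      rw [e4, ← fr_dg ρ hρ0] at e2
      have e5 : (fr'.ρ.symm (fr (dg ρ hρ0)) : MulAut V) (pt co (0, 0, θ v)) = pt co (0, 0, ρ ^ 2 * θ v) := by
        have := hMP (dg ρ hρ0) (0, 0, θ v)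
        rw [actM_sl] at this
        rw [hM] at this
        simpa only [_root_.Fin.isValue, _root_.Cfsg.Agent.H869.SP.coe_dg, _root_.Matrix.of_apply, _root_.Matrix.cons_val', _root_.Matrix.cons_val_zero, _root_.Matrix.cons_val_fin_one, _root_.Matrix.cons_val_one, _root_.ne_eq, _root_.OfNat.ofNat_ne_zero, _root_.not_false_eq_true, _root_.zero_pow, _root_.MulZeroClass.zero_mul, _root_.inv_pow, _root_.MulZeroClass.mul_zero, _root_.add_zero] using this
      rw [e5] at e2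
      apply Subtype.ext
      rw [e0]
      have e6 : ((pt co (0, 0, ρ ^ 2 * θ v) : V) : Ω) = co.xd (θ (r * v)) := by
        show co.xb 0 * co.xc 0 * co.xd (ρ ^ 2 * θ v) = _
        rw [xb_zero, xc_zero, one_mul, one_mul, map_mul, hρ]
      rw [e6] at e2
      have e7 : co.y * (co.y * ((α (pt co (0, v, 0)) : V) : Ω) * co.y⁻¹) * co.y⁻¹ =
          ((α (pt co (0, v, 0)) : V) : Ω) := by
        have hy2 := co.y_sq
        calc co.y * (co.y * ((α (pt co (0, v, 0)) : V) : Ω) * co.y⁻¹) * co.y⁻¹ =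
            (co.y * co.y) * ((α (pt co (0, v, 0)) : V) : Ω) * (co.y * co.y)⁻¹ := by group
          _ = _ := by rw [hy2]; group
      rw [← e7, e2, hyi, ← co.yc]
      have hy2 := co.y_sq
      calc co.y * (co.y * co.xc (r * v) * co.y) * co.y = (co.y * co.y) * co.xc (r * v) * (co.y * co.y) := by group
        _ = _ := by rw [hy2]; group
    have hdet : ∀ v : K, (g 0 0 * g 1 1 + g 0 1 * g 1 0) * ψ v = r * v := by
      intro v
      have h3 := hg' (0, v, 0)
      rw [hαD] at h3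
      have h4 := pt_inj co h3
      have h5 := congrArg (fun X : K × K × K => X.2.1) h4
      simp only [act, map_zero, mul_zero, add_zero, zero_add] at h5
      exact h5.symm
    have hr1 : g 0 0 * g 1 1 + g 0 1 * g 1 0 = r := by
      have := hdet 1
      rwa [map_one, mul_one, mul_one] at this
    have hψ : ψ = 1 := by
      apply RingEquiv.ext
      intro v
      have := hdet v
      rw [hr1] at this
      exact mul_left_cancel₀ hr this
    rw [hψ] at hg
    exact ⟨g, α, hα, hg, hr1⟩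
  have hgl : ∀ g : GL (Fin 2) K, ∃ α ∈ F.autGroup V, IsAct co g 1 α := by
    intro g
    have hdet : g 0 0 * g 1 1 + g 0 1 * g 1 0 ≠ 0 := by
      have h1 : (g : Matrix (Fin 2) (Fin 2) K).det ≠ 0 := g.det_ne_zero
      rw [Matrix.det_fin_two, sub_eq_add_neg, CharTwo.neg_eq] at h1
      exact h1
    obtain ⟨g', α, hα, hact, hdet'⟩ := hgl1 _ hdet
    -- `g = s g'` with `s ∈ SL₂`
    have hs : ((g * g'⁻¹ : GL (Fin 2) K) : Matrix (Fin 2) (Fin 2) K).det = 1 := by
      have h1 : (g : Matrix (Fin 2) (Fin 2) K).det = (g' : Matrix (Fin 2) (Fin 2) K).det := by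
        rw [Matrix.det_fin_two, Matrix.det_fin_two, sub_eq_add_neg, sub_eq_add_neg, CharTwo.neg_eq, CharTwo.neg_eq]
        exact hdet'.symm
      have h2 : ((g * g'⁻¹ : GL (Fin 2) K) : Matrix (Fin 2) (Fin 2) K) * (g' : Matrix (Fin 2) (Fin 2) K) = g := by
        rw [← Units.val_mul, inv_mul_cancel_right]
      have h3 := congrArg Matrix.det h2
      rw [Matrix.det_mul, h1] at h3
      exact mul_right_cancel₀ g'.det_ne_zero (by rw [one_mul]; exact h3)
    set s : _root_.Matrix.SpecialLinearGroup (Fin 2) K := ⟨_, hs⟩ with hsdef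
    refine ⟨M s * α, Subgroup.mul_mem _ (hMF s) hα, (isAct_iff co g 1 _).2 fun X => ?_⟩
    rw [MulAut.mul_apply, (isAct_iff co g' 1 α).1 hact, hMP, act_eq_actM, act_eq_actM, fm_one]
    congr 1
    rw [← actM_mul]
    have : (s : Matrix (Fin 2) (Fin 2) K) * (g' : Matrix (Fin 2) (Fin 2) K) = g := by
      show ((g * g'⁻¹ : GL (Fin 2) K) : Matrix (Fin 2) (Fin 2) K) * (g' : Matrix (Fin 2) (Fin 2) K) = g
      rw [← Units.val_mul, inv_mul_cancel_right]
    rw [this]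
  -- the field automorphisms
  have hact1 : ∀ (φ : K ≃+* K) X, act (1 : GL (Fin 2) K) φ X = fm φ X := by
    intro φ X
    rw [act_eq_actM]
    exact actM_one _
  let Φ : Subgroup (K ≃+* K) :=
    { carrier := {φ | ∃ α ∈ F.autGroup V, IsAct co 1 φ α}
      mul_mem' := by
        rintro φ ψ ⟨α, hα, h1⟩ ⟨β, hβ, h2⟩
        refine ⟨α * β, Subgroup.mul_mem _ hα hβ, (isAct_iff co 1 _ _).2 fun X => ?_⟩
        rw [MulAut.mul_apply, (isAct_iff co 1 ψ β).1 h2, (isAct_iff co 1 φ α).1 h1, hact1, hact1, hact1]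
        rfl
      one_mem' := ⟨1, Subgroup.one_mem _, (isAct_iff co 1 _ _).2 fun X => by rw [hact1]; rfl⟩
      inv_mem' := by
        rintro φ ⟨α, hα, h1⟩
        refine ⟨α⁻¹, Subgroup.inv_mem _ hα, (isAct_iff co 1 _ _).2 fun X => ?_⟩
        apply α.injective
        rw [(isAct_iff co 1 φ α).1 h1, hact1, hact1]
        have h3 : fm φ (fm φ⁻¹ X) = X := fm_symm φ X
        rw [h3]
        exact α.apply_symm_apply _ }
  refine ⟨Φ, fun α => ⟨fun hα => ?_, ?_⟩⟩
  · obtain ⟨g, φ, h⟩ := hnf α hα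
    refine ⟨g, φ, ?_, h⟩
    obtain ⟨β, hβ, h2⟩ := hgl g
    refine ⟨β⁻¹ * α, Subgroup.mul_mem _ (Subgroup.inv_mem _ hβ) hα, (isAct_iff co 1 _ _).2 fun X => ?_⟩
    apply β.injective
    rw [(isAct_iff co g 1 β).1 h2, hact1, act_eq_actM, fm_one]
    have h3 : β ((β⁻¹ * α) (pt co X)) = α (pt co X) := by
      rw [MulAut.mul_apply]
      exact β.apply_symm_apply _
    rw [h3, (isAct_iff co g φ α).1 h, act_eq_actM]
  · rintro ⟨g, φ, ⟨β, hβ, h2⟩, h⟩
    obtain ⟨γ, hγ, h3⟩ := hgl g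
    have : α = γ * β := by
      apply MulEquiv.ext
      intro v
      obtain ⟨X, rfl⟩ := pt_surj co v
      rw [(isAct_iff co g φ α).1 h, MulAut.mul_apply, (isAct_iff co 1 φ β).1 h2, (isAct_iff co g 1 γ).1 h3, hact1,
        act_eq_actM, act_eq_actM, fm_one]
    rw [this]
    exact Subgroup.mul_mem _ hγ hβ

end Cfsg.Agent.H869.SP
end

-- part: H869/SP/Asm
section
/-!
# S5175: `StSP` from the group side `StSP2`
-/

set_option autoImplicit false

namespace Cfsg.Agent.H869.SP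

open Cfsg Cfsg.FusionSystem Cfsg.Agent.H756.HM Cfsg.Agent.H124.SP

universe u

theorem stSP_of (h2 : StSP2.{u}) : StSP.{u} := by
  intro Ω _ S _ hS F hF K _ _ V T x b hD hcom hess
  obtain ⟨k, hk, hK, θ, hθ, co, Φ, hΦ⟩ := sp1 hS hF b hD hcom
  exact h2 hS F hF K V T x b hess k hk hK θ hθ co Φ hΦ

end Cfsg.Agent.H869.SP
end

private theorem dce_e7e52d91ebed : _root_.True := by
  try have : _root_.True := by simp only [_root_.Cfsg.Agent.H869.SP.dg.congr_simp]
  try have : _root_.True := by simp only [_root_.Cfsg.Agent.H869.SP.fr.congr_simp]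
  try have : _root_.True := by simp only [_root_.Cfsg.Agent.H869.SP.fr.eq_1]
  try have : _root_.True := by simp only [_root_.Cfsg.Agent.H124.SP.act.eq_1]
  try have : _root_.True := by simp only [_root_.Cfsg.Agent.H869.SP.wy.congr_simp]
  exact _root_.True.intro
end

section
prune_inst 0xf0fcfb8ff82fffdfff7e7ffefbdffc39905fffffdff94b7fe0e1ff0fdf03080dc5fb8d1de010ff0ef7629430b87853f9ffeabfea6bdc7ffffd5ff41ffbee1fe5f7b58851948c340fbc0fff03f07f8e7f000000000000000000000000000000004200000000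

-- part: H880/HM/LinG_mg
section
prune_inst 0x90000000000001000000040000000020040000000a005020000402200022800080005100800080000000000001000000000000000000400000001000080000021000000200000000000000000000000000000000000000000000000000000000
set_option linter.all false
open scoped Cfsg.Agent.FastGrp

-- part: H880/HM/LinA
section
/-!
# S5175, T4/T5 linear part, A (for helper756): additive maps of `K²` normalizing `SL₂(K)` and its upper unitriangular
subgroup, `K` finite of characteristic two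

* `uu c` : the matrix `(1 c; 0 1)`;
* `Nrm τ` : `τ` is an injective additive map normalizing `SL₂(K)` and `U`;
* `Nrm.line` : `τ` maps lines to lines;
* `Nrm.of_quad` : `τ` trivial on the line `C(U)` and modulo it: `τ ∈ U`;
* `Nrm.of_comm` : `τ` of 2-power order commuting with `U`: `τ ∈ U`.
-/

set_option autoImplicit false
set_option linter.unusedSectionVars false

namespace Cfsg.Agent.H880.HM

open Matrix

section Mat

variable {K : Type*} [Field K]

/-- the matrix `(1 c; 0 1)` -/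
def uu (c : K) : _root_.Matrix.SpecialLinearGroup (Fin 2) K := ⟨!![1, c; 0, 1], by simp [Matrix.det_fin_two_of]⟩

/-- the action of `SL₂(K)` on `K²` -/
def sm (m : _root_.Matrix.SpecialLinearGroup (Fin 2) K) (v : Fin 2 → K) : Fin 2 → K := (m : Matrix (Fin 2) (Fin 2) K) *ᵥ v

theorem sm_add (m : _root_.Matrix.SpecialLinearGroup (Fin 2) K) (v w : Fin 2 → K) : sm m (v + w) = sm m v + sm m w :=
  Matrix.mulVec_add _ _ _

theorem sm_zero (m : _root_.Matrix.SpecialLinearGroup (Fin 2) K) : sm m 0 = 0 := Matrix.mulVec_zero _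

theorem sm_smul (m : _root_.Matrix.SpecialLinearGroup (Fin 2) K) (k : K) (v : Fin 2 → K) : sm m (k • v) = k • sm m v :=
  Matrix.mulVec_smul _ _ _

theorem sm_one (v : Fin 2 → K) : sm 1 v = v := by simp [sm]

theorem sm_mul (m n : _root_.Matrix.SpecialLinearGroup (Fin 2) K) (v : Fin 2 → K) : sm (m * n) v = sm m (sm n v) := by
  unfold sm
  rw [Matrix.SpecialLinearGroup.coe_mul, Matrix.mulVec_mulVec]

theorem sm_inv_sm (m : _root_.Matrix.SpecialLinearGroup (Fin 2) K) (v : Fin 2 → K) : sm m⁻¹ (sm m v) = v := by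
  rw [← sm_mul, inv_mul_cancel, sm_one]

theorem sm_sm_inv (m : _root_.Matrix.SpecialLinearGroup (Fin 2) K) (v : Fin 2 → K) : sm m (sm m⁻¹ v) = v := by
  rw [← sm_mul, mul_inv_cancel, sm_one]

theorem sm_inj (m : _root_.Matrix.SpecialLinearGroup (Fin 2) K) {v w : Fin 2 → K} (h : sm m v = sm m w) : v = w := by
  rw [← sm_inv_sm m v, h, sm_inv_sm]

theorem ext_sm {m n : _root_.Matrix.SpecialLinearGroup (Fin 2) K} (h : ∀ v, sm m v = sm n v) : m = n := by
  apply Subtype.ext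
  apply Matrix.ext_of_mulVec_single
  intro i
  exact h _

theorem sm_uu_zero (c : K) (v : Fin 2 → K) : sm (uu c) v 0 = v 0 + c * v 1 := by
  simp [sm, uu, Matrix.mulVec, dotProduct, Fin.sum_univ_two]

theorem sm_uu_one (c : K) (v : Fin 2 → K) : sm (uu c) v 1 = v 1 := by
  simp [sm, uu, Matrix.mulVec, dotProduct, Fin.sum_univ_two]

theorem sm_uu (c : K) (v : Fin 2 → K) : sm (uu c) v = v + ![c * v 1, 0] := by
  funext i
  fin_cases i
  · simp [sm_uu_zero]
  · simp [sm_uu_one]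

theorem uu_zero : (uu 0 : _root_.Matrix.SpecialLinearGroup (Fin 2) K) = 1 := by
  apply ext_sm
  intro v
  rw [sm_uu, sm_one]
  funext i
  fin_cases i <;> simp

theorem uu_add (c d : K) : uu (c + d) = uu c * uu d := by
  apply ext_sm
  intro v
  rw [sm_mul]
  funext i
  fin_cases i
  · simp only [sm_uu_zero, sm_uu_one, _root_.Fin.zero_eta, _root_.Fin.isValue]; ring
  · simp [sm_uu_one]

theorem uu_inj {c d : K} (h : uu c = uu d) : c = d := by
  have h1 := congrArg (fun m => sm m ![0, 1] 0) h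
  simpa [sm_uu_zero] using h1

theorem uu_inv (c : K) : (uu c)⁻¹ = uu (-c) := by
  rw [inv_eq_iff_mul_eq_one, ← uu_add, add_neg_cancel, uu_zero]

/-- the fixed points of `uu c`, `c ≠ 0` -/
theorem fix_uu {c : K} (hc : c ≠ 0) {v : Fin 2 → K} : sm (uu c) v = v ↔ v 1 = 0 := by
  constructor
  · intro h
    have h1 := congrFun h 0
    rw [sm_uu_zero] at h1
    have h2 : c * v 1 = 0 := by linear_combination h1
    exact (mul_eq_zero.1 h2).resolve_left hc
  · intro h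
    rw [sm_uu, h, mul_zero]
    funext i
    fin_cases i <;> simp

theorem smul_e {v : Fin 2 → K} (h : v 1 = 0) : v = v 0 • ![1, 0] := by
  funext i
  fin_cases i <;> simp [h]

/-- `SL₂(K)` is transitive on nonzero vectors -/
theorem exists_sm_e {v : Fin 2 → K} (hv : v ≠ 0) : ∃ m : _root_.Matrix.SpecialLinearGroup (Fin 2) K, sm m ![1, 0] = v := by
  by_cases h : v 0 = 0
  · have h1 : v 1 ≠ 0 := by
      intro h1
      apply hv
      funext i
      fin_cases i
      · exact h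
      · exact h1
    refine ⟨⟨!![v 0, -(v 1)⁻¹; v 1, 0], ?_⟩, ?_⟩
    · rw [Matrix.det_fin_two_of]
      field_simp
      ring
    · funext i
      (revert i; simp only [sm, Matrix.mulVec, dotProduct, Fin.sum_univ_two, _root_.Fin.forall_fin_succ, Fin.isValue, _root_.Matrix.of_apply, _root_.Matrix.cons_val', _root_.Matrix.cons_val_fin_one, _root_.Matrix.cons_val_zero, _root_.mul_one, _root_.Matrix.cons_val_one, _root_.MulZeroClass.mul_zero, _root_.add_zero, _root_.Matrix.cons_val_succ, _root_.Fin.succ_zero_eq_one, _root_.IsEmpty.forall_iff, _root_.and_self])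
  · refine ⟨⟨!![v 0, 0; v 1, (v 0)⁻¹], ?_⟩, ?_⟩
    · rw [Matrix.det_fin_two_of]
      field_simp
      ring
    · funext i
      (revert i; simp only [sm, Matrix.mulVec, dotProduct, Fin.sum_univ_two, _root_.Fin.forall_fin_succ, Fin.isValue, _root_.Matrix.of_apply, _root_.Matrix.cons_val', _root_.Matrix.cons_val_fin_one, _root_.Matrix.cons_val_zero, _root_.mul_one, _root_.Matrix.cons_val_one, _root_.MulZeroClass.mul_zero, _root_.add_zero, _root_.Matrix.cons_val_succ, _root_.Fin.succ_zero_eq_one, _root_.IsEmpty.forall_iff, _root_.and_self])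

/-- an element of `SL₂(K)` fixing `e₁` is unitriangular -/
theorem eq_uu_of_fix {m : _root_.Matrix.SpecialLinearGroup (Fin 2) K} (h : sm m ![1, 0] = ![1, 0]) : ∃ c, m = uu c := by
  have h0 : (m : Matrix (Fin 2) (Fin 2) K) 0 0 = 1 := by
    have h1 := congrFun h 0
    simpa only [sm, Matrix.mulVec, dotProduct, Fin.sum_univ_two, _root_.Fin.isValue, _root_.Matrix.cons_val_zero, _root_.mul_one, _root_.Matrix.cons_val_one, _root_.Matrix.cons_val_fin_one, _root_.MulZeroClass.mul_zero, _root_.add_zero, _root_.Nat.succ_eq_add_one, _root_.Nat.reduceAdd] using h1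
  have h1 : (m : Matrix (Fin 2) (Fin 2) K) 1 0 = 0 := by
    have h1 := congrFun h 1
    simpa [sm, Matrix.mulVec, dotProduct, Fin.sum_univ_two] using h1
  have h2 : (m : Matrix (Fin 2) (Fin 2) K) 1 1 = 1 := by
    have h3 := m.2
    rw [Matrix.det_fin_two, h0, h1] at h3
    linear_combination h3
  refine ⟨(m : Matrix (Fin 2) (Fin 2) K) 0 1, ?_⟩
  apply Subtype.ext
  ext i j
  (revert i j; simp only [uu, h0, h1, h2, _root_.Fin.forall_fin_succ, Fin.isValue, _root_.Matrix.of_apply, _root_.Matrix.cons_val', _root_.Matrix.cons_val_fin_one, _root_.Matrix.cons_val_zero, _root_.Matrix.cons_val_succ, _root_.Fin.succ_zero_eq_one, _root_.IsEmpty.forall_iff, _root_.and_true, _root_.and_self])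

/-- `τ` is an injective additive map normalizing `SL₂(K)` and `U` -/
structure Nrm (τ : (Fin 2 → K) → (Fin 2 → K)) : Prop where
  add : ∀ v w, τ (v + w) = τ v + τ w
  inj : ∀ v, τ v = 0 → v = 0
  nor : ∀ m : _root_.Matrix.SpecialLinearGroup (Fin 2) K, ∃ m' : _root_.Matrix.SpecialLinearGroup (Fin 2) K, ∀ v, τ (sm m v) = sm m' (τ v)
  norU : ∀ c : K, ∃ c' : K, ∀ v, τ (sm (uu c) v) = sm (uu c') (τ v)

namespace Nrm

variable {τ : (Fin 2 → K) → (Fin 2 → K)} (h : Nrm τ)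

include h

theorem zero : τ 0 = 0 := by
  have h1 := h.add 0 0
  rw [add_zero] at h1
  exact (left_eq_add.1 h1)

theorem sub (v w : Fin 2 → K) : τ (v - w) = τ v - τ w := by
  have h1 := h.add (v - w) w
  rw [sub_add_cancel] at h1
  exact (sub_eq_of_eq_add h1).symm

theorem inj' {v w : Fin 2 → K} (hvw : τ v = τ w) : v = w := by
  rw [← sub_eq_zero]
  apply h.inj
  rw [h.sub, hvw, sub_self]

theorem uu_ne {c c' : K} (hc : c ≠ 0) (hcc : ∀ v, τ (sm (uu c) v) = sm (uu c') (τ v)) : c' ≠ 0 := by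
  rintro rfl
  have h1 := hcc ![0, 1]
  rw [uu_zero, sm_one] at h1
  have h2 := (fix_uu hc).1 (h.inj' h1)
  simp at h2

/-- `τ` preserves the line `C(U)` -/
theorem line_e {v : Fin 2 → K} (hv : v 1 = 0) : τ v 1 = 0 := by
  obtain ⟨c', hc'⟩ := h.norU 1
  have h1 := hc' v
  rw [(fix_uu one_ne_zero).2 hv] at h1
  exact (fix_uu (h.uu_ne one_ne_zero hc')).1 h1.symm

/-- `τ` maps lines to lines -/
theorem line (k : K) (v : Fin 2 → K) : ∃ k' : K, τ (k • v) = k' • τ v := by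
  by_cases hv : v = 0
  · exact ⟨0, by rw [hv, smul_zero, h.zero, smul_zero]⟩
  obtain ⟨m, hm⟩ := exists_sm_e hv
  obtain ⟨m', hm'⟩ := h.nor m
  have h1 : τ (![1, 0] : Fin 2 → K) 1 = 0 := h.line_e (by simp)
  have h2 : τ (k • ![1, 0] : Fin 2 → K) 1 = 0 := h.line_e (by simp)
  have h3 : τ (![1, 0] : Fin 2 → K) 0 ≠ 0 := by
    intro h3
    have h4 : τ (![1, 0] : Fin 2 → K) = 0 := by
      rw [smul_e h1, h3, zero_smul]
    have h5 := congrFun (h.inj _ h4) 0
    simp at h5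
  obtain ⟨κ, h4⟩ : ∃ κ : K, τ (k • ![1, 0]) = κ • τ ![1, 0] := by
    refine ⟨τ (k • ![1, 0]) 0 * (τ ![1, 0] 0)⁻¹, ?_⟩
    conv_lhs => rw [smul_e h2]
    conv_rhs => rw [smul_e h1]
    rw [smul_smul]
    congr 1
    simp only [Pi.smul_apply, Matrix.cons_val_zero, smul_eq_mul, mul_one]
    field_simp
  refine ⟨κ, ?_⟩
  rw [← hm, ← sm_smul, hm', hm', h4, sm_smul]

/-- `τ` trivial on the line `C(U)` and modulo it -/
theorem of_quad (h0 : ∀ v, v 1 = 0 → τ v = v) (h1 : ∀ v, τ v 1 = v 1) : ∃ c, ∀ v, τ v = sm (uu c) v := by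
  have hb : τ ![0, 1] 1 = 1 := by rw [h1]; simp
  refine ⟨τ ![0, 1] 0, fun v => ?_⟩
  have hv : v = v 0 • ![1, 0] + v 1 • ![0, 1] := by
    funext i
    fin_cases i <;> simp
  obtain ⟨k', hk'⟩ := h.line (v 1) ![0, 1]
  have h2 : k' = v 1 := by
    have h3 := congrFun hk' 1
    rw [h1, Pi.smul_apply, Pi.smul_apply, hb, smul_eq_mul, smul_eq_mul, mul_one] at h3
    rw [← h3]
    simp
  conv_lhs => rw [hv]
  rw [h.add, h0 _ (by simp), hk', h2, sm_uu]
  funext i
  fin_cases i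
  · simp [mul_comm]
  · simp [hb]

theorem comp {σ : (Fin 2 → K) → (Fin 2 → K)} (h' : Nrm σ) : Nrm (τ ∘ σ) where
  add v w := by simp only [Function.comp_apply, h'.add, h.add]
  inj v hv := h'.inj _ (h.inj _ hv)
  nor m := by
    obtain ⟨m', hm'⟩ := h'.nor m
    obtain ⟨m'', hm''⟩ := h.nor m'
    exact ⟨m'', fun v => by simp only [Function.comp_apply, hm', hm'']⟩
  norU c := by
    obtain ⟨m', hm'⟩ := h'.norU c
    obtain ⟨m'', hm''⟩ := h.norU m'
    exact ⟨m'', fun v => by simp only [Function.comp_apply, hm', hm'']⟩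

end Nrm

theorem nrm_uu (c : K) : Nrm (sm (uu c)) where
  add := sm_add _
  inj v hv := sm_inj (uu c) (hv.trans (sm_zero _).symm)
  nor m := ⟨uu c * m * (uu c)⁻¹, fun v => by rw [← sm_mul, ← sm_mul, inv_mul_cancel_right]⟩
  norU d := ⟨d, fun v => by rw [← sm_mul, ← sm_mul, ← uu_add, ← uu_add, add_comm]⟩

theorem Nrm.of_comm [Finite K] [CharP K 2] {τ : (Fin 2 → K) → (Fin 2 → K)} (h : Nrm τ)
    (hc : ∀ c v, τ (sm (uu c) v) = sm (uu c) (τ v)) {k : ℕ} (hk : τ^[2 ^ k] = id) : ∃ c, ∀ v, τ v = sm (uu c) v := by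
  classical
  have : Fintype K := Fintype.ofFinite K
  have h2 : ∀ x : K, x + x = 0 := fun x => CharTwo.add_self_eq_zero x
  -- `τ e₂ = (b, d)`, `d ≠ 0`
  set b := τ ![0, 1] 0 with hb
  set d := τ ![0, 1] 1 with hd
  have hd0 : d ≠ 0 := by
    intro h0
    have h3 := hc 1 ![0, 1]
    rw [(fix_uu one_ne_zero).2 h0] at h3
    have h4 := (fix_uu (one_ne_zero (α := K))).1 (h.inj' h3)
    simp at h4
  set c := b * d⁻¹ with hcdef
  -- `τ' = u_c τ` fixes the line of `e₂`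
  set σ : (Fin 2 → K) → (Fin 2 → K) := fun v => sm (uu c) (τ v) with hσ
  have hσn : Nrm σ := (nrm_uu c).comp h
  have hσc : ∀ x v, σ (sm (uu x) v) = sm (uu x) (σ v) := by
    intro x v
    rw [hσ]
    simp only [hc]
    rw [← sm_mul, ← sm_mul, ← uu_add, ← uu_add, add_comm]
  have hσe : σ ![0, 1] 0 = 0 := by
    rw [hσ]
    simp only
    rw [sm_uu_zero, ← hb, ← hd, hcdef, mul_assoc, inv_mul_cancel₀ hd0, mul_one]
    exact h2 b
  have hσl : ∀ y : K, σ ![0, y] 0 = 0 := by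
    intro y
    have h3 : (![0, y] : Fin 2 → K) = y • ![0, 1] := by
      funext i
      fin_cases i <;> simp
    obtain ⟨k', hk'⟩ := hσn.line y ![0, 1]
    rw [h3, hk', Pi.smul_apply, hσe, smul_zero]
  have hσσ : ∀ j : ℕ, ∀ v, σ^[j] v = sm (uu c ^ j) (τ^[j] v) := by
    intro j
    induction j with
    | zero => intro v; simp [sm_one]
    | succ j ih =>
      intro v
      rw [Function.iterate_succ_apply', ih, Function.iterate_succ_apply', pow_succ', sm_mul, hσ]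
      simp only
      congr 1
      -- `τ` commutes with powers of `uu c`
      have h3 : ∀ j : ℕ, ∀ v, τ (sm (uu c ^ j) v) = sm (uu c ^ j) (τ v) := by
        intro j
        induction j with
        | zero => intro v; rw [pow_zero, sm_one, sm_one]
        | succ j ih => intro v; rw [pow_succ', sm_mul, hc, ih, sm_mul]
      rw [h3]
  have huu2 : uu c ^ 2 = 1 := by rw [sq, ← uu_add, h2, uu_zero]
  have hσ2 : ∀ v, σ^[2 ^ (k + 1)] v = v := by
    intro v
    rw [hσσ]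
    have h3 : uu c ^ 2 ^ (k + 1) = 1 := by rw [pow_succ', pow_mul, huu2, one_pow]
    rw [h3, sm_one, pow_succ', mul_comm, Function.iterate_mul, hk]
    simp
  -- the permutation of the line
  let f : K → K := fun y => σ ![0, y] 1
  have hf : ∀ y, σ ![0, y] = ![0, f y] := by
    intro y
    funext i
    fin_cases i
    · exact hσl y
    · rfl
  have hfinj : Function.Injective f := by
    intro x y hxy
    have h3 : σ ![0, x] = σ ![0, y] := by rw [hf, hf, hxy]
    have h4 := congrFun (hσn.inj' h3) 1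
    simpa using h4
  let π : Equiv.Perm K := Equiv.ofBijective f (Finite.injective_iff_bijective.1 hfinj)
  have hπ : ∀ j : ℕ, ∀ y, ![0, (π ^ j) y] = σ^[j] ![0, y] := by
    intro j
    induction j with
    | zero => intro y; rfl
    | succ j ih =>
      intro y
      rw [Function.iterate_succ_apply', ← ih, pow_succ', Equiv.Perm.mul_apply]
      exact (hf _).symm
  have hπ2 : π ^ 2 ^ (k + 1) = 1 := by
    ext1 y
    have h3 := hπ (2 ^ (k + 1)) y
    rw [hσ2] at h3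
    have h4 := congrFun h3 1
    simpa using h4
  have : Fact (Nat.Prime 2) := ⟨Nat.prime_two⟩
  have hcard : 2 ∣ Fintype.card K := by
    obtain ⟨n, _, hn⟩ := FiniteField.card K 2
    rw [hn]
    exact dvd_pow_self 2 n.ne_zero
  have hπ0 : π 0 = 0 := by
    show σ ![0, 0] 1 = 0
    have h3 : (![0, 0] : Fin 2 → K) = 0 := by funext i; fin_cases i <;> rfl
    rw [h3, hσn.zero]
    rfl
  obtain ⟨y0, hy0, hy0'⟩ := Equiv.Perm.exists_fixed_point_of_prime' (p := 2) (n := k + 1) hcard hπ2 hπ0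
  have hfix : σ ![0, y0] = ![0, y0] := by
    rw [hf]
    have h3 : f y0 = y0 := hy0
    rw [h3]
  -- `σ` is trivial on `C(U)`
  have hl : ∀ x : K, σ ![x, 0] = ![x, 0] := by
    intro x
    have h3 : (![x, 0] : Fin 2 → K) = sm (uu (x * y0⁻¹)) ![0, y0] - ![0, y0] := by
      rw [sm_uu]
      funext i
      fin_cases i
      · simp [hy0']
      · simp
    rw [h3, hσn.sub, hσc, hfix]
  have hm : ∀ y : K, σ ![0, y] = ![0, y] := by
    intro y
    have h3 : (![y, 0] : Fin 2 → K) = sm (uu 1) ![0, y] - ![0, y] := by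
      rw [sm_uu]
      funext i
      (revert i; simp only [_root_.Fin.forall_fin_succ, _root_.Nat.succ_eq_add_one, Nat.reduceAdd, Fin.isValue, _root_.Matrix.cons_val_one, _root_.Matrix.cons_val_fin_one, _root_.one_mul, _root_.Matrix.add_cons, _root_.Matrix.head_cons, _root_.zero_add, _root_.Matrix.tail_cons, _root_.add_zero, _root_.Matrix.empty_add_empty, _root_.Pi.sub_apply, _root_.Matrix.cons_val_zero, _root_.sub_zero, _root_.Matrix.cons_val_succ, _root_.sub_self, _root_.implies_true, _root_.and_self])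
    have h4 := hl y
    rw [h3, hσn.sub, hσc, hf, sm_uu, sm_uu, add_sub_cancel_left, add_sub_cancel_left] at h4
    have h5 := congrFun h4 0
    simp at h5
    rw [hf, h5]
  have hσid : ∀ v, σ v = v := by
    intro v
    have hv : v = ![v 0, 0] + ![0, v 1] := by
      funext i
      fin_cases i <;> simp
    conv_lhs => rw [hv]
    rw [hσn.add, hl, hm, ← hv]
  refine ⟨c, fun v => ?_⟩
  have h3 := hσid v
  rw [hσ] at h3
  simp only at h3
  conv_rhs => rw [← h3]
  rw [← sm_mul, ← sq, huu2, sm_one]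

end Mat

end Cfsg.Agent.H880.HM
end

-- part: H880/HM/LinB
section
/-!
# S5175, T4/T5 linear part, B (for helper756): blocks

* basic facts on a `Blk`;
* `LD b K` : normalized linear data, `exists_ld` : they exist for a `Blk` of linear type.
-/

set_option autoImplicit false
set_option linter.unusedSectionVars false

namespace Cfsg.Agent.H880.HM

open Cfsg Subgroup Cfsg.Agent.H756.HM
open Cfsg.Agent.H259.Block (pCoreOf_le)
open scoped commutatorElement

universe u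

section Blocks

variable {P : Type u} [Group P] [Finite P] {T : Sylow 2 P} (b : Blk (T : Subgroup P))

/-- `W = [O₂(P), O²(P)]` -/
abbrev WW (P : Type u) [Group P] : Subgroup P := ⁅pCore 2 P, pResidual 2 P⁆

theorem fact2 : Fact (Nat.Prime 2) := ⟨Nat.prime_two⟩

include b

theorem Wi_le (i : b.I) : ⁅pCore 2 P, b.E i⁆ ≤ b.E i := by
  rw [← b.core i]
  exact pCoreOf_le _

theorem E_le (i : b.I) : b.E i ≤ pResidual 2 P := by
  rw [← b.sup]
  exact le_iSup b.E i

theorem Wi_le_WW (i : b.I) : ⁅pCore 2 P, b.E i⁆ ≤ WW P := commutator_mono le_rfl (E_le b i)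

omit b in
theorem WW_le_Q : WW P ≤ pCore 2 P := by
  have := Lib.Cores.pCore_normal (G := P) 2
  exact commutator_le_left _ _

omit b in
theorem Q_le_T : pCore 2 P ≤ (T : Subgroup P) := Lib.Cores.pCore_le_sylow T

omit b in
theorem WW_le_T : WW P ≤ (T : Subgroup P) := WW_le_Q.trans Q_le_T

theorem W_comm' {w w' : P} (hw : w ∈ WW P) (hw' : w' ∈ WW P) : w * w' = w' * w :=
  b.bw.W_comm w hw w' (WW_le_Q hw')

theorem W_commQ {w g : P} (hw : w ∈ WW P) (hg : g ∈ pCore 2 P) : w * g = g * w := b.bw.W_comm w hw g hg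

omit b in
theorem WW_normal : (WW P).Normal := by
  have := Lib.Cores.pCore_normal (G := P) 2
  have : (pResidual 2 P).Normal := Cfsg.Agent.Transfer.Residual.pResidual_normal (G := P) 2
  exact commutator_normal _ _

omit b in
theorem conj_WW {w : P} (hw : w ∈ WW P) (g : P) : g * w * g⁻¹ ∈ WW P := WW_normal.conj_mem w hw g

theorem E_commE {i j : b.I} (hij : i ≠ j) {x y : P} (hx : x ∈ b.E i) (hy : y ∈ b.E j) : x * y = y * x := by
  have h1 : b.E i ≤ centralizer (b.E j : Set P) := commutator_eq_bot_iff_le_centralizer.1 (b.comm i j hij)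
  exact ((h1 hx) y hy).symm

theorem conjE_Wi {i : b.I} {e w : P} (he : e ∈ b.E i) (hw : w ∈ ⁅pCore 2 P, b.E i⁆) :
    e * w * e⁻¹ ∈ ⁅pCore 2 P, b.E i⁆ := by
  have hn : b.E i ≤ normalizer ((⁅pCore 2 P, b.E i⁆ : Subgroup P) : Set P) := by
    apply H259.Block.le_normalizer_commutator
    · exact H259.Block.le_normalizer_of_normal (Lib.Cores.pCore_normal 2) _
    · exact le_normalizer
  exact (mem_normalizer_iff.1 (hn he) w).1 hw

/-- `E_j` centralizes `W_i`, `i ≠ j` -/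
theorem EW_comm {i j : b.I} (hij : i ≠ j) {w x : P} (hw : w ∈ ⁅pCore 2 P, b.E i⁆) (hx : x ∈ b.E j) :
    w * x = x * w := E_commE b hij (Wi_le b i hw) hx

theorem WW_eq : WW P = ⨆ i, ⁅pCore 2 P, b.E i⁆ := by
  apply le_antisymm
  · set M : Subgroup P := ⨆ i, ⁅pCore 2 P, b.E i⁆ with hM
    have hn : ∀ j, ∀ x ∈ b.E j, ∀ m ∈ M, x * m * x⁻¹ ∈ M := by
      intro j x hx m hm
      rw [hM] at hm ⊢
      induction hm using Subgroup.iSup_induction' with
      | hp i m hm =>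
        by_cases hij : i = j
        · subst hij
          exact (le_iSup (fun i => ⁅pCore 2 P, b.E i⁆) i) (conjE_Wi b hx hm)
        · rw [← EW_comm b hij hm hx, mul_inv_cancel_right]
          exact (le_iSup (fun i => ⁅pCore 2 P, b.E i⁆) i) hm
      | h1 => rw [mul_one, mul_inv_cancel]; exact one_mem _
      | hmul a c _ _ ha hc =>
        have h1 : x * (a * c) * x⁻¹ = (x * a * x⁻¹) * (x * c * x⁻¹) := by group
        rw [h1]
        exact mul_mem ha hc
    rw [WW, commutator_le]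
    intro g hg x hx
    rw [← b.sup] at hx
    have key : ∀ x ∈ (⨆ i, b.E i), (∀ m ∈ M, x * m * x⁻¹ ∈ M) ∧ ∀ g ∈ pCore 2 P, ⁅g, x⁆ ∈ M := by
      intro x hx
      induction hx using Subgroup.iSup_induction' with
      | hp i x hx =>
        exact ⟨fun m hm => hn i x hx m hm, fun g hg =>
          (le_iSup (fun i => ⁅pCore 2 P, b.E i⁆) i) (commutator_mem_commutator hg hx)⟩
      | h1 => exact ⟨fun m hm => by simpa using hm, fun g _ => by simp⟩
      | hmul x y _ _ hx hy =>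
        refine ⟨fun m hm => ?_, fun g hg => ?_⟩
        · have h1 : x * y * m * (x * y)⁻¹ = x * (y * m * y⁻¹) * x⁻¹ := by group
          rw [h1]
          exact hx.1 _ (hy.1 m hm)
        · have h1 : ⁅g, x * y⁆ = ⁅g, x⁆ * (x * ⁅g, y⁆ * x⁻¹) := by
            simp only [commutatorElement_def]; group
          rw [h1]
          exact mul_mem (hx.2 g hg) (hx.1 _ (hy.2 g hg))
    exact (key x hx).2 g hg
  · exact iSup_le fun i => Wi_le_WW b i

/-- **Decomposition** with respect to a block -/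
theorem decomp (i : b.I) {w : P} (hw : w ∈ WW P) :
    ∃ a ∈ ⁅pCore 2 P, b.E i⁆, ∃ c ∈ WW P, c ∈ centralizer (b.E i : Set P) ∧ w = a * c := by
  rw [WW_eq b] at hw
  induction hw using Subgroup.iSup_induction' with
  | hp j w hw =>
    by_cases hij : j = i
    · subst hij
      exact ⟨w, hw, 1, one_mem _, one_mem _, (mul_one w).symm⟩
    · refine ⟨1, one_mem _, w, Wi_le_WW b j hw, ?_, (one_mul w).symm⟩
      intro x hx
      exact (EW_comm b hij hw hx).symm
  | h1 => exact ⟨1, one_mem _, 1, one_mem _, one_mem _, (mul_one 1).symm⟩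
  | hmul x y _ _ hx hy =>
    obtain ⟨a, ha, c, hc, hc', rfl⟩ := hx
    obtain ⟨a', ha', d, hd, hd', rfl⟩ := hy
    refine ⟨a * a', mul_mem ha ha', c * d, mul_mem hc hd, mul_mem hc' hd', ?_⟩
    have h1 : c * a' = a' * c := W_comm' b hc (Wi_le_WW b i ha')
    calc a * c * (a' * d) = a * (c * a') * d := by group
      _ = a * a' * (c * d) := by rw [h1]; group

/-- `O²(P) = E_i C(E_i)` -/
theorem decompR (i : b.I) {r : P} (hr : r ∈ pResidual 2 P) :
    ∃ e ∈ b.E i, ∃ k ∈ centralizer (b.E i : Set P), r = e * k := by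
  rw [← b.sup] at hr
  induction hr using Subgroup.iSup_induction' with
  | hp j w hw =>
    by_cases hij : j = i
    · subst hij
      exact ⟨w, hw, 1, one_mem _, (mul_one w).symm⟩
    · refine ⟨1, one_mem _, w, ?_, (one_mul w).symm⟩
      intro x hx
      exact (E_commE b hij hw hx).symm
  | h1 => exact ⟨1, one_mem _, 1, one_mem _, (mul_one 1).symm⟩
  | hmul x y _ _ hx hy =>
    obtain ⟨a, ha, c, hc, rfl⟩ := hx
    obtain ⟨a', ha', d, hd, rfl⟩ := hy
    refine ⟨a * a', mul_mem ha ha', c * d, mul_mem hc hd, ?_⟩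
    have h1 : c * a' = a' * c := (hc a' ha').symm
    calc a * c * (a' * d) = a * (c * a') * d := by group
      _ = a * a' * (c * d) := by rw [h1]; group

/-- **2-subgroups of a block are conjugate in the block into `T`.** -/
theorem exists_conj (i : b.I) {H : Subgroup P} (hH : IsPGroup 2 H) (hHE : H ≤ b.E i) :
    ∃ k ∈ b.E i, ∀ h ∈ H, k⁻¹ * h * k ∈ (T : Subgroup P) := by
  have := fact2
  obtain ⟨R, hR⟩ := hH.exists_le_sylow
  obtain ⟨g, hg⟩ := MulAction.exists_smul_eq P T R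
  have h1 : ∀ h ∈ H, g⁻¹ * h * g ∈ (T : Subgroup P) := by
    intro h hh
    have h2 := hR hh
    rw [← hg, Sylow.coe_subgroup_smul] at h2
    obtain ⟨t, ht, hte⟩ := h2
    have h3 : g * t * g⁻¹ = h := hte
    rw [← h3]
    have h4 : g⁻¹ * (g * t * g⁻¹) * g = t := by group
    rw [h4]
    exact ht
  have hRn : (pResidual 2 P).Normal := Cfsg.Agent.Transfer.Residual.pResidual_normal (G := P) 2
  have hgm : g ∈ pResidual 2 P ⊔ (T : Subgroup P) := by
    rw [Cfsg.Agent.Transfer.Residual.pResidual_sup_sylow]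
    exact mem_top g
  rw [← SetLike.mem_coe, Subgroup.normal_mul] at hgm
  obtain ⟨r, hr, t, ht, rfl⟩ := Set.mem_mul.1 hgm
  obtain ⟨e, he, k, hk, rfl⟩ := decompR b i hr
  refine ⟨e, he, fun h hh => ?_⟩
  have h2 := h1 h hh
  have h3 : e⁻¹ * h * e ∈ b.E i := mul_mem (mul_mem (inv_mem he) (hHE hh)) he
  have h4 : k⁻¹ * (e⁻¹ * h * e) * k = e⁻¹ * h * e := by
    have h5 := hk _ h3
    rw [mul_assoc, h5, inv_mul_cancel_left]
  have h6 : (e * k * t)⁻¹ * h * (e * k * t) = t⁻¹ * (k⁻¹ * (e⁻¹ * h * e) * k) * t := by group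
  rw [h6, h4] at h2
  have h7 := mul_mem (mul_mem ht h2) (inv_mem ht)
  have h8 : t * (t⁻¹ * (e⁻¹ * h * e) * t) * t⁻¹ = e⁻¹ * h * e := by group
  rwa [h8] at h7

end Blocks

/-- Normalized linear data of one block: `Ψ` is the action on `W / C_W(E_i)`, `ρ` the action on `K²`; `T ∩ E_i` maps onto
the upper unitriangular matrices. -/
structure LOne {P : Type u} [Group P] {T : Sylow 2 P} (b : Blk (T : Subgroup P)) (K : Type) [Field K] (i : b.I)
    (Ψ : P → (Fin 2 → K)) (ρ : P → Matrix.SpecialLinearGroup (Fin 2) K) : Prop where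
  ψmul : ∀ w ∈ WW P, ∀ w' ∈ WW P, Ψ (w * w') = Ψ w + Ψ w'
  ψker : ∀ w ∈ WW P, (Ψ w = 0 ↔ w ∈ centralizer (b.E i : Set P))
  ψsurj : ∀ v, ∃ w ∈ ⁅pCore 2 P, b.E i⁆, Ψ w = v
  ρmul : ∀ e ∈ b.E i, ∀ e' ∈ b.E i, ρ (e * e') = ρ e * ρ e'
  ρsurj : ∀ m, ∃ e ∈ b.E i, ρ e = m
  ρker : ∀ e ∈ b.E i, (ρ e = 1 ↔ e ∈ ⁅pCore 2 P, b.E i⁆)
  equi : ∀ e ∈ b.E i, ∀ w ∈ WW P, Ψ (e * w * e⁻¹) = sm (ρ e) (Ψ w)
  TU : ∀ e ∈ b.E i, e ∈ (T : Subgroup P) → ∃ c, ρ e = uu c
  UT : ∀ c, ∃ e ∈ b.E i, e ∈ (T : Subgroup P) ∧ ρ e = uu c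

/-- the action of `SL₂(K)` on `K²` -/
abbrev actSL (K : Type*) [Field K] : MulAction (Matrix.SpecialLinearGroup (Fin 2) K) (Fin 2 → K) where
  smul m v := sm m v
  one_smul v := sm_one v
  mul_smul m n v := sm_mul m n v

/-- a 2-subgroup of `SL₂(K)` fixes a nonzero vector -/
theorem exists_fix {K : Type*} [Field K] [Finite K] [CharP K 2] {R : Subgroup (Matrix.SpecialLinearGroup (Fin 2) K)}
    (hR : IsPGroup 2 R) : ∃ v : Fin 2 → K, v ≠ 0 ∧ ∀ r ∈ R, sm r v = v := by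
  classical
  have := fact2
  have : Fintype K := Fintype.ofFinite K
  let _ : MulAction (Matrix.SpecialLinearGroup (Fin 2) K) (Fin 2 → K) := actSL K
  have hcard : 2 ∣ Nat.card (Fin 2 → K) := by
    obtain ⟨n, _, hn⟩ := FiniteField.card K 2
    rw [Nat.card_fun, Nat.card_eq_fintype_card (α := K), hn, Nat.card_eq_fintype_card, Fintype.card_fin, ← pow_mul]
    exact dvd_pow_self 2 (by have := n.ne_zero; omega)
  obtain ⟨v, hv, hv0⟩ := hR.exists_fixed_point_of_prime_dvd_card_of_fixed_point (Fin 2 → K) hcard (a := 0)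
    (fun r => sm_zero _)
  exact ⟨v, hv0.symm, fun r hr => hv ⟨r, hr⟩⟩

section Exists

variable {P : Type u} [Group P] [Finite P] {T : Sylow 2 P} (b : Blk (T : Subgroup P))

/-- **Normalized data of a block.** -/
theorem exists_lone {K : Type} [Field K] [Finite K] [CharP K 2] (i : b.I)
    (ρ : ↥(b.E i) →* Matrix.SpecialLinearGroup (Fin 2) K)
    (ψ : ↥(⁅pCore 2 P, b.E i⁆ : Subgroup P) →* Multiplicative (Fin 2 → K))
    (hρ : Function.Surjective ρ) (hρk : ∀ e, ρ e = 1 ↔ (e : P) ∈ ⁅pCore 2 P, b.E i⁆) (hψ : Function.Surjective ψ)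
    (hψk : ∀ w, ψ w = 1 ↔ (w : P) ∈ Subgroup.centralizer (b.E i : Set P))
    (heq : ∀ (e : b.E i) (w w' : ↥(⁅pCore 2 P, b.E i⁆ : Subgroup P)), (w' : P) = (e : P) * w * (e : P)⁻¹ →
      Multiplicative.toAdd (ψ w') =
        ((ρ e : Matrix.SpecialLinearGroup (Fin 2) K) : Matrix (Fin 2) (Fin 2) K).mulVec (Multiplicative.toAdd (ψ w))) :
    ∃ Ψ ρ', LOne b K i Ψ ρ' := by
  classical
  have := fact2
  -- the conjugating element
  obtain ⟨v, hv0, hv⟩ := exists_fix (K := K) (R := ((T : Subgroup P).subgroupOf (b.E i)).map ρ) (by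
    apply IsPGroup.map
    exact T.2.comap_of_injective _ (b.E i).subtype_injective)
  obtain ⟨g, hg⟩ := exists_sm_e hv0
  have hTU : ∀ e : b.E i, (e : P) ∈ (T : Subgroup P) → ∃ c, g⁻¹ * ρ e * g = uu c := by
    intro e he
    apply eq_uu_of_fix
    rw [sm_mul, sm_mul, hg, hv _ ⟨e, he, rfl⟩, ← hg, sm_inv_sm]
  -- the preimage of `g U g⁻¹`
  let H : Subgroup P :=
    { carrier := {e | ∃ h : e ∈ b.E i, ∃ c, g⁻¹ * ρ ⟨e, h⟩ * g = uu c}
      one_mem' := ⟨one_mem _, 0, by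
        have h1 : (⟨1, one_mem _⟩ : b.E i) = 1 := rfl
        rw [h1, map_one, mul_one, inv_mul_cancel, uu_zero]⟩
      mul_mem' := by
        rintro x y ⟨hx, c, hc⟩ ⟨hy, d, hd⟩
        refine ⟨mul_mem hx hy, c + d, ?_⟩
        have h1 : (⟨x * y, mul_mem hx hy⟩ : b.E i) = ⟨x, hx⟩ * ⟨y, hy⟩ := rfl
        rw [h1, map_mul, uu_add, ← hc, ← hd]
        group
      inv_mem' := by
        rintro x ⟨hx, c, hc⟩
        refine ⟨inv_mem hx, -c, ?_⟩
        have h1 : (⟨x⁻¹, inv_mem hx⟩ : b.E i) = ⟨x, hx⟩⁻¹ := rfl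
        rw [h1, map_inv, ← uu_inv, ← hc]
        group }
  have hHE : H ≤ b.E i := fun x hx => hx.1
  have hHp : IsPGroup 2 H := by
    rintro ⟨x, hx, c, hc⟩
    refine ⟨2, Subtype.ext ?_⟩
    show x ^ (2 ^ 2) = 1
    have h1 : ρ (⟨x, hx⟩ ^ 2) = 1 := by
      have h2 : ρ ⟨x, hx⟩ = g * uu c * g⁻¹ := by rw [← hc]; group
      rw [map_pow, h2, conj_pow, sq, ← uu_add, CharTwo.add_self_eq_zero, uu_zero]
      group
    have h2 : x ^ 2 ∈ ⁅pCore 2 P, b.E i⁆ := (hρk _).1 h1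
    have h3 := b.bw.W_sq _ (Wi_le_WW b i h2)
    rw [← pow_mul] at h3
    exact h3
  obtain ⟨k, hk, hkH⟩ := exists_conj b i hHp hHE
  -- surjectivity onto `U`
  have hUT : ∀ c, ∃ e : b.E i, (e : P) ∈ (T : Subgroup P) ∧ g⁻¹ * ρ e * g = uu c := by
    have hsur : ∀ c, ∃ h : b.E i, g⁻¹ * ρ h * g = uu c := by
      intro c
      obtain ⟨h, hh⟩ := hρ (g * uu c * g⁻¹)
      exact ⟨h, by rw [hh]; group⟩
    choose h hh using hsur
    have hmem : ∀ c, ((⟨k, hk⟩⁻¹ * h c * ⟨k, hk⟩ : b.E i) : P) ∈ (T : Subgroup P) := by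
      intro c
      exact hkH _ ⟨(h c).2, c, hh c⟩
    choose f hf using fun c => hTU _ (hmem c)
    have hfinj : Function.Injective f := by
      intro c d hcd
      have h1 : g⁻¹ * ρ (⟨k, hk⟩⁻¹ * h c * ⟨k, hk⟩) * g = g⁻¹ * ρ (⟨k, hk⟩⁻¹ * h d * ⟨k, hk⟩) * g := by
        rw [hf, hf, hcd]
      have h2 : ρ (⟨k, hk⟩⁻¹ * h c * ⟨k, hk⟩) = ρ (⟨k, hk⟩⁻¹ * h d * ⟨k, hk⟩) :=
        mul_left_cancel (mul_right_cancel h1)
      rw [map_mul, map_mul, map_mul, map_mul] at h2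
      have h3 : ρ (h c) = ρ (h d) := mul_left_cancel (mul_right_cancel h2)
      apply uu_inj
      rw [← hh c, ← hh d, h3]
    intro c
    obtain ⟨d, rfl⟩ := (Finite.injective_iff_surjective.1 hfinj) c
    exact ⟨_, hmem d, hf d⟩
  -- the maps
  let ρ' : P → Matrix.SpecialLinearGroup (Fin 2) K := fun e => if h : e ∈ b.E i then g⁻¹ * ρ ⟨e, h⟩ * g else 1
  have hρ' : ∀ e (h : e ∈ b.E i), ρ' e = g⁻¹ * ρ ⟨e, h⟩ * g := fun e h => dif_pos h
  let ψ' : ↥(⁅pCore 2 P, b.E i⁆ : Subgroup P) → (Fin 2 → K) := fun w => sm g⁻¹ (Multiplicative.toAdd (ψ w))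
  have hψ'mul : ∀ w w', ψ' (w * w') = ψ' w + ψ' w' := by
    intro w w'
    show sm g⁻¹ (Multiplicative.toAdd (ψ (w * w'))) = _
    rw [map_mul, toAdd_mul, sm_add]
  have hψ'0 : ∀ w, ψ' w = 0 ↔ (w : P) ∈ centralizer (b.E i : Set P) := by
    intro w
    rw [← hψk]
    constructor
    · intro h
      have h1 : Multiplicative.toAdd (ψ w) = 0 := sm_inj g⁻¹ (h.trans (sm_zero _).symm)
      exact h1
    · intro h
      show sm g⁻¹ (Multiplicative.toAdd (ψ w)) = 0
      rw [h, toAdd_one, sm_zero]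
  have hex : ∀ w : P, ∃ v : Fin 2 → K, w ∈ WW P → ∃ (a : ↥(⁅pCore 2 P, b.E i⁆ : Subgroup P)) (c : P),
      c ∈ WW P ∧ c ∈ centralizer (b.E i : Set P) ∧ w = a * c ∧ v = ψ' a := by
    intro w
    by_cases hw : w ∈ WW P
    · obtain ⟨a, ha, c, hc, hc', he⟩ := decomp b i hw
      exact ⟨ψ' ⟨a, ha⟩, fun _ => ⟨⟨a, ha⟩, c, hc, hc', he, rfl⟩⟩
    · exact ⟨0, fun h => absurd h hw⟩
  choose Ψ hΨ using hex
  have hval : ∀ (a : ↥(⁅pCore 2 P, b.E i⁆ : Subgroup P)) (c : P), c ∈ WW P → c ∈ centralizer (b.E i : Set P) →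
      Ψ (a * c) = ψ' a := by
    intro a c hc hc'
    obtain ⟨a', c', hc1, hc1', he, hv⟩ := hΨ ((a : P) * c) (mul_mem (Wi_le_WW b i a.2) hc)
    rw [hv]
    have h1 : (((a')⁻¹ * a : ↥(⁅pCore 2 P, b.E i⁆ : Subgroup P)) : P) ∈ centralizer (b.E i : Set P) := by
      have h2 : (((a')⁻¹ * a : ↥(⁅pCore 2 P, b.E i⁆ : Subgroup P)) : P) = c' * c⁻¹ := by
        show (a' : P)⁻¹ * (a : P) = c' * c⁻¹
        rw [inv_mul_eq_iff_eq_mul, ← mul_assoc, ← he, mul_inv_cancel_right]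
      rw [h2]
      exact mul_mem hc1' (inv_mem hc')
    have h2 := (hψ'0 _).2 h1
    have h3 : ψ' a = ψ' a' + ψ' ((a')⁻¹ * a) := by rw [← hψ'mul, mul_inv_cancel_left]
    rw [h3, h2, add_zero]
  refine ⟨Ψ, ρ', ?_, ?_, ?_, ?_, ?_, ?_, ?_, ?_, ?_⟩
  · -- additivity
    intro w hw w' hw'
    obtain ⟨a, ha, c, hc, hc', rfl⟩ := decomp b i hw
    obtain ⟨a', ha', c', hc1, hc1', rfl⟩ := decomp b i hw'
    have h1 : c * a' = a' * c := W_comm' b hc (Wi_le_WW b i ha')
    have h2 : a * c * (a' * c') = ((⟨a, ha⟩ * ⟨a', ha'⟩ : ↥(⁅pCore 2 P, b.E i⁆ : Subgroup P)) : P) * (c * c') := by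
      show a * c * (a' * c') = a * a' * (c * c')
      calc a * c * (a' * c') = a * (c * a') * c' := by group
        _ = a * a' * (c * c') := by rw [h1]; group
    rw [h2, hval _ _ (mul_mem hc hc1) (mul_mem hc' hc1'), hψ'mul, hval ⟨a, ha⟩ c hc hc', hval ⟨a', ha'⟩ c' hc1 hc1']
  · intro w hw
    obtain ⟨a, ha, c, hc, hc', rfl⟩ := decomp b i hw
    rw [hval ⟨a, ha⟩ c hc hc', hψ'0]
    constructor
    · intro h
      exact mul_mem h hc'
    · intro h
      have h1 := mul_mem h (inv_mem hc')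
      rwa [mul_inv_cancel_right] at h1
  · intro v
    obtain ⟨w, hw⟩ := hψ (Multiplicative.ofAdd (sm g v))
    refine ⟨w, w.2, ?_⟩
    have h1 := hval w 1 (one_mem _) (one_mem _)
    rw [mul_one] at h1
    rw [h1]
    show sm g⁻¹ (Multiplicative.toAdd (ψ w)) = v
    rw [hw, toAdd_ofAdd, sm_inv_sm]
  · intro e he e' he'
    rw [hρ' e he, hρ' e' he', hρ' _ (mul_mem he he')]
    have h1 : (⟨e * e', mul_mem he he'⟩ : b.E i) = ⟨e, he⟩ * ⟨e', he'⟩ := rfl
    rw [h1, map_mul]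
    group
  · intro m
    obtain ⟨e, he⟩ := hρ (g * m * g⁻¹)
    refine ⟨e, e.2, ?_⟩
    rw [hρ' _ e.2, Subtype.coe_eta, he]
    group
  · intro e he
    rw [hρ' e he, ← hρk ⟨e, he⟩]
    constructor
    · intro h
      have h1 : ρ ⟨e, he⟩ = g * (g⁻¹ * ρ ⟨e, he⟩ * g) * g⁻¹ := by group
      rw [h1, h]
      group
    · intro h
      rw [h]
      group
  · intro e he w hw
    obtain ⟨a, ha, c, hc, hc', rfl⟩ := decomp b i hw
    have h1 : e * (a * c) * e⁻¹ = ((⟨e * a * e⁻¹, conjE_Wi b he ha⟩ : ↥(⁅pCore 2 P, b.E i⁆ : Subgroup P)) : P) * c := by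
      have h2 : e * c = c * e := hc' e he
      show e * (a * c) * e⁻¹ = e * a * e⁻¹ * c
      calc e * (a * c) * e⁻¹ = e * a * (c * e⁻¹) := by group
        _ = e * a * (e⁻¹ * (e * c) * e⁻¹) := by group
        _ = e * a * (e⁻¹ * (c * e) * e⁻¹) := by rw [h2]
        _ = _ := by group
    rw [h1, hval _ c hc hc', hval ⟨a, ha⟩ c hc hc', hρ' e he]
    show sm g⁻¹ (Multiplicative.toAdd (ψ _)) = sm _ (sm g⁻¹ (Multiplicative.toAdd (ψ ⟨a, ha⟩)))
    rw [heq ⟨e, he⟩ ⟨a, ha⟩ _ rfl, sm_mul, sm_mul, sm_sm_inv]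
    rfl
  · intro e he heT
    rw [hρ' e he]
    exact hTU ⟨e, he⟩ heT
  · intro c
    obtain ⟨e, heT, he⟩ := hUT c
    exact ⟨e, e.2, heT, by rw [hρ' _ e.2, Subtype.coe_eta, he]⟩

end Exists

end Cfsg.Agent.H880.HM
end

-- part: H880/HM/LinC
section
/-!
# S5175, T4/T5 linear part, C (for helper756): the action of `T` on the blocks

* `LD b K` : normalized linear data; `exists_ld`;
* `Mv b t i j` : `t E_i t⁻¹ = E_j`;
* `L.Acts i t c` : `t` acts on `W / C_W(E_i)` as the matrix `(1 c; 0 1)`;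
* `L.exists_nrm` : the action of an element of `T` normalizing `E_i`.
-/

set_option autoImplicit false
set_option linter.unusedSectionVars false

namespace Cfsg.Agent.H880.HM

open Cfsg Subgroup Cfsg.Agent.H756.HM
open scoped commutatorElement

universe u

/-- normalized linear data -/
structure LD {P : Type u} [Group P] {T : Sylow 2 P} (b : Blk (T : Subgroup P)) (K : Type) [Field K] where
  Ψ : b.I → P → (Fin 2 → K)
  ρ : b.I → P → Matrix.SpecialLinearGroup (Fin 2) K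
  one : ∀ i, LOne b K i (Ψ i) (ρ i)

theorem charP_of_card {K : Type*} [Field K] [Fintype K] {n : ℕ} (h : Fintype.card K = 2 ^ n) :
    CharP K 2 := by
  obtain ⟨r, hr⟩ := CharP.exists K
  have hrp : r.Prime := (CharP.char_is_prime_or_zero K r).resolve_right (CharP.char_ne_zero_of_finite K r)
  have := Fact.mk hrp
  obtain ⟨m, _, hm⟩ := FiniteField.card K r
  rw [h] at hm
  have h1 : r ∣ 2 ^ n := by rw [hm]; exact dvd_pow_self r m.ne_zero
  have h2 := (Nat.prime_dvd_prime_iff_eq hrp Nat.prime_two).1 (hrp.dvd_of_dvd_pow h1)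
  rwa [h2] at hr

section Basic

variable {P : Type u} [Group P] [Finite P] {T : Sylow 2 P} {b : Blk (T : Subgroup P)}

/-- `t E_i t⁻¹ = E_j` -/
def Mv (b : Blk (T : Subgroup P)) (t : P) (i j : b.I) : Prop := (b.E i).map (MulAut.conj t).toMonoidHom = b.E j

theorem exists_mv {t : P} (ht : t ∈ (T : Subgroup P)) (i : b.I) : ∃ j, Mv b t i j := b.perm t ht i

theorem Mv.mem {t : P} {i j : b.I} (h : Mv b t i j) {e : P} (he : e ∈ b.E i) : t * e * t⁻¹ ∈ b.E j := by
  unfold Mv at h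
  rw [← h]
  exact ⟨e, he, rfl⟩

theorem Mv.uniq {t : P} {i j k : b.I} (h : Mv b t i j) (h' : Mv b t i k) : j = k := b.inj (h.symm.trans h')

theorem Mv.one (i : b.I) : Mv b 1 i i := by
  unfold Mv
  rw [map_one]
  exact Subgroup.map_id _

theorem Mv.mul {t t' : P} {i j k : b.I} (h : Mv b t i j) (h' : Mv b t' j k) : Mv b (t' * t) i k := by
  unfold Mv at h h' ⊢
  rw [← h', ← h, Subgroup.map_map]
  congr 1
  ext x
  simp

theorem Mv.inv {t : P} {i j : b.I} (h : Mv b t i j) : Mv b t⁻¹ j i := by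
  unfold Mv at h ⊢
  rw [← h, Subgroup.map_map]
  have h1 : (MulAut.conj t⁻¹).toMonoidHom.comp (MulAut.conj t).toMonoidHom = MonoidHom.id P := by
    ext x
    show t⁻¹ * (t * x * t⁻¹) * t⁻¹⁻¹ = x
    group
  rw [h1, Subgroup.map_id]

theorem Mv.conjW {t : P} {i j : b.I} (h : Mv b t i j) {w : P} (hw : w ∈ ⁅pCore 2 P, b.E i⁆) :
    t * w * t⁻¹ ∈ ⁅pCore 2 P, b.E j⁆ := by
  have h1 : (⁅pCore 2 P, b.E i⁆ : Subgroup P).map (MulAut.conj t).toMonoidHom = ⁅pCore 2 P, b.E j⁆ := by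
    rw [Subgroup.map_commutator]
    have h2 : (pCore 2 P).map (MulAut.conj t).toMonoidHom = pCore 2 P := by
      have := Lib.Cores.pCore_normal (G := P) 2
      rw [H258.Bau.map_conj_eq_iff, normalizer_eq_top_iff.2 this]
      exact mem_top t
    rw [h2]
    unfold Mv at h
    rw [h]
  rw [← h1]
  exact ⟨w, hw, rfl⟩

theorem Mv.cent {t : P} {i j : b.I} (h : Mv b t i j) {w : P} (hw : w ∈ centralizer (b.E i : Set P)) :
    t * w * t⁻¹ ∈ centralizer (b.E j : Set P) := by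
  intro x hx
  have h1 : t⁻¹ * x * t ∈ b.E i := by
    have h2 := h.inv.mem hx
    rwa [inv_inv] at h2
  have h2 := hw _ h1
  calc x * (t * w * t⁻¹) = t * ((t⁻¹ * x * t) * w) * t⁻¹ := by group
    _ = t * w * t⁻¹ * x := by rw [h2]; group

end Basic

namespace LD

variable {P : Type u} [Group P] [Finite P] {T : Sylow 2 P} {b : Blk (T : Subgroup P)} {K : Type} [Field K]
  (L : LD b K)

theorem zero (i : b.I) : L.Ψ i 1 = 0 := ((L.one i).ψker 1 (one_mem _)).2 (one_mem _)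

theorem inv (i : b.I) {w : P} (hw : w ∈ WW P) : L.Ψ i w⁻¹ = -L.Ψ i w := by
  have h1 := (L.one i).ψmul w hw w⁻¹ (inv_mem hw)
  rw [mul_inv_cancel, L.zero] at h1
  exact (neg_eq_of_add_eq_zero_right h1.symm).symm

theorem div (i : b.I) {w w' : P} (hw : w ∈ WW P) (hw' : w' ∈ WW P) : L.Ψ i (w⁻¹ * w') = L.Ψ i w' - L.Ψ i w := by
  rw [(L.one i).ψmul _ (inv_mem hw) _ hw', L.inv i hw]
  abel

/-- joint kernel -/
theorem mem_cent {w : P} (hw : w ∈ WW P) : (∀ i, L.Ψ i w = 0) ↔ w ∈ centralizer (pResidual 2 P : Set P) := by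
  constructor
  · intro h x hx
    rw [SetLike.mem_coe, ← b.sup] at hx
    induction hx using Subgroup.iSup_induction' with
    | hp i x hx => exact (((L.one i).ψker w hw).1 (h i)) x hx
    | h1 => simp
    | hmul x y _ _ hx hy => rw [mul_assoc, hy, ← mul_assoc, hx, mul_assoc]
  · intro h i
    rw [(L.one i).ψker w hw]
    intro x hx
    exact h x (E_le b i hx)

theorem other {i j : b.I} (hij : i ≠ j) {w : P} (hw : w ∈ ⁅pCore 2 P, b.E j⁆) : L.Ψ i w = 0 := by
  rw [(L.one i).ψker w (Wi_le_WW b j hw)]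
  intro x hx
  exact (EW_comm b (Ne.symm hij) hw hx).symm

theorem joint [Finite b.I] (f : b.I → Fin 2 → K) : ∃ w ∈ WW P, ∀ i, L.Ψ i w = f i := by
  classical
  have : Fintype b.I := Fintype.ofFinite _
  have key : ∀ s : Finset b.I, ∃ w ∈ WW P, (∀ i ∈ s, L.Ψ i w = f i) ∧ ∀ i, i ∉ s → L.Ψ i w = 0 := by
    intro s
    induction s using Finset.induction_on with
    | empty => exact ⟨1, one_mem _, fun i hi => absurd hi (Finset.notMem_empty i), fun i _ => L.zero i⟩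
    | insert j s hj ih =>
      obtain ⟨w, hw, h1, h2⟩ := ih
      obtain ⟨a, ha, hav⟩ := (L.one j).ψsurj (f j)
      have haW := Wi_le_WW b j ha
      refine ⟨a * w, mul_mem haW hw, fun i hi => ?_, fun i hi => ?_⟩
      · rw [(L.one i).ψmul _ haW _ hw]
        by_cases hij : i = j
        · subst hij
          rw [hav, h2 i hj, add_zero]
        · rw [L.other hij ha, h1 i ((Finset.mem_insert.1 hi).resolve_left hij), zero_add]
      · rw [Finset.mem_insert, not_or] at hi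
        rw [(L.one i).ψmul _ haW _ hw, L.other hi.1 ha, h2 i hi.2, zero_add]
  obtain ⟨w, hw, h1, -⟩ := key Finset.univ
  exact ⟨w, hw, fun i => h1 i (Finset.mem_univ i)⟩

/-- `t` acts on `W / C_W(E_i)` as `(1 c; 0 1)` -/
def Acts (i : b.I) (t : P) (c : K) : Prop := ∀ w ∈ WW P, L.Ψ i (t * w * t⁻¹) = sm (uu c) (L.Ψ i w)

variable {L}

theorem Acts.mul {i : b.I} {t t' : P} {c c' : K} (h : L.Acts i t c) (h' : L.Acts i t' c') :
    L.Acts i (t * t') (c + c') := by
  intro w hw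
  have h1 : t * t' * w * (t * t')⁻¹ = t * (t' * w * t'⁻¹) * t⁻¹ := by group
  rw [h1, h _ (conj_WW hw t'), h' w hw, uu_add, sm_mul]

theorem Acts.one (i : b.I) : L.Acts i 1 0 := by
  intro w _
  rw [one_mul, inv_one, mul_one, uu_zero, sm_one]

theorem Acts.inv {i : b.I} {t : P} {c : K} (h : L.Acts i t c) : L.Acts i t⁻¹ (-c) := by
  intro w hw
  have h1 := h (t⁻¹ * w * t⁻¹⁻¹) (conj_WW hw t⁻¹)
  have h2 : t * (t⁻¹ * w * t⁻¹⁻¹) * t⁻¹ = w := by group
  rw [h2] at h1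
  rw [h1, ← uu_inv, sm_inv_sm]

theorem Acts.uniq [Finite b.I] {i : b.I} {t : P} {c c' : K} (h : L.Acts i t c) (h' : L.Acts i t c') : c = c' := by
  obtain ⟨w, hw, hv⟩ := L.joint (fun _ => ![0, 1])
  have h1 := h w hw
  rw [h' w hw, hv i] at h1
  have h2 := congrFun h1 0
  rw [sm_uu_zero, sm_uu_zero] at h2
  simpa using h2.symm

variable (L)

theorem acts_Q (i : b.I) {g : P} (hg : g ∈ pCore 2 P) : L.Acts i g 0 := by
  intro w hw
  rw [← W_commQ b hw hg, mul_inv_cancel_right, uu_zero, sm_one]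

theorem acts_E {i : b.I} {e : P} (he : e ∈ b.E i) {c : K} (hc : L.ρ i e = uu c) : L.Acts i e c := by
  intro w hw
  rw [(L.one i).equi e he w hw, hc]

theorem acts_other {i j : b.I} (hij : i ≠ j) {e : P} (he : e ∈ b.E j) : L.Acts i e 0 := by
  intro w hw
  obtain ⟨a, ha, c, hc, hc', rfl⟩ := decomp b j hw
  have h1 : e * c = c * e := hc' e he
  have h2 : e * (a * c) * e⁻¹ = e * a * e⁻¹ * c := by
    calc e * (a * c) * e⁻¹ = e * a * (e⁻¹ * (e * c) * e⁻¹) := by group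
      _ = e * a * (e⁻¹ * (c * e) * e⁻¹) := by rw [h1]
      _ = _ := by group
  have h3 := conjE_Wi b he ha
  rw [h2, (L.one i).ψmul _ (Wi_le_WW b j h3) _ hc, (L.one i).ψmul _ (Wi_le_WW b j ha) _ hc, L.other hij h3,
    L.other hij ha, uu_zero, sm_one]

/-- triviality of an action in terms of commutators -/
theorem acts_zero_iff (i : b.I) (t : P) :
    L.Acts i t 0 ↔ ∀ w ∈ WW P, ⁅t, w⁆ ∈ centralizer (b.E i : Set P) := by
  constructor
  · intro h w hw
    have h1 : ⁅t, w⁆ = t * w * t⁻¹ * w⁻¹ := rfl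
    rw [h1, ← (L.one i).ψker _ (mul_mem (conj_WW hw t) (inv_mem hw)),
      (L.one i).ψmul _ (conj_WW hw t) _ (inv_mem hw), h w hw, L.inv i hw, uu_zero, sm_one, add_neg_cancel]
  · intro h w hw
    have h1 : ⁅t, w⁆ = t * w * t⁻¹ * w⁻¹ := rfl
    have h2 := h w hw
    rw [h1, ← (L.one i).ψker _ (mul_mem (conj_WW hw t) (inv_mem hw)),
      (L.one i).ψmul _ (conj_WW hw t) _ (inv_mem hw), L.inv i hw] at h2
    rw [uu_zero, sm_one]
    exact eq_of_sub_eq_zero (by rw [sub_eq_add_neg]; exact h2)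

/-- **faithfulness** -/
theorem mem_Q {t : P} (ht : t ∈ (T : Subgroup P)) (h : ∀ i, L.Acts i t 0) : t ∈ pCore 2 P := by
  apply b.faith t ht
  intro w hw
  have h1 : ⁅t, w⁆ = t * w * t⁻¹ * w⁻¹ := rfl
  rw [← L.mem_cent (by rw [h1]; exact mul_mem (conj_WW hw t) (inv_mem hw))]
  intro i
  have h2 := (L.acts_zero_iff i t).1 (h i) w hw
  rwa [(L.one i).ψker _ (by rw [h1]; exact mul_mem (conj_WW hw t) (inv_mem hw))]

/-- conjugation moves the kernels -/
theorem zero_iff {t : P} {i j : b.I} (h : Mv b t i j) {w : P} (hw : w ∈ WW P) :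
    L.Ψ j (t * w * t⁻¹) = 0 ↔ L.Ψ i w = 0 := by
  rw [(L.one j).ψker _ (conj_WW hw t), (L.one i).ψker _ hw]
  constructor
  · intro h1
    have h2 := h.inv.cent h1
    have h3 : t⁻¹ * (t * w * t⁻¹) * t⁻¹⁻¹ = w := by group
    rwa [h3] at h2
  · intro h1
    exact h.cent h1

/-- **The action on a fixed block.** -/
theorem exists_nrm {t : P} (ht : t ∈ (T : Subgroup P)) {i : b.I} (h : Mv b t i i) :
    ∃ τ : (Fin 2 → K) → (Fin 2 → K), Nrm τ ∧ ∀ w ∈ WW P, τ (L.Ψ i w) = L.Ψ i (t * w * t⁻¹) := by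
  have hsur : ∀ v : Fin 2 → K, ∃ w ∈ WW P, L.Ψ i w = v := by
    intro v
    obtain ⟨w, hw, hv⟩ := (L.one i).ψsurj v
    exact ⟨w, Wi_le_WW b i hw, hv⟩
  choose s hs hs' using hsur
  have hτ : ∀ w ∈ WW P, L.Ψ i (t * s (L.Ψ i w) * t⁻¹) = L.Ψ i (t * w * t⁻¹) := by
    intro w hw
    have h1 := (L.zero_iff h (mul_mem (inv_mem (hs (L.Ψ i w))) hw)).2 (by
      rw [L.div i (hs _) hw, hs', sub_self])
    have h2 : t * ((s (L.Ψ i w))⁻¹ * w) * t⁻¹ = (t * s (L.Ψ i w) * t⁻¹)⁻¹ * (t * w * t⁻¹) := by group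
    rw [h2, L.div i (conj_WW (hs _) t) (conj_WW hw t), sub_eq_zero] at h1
    exact h1.symm
  refine ⟨fun v => L.Ψ i (t * s v * t⁻¹), ⟨?_, ?_, ?_, ?_⟩, hτ⟩
  · intro v w
    have h1 := hτ (s v * s w) (mul_mem (hs v) (hs w))
    rw [(L.one i).ψmul _ (hs v) _ (hs w), hs', hs'] at h1
    rw [h1]
    have h2 : t * (s v * s w) * t⁻¹ = (t * s v * t⁻¹) * (t * s w * t⁻¹) := by group
    rw [h2, (L.one i).ψmul _ (conj_WW (hs v) t) _ (conj_WW (hs w) t)]
  · intro v hv
    have h1 := (L.zero_iff h (hs v)).1 hv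
    rwa [hs'] at h1
  · intro m
    obtain ⟨e, he, hem⟩ := (L.one i).ρsurj m
    refine ⟨L.ρ i (t * e * t⁻¹), fun v => ?_⟩
    have h1 := hτ (e * s v * e⁻¹) (conj_WW (hs v) e)
    rw [(L.one i).equi e he _ (hs v), hem, hs'] at h1
    rw [h1]
    have h2 : t * (e * s v * e⁻¹) * t⁻¹ = (t * e * t⁻¹) * (t * s v * t⁻¹) * (t * e * t⁻¹)⁻¹ := by group
    rw [h2, (L.one i).equi _ (h.mem he) _ (conj_WW (hs v) t)]
  · intro c
    obtain ⟨e, he, heT, hem⟩ := (L.one i).UT c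
    obtain ⟨c', hc'⟩ := (L.one i).TU (t * e * t⁻¹) (h.mem he) (mul_mem (mul_mem ht heT) (inv_mem ht))
    refine ⟨c', fun v => ?_⟩
    have h1 := hτ (e * s v * e⁻¹) (conj_WW (hs v) e)
    rw [(L.one i).equi e he _ (hs v), hem, hs'] at h1
    rw [h1]
    have h2 : t * (e * s v * e⁻¹) * t⁻¹ = (t * e * t⁻¹) * (t * s v * t⁻¹) * (t * e * t⁻¹)⁻¹ := by group
    rw [h2, (L.one i).equi _ (h.mem he) _ (conj_WW (hs v) t), hc']

/-- an element of `T` normalizing `E_i` and commuting with `T ∩ E_i` modulo the kernel -/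
theorem acts_of_comm [Finite K] [CharP K 2] {t : P} (ht : t ∈ (T : Subgroup P)) {i : b.I} (h : Mv b t i i)
    (hc : ∀ e ∈ b.E i, e ∈ (T : Subgroup P) → L.Acts i ⁅t, e⁆ 0) : ∃ c, L.Acts i t c := by
  obtain ⟨τ, hτ, hτw⟩ := L.exists_nrm ht h
  have hsur : ∀ v : Fin 2 → K, ∃ w ∈ WW P, L.Ψ i w = v := by
    intro v
    obtain ⟨w, hw, hv⟩ := (L.one i).ψsurj v
    exact ⟨w, Wi_le_WW b i hw, hv⟩
  have hcomm : ∀ c v, τ (sm (uu c) v) = sm (uu c) (τ v) := by
    intro c v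
    obtain ⟨w, hw, rfl⟩ := hsur v
    obtain ⟨e, he, heT, hem⟩ := (L.one i).UT c
    have h1 := (L.one i).equi e he w hw
    rw [hem] at h1
    rw [← h1, hτw _ (conj_WW hw e), hτw _ hw]
    have h2 : t * (e * w * e⁻¹) * t⁻¹ = ⁅t, e⁆ * (e * (t * w * t⁻¹) * e⁻¹) * ⁅t, e⁆⁻¹ := by
      rw [commutatorElement_def]; group
    rw [h2, hc e he heT _ (conj_WW (conj_WW hw t) e), uu_zero, sm_one, (L.one i).equi e he _ (conj_WW hw t), hem]
  obtain ⟨k, hk⟩ := T.2 ⟨t, ht⟩
  have hk' : t ^ 2 ^ k = 1 := congrArg Subtype.val hk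
  have hit : ∀ (n : ℕ) (w : P), w ∈ WW P → τ^[n] (L.Ψ i w) = L.Ψ i (t ^ n * w * (t ^ n)⁻¹) := by
    intro n
    induction n with
    | zero => intro w _; simp
    | succ n ih =>
      intro w hw
      rw [Function.iterate_succ_apply', ih w hw, hτw _ (conj_WW hw _)]
      congr 1
      rw [pow_succ']
      group
  have hid : τ^[2 ^ k] = id := by
    funext v
    obtain ⟨w, hw, rfl⟩ := hsur v
    rw [hit _ w hw, hk']
    simp
  obtain ⟨c, hc'⟩ := hτ.of_comm hcomm hid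
  exact ⟨c, fun w hw => by rw [← hτw w hw, hc']⟩

end LD

/-- **Existence of normalized data.** -/
theorem exists_ld {P : Type u} [Group P] [Finite P] {T : Sylow 2 P} (b : Blk (T : Subgroup P))
    {K : Type} [Field K] [Fintype K] {n : ℕ} (hK : Fintype.card K = 2 ^ n)
    (h : ∀ i, ∃ (ρ : ↥(b.E i) →* Matrix.SpecialLinearGroup (Fin 2) K)
        (ψ : ↥(⁅pCore 2 P, b.E i⁆ : Subgroup P) →* Multiplicative (Fin 2 → K)),
        Function.Surjective ρ ∧
        (∀ e, ρ e = 1 ↔ (e : P) ∈ ⁅pCore 2 P, b.E i⁆) ∧ Function.Surjective ψ ∧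
        (∀ w, ψ w = 1 ↔ (w : P) ∈ Subgroup.centralizer (b.E i : Set P)) ∧
        ∀ (e : b.E i) (w w' : ↥(⁅pCore 2 P, b.E i⁆ : Subgroup P)), (w' : P) = (e : P) * w * (e : P)⁻¹ →
          Multiplicative.toAdd (ψ w') =
            ((ρ e : Matrix.SpecialLinearGroup (Fin 2) K) : Matrix (Fin 2) (Fin 2) K).mulVec
              (Multiplicative.toAdd (ψ w))) : Nonempty (LD b K) := by
  have := charP_of_card hK
  have h1 : ∀ i, ∃ Ψ ρ', LOne b K i Ψ ρ' := by
    intro i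
    obtain ⟨ρ, ψ, h1, h2, h3, h4, h5⟩ := h i
    exact exists_lone b i ρ ψ h1 h2 h3 h4 h5
  choose Ψ ρ hL using h1
  exact ⟨⟨Ψ, ρ, hL⟩⟩

end Cfsg.Agent.H880.HM
end

-- part: H880/HM/LinD
section
/-!
# S5175, T4/T5 linear part, D (for helper756): elementary abelian normal subgroups of `T`

* `Off b X` : `X ≤ T` is normalized by `T` and abelian;
* `fixed_acts` : if `X` normalizes the block `i`, all its elements act as unitriangular matrices;
* `pair_*` : if `X` moves a block.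
-/

set_option autoImplicit false
set_option linter.unusedSectionVars false

namespace Cfsg.Agent.H880.HM

open Cfsg Subgroup Cfsg.Agent.H756.HM
open scoped commutatorElement

universe u

/-- abelian subgroups of `T` normalized by `T` -/
structure Off {P : Type u} [Group P] (T : Sylow 2 P) (X : Subgroup P) : Prop where
  le : X ≤ T
  nor : (T : Subgroup P) ≤ normalizer (X : Set P)
  comm : ∀ a ∈ X, ∀ b ∈ X, a * b = b * a

section

variable {P : Type u} [Group P] [Finite P] {T : Sylow 2 P} {b : Blk (T : Subgroup P)} {K : Type} [Field K]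
  (L : LD b K) {X : Subgroup P}

theorem Off.com_mem (h : Off T X) {a t : P} (ha : a ∈ X) (ht : t ∈ (T : Subgroup P)) : ⁅a, t⁆ ∈ X := by
  have h1 : ⁅a, t⁆ = a * (t * a⁻¹ * t⁻¹) := by rw [commutatorElement_def]; group
  rw [h1]
  exact mul_mem ha ((mem_normalizer_iff.1 (h.nor ht) _).1 (inv_mem ha))

/-- quadratic action -/
theorem Off.quad (h : Off T X) {a c w : P} (ha : a ∈ X) (hc : c ∈ X) (hw : w ∈ WW P) :
    c * ⁅a, w⁆ * c⁻¹ = ⁅a, w⁆ := by
  rw [h.comm c hc _ (h.com_mem ha (WW_le_T hw)), mul_inv_cancel_right]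

theorem com_WW {a w : P} (hw : w ∈ WW P) : ⁅a, w⁆ ∈ WW P := by
  have h1 : ⁅a, w⁆ = a * w * a⁻¹ * w⁻¹ := rfl
  rw [h1]
  exact mul_mem (conj_WW hw a) (inv_mem hw)

/-- **`X` acts on a block it normalizes as a group of unitriangular matrices.** -/
theorem fixed_acts [Finite K] [CharP K 2] (h : Off T X) {i : b.I} (hf : ∀ a ∈ X, Mv b a i i) {a : P} (ha : a ∈ X) :
    ∃ c, L.Acts i a c := by
  have hsur : ∀ v : Fin 2 → K, ∃ w ∈ WW P, L.Ψ i w = v := by
    intro v
    obtain ⟨w, hw, hv⟩ := (L.one i).ψsurj v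
    exact ⟨w, Wi_le_WW b i hw, hv⟩
  have haT := h.le ha
  by_cases hX : ∃ a₀ ∈ X, ∃ c₀, c₀ ≠ 0 ∧ L.Acts i a₀ c₀
  · -- `X ∩ U ≠ 1`
    obtain ⟨a₀, ha₀, c₀, hc₀, hact⟩ := hX
    obtain ⟨τ, hτ, hτw⟩ := L.exists_nrm haT (hf a ha)
    have hΨcom : ∀ (x w : P), w ∈ WW P → L.Ψ i ⁅x, w⁆ = L.Ψ i (x * w * x⁻¹) - L.Ψ i w := by
      intro x w hw
      have h1 : ⁅x, w⁆ = x * w * x⁻¹ * w⁻¹ := rfl
      rw [h1, (L.one i).ψmul _ (conj_WW hw x) _ (inv_mem hw), L.inv i hw, sub_eq_add_neg]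
    obtain ⟨c, hc⟩ := hτ.of_quad (by
      intro v hv
      obtain ⟨w, hw, hwv⟩ := hsur ![0, v 0 * c₀⁻¹]
      have h1 : L.Ψ i ⁅a₀, w⁆ = v := by
        rw [hΨcom a₀ w hw, hact w hw, hwv, sm_uu, add_sub_cancel_left]
        funext j
        fin_cases j
        · simp only [Fin.zero_eta, Matrix.cons_val_zero, Matrix.cons_val_one]
          rw [mul_comm (v 0), ← mul_assoc, mul_inv_cancel₀ hc₀, one_mul]
        · simp [hv]
      rw [← h1, hτw _ (com_WW hw), h.quad ha₀ ha hw]) (by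
      intro v
      obtain ⟨w, hw, rfl⟩ := hsur v
      have h1 := hact _ (com_WW (a := a) hw)
      rw [h.quad ha ha₀ hw] at h1
      have h2 := (fix_uu hc₀).1 h1.symm
      rw [hΨcom a w hw, Pi.sub_apply, sub_eq_zero] at h2
      rw [hτw w hw, h2])
    exact ⟨c, fun w hw => by rw [← hτw w hw, hc]⟩
  · push Not at hX
    apply L.acts_of_comm haT (hf a ha)
    intro e he heT
    -- `[a, e] ∈ X ∩ E_i`
    have h1 : ⁅a, e⁆ ∈ X := h.com_mem ha heT
    have h2 : ⁅a, e⁆ ∈ b.E i := by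
      have h3 : ⁅a, e⁆ = (a * e * a⁻¹) * e⁻¹ := rfl
      rw [h3]
      exact mul_mem ((hf a ha).mem he) (inv_mem he)
    obtain ⟨c, hc⟩ := (L.one i).TU _ h2 (h.le h1)
    have h3 := L.acts_E h2 hc
    by_cases hc0 : c = 0
    · rwa [hc0] at h3
    · exact absurd h3 (hX _ h1 c hc0)

include L in
/-- a moved block: the orbit has length two -/
theorem pair_orbit (h : Off T X) {i j : b.I} (hij : i ≠ j) {a : P} (ha : a ∈ X) (hm : Mv b a i j) {c : P} (hc : c ∈ X)
    {k : b.I} (hk : Mv b c i k) : k = i ∨ k = j := by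
  -- `w ∈ W_i`, `[a, w] ∉ C(E_i)`, `∉ C(E_j)`
  obtain ⟨w, hw, hv⟩ := (L.one i).ψsurj ![1, 0]
  have hwW := Wi_le_WW b i hw
  by_contra hcon
  push Not at hcon
  have hne : L.Ψ i ⁅a, w⁆ ≠ 0 := by
    have h1 : ⁅a, w⁆ = a * w * a⁻¹ * w⁻¹ := rfl
    rw [h1, (L.one i).ψmul _ (conj_WW hwW a) _ (inv_mem hwW), L.inv i hwW, L.other hij (hm.conjW hw), hv, zero_add]
    intro h2
    have h3 := congrFun h2 0
    simp at h3
  have h0 : L.Ψ k ⁅a, w⁆ = 0 := by
    have h1 : ⁅a, w⁆ = a * w * a⁻¹ * w⁻¹ := rfl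
    rw [h1, (L.one k).ψmul _ (conj_WW hwW a) _ (inv_mem hwW), L.inv k hwW, L.other hcon.2 (hm.conjW hw),
      L.other hcon.1 hw]
    simp
  rw [← h.quad ha hc hwW, L.zero_iff hk (com_WW hwW)] at h0
  exact hne h0

/-- a moved block: the stabilizer acts trivially -/
theorem pair_acts (h : Off T X) {i j : b.I} (hij : i ≠ j) {a : P} (ha : a ∈ X) (hm : Mv b a i j) {c : P} (hc : c ∈ X)
    (hk : Mv b c i i) : L.Acts i c 0 := by
  -- `c` fixes `j` too
  have key : ∀ w ∈ ⁅pCore 2 P, b.E i⁆, L.Ψ i (c * w * c⁻¹) = L.Ψ i w := by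
    intro w hw
    have hwW := Wi_le_WW b i hw
    have h1 : ⁅a, w⁆ = a * w * a⁻¹ * w⁻¹ := rfl
    have h2 := h.quad ha hc hwW
    have h3 : L.Ψ i ⁅a, w⁆ = - L.Ψ i w := by
      rw [h1, (L.one i).ψmul _ (conj_WW hwW a) _ (inv_mem hwW), L.inv i hwW, L.other hij (hm.conjW hw), zero_add]
    have h4 : c * ⁅a, w⁆ * c⁻¹ = (c * (a * w * a⁻¹) * c⁻¹) * (c * w * c⁻¹)⁻¹ := by rw [h1]; group
    have hck : Mv b c j j := by
      have h5 : Mv b (a * c * a⁻¹) j j := by
        have h6 := (hm.inv.mul hk).mul hm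
        rwa [← mul_assoc] at h6
      have h6 : a * c * a⁻¹ = c := by rw [h.comm a ha c hc, mul_inv_cancel_right]
      rwa [h6] at h5
    have h5 : L.Ψ i (c * (a * w * a⁻¹) * c⁻¹) = 0 := L.other hij (hck.conjW (hm.conjW hw))
    rw [← h2, h4, (L.one i).ψmul _ (conj_WW (conj_WW hwW a) c) _ (inv_mem (conj_WW hwW c)),
      L.inv i (conj_WW hwW c), h5, zero_add, neg_inj] at h3
    exact h3
  intro w hw
  obtain ⟨x, hx, y, hy, hy', rfl⟩ := decomp b i hw
  have h1 : c * (x * y) * c⁻¹ = (c * x * c⁻¹) * (c * y * c⁻¹) := by group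
  have h2 : L.Ψ i y = 0 := ((L.one i).ψker y hy).2 hy'
  have h3 : L.Ψ i (c * y * c⁻¹) = 0 := (L.zero_iff hk hy).2 h2
  rw [h1, (L.one i).ψmul _ (conj_WW (Wi_le_WW b i hx) c) _ (conj_WW hy c), (L.one i).ψmul _ (Wi_le_WW b i hx) _ hy,
    key x hx, h2, h3, uu_zero, sm_one]

end

end Cfsg.Agent.H880.HM
end

-- part: H880/HM/LinE
section
/-!
# S5175, T4/T5 linear part, E (for helper756): the offender bound

* `off_bound` : `|X : X ∩ Q| ≤ |W : C_W(X)|`;
* `off_surj` : in the case of equality every element of `W` is in `s(f(a)) C_W(X)` for some `a ∈ X`;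
* `EqD` : the structure in the case of equality, `exists_eqd`.
-/

set_option autoImplicit false
set_option linter.unusedSectionVars false

namespace Cfsg.Agent.H880.HM

open Cfsg Subgroup Cfsg.Agent.H756.HM
open scoped commutatorElement

universe u

section

variable {P : Type u} [Group P] [Finite P] {T : Sylow 2 P} {b : Blk (T : Subgroup P)} {K : Type} [Field K]
  (L : LD b K) {X : Subgroup P}

include L in
theorem pair_swap (h : Off T X) {i j : b.I} (hij : i ≠ j) {x : P} (hx : x ∈ X) (hm : Mv b x i j) {a : P} (ha : a ∈ X)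
    (hai : Mv b a i j) : Mv b a j i := by
  obtain ⟨k, hk⟩ := exists_mv (b := b) (h.le ha) j
  rcases pair_orbit L h (Ne.symm hij) (inv_mem hx) hm.inv ha hk with h1 | h1
  · exfalso
    rw [h1] at hk
    exact hij (hai.inv.uniq hk.inv)
  · rwa [h1] at hk

open Classical in
/-- the value of `a ∈ X` at the block `i` -/
noncomputable def fv (X : Subgroup P) (num : b.I → ℕ) (a : P) (i : b.I) : Fin 2 → K :=
  if (∀ x ∈ X, Mv b x i i) then (if h : ∃ c, L.Acts i a c then ![0, h.choose] else 0)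
  else if (∃ j, j ≠ i ∧ Mv b a i j ∧ num i < num j) then ![1, 0] else 0

variable {num : b.I → ℕ}

theorem fv_fixed [Finite b.I] {a : P} {i : b.I} (hf : ∀ x ∈ X, Mv b x i i) {c : K} (hc : L.Acts i a c) :
    fv L X num a i = ![0, c] := by
  have h1 : ∃ c, L.Acts i a c := ⟨c, hc⟩
  unfold fv
  rw [if_pos hf, dif_pos h1, h1.choose_spec.uniq hc]

theorem fv_pair_hi (h : Off T X) {i j : b.I} (hij : i ≠ j) {x : P} (hx : x ∈ X) (hm : Mv b x i j)
    (hn : num i < num j) {a : P} (ha : a ∈ X) : fv L X num a j = 0 := by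
  unfold fv
  rw [if_neg, if_neg]
  · rintro ⟨k, hk, hk', hk''⟩
    rcases pair_orbit L h (Ne.symm hij) (inv_mem hx) hm.inv ha hk' with h1 | h1
    · exact hk h1
    · rw [h1] at hk''
      omega
  · intro h1
    exact hij (hm.inv.uniq (h1 _ (inv_mem hx)))

open Classical in
theorem fv_pair_lo (h : Off T X) {i j : b.I} (hij : i ≠ j) {x : P} (hx : x ∈ X) (hm : Mv b x i j)
    (hn : num i < num j) {a : P} (ha : a ∈ X) : fv L X num a i = if Mv b a i j then ![1, 0] else 0 := by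
  unfold fv
  rw [if_neg]
  · by_cases hk : Mv b a i j
    · rw [if_pos hk, if_pos ⟨j, Ne.symm hij, hk, hn⟩]
    · rw [if_neg hk, if_neg]
      rintro ⟨k, hk1, hk', hk''⟩
      rcases pair_orbit L h hij hx hm ha hk' with h1 | h1
      · exact hk1 h1
      · rw [h1] at hk'
        exact hk hk'
  · intro h1
    exact hij ((h1 x hx).uniq hm)

/-- the elements `a`, `a'` with equal values move `i` in the same way -/
theorem pair_iff (h : Off T X) {i j : b.I} (hij : i ≠ j) {x : P} (hx : x ∈ X) (hm : Mv b x i j)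
    (hn : num i < num j) {a a' : P} (ha : a ∈ X) (ha' : a' ∈ X) {v : P} (hv : v ∈ WW P)
    (hvX : ∀ x ∈ X, x * v * x⁻¹ = v) (hval : ∀ i, L.Ψ i v = fv L X num a' i - fv L X num a i) :
    Mv b a i j ↔ Mv b a' i j := by
  have h1 : L.Ψ j v = 0 := by
    rw [hval, fv_pair_hi L h hij hx hm hn ha, fv_pair_hi L h hij hx hm hn ha', sub_zero]
  have h2 : L.Ψ i v = 0 := by
    have h3 := L.zero_iff hm hv
    rw [hvX x hx] at h3
    exact h3.1 h1
  rw [hval, fv_pair_lo L h hij hx hm hn ha, fv_pair_lo L h hij hx hm hn ha', sub_eq_zero] at h2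
  by_cases hA : Mv b a i j <;> by_cases hA' : Mv b a' i j
  · exact ⟨fun _ => hA', fun _ => hA⟩
  · exfalso
    rw [if_pos hA, if_neg hA'] at h2
    have h3 := congrFun h2 0
    simp at h3
  · exfalso
    rw [if_neg hA, if_pos hA'] at h2
    have h3 := congrFun h2 0
    simp at h3
  · exact ⟨fun h3 => absurd h3 hA, fun h3 => absurd h3 hA'⟩

/-- **The key to the offender bound.** -/
theorem key [Finite K] [CharP K 2] [Finite b.I] (h : Off T X) (hnum : Function.Injective num) {a a' : P}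
    (ha : a ∈ X) (ha' : a' ∈ X) {v : P} (hv : v ∈ WW P) (hvX : ∀ x ∈ X, x * v * x⁻¹ = v)
    (hval : ∀ i, L.Ψ i v = fv L X num a' i - fv L X num a i) : a⁻¹ * a' ∈ pCore 2 P := by
  apply L.mem_Q (h.le (mul_mem (inv_mem ha) ha'))
  intro i
  by_cases hf : ∀ x ∈ X, Mv b x i i
  · obtain ⟨c, hc⟩ := fixed_acts L h hf ha
    obtain ⟨c', hc'⟩ := fixed_acts L h hf ha'
    have h1 := hc.inv.mul hc'
    have h2 : -c + c' = 0 := by
      by_cases hX : ∃ x ∈ X, ∃ d, d ≠ 0 ∧ L.Acts i x d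
      · obtain ⟨x, hx, d, hd, hact⟩ := hX
        have h2 := hact v hv
        rw [hvX x hx] at h2
        have h3 := (fix_uu hd).1 h2.symm
        rw [hval, fv_fixed L hf hc, fv_fixed L hf hc', Pi.sub_apply] at h3
        simp only [Matrix.cons_val_one] at h3
        rw [neg_add_eq_sub]
        exact h3
      · push Not at hX
        have h2 : c = 0 := by
          by_contra h3
          exact hX a ha c h3 hc
        have h3 : c' = 0 := by
          by_contra h3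
          exact hX a' ha' c' h3 hc'
        rw [h2, h3, neg_zero, add_zero]
    rwa [h2] at h1
  · push Not at hf
    obtain ⟨x, hx, hxi⟩ := hf
    obtain ⟨j, hm⟩ := exists_mv (b := b) (h.le hx) i
    have hij : i ≠ j := by
      rintro rfl
      exact hxi hm
    have hiff : Mv b a i j ↔ Mv b a' i j := by
      rcases lt_trichotomy (num i) (num j) with hn | hn | hn
      · exact pair_iff L h hij hx hm hn ha ha' hv hvX hval
      · exact absurd (hnum hn) hij
      · have h1 := pair_iff L h (Ne.symm hij) (inv_mem hx) hm.inv hn ha ha' hv hvX hval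
        constructor
        · intro h2
          exact pair_swap L h (Ne.symm hij) (inv_mem hx) hm.inv ha' (h1.1 (pair_swap L h hij hx hm ha h2))
        · intro h2
          exact pair_swap L h (Ne.symm hij) (inv_mem hx) hm.inv ha (h1.2 (pair_swap L h hij hx hm ha' h2))
    have hfix : Mv b (a⁻¹ * a') i i := by
      obtain ⟨k, hk⟩ := exists_mv (b := b) (h.le ha) i
      obtain ⟨k', hk'⟩ := exists_mv (b := b) (h.le ha') i
      have h3 : k = k' := by
        rcases pair_orbit L h hij hx hm ha hk with h4 | h4 <;> rcases pair_orbit L h hij hx hm ha' hk' with h5 | h5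
        · rw [h4, h5]
        · rw [h5] at hk'
          exact hk.uniq (hiff.2 hk') |>.trans h5.symm
        · rw [h4] at hk
          exact h4.trans ((hiff.1 hk).uniq hk')
        · rw [h4, h5]
      rw [← h3] at hk'
      exact hk'.mul hk.inv
    exact pair_acts L h hij hx hm (mul_mem (inv_mem ha) ha') hfix

/-- a section with `s 0 = 1` -/
theorem exists_section [Finite b.I] : ∃ s : (b.I → Fin 2 → K) → P, (∀ f, s f ∈ WW P) ∧ (∀ f i, L.Ψ i (s f) = f i) ∧
    s 0 = 1 := by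
  classical
  have h1 : ∀ f : b.I → Fin 2 → K, ∃ w ∈ WW P, (∀ i, L.Ψ i w = f i) ∧ (f = 0 → w = 1) := by
    intro f
    by_cases hf : f = 0
    · exact ⟨1, one_mem _, fun i => by rw [L.zero, hf]; rfl, fun _ => rfl⟩
    · obtain ⟨w, hw, hv⟩ := L.joint f
      exact ⟨w, hw, hv, fun h => absurd h hf⟩
  choose s hs hs' hs0 using h1
  exact ⟨s, hs, hs', hs0 0 rfl⟩

/-- the map of the cosets -/
noncomputable def cmap (X : Subgroup P) (s : P → P) (hs : ∀ a, s a ∈ WW P) :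
    (X ⧸ (pCore 2 P ⊓ X).subgroupOf X) →
      (WW P ⧸ (WW P ⊓ centralizer (X : Set P)).subgroupOf (WW P)) :=
  fun q => QuotientGroup.mk ⟨s (q.out : X), hs _⟩

theorem cmap_injective [Finite K] [CharP K 2] [Finite b.I] (h : Off T X) (hnum : Function.Injective num)
    {s : (b.I → Fin 2 → K) → P} (hs : ∀ f, s f ∈ WW P) (hs' : ∀ f i, L.Ψ i (s f) = f i) :
    Function.Injective (cmap X (fun a => s (fv L X num a)) (fun _ => hs _)) := by
  intro q q' hqq
  have h1 := QuotientGroup.eq.1 hqq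
  rw [mem_subgroupOf] at h1
  have h2 : (s (fv L X num (q.out : X)))⁻¹ * s (fv L X num (q'.out : X)) ∈
      WW P ⊓ centralizer (X : Set P) := h1
  have h3 := key L h hnum (q.out : X).2 (q'.out : X).2 h2.1 (fun x hx => by
    rw [h2.2 x hx, mul_inv_cancel_right]) (fun i => by rw [L.div i (hs _) (hs _), hs', hs'])
  rw [← q.out_eq, ← q'.out_eq, QuotientGroup.eq, mem_subgroupOf]
  exact ⟨h3, (((q.out : X))⁻¹ * (q'.out : X)).2⟩

include L in
/-- **The offender bound.** -/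
theorem off_bound [Finite K] [CharP K 2] [Finite b.I] (h : Off T X) :
    (pCore 2 P ⊓ X).relIndex X ≤ (WW P ⊓ centralizer (X : Set P)).relIndex (WW P) := by
  obtain ⟨n, ⟨e⟩⟩ := Finite.exists_equiv_fin b.I
  obtain ⟨s, hs, hs', -⟩ := exists_section L
  exact Nat.card_le_card_of_injective _ (cmap_injective (num := fun i => (e i : ℕ)) L h
    (fun i j hij => e.injective (Fin.ext hij)) hs hs')

/-- **Equality.** -/
theorem off_surj [Finite K] [CharP K 2] [Finite b.I] (h : Off T X) (hnum : Function.Injective num)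
    {s : (b.I → Fin 2 → K) → P} (hs : ∀ f, s f ∈ WW P) (hs' : ∀ f i, L.Ψ i (s f) = f i)
    (hle : (WW P ⊓ centralizer (X : Set P)).relIndex (WW P) ≤ (pCore 2 P ⊓ X).relIndex X) {w : P} (hw : w ∈ WW P) :
    ∃ a ∈ X, (s (fv L X num a))⁻¹ * w ∈ WW P ∧ ∀ x ∈ X, x * ((s (fv L X num a))⁻¹ * w) * x⁻¹ =
      (s (fv L X num a))⁻¹ * w := by
  have hbij := (cmap_injective L h hnum hs hs').bijective_of_nat_card_le hle
  obtain ⟨q, hq⟩ := hbij.2 (QuotientGroup.mk ⟨w, hw⟩)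
  have h1 := QuotientGroup.eq.1 hq
  rw [mem_subgroupOf] at h1
  have h2 : (s (fv L X num (q.out : X)))⁻¹ * w ∈ WW P ⊓ centralizer (X : Set P) := h1
  exact ⟨q.out, (q.out : X).2, h2.1, fun x hx => by rw [h2.2 x hx, mul_inv_cancel_right]⟩

/-- the structure in the case of equality -/
structure EqD (X : Subgroup P) : Prop where
  acts : ∀ i, ∀ a ∈ X, ∃ c, L.Acts i a c
  surj : ∀ γ : b.I → K, ∃ a ∈ X, ∀ i, L.Acts i a (γ i)
  cent : ∀ w ∈ WW P, (∀ i, L.Ψ i w 1 = 0) → w ∈ centralizer (X : Set P)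

theorem exists_eqd [Finite K] [CharP K 2] [Finite b.I] (h : Off T X) (hX : ¬ X ≤ pCore 2 P)
    (hle : (WW P ⊓ centralizer (X : Set P)).relIndex (WW P) ≤ (pCore 2 P ⊓ X).relIndex X) : EqD L X := by
  obtain ⟨n, ⟨e⟩⟩ := Finite.exists_equiv_fin b.I
  set num : b.I → ℕ := fun i => (e i : ℕ) with hnumdef
  have hnum : Function.Injective num := fun i j hij => e.injective (Fin.ext hij)
  obtain ⟨s, hs, hs', hs0⟩ := exists_section L
  have hsurj := fun {w : P} (hw : w ∈ WW P) => off_surj L h hnum hs hs' hle hw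
  -- no block is moved
  have hnot : ∀ i j, i ≠ j → num i < num j → ∀ x ∈ X, ¬ Mv b x i j := by
    intro i j hij hn x hx hm
    obtain ⟨w, hw, hwv⟩ := (L.one i).ψsurj ![0, 1]
    have hwW := Wi_le_WW b i hw
    obtain ⟨a, ha, hv, hvX⟩ := hsurj hwW
    have h1 : L.Ψ j ((s (fv L X num a))⁻¹ * w) = 0 := by
      rw [L.div j (hs _) hwW, hs', fv_pair_hi L h hij hx hm hn ha, L.other (Ne.symm hij) hw, sub_zero]
    have h2 : L.Ψ i ((s (fv L X num a))⁻¹ * w) = 0 := by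
      have h3 := L.zero_iff hm hv
      rw [hvX x hx] at h3
      exact h3.1 h1
    rw [L.div i (hs _) hwW, hs', fv_pair_lo L h hij hx hm hn ha, hwv] at h2
    have h3 := congrFun h2 1
    by_cases h4 : Mv b a i j
    · rw [if_pos h4] at h3
      simp at h3
    · rw [if_neg h4] at h3
      simp at h3
  have hfix : ∀ i, ∀ x ∈ X, Mv b x i i := by
    intro i x hx
    obtain ⟨j, hm⟩ := exists_mv (b := b) (h.le hx) i
    by_cases hij : i = j
    · rwa [← hij] at hm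
    exfalso
    rcases lt_trichotomy (num i) (num j) with hn | hn | hn
    · exact hnot i j hij hn x hx hm
    · exact hij (hnum hn)
    · exact hnot j i (Ne.symm hij) hn x⁻¹ (inv_mem hx) hm.inv
  have hacts : ∀ i, ∀ a ∈ X, ∃ c, L.Acts i a c := fun i a ha => fixed_acts L h (hfix i) ha
  -- `X` acts nontrivially on every block
  have hnt : ∀ i, ∃ x ∈ X, ∃ d, d ≠ 0 ∧ L.Acts i x d := by
    by_contra hcon
    push Not at hcon
    obtain ⟨i₀, hi₀⟩ := hcon
    have h0 : ∀ x ∈ X, L.Acts i₀ x 0 := by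
      intro x hx
      obtain ⟨c, hc⟩ := hacts i₀ x hx
      by_cases hc0 : c = 0
      · rwa [hc0] at hc
      · exact absurd hc (hi₀ x hx c hc0)
    apply hX
    intro x hx
    apply L.mem_Q (h.le hx)
    intro i
    obtain ⟨t, ht, hti⟩ := b.trans i₀ i
    have hm : Mv b t i₀ i := hti
    rw [L.acts_zero_iff]
    intro w hw
    have h1 : t⁻¹ * x * t ∈ X := by
      have := (mem_normalizer_iff.1 (h.nor (inv_mem ht)) x).1 hx
      rwa [inv_inv] at this
    have h2 := (L.acts_zero_iff i₀ _).1 (h0 _ h1) (t⁻¹ * w * t) (by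
      have := conj_WW hw t⁻¹
      rwa [inv_inv] at this)
    have h3 := hm.cent h2
    have h4 : t * ⁅t⁻¹ * x * t, t⁻¹ * w * t⁆ * t⁻¹ = ⁅x, w⁆ := by
      simp only [commutatorElement_def]; group
    rwa [h4] at h3
  refine ⟨hacts, ?_, ?_⟩
  · intro γ
    obtain ⟨w, hw, hwv⟩ := L.joint (fun i => ![0, γ i])
    obtain ⟨a, ha, hv, hvX⟩ := hsurj hw
    refine ⟨a, ha, fun i => ?_⟩
    obtain ⟨c, hc⟩ := hacts i a ha
    obtain ⟨x, hx, d, hd, hact⟩ := hnt i
    have h2 := hact _ hv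
    rw [hvX x hx] at h2
    have h3 := (fix_uu hd).1 h2.symm
    rw [L.div i (hs _) hw, hs', fv_fixed L (hfix i) hc, hwv, Pi.sub_apply] at h3
    simp only [Matrix.cons_val_one] at h3
    rw [sub_eq_zero] at h3
    have h4 : γ i = c := h3
    rwa [h4]
  · intro w hw hw1
    obtain ⟨a, ha, hv, hvX⟩ := hsurj hw
    have h0 : fv L X num a = 0 := by
      funext i
      obtain ⟨c, hc⟩ := hacts i a ha
      obtain ⟨x, hx, d, hd, hact⟩ := hnt i
      have h2 := hact _ hv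
      rw [hvX x hx] at h2
      have h3 := (fix_uu hd).1 h2.symm
      rw [L.div i (hs _) hw, hs', fv_fixed L (hfix i) hc, Pi.sub_apply, hw1] at h3
      simp only [Matrix.cons_val_one, zero_sub, neg_eq_zero] at h3
      have h4 : c = 0 := h3
      rw [fv_fixed L (hfix i) hc, h4]
      funext k
      fin_cases k <;> rfl
    rw [h0, hs0, inv_one, one_mul] at hvX
    intro x hx
    have h1 := hvX x hx
    rw [mul_inv_eq_iff_eq_mul] at h1
    exact h1

end

end Cfsg.Agent.H880.HM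
end

-- part: H880/HM/LinF
section
/-!
# S5175, T4/T5 linear part, F (for helper756): the subgroup `T₀` and the block data

* `TT L` : the elements of `T` acting as unitriangular matrices on all blocks; `AA`, `BB`;
* `linOne` : one block: `LinOne`;
* `exists_bd` : the block data.
-/

set_option autoImplicit false
set_option linter.unusedSectionVars false

namespace Cfsg.Agent.H880.HM

open Cfsg Subgroup Cfsg.Agent.H756.HM
open scoped commutatorElement

universe u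

section

variable {P : Type u} [Group P] [Finite P] {T : Sylow 2 P} {b : Blk (T : Subgroup P)} {K : Type} [Field K]
  (L : LD b K) {X : Subgroup P}

/-- the subgroup `T₀` -/
def TT : Subgroup P where
  carrier := {t | t ∈ (T : Subgroup P) ∧ ∀ i, ∃ c, L.Acts i t c}
  one_mem' := ⟨one_mem _, fun i => ⟨0, LD.Acts.one i⟩⟩
  mul_mem' := by
    rintro x y ⟨hx, hx'⟩ ⟨hy, hy'⟩
    refine ⟨mul_mem hx hy, fun i => ?_⟩
    obtain ⟨c, hc⟩ := hx' i
    obtain ⟨d, hd⟩ := hy' i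
    exact ⟨_, hc.mul hd⟩
  inv_mem' := by
    rintro x ⟨hx, hx'⟩
    refine ⟨inv_mem hx, fun i => ?_⟩
    obtain ⟨c, hc⟩ := hx' i
    exact ⟨_, hc.inv⟩

/-- the elements of `T₀` acting trivially on all blocks but `j` -/
def AA (j : b.I) : Subgroup P where
  carrier := {t | t ∈ TT L ∧ ∀ k, k ≠ j → L.Acts k t 0}
  one_mem' := ⟨one_mem _, fun i _ => LD.Acts.one i⟩
  mul_mem' := by
    rintro x y ⟨hx, hx'⟩ ⟨hy, hy'⟩
    refine ⟨mul_mem hx hy, fun i hi => ?_⟩
    have h1 := (hx' i hi).mul (hy' i hi)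
    rwa [add_zero] at h1
  inv_mem' := by
    rintro x ⟨hx, hx'⟩
    refine ⟨inv_mem hx, fun i hi => ?_⟩
    have h1 := (hx' i hi).inv
    rwa [neg_zero] at h1

/-- the elements of `T₀` acting trivially on the block `j` -/
def BB (j : b.I) : Subgroup P where
  carrier := {t | t ∈ TT L ∧ L.Acts j t 0}
  one_mem' := ⟨one_mem _, LD.Acts.one j⟩
  mul_mem' := by
    rintro x y ⟨hx, hx'⟩ ⟨hy, hy'⟩
    refine ⟨mul_mem hx hy, ?_⟩
    have h1 := hx'.mul hy'
    rwa [add_zero] at h1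
  inv_mem' := by
    rintro x ⟨hx, hx'⟩
    refine ⟨inv_mem hx, ?_⟩
    have h1 := hx'.inv
    rwa [neg_zero] at h1

theorem mem_BB {j : b.I} {t : P} : t ∈ BB L j ↔ t ∈ TT L ∧ L.Acts j t 0 := Iff.rfl

theorem Q_le_TT : pCore 2 P ≤ TT L := fun _ hg => ⟨Q_le_T hg, fun i => ⟨0, L.acts_Q i hg⟩⟩

theorem Q_le_AA (j : b.I) : pCore 2 P ≤ AA L j := fun _ hg => ⟨Q_le_TT L hg, fun k _ => L.acts_Q k hg⟩

theorem Q_le_BB (j : b.I) : pCore 2 P ≤ BB L j := fun _ hg => ⟨Q_le_TT L hg, L.acts_Q j hg⟩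

/-- elements of `T ∩ E_j` -/
theorem exists_E (j : b.I) (c : K) : ∃ e ∈ b.E j, e ∈ AA L j ∧ L.Acts j e c := by
  obtain ⟨e, he, heT, hec⟩ := (L.one j).UT c
  have h1 : L.Acts j e c := L.acts_E he hec
  refine ⟨e, he, ⟨⟨heT, fun i => ?_⟩, fun k hk => L.acts_other hk he⟩, h1⟩
  by_cases hij : i = j
  · rw [hij]; exact ⟨c, h1⟩
  · exact ⟨0, L.acts_other hij he⟩

/-- the character of `T₀` at a block -/
noncomputable def ch [Finite b.I] (i : b.I) : TT L →* Multiplicative K where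
  toFun t := Multiplicative.ofAdd (t.2.2 i).choose
  map_one' := by
    have h1 := ((1 : TT L).2.2 i).choose_spec
    have h2 := h1.uniq (LD.Acts.one (L := L) i)
    rw [h2]
    rfl
  map_mul' s t := by
    have h1 := ((s * t).2.2 i).choose_spec
    have h2 := h1.uniq ((s.2.2 i).choose_spec.mul (t.2.2 i).choose_spec)
    rw [h2]
    rfl

theorem ch_spec [Finite b.I] (i : b.I) (t : TT L) : L.Acts i t (Multiplicative.toAdd (ch L i t)) :=
  (t.2.2 i).choose_spec

theorem ch_eq_one [Finite b.I] (i : b.I) (t : TT L) : ch L i t = 1 ↔ L.Acts i (t : P) 0 := by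
  constructor
  · intro h
    have h1 := ch_spec L i t
    rw [h] at h1
    exact h1
  · intro h
    have h1 := (ch_spec L i t).uniq h
    exact h1

theorem ch_surj [Finite b.I] (i : b.I) (c : K) : ∃ e : TT L, (e : P) ∈ AA L i ∧ (e : P) ∈ b.E i ∧
    ch L i e = Multiplicative.ofAdd c := by
  obtain ⟨e, he, heA, hec⟩ := exists_E L i c
  refine ⟨⟨e, heA.1⟩, heA, he, ?_⟩
  have h1 := (ch_spec L i ⟨e, heA.1⟩).uniq hec
  exact h1

theorem relIndex_BB [Finite b.I] [Fintype K] (j : b.I) : (BB L j).relIndex (TT L) = Fintype.card K := by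
  have h1 : (BB L j).subgroupOf (TT L) = (ch L j).ker := by
    ext t
    rw [mem_subgroupOf, MonoidHom.mem_ker, ch_eq_one, mem_BB]
    exact ⟨fun h => h.2, fun h => ⟨t.2, h⟩⟩
  have h2 : (ch L j).range = ⊤ := by
    rw [MonoidHom.range_eq_top]
    intro c
    obtain ⟨e, -, -, he⟩ := ch_surj L j (Multiplicative.toAdd c)
    exact ⟨e, he⟩
  rw [relIndex, h1, Subgroup.index_ker, h2, Subgroup.card_top, Nat.card_congr Multiplicative.toAdd,
    Nat.card_eq_fintype_card]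

theorem AA_le (j : b.I) : AA L j ≤ TT L := fun _ h => h.1

theorem BB_le (j : b.I) : BB L j ≤ TT L := fun _ h => h.1

theorem mem_Q_of_AA {j : b.I} {t : P} (ht : t ∈ AA L j) (h : L.Acts j t 0) : t ∈ pCore 2 P := by
  apply L.mem_Q ht.1.1
  intro i
  by_cases hij : i = j
  · rw [hij]; exact h
  · exact ht.2 i hij

theorem relIndex_AA [Finite b.I] [Fintype K] (j : b.I) : (pCore 2 P).relIndex (AA L j) = Fintype.card K := by
  set f : AA L j →* Multiplicative K := (ch L j).comp (Subgroup.inclusion (AA_le L j)) with hf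
  have h1 : (pCore 2 P).subgroupOf (AA L j) = f.ker := by
    ext t
    rw [mem_subgroupOf, MonoidHom.mem_ker, hf, MonoidHom.comp_apply, ch_eq_one]
    exact ⟨fun h => L.acts_Q j h, fun h => mem_Q_of_AA L t.2 h⟩
  have h2 : f.range = ⊤ := by
    rw [MonoidHom.range_eq_top]
    intro c
    obtain ⟨e, heA, -, he⟩ := ch_surj L j (Multiplicative.toAdd c)
    exact ⟨⟨e, heA⟩, he⟩
  rw [relIndex, h1, Subgroup.index_ker, h2, Subgroup.card_top, Nat.card_congr Multiplicative.toAdd,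
    Nat.card_eq_fintype_card]

/-- `T₀ = A_j B_j` -/
theorem AA_sup_BB (j : b.I) : AA L j ⊔ BB L j = TT L := by
  apply le_antisymm (sup_le (AA_le L j) (BB_le L j))
  intro t ht
  obtain ⟨c, hc⟩ := ht.2 j
  obtain ⟨e, he, heA, hec⟩ := exists_E L j c
  have h1 : e⁻¹ * t ∈ BB L j := by
    refine ⟨mul_mem (inv_mem heA.1) ht, ?_⟩
    have h2 := hec.inv.mul hc
    rwa [neg_add_cancel] at h2
  have h2 : t = e * (e⁻¹ * t) := by group
  rw [h2]
  exact mul_mem ((le_sup_left : AA L j ≤ _) heA) ((le_sup_right : BB L j ≤ _) h1)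

/-- elements of `A_j` are in `(T ∩ E_j) Q` -/
theorem AA_decomp {j : b.I} {t : P} (ht : t ∈ AA L j) : ∃ e ∈ b.E j, e ∈ (T : Subgroup P) ∧ e⁻¹ * t ∈ pCore 2 P := by
  obtain ⟨c, hc⟩ := ht.1.2 j
  obtain ⟨e, he, heA, hec⟩ := exists_E L j c
  refine ⟨e, he, heA.1.1, mem_Q_of_AA L (mul_mem (inv_mem heA) ht) ?_⟩
  have h2 := hec.inv.mul hc
  rwa [neg_add_cancel] at h2

/-- `[W_j, B_j] = 1` -/
theorem WB_comm [Finite b.I] {j : b.I} {w t : P} (hw : w ∈ ⁅pCore 2 P, b.E j⁆) (ht : t ∈ BB L j) : w * t = t * w := by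
  classical
  have : Fintype b.I := Fintype.ofFinite _
  have key : ∀ s : Finset b.I, j ∉ s → ∀ t ∈ TT L, (∀ i, i ∉ s → L.Acts i t 0) → w * t = t * w := by
    intro s
    induction s using Finset.induction_on with
    | empty =>
      intro _ t ht h
      exact W_commQ b (Wi_le_WW b j hw) (L.mem_Q ht.1 fun i => h i (Finset.notMem_empty i))
    | insert k s hk ih =>
      intro hj t ht h
      rw [Finset.mem_insert, not_or] at hj
      obtain ⟨c, hc⟩ := ht.2 k
      obtain ⟨e, he, heA, hec⟩ := exists_E L k c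
      have h1 := ih hj.2 (e⁻¹ * t) (mul_mem (inv_mem heA.1) ht) (fun i hi => by
        by_cases hik : i = k
        · rw [hik]
          have h2 := hec.inv.mul hc
          rwa [neg_add_cancel] at h2
        · have h2 := (heA.2 i hik).inv.mul (h i (by
            rw [Finset.mem_insert, not_or]
            exact ⟨hik, hi⟩))
          rwa [neg_zero, add_zero] at h2)
      have h2 : w * e = e * w := EW_comm b hj.1 hw he
      calc w * t = (w * e) * (e⁻¹ * t) := by group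
        _ = e * (w * (e⁻¹ * t)) := by rw [h2]; group
        _ = t * w := by rw [h1]; group
  exact key (Finset.univ.erase j) (Finset.notMem_erase j _) t ht.1 (fun i hi => by
    have h1 : i = j := by
      by_contra h2
      exact hi (Finset.mem_erase.2 ⟨h2, Finset.mem_univ i⟩)
    rw [h1]
    exact ht.2)

/-- `E_j` centralizes `[W, B_j]` -/
theorem EB_comm {j : b.I} {w t e : P} (hw : w ∈ WW P) (ht : t ∈ BB L j) (he : e ∈ b.E j) :
    e * ⁅w, t⁆ = ⁅w, t⁆ * e := by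
  have h1 := (L.acts_zero_iff j t).1 ht.2 w hw
  have h2 : ⁅w, t⁆ = ⁅t, w⁆⁻¹ := (commutatorElement_inv t w).symm
  rw [h2]
  exact (inv_mem h1) e he

/-- `C_{T/Q}(T₀/Q) ≤ T₀/Q` -/
theorem cent_TT [Finite K] [CharP K 2] {t : P} (ht : t ∈ (T : Subgroup P)) (h : ∀ a ∈ TT L, ⁅t, a⁆ ∈ pCore 2 P) :
    t ∈ TT L := by
  refine ⟨ht, fun i => ?_⟩
  have hm : Mv b t i i := by
    obtain ⟨j, hj⟩ := exists_mv (b := b) ht i
    by_cases hij : i = j
    · rwa [← hij] at hj
    exfalso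
    obtain ⟨e, he, heA, hec⟩ := exists_E L i 1
    have h1 : L.Acts i (⁅t, e⁆ * e) (0 + 1) := (L.acts_Q i (h e heA.1)).mul hec
    have h2 : ⁅t, e⁆ * e = t * e * t⁻¹ := by rw [commutatorElement_def]; group
    rw [h2] at h1
    have h3 : L.Acts i (t * e * t⁻¹) 0 := L.acts_other hij (hj.mem he)
    obtain ⟨w, hw, hv⟩ := (L.one i).ψsurj ![0, 1]
    have h4 := h1 w (Wi_le_WW b i hw)
    rw [h3 w (Wi_le_WW b i hw), hv, uu_zero, sm_one] at h4
    have h5 := congrFun h4 0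
    rw [sm_uu_zero] at h5
    simp at h5
  apply L.acts_of_comm ht hm
  intro e he heT
  apply L.acts_Q
  apply h
  obtain ⟨c, hc⟩ := (L.one i).TU e he heT
  refine ⟨heT, fun k => ?_⟩
  by_cases hki : k = i
  · rw [hki]; exact ⟨c, L.acts_E he hc⟩
  · exact ⟨0, L.acts_other hki he⟩

/-- `X Q = T₀` in the case of equality -/
theorem sup_eq_TT [Finite b.I] (h : Off T X) (D : EqD L X) : X ⊔ pCore 2 P = TT L := by
  apply le_antisymm
  · exact sup_le (fun x hx => ⟨h.le hx, fun i => D.acts i x hx⟩) (Q_le_TT L)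
  · intro t ht
    obtain ⟨a, ha, hact⟩ := D.surj fun i => (ht.2 i).choose
    have h1 : a⁻¹ * t ∈ pCore 2 P := by
      apply L.mem_Q (mul_mem (inv_mem (h.le ha)) ht.1)
      intro i
      have h2 := (hact i).inv.mul (ht.2 i).choose_spec
      rwa [neg_add_cancel] at h2
    have h2 : t = a * (a⁻¹ * t) := by group
    rw [h2]
    exact mul_mem ((le_sup_left : X ≤ _) ha) ((le_sup_right : pCore 2 P ≤ _) h1)

/-- `C_W(T₀)` in the case of equality -/
theorem cent_iff [Finite b.I] (h : Off T X) (D : EqD L X) {w : P} (hw : w ∈ WW P) :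
    w ∈ centralizer (TT L : Set P) ↔ ∀ i, L.Ψ i w 1 = 0 := by
  constructor
  · intro h1 i
    obtain ⟨e, he, heA, hec⟩ := exists_E L i 1
    have h2 := h1 e heA.1
    have h3 := hec w hw
    rw [h2, mul_inv_cancel_right] at h3
    exact (fix_uu one_ne_zero).1 h3.symm
  · intro h1
    have h2 := D.cent w hw h1
    rw [← sup_eq_TT L h D]
    have h3 : X ⊔ pCore 2 P ≤ centralizer ({w} : Set P) := by
      refine sup_le (fun x hx => ?_) (fun g hg => ?_)
      · rw [mem_centralizer_singleton_iff]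
        exact h2 x hx
      · rw [mem_centralizer_singleton_iff]
        exact (W_commQ b hw hg).symm
    intro x hx
    have h4 := h3 hx
    rw [mem_centralizer_singleton_iff] at h4
    exact h4

/-- `C_W(a)` for `a ∈ A_j \ Q` -/
theorem cent_a [Finite b.I] (h : Off T X) (D : EqD L X) {j : b.I} {a : P} (ha : a ∈ AA L j) (haQ : a ∉ pCore 2 P)
    {w : P} (hw : w ∈ WW P) : w ∈ centralizer ({a} : Set P) ↔ L.Ψ j w 1 = 0 := by
  rw [mem_centralizer_singleton_iff]
  obtain ⟨c, hc⟩ := ha.1.2 j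
  have hc0 : c ≠ 0 := by
    rintro rfl
    exact haQ (mem_Q_of_AA L ha hc)
  constructor
  · intro h1
    have h2 := hc w hw
    rw [← h1, mul_inv_cancel_right] at h2
    exact (fix_uu hc0).1 h2.symm
  · intro h1
    obtain ⟨x, hx, y, hy, hy', rfl⟩ := decomp b j hw
    have hxW := Wi_le_WW b j hx
    have h2 : L.Ψ j y = 0 := ((L.one j).ψker y hy).2 hy'
    rw [(L.one j).ψmul _ hxW _ hy, h2, add_zero] at h1
    have h3 : x ∈ centralizer (TT L : Set P) := by
      rw [cent_iff L h D hxW]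
      intro i
      by_cases hij : i = j
      · rw [hij]; exact h1
      · rw [L.other hij hx]; rfl
    have h4 : a * x = x * a := h3 a ha.1
    obtain ⟨e, he, heT, hg⟩ := AA_decomp L ha
    have h5 : a * y = y * a := by
      have h6 : e * y = y * e := hy' e he
      have h7 : y * (e⁻¹ * a) = (e⁻¹ * a) * y := W_commQ b hy hg
      calc a * y = e * ((e⁻¹ * a) * y) := by group
        _ = e * y * (e⁻¹ * a) := by rw [← h7]; group
        _ = y * a := by rw [h6]; group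
    rw [mul_assoc, ← h5, ← mul_assoc, ← h4, mul_assoc]

/-- the index of `C_W(a)` -/
theorem index_a [Finite b.I] [Fintype K] (h : Off T X) (D : EqD L X) {j : b.I} {a : P} (ha : a ∈ AA L j)
    (haQ : a ∉ pCore 2 P) :
    (WW P ⊓ centralizer ({a} : Set P)).relIndex (WW P) = Fintype.card K := by
  let f : WW P →* Multiplicative K :=
    { toFun := fun w => Multiplicative.ofAdd (L.Ψ j w 1)
      map_one' := by
        show Multiplicative.ofAdd (L.Ψ j 1 1) = 1
        rw [L.zero]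
        rfl
      map_mul' := fun w w' => by
        show Multiplicative.ofAdd (L.Ψ j ((w : P) * w') 1) = _
        rw [(L.one j).ψmul _ w.2 _ w'.2]
        rfl }
  have h1 : (WW P ⊓ centralizer ({a} : Set P)).subgroupOf (WW P) = f.ker := by
    ext w
    rw [mem_subgroupOf, MonoidHom.mem_ker]
    have h2 := cent_a L h D ha haQ w.2
    constructor
    · intro h3
      have h4 := h2.1 h3.2
      show Multiplicative.ofAdd (L.Ψ j w 1) = 1
      rw [h4]
      rfl
    · intro h3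
      exact ⟨w.2, h2.2 h3⟩
  have h2 : f.range = ⊤ := by
    rw [MonoidHom.range_eq_top]
    intro c
    obtain ⟨w, hw, hv⟩ := (L.one j).ψsurj ![0, Multiplicative.toAdd c]
    refine ⟨⟨w, Wi_le_WW b j hw⟩, ?_⟩
    show Multiplicative.ofAdd (L.Ψ j w 1) = c
    rw [hv]
    rfl
  rw [relIndex, h1, Subgroup.index_ker, h2, Subgroup.card_top, Nat.card_congr Multiplicative.toAdd,
    Nat.card_eq_fintype_card]

include L in
/-- irreducibility -/
theorem irr_E {j : b.I} {Y : Subgroup P} (hY : Y ≤ pCore 2 P) (hn : b.E j ≤ normalizer (Y : Set P))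
    (hc : ¬ Y ≤ centralizer (b.E j : Set P)) : ⁅pCore 2 P, b.E j⁆ ≤ Y := by
  have := fact2
  have hYp : IsPGroup 2 Y := (Lib.Cores.pCore_isPGroup (G := P) 2).to_le hY
  have h1 : ⁅Y, b.E j⁆ ≤ Y := H259.Block.commutator_le_of_norm hn
  have h2 : ⁅Y, b.E j⁆ ≤ ⁅pCore 2 P, b.E j⁆ := commutator_mono hY le_rfl
  obtain ⟨y, hy, hy'⟩ : ∃ y ∈ ⁅Y, b.E j⁆, y ∉ centralizer (b.E j : Set P) := by
    by_contra hcon
    push Not at hcon
    have h3 : ⁅⁅Y, b.E j⁆, b.E j⁆ = ⊥ := commutator_eq_bot_iff_le_centralizer.2 hcon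
    have h4 := H259.Block.commutator_eq_bot_of_commutator hYp (b.two j) hn h3
    exact hc (commutator_eq_bot_iff_le_centralizer.1 h4)
  have hyW := Wi_le_WW b j (h2 hy)
  have hy0 : L.Ψ j y ≠ 0 := fun h3 => hy' (((L.one j).ψker y hyW).1 h3)
  -- every value is attained on `Y ∩ W_j`
  have hval : ∀ v, ∃ x ∈ Y, x ∈ ⁅pCore 2 P, b.E j⁆ ∧ L.Ψ j x = v := by
    intro v
    by_cases hv : v = 0
    · exact ⟨1, one_mem _, one_mem _, by rw [L.zero, hv]⟩
    obtain ⟨m, hm⟩ := exists_sm_e hy0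
    obtain ⟨m', hm'⟩ := exists_sm_e hv
    obtain ⟨e, he, hem⟩ := (L.one j).ρsurj (m' * m⁻¹)
    refine ⟨e * y * e⁻¹, (mem_normalizer_iff.1 (hn he) y).1 (h1 hy), conjE_Wi b he (h2 hy), ?_⟩
    rw [(L.one j).equi e he y hyW, hem, sm_mul, ← hm, sm_inv_sm, hm']
  rw [← b.perf j, commutator_le]
  intro w hw e he
  obtain ⟨x, hxY, hxW, hx⟩ := hval (L.Ψ j w)
  have hwW := Wi_le_WW b j hw
  have hxW' := Wi_le_WW b j hxW
  have h3 : x⁻¹ * w ∈ centralizer (b.E j : Set P) := by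
    rw [← (L.one j).ψker _ (mul_mem (inv_mem hxW') hwW), L.div j hxW' hwW, hx, sub_self]
  have h4 : (x⁻¹ * w) * e = e * (x⁻¹ * w) := (h3 e he).symm
  have h5 : ⁅w, e⁆ = ⁅x, e⁆ := by
    rw [commutatorElement_def, commutatorElement_def]
    calc w * e * w⁻¹ * e⁻¹ = x * ((x⁻¹ * w) * e) * w⁻¹ * e⁻¹ := by group
      _ = x * (e * (x⁻¹ * w)) * w⁻¹ * e⁻¹ := by rw [h4]
      _ = x * e * x⁻¹ * e⁻¹ := by group
  rw [h5]
  have h6 : ⁅x, e⁆ = x * (e * x⁻¹ * e⁻¹) := by rw [commutatorElement_def]; group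
  rw [h6]
  exact mul_mem hxY ((mem_normalizer_iff.1 (hn he) _).1 (inv_mem hxY))

end

end Cfsg.Agent.H880.HM
end

-- part: H880/HM/LinG
section
/-!
# S5175, T4/T5 linear part, G (for helper756): the end

* `linOne` : one block: `LinOne`;
* `off_lin` : the conclusion of `StOff` for a `Blk` of linear type;
* `bd_lin` : the conclusion of `StBD` for a `Blk` of linear type.
-/

set_option autoImplicit false
set_option linter.unusedSectionVars false

namespace Cfsg.Agent.H880.HM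

open Cfsg Subgroup Cfsg.Agent.H756.HM
open scoped commutatorElement

universe u

/-- the first alternative of `Blk.typ` -/
def LinTyp {P : Type u} [Group P] {T : Subgroup P} (b : Blk T) : Prop :=
  ∃ (K : Type) (_ : Field K) (_ : Fintype K) (n : ℕ), 2 ≤ n ∧ Fintype.card K = 2 ^ n ∧
      ∀ i, ∃ (ρ : ↥(b.E i) →* Matrix.SpecialLinearGroup (Fin 2) K)
        (ψ : ↥(⁅pCore 2 P, b.E i⁆ : Subgroup P) →* Multiplicative (Fin 2 → K)),
        Function.Surjective ρ ∧
        (∀ e, ρ e = 1 ↔ (e : P) ∈ ⁅pCore 2 P, b.E i⁆) ∧ Function.Surjective ψ ∧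
        (∀ w, ψ w = 1 ↔ (w : P) ∈ Subgroup.centralizer (b.E i : Set P)) ∧
        ∀ (e : b.E i) (w w' : ↥(⁅pCore 2 P, b.E i⁆ : Subgroup P)), (w' : P) = (e : P) * w * (e : P)⁻¹ →
          Multiplicative.toAdd (ψ w') =
            ((ρ e : Matrix.SpecialLinearGroup (Fin 2) K) : Matrix (Fin 2) (Fin 2) K).mulVec
              (Multiplicative.toAdd (ψ w))

section

variable {P : Type u} [Group P] [Finite P] {T : Sylow 2 P} {b : Blk (T : Subgroup P)} {K : Type} [Field K]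
  (L : LD b K)

/-- **One block.** -/
theorem linOne [Fintype K] {n : ℕ} (hn : 1 ≤ n) (hK : Fintype.card K = 2 ^ n) {i : b.I} (hI : ∀ j : b.I, j = i) :
    LinOne P (WW P) (TT L) (Fintype.card K) := by
  classical
  have hfin : Finite b.I := b.fin
  have hR : pResidual 2 P = b.E i := by
    apply le_antisymm _ (E_le b i)
    rw [← b.sup]
    exact iSup_le fun j => by rw [hI j]
  have hsur : ∀ v : Fin 2 → K, ∃ w ∈ WW P, L.Ψ i w = v := by
    intro v
    obtain ⟨w, hw, hv⟩ := (L.one i).ψsurj v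
    exact ⟨w, Wi_le_WW b i hw, hv⟩
  have hRn : (pResidual 2 P).Normal := Cfsg.Agent.Transfer.Residual.pResidual_normal (G := P) 2
  have hdec : ∀ g ∈ pResidual 2 P ⊔ TT L, ∃ r ∈ b.E i, ∃ t ∈ TT L, g = r * t := by
    intro g hg
    rw [← SetLike.mem_coe, Subgroup.normal_mul] at hg
    obtain ⟨r, hr, t, ht, rfl⟩ := Set.mem_mul.1 hg
    rw [SetLike.mem_coe, hR] at hr
    exact ⟨r, hr, t, ht, rfl⟩
  have hex : ∀ g : ↥(pResidual 2 P ⊔ TT L), ∃ m : Matrix.SpecialLinearGroup (Fin 2) K, ∀ w ∈ WW P,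
      L.Ψ i ((g : P) * w * (g : P)⁻¹) = sm m (L.Ψ i w) := by
    rintro ⟨g, hg⟩
    obtain ⟨r, hr, t, ht, rfl⟩ := hdec g hg
    obtain ⟨c, hc⟩ := ht.2 i
    refine ⟨L.ρ i r * uu c, fun w hw => ?_⟩
    have h1 : (r * t) * w * (r * t)⁻¹ = r * (t * w * t⁻¹) * r⁻¹ := by group
    show L.Ψ i ((r * t) * w * (r * t)⁻¹) = _
    rw [h1, (L.one i).equi r hr _ (conj_WW hw t), hc w hw, sm_mul]
  choose f hf using hex
  have huniq : ∀ (g : ↥(pResidual 2 P ⊔ TT L)) (m : Matrix.SpecialLinearGroup (Fin 2) K),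
      (∀ w ∈ WW P, L.Ψ i ((g : P) * w * (g : P)⁻¹) = sm m (L.Ψ i w)) → f g = m := by
    intro g m hm
    apply ext_sm
    intro v
    obtain ⟨w, hw, rfl⟩ := hsur v
    rw [← hf g w hw, hm w hw]
  let ρ : ↥(pResidual 2 P ⊔ TT L) →* Matrix.SpecialLinearGroup (Fin 2) K :=
    { toFun := f
      map_one' := huniq 1 1 fun w hw => by
        show L.Ψ i (1 * w * 1⁻¹) = _
        rw [one_mul, inv_one, mul_one, sm_one]
      map_mul' := fun g g' => huniq _ _ fun w hw => by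
        have h1 : ((g : P) * (g' : P)) * w * ((g : P) * (g' : P))⁻¹ = (g : P) * ((g' : P) * w * (g' : P)⁻¹) * (g : P)⁻¹ := by
          group
        show L.Ψ i (((g : P) * (g' : P)) * w * ((g : P) * (g' : P))⁻¹) = _
        rw [h1, hf g _ (conj_WW hw _), hf g' w hw, sm_mul] }
  let ψ : ↥(WW P) →* Multiplicative (Fin 2 → K) :=
    { toFun := fun w => Multiplicative.ofAdd (L.Ψ i w)
      map_one' := by
        show Multiplicative.ofAdd (L.Ψ i 1) = 1
        rw [L.zero]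
        rfl
      map_mul' := fun w w' => by
        show Multiplicative.ofAdd (L.Ψ i ((w : P) * w')) = _
        rw [(L.one i).ψmul _ w.2 _ w'.2]
        rfl }
  refine ⟨K, inferInstance, inferInstance, n, hn, hK, rfl, ρ, ψ, ?_, ?_, ?_, ?_, ?_⟩
  · intro m
    obtain ⟨e, he, hem⟩ := (L.one i).ρsurj m
    refine ⟨⟨e, (le_sup_left : pResidual 2 P ≤ _) (E_le b i he)⟩, ?_⟩
    apply huniq
    intro w hw
    rw [← hem]
    exact (L.one i).equi e he w hw
  · intro g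
    constructor
    · intro h
      obtain ⟨r, hr, t, ht, hgrt⟩ := hdec g g.2
      obtain ⟨c, hc⟩ := ht.2 i
      have h1 : L.ρ i r * uu c = 1 := by
        have h2 := huniq g (L.ρ i r * uu c) (fun w hw => by
          have h1 : (r * t) * w * (r * t)⁻¹ = r * (t * w * t⁻¹) * r⁻¹ := by group
          rw [hgrt, h1, (L.one i).equi r hr _ (conj_WW hw t), hc w hw, sm_mul])
        rw [← h2]
        exact h
      have h2 : L.ρ i r = uu (-c) := by
        rw [← uu_inv]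
        exact eq_inv_of_mul_eq_one_left h1
      obtain ⟨e, he, heT, hec⟩ := (L.one i).UT (-c)
      have h3 : e⁻¹ * r ∈ ⁅pCore 2 P, b.E i⁆ := by
        rw [← (L.one i).ρker _ (mul_mem (inv_mem he) hr)]
        have h4 := (L.one i).ρmul e he (e⁻¹ * r) (mul_mem (inv_mem he) hr)
        rw [mul_inv_cancel_left, h2, hec] at h4
        exact (left_eq_mul.1 h4)
      have h4 : r ∈ (T : Subgroup P) := by
        have h5 := mul_mem heT (WW_le_T (Wi_le_WW b i h3))
        rwa [mul_inv_cancel_left] at h5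
      have hgT : (g : P) ∈ (T : Subgroup P) := by
        rw [hgrt]
        exact mul_mem h4 ht.1
      apply L.mem_Q hgT
      intro j
      rw [hI j]
      intro w hw
      rw [hf g w hw]
      have h5 : f g = 1 := h
      rw [h5, uu_zero]
    · intro h
      apply huniq
      intro w hw
      rw [L.acts_Q i h w hw, uu_zero]
  · intro v
    obtain ⟨w, hw, hv⟩ := hsur (Multiplicative.toAdd v)
    refine ⟨⟨w, hw⟩, ?_⟩
    show Multiplicative.ofAdd (L.Ψ i w) = v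
    rw [hv]
    rfl
  · intro w
    have h1 : ψ w = 1 ↔ L.Ψ i w = 0 := Iff.rfl
    rw [h1, (L.one i).ψker _ w.2, hR]
  · intro e w w' hww
    show L.Ψ i w' = sm (f e) (L.Ψ i w)
    rw [hww]
    exact hf e w w.2

/-- **The block data.** -/
theorem exists_bd [Fintype K] [CharP K 2] {n : ℕ} (hn : 1 ≤ n) (hK : Fintype.card K = 2 ^ n) {X : Subgroup P}
    (h : Off T X) (D : EqD L X) : Nonempty (BD (T : Subgroup P)) := by
  classical
  have hfin : Finite b.I := b.fin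
  obtain ⟨i₀⟩ := b.ne
  have hq2 : 2 ≤ Fintype.card K := by
    rw [hK]
    calc 2 = 2 ^ 1 := rfl
      _ ≤ 2 ^ n := Nat.pow_le_pow_right (by norm_num) hn
  refine ⟨{
    W := WW P
    hW := rfl
    T0 := TT L
    q := Fintype.card K
    q_ge := hq2
    W_le := WW_le_Q
    W_normal := WW_normal
    W_comm := b.bw.W_comm
    W_sq := b.bw.W_sq
    QK := le_rfl
    CTW := b.bw.CTW
    Q_le_T0 := Q_le_TT L
    T0_le := fun t ht => ht.1
    T0_ne := ?_
    off := ?_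
    off_eq := ?_
    cent := fun t ht hta => cent_TT L ht hta
    coord := ?_
    J := b.I
    A := AA L
    B := BB L
    E := b.E
    Jne := b.ne
    QA := Q_le_AA L
    QB := Q_le_BB L
    AB := AA_sup_BB L
    Acard := relIndex_AA L
    Bcard := relIndex_BB L
    E_le := E_le b
    WB := fun j w hw t ht => WB_comm L hw ht
    EB := fun j w hw t ht e he => EB_comm L hw ht he
    Aa := ?_
    wa := ?_
    irr := fun j Y hY hn' hc => irr_E L hY hn' hc
    Wsup := ?_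
    dich := ?_ }⟩
  · intro hcon
    obtain ⟨e, he, heA, hec⟩ := exists_E L i₀ 1
    have h1 : e ∈ pCore 2 P := by rw [← hcon]; exact heA.1
    exact zero_ne_one ((L.acts_Q i₀ h1).uniq hec)
  · intro Y hY1 hY2 hY3 _
    exact off_bound L ⟨hY1, hY2, hY3⟩
  · intro Y hY1 hY2 hY3 _ hle
    by_cases hYQ : Y ≤ pCore 2 P
    · exact Or.inl hYQ
    · have hY : Off T Y := ⟨hY1, hY2, hY3⟩
      exact Or.inr (sup_eq_TT L hY (exists_eqd L hY hYQ hle))
  · refine ⟨{ carrier := {w | w ∈ WW P ∧ L.Ψ i₀ w 1 = 0}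
              one_mem' := ⟨one_mem _, by rw [L.zero]; rfl⟩
              mul_mem' := by
                rintro x y ⟨hx, hx'⟩ ⟨hy, hy'⟩
                refine ⟨mul_mem hx hy, ?_⟩
                rw [(L.one i₀).ψmul _ hx _ hy, Pi.add_apply, hx', hy', add_zero]
              inv_mem' := by
                rintro x ⟨hx, hx'⟩
                refine ⟨inv_mem hx, ?_⟩
                rw [L.inv i₀ hx, Pi.neg_apply, hx', neg_zero] }, BB L i₀, ?_, ?_, Q_le_BB L i₀, ?_, ?_⟩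
    · rintro w ⟨hw, hw'⟩
      exact ⟨hw, (cent_iff L h D hw).1 hw' i₀⟩
    · intro hcon
      obtain ⟨w, hw, hv⟩ := (L.one i₀).ψsurj ![0, 1]
      have h1 := (hcon (Wi_le_WW b i₀ hw)).2
      rw [hv] at h1
      exact one_ne_zero h1
    · intro hcon
      obtain ⟨e, he, heA, hec⟩ := exists_E L i₀ 1
      exact zero_ne_one ((hcon heA.1).2.uniq hec)
    · intro w hw t ht hwt
      obtain ⟨c, hc⟩ := ht.2 i₀
      by_cases hc0 : c = 0
      · right
        rw [hc0] at hc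
        exact ⟨ht, hc⟩
      · left
        refine ⟨hw, ?_⟩
        have h2 : ⁅t, w⁆ ∈ centralizer (pResidual 2 P : Set P) := by
          rw [← commutatorElement_inv]
          exact inv_mem hwt
        have h3 := (L.mem_cent (com_WW (a := t) hw)).2 h2 i₀
        have h4 : ⁅t, w⁆ = t * w * t⁻¹ * w⁻¹ := rfl
        rw [h4, (L.one i₀).ψmul _ (conj_WW hw t) _ (inv_mem hw), L.inv i₀ hw, ← sub_eq_add_neg, sub_eq_zero,
          hc w hw] at h3
        exact (fix_uu hc0).1 h3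
  · intro j a ha haQ
    refine ⟨?_, index_a L h D ha haQ⟩
    intro w hw
    obtain ⟨x, hx, y, hy, hy', rfl⟩ := decomp b j hw
    refine mul_mem ((le_sup_left : ⁅pCore 2 P, b.E j⁆ ≤ _) hx)
      ((le_sup_right : WW P ⊓ centralizer ({a} : Set P) ≤ _) ⟨hy, ?_⟩)
    refine (cent_a L h D ha haQ hy).2 ?_
    rw [((L.one j).ψker y hy).2 hy']
    rfl
  · intro j w hw hwT a ha haQ hcon
    have hwW := Wi_le_WW b j hw
    apply hwT
    rw [cent_iff L h D hwW]
    intro i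
    by_cases hij : i = j
    · rw [hij]
      obtain ⟨c, hc⟩ := ha.1.2 j
      have hc0 : c ≠ 0 := by
        rintro rfl
        exact haQ (mem_Q_of_AA L ha hc)
      have h2 : ⁅a, w⁆ ∈ centralizer (b.E j : Set P) := by
        rw [← commutatorElement_inv]
        exact inv_mem hcon
      have h3 := ((L.one j).ψker _ (com_WW (a := a) hwW)).2 h2
      have h4 : ⁅a, w⁆ = a * w * a⁻¹ * w⁻¹ := rfl
      rw [h4, (L.one j).ψmul _ (conj_WW hwW a) _ (inv_mem hwW), L.inv j hwW, ← sub_eq_add_neg, sub_eq_zero,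
        hc w hwW] at h3
      exact (fix_uu hc0).1 h3
    · rw [L.other hij hw]
      rfl
  · rw [← WW_eq b]
    exact le_sup_right
  · by_cases hI : ∀ j : b.I, j = i₀
    · exact Or.inr (linOne L hn hK hI)
    · left
      push Not at hI
      obtain ⟨j₀, hj₀⟩ := hI
      intro j hcon
      obtain ⟨k, hk⟩ : ∃ k, k ≠ j := by
        by_cases h1 : j = i₀
        · exact ⟨j₀, by rw [h1]; exact hj₀⟩
        · exact ⟨i₀, fun h2 => h1 h2.symm⟩
      obtain ⟨e, he, heA, hec⟩ := exists_E L k 1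
      have h1 : e ∈ BB L j := ⟨heA.1, heA.2 j (Ne.symm hk)⟩
      rw [hcon] at h1
      exact zero_ne_one ((L.acts_Q k h1).uniq hec)

end

/-- **T4, linear type.** -/
theorem off_lin {P : Type u} [Group P] [Finite P] (T : Sylow 2 P) (b : Blk (T : Subgroup P)) (hb : LinTyp b)
    (X : Subgroup P) (hX : X ≤ T) (hn : (T : Subgroup P) ≤ Subgroup.normalizer (X : Set P))
    (hc : ∀ a ∈ X, ∀ b ∈ X, a * b = b * a) :
    (pCore 2 P ⊓ X).relIndex X ≤
      (⁅pCore 2 P, pResidual 2 P⁆ ⊓ Subgroup.centralizer (X : Set P)).relIndex ⁅pCore 2 P, pResidual 2 P⁆ := by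
  obtain ⟨K, _, _, n, hn2, hK, hb⟩ := hb
  obtain ⟨L⟩ := exists_ld b hK hb
  have := charP_of_card hK
  have hfin : Finite b.I := b.fin
  exact off_bound L ⟨hX, hn, hc⟩

/-- **T5, linear type.** -/
theorem bd_lin {P : Type u} [Group P] [Finite P] (T : Sylow 2 P) (b : Blk (T : Subgroup P)) (hb : LinTyp b)
    (X : Subgroup P) (hX : X ≤ T) (hn : (T : Subgroup P) ≤ Subgroup.normalizer (X : Set P))
    (hc : ∀ a ∈ X, ∀ b ∈ X, a * b = b * a) (hXQ : ¬ X ≤ pCore 2 P)
    (hle : (⁅pCore 2 P, pResidual 2 P⁆ ⊓ Subgroup.centralizer (X : Set P)).relIndex ⁅pCore 2 P, pResidual 2 P⁆ ≤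
      (pCore 2 P ⊓ X).relIndex X) :
    Nonempty (BD (T : Subgroup P)) := by
  obtain ⟨K, _, _, n, hn2, hK, hb⟩ := hb
  obtain ⟨L⟩ := exists_ld b hK hb
  have := charP_of_card hK
  have hfin : Finite b.I := b.fin
  exact exists_bd L (by omega) hK ⟨hX, hn, hc⟩ (exists_eqd L ⟨hX, hn, hc⟩ hXQ hle)

end Cfsg.Agent.H880.HM
end

-- part: H55/HM/ConfBasic
section
/-!
# S5175: first facts on the configuration `Conf` (helper55)

`V' = cj x V`, `Z = V ⊓ V'`, `D = fixS V E = C_V(E)`, `q = |K|`.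
-/

set_option autoImplicit false

namespace Cfsg.Agent.H55.HM

open Cfsg Cfsg.FusionSystem Cfsg.Agent.H756.HM Cfsg.Agent.H802

variable {Ω : Type*} [Group Ω] {S : Subgroup Ω}

theorem mem_cj {x y : Ω} {V : Subgroup Ω} : y ∈ cj x V ↔ x⁻¹ * y * x ∈ V := by
  constructor
  · rintro ⟨v, hv, rfl⟩
    have e : x⁻¹ * (MulAut.conj x).toMonoidHom v * x = v := by
      show x⁻¹ * (x * v * x⁻¹) * x = v
      group
    rw [e]
    exact hv
  · intro h
    refine ⟨_, h, ?_⟩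
    show x * (x⁻¹ * y * x) * x⁻¹ = y
    group

theorem conj_mem_cj {x y : Ω} {V : Subgroup Ω} (h : y ∈ V) : x * y * x⁻¹ ∈ cj x V := ⟨y, h, rfl⟩

theorem card_cj (x : Ω) (V : Subgroup Ω) : Nat.card (cj x V) = Nat.card V :=
  (Nat.card_congr (V.equivMapOfInjective _ (MulAut.conj x).injective).toEquiv).symm

theorem mem_fixS {V : Subgroup Ω} {E : Subgroup (MulAut V)} {v : Ω} (hv : v ∈ V) :
    v ∈ fixS V E ↔ ∀ e ∈ E, e ⟨v, hv⟩ = ⟨v, hv⟩ := by
  unfold fixS
  rw [Subgroup.mem_map]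
  constructor
  · rintro ⟨w, hw, rfl⟩
    exact hw
  · intro h
    exact ⟨⟨v, hv⟩, h, rfl⟩

theorem fixS_le (V : Subgroup Ω) (E : Subgroup (MulAut V)) : fixS V E ≤ V := by
  rintro _ ⟨w, _, rfl⟩
  exact w.2

theorem comS_le (V : Subgroup Ω) (E : Subgroup (MulAut V)) : comS V E ≤ V := by
  rintro _ ⟨w, _, rfl⟩
  exact w.2

theorem mem_comS {V : Subgroup Ω} {E : Subgroup (MulAut V)} (v : V) {e : MulAut V} (he : e ∈ E) :
    ((v⁻¹ * e v : V) : Ω) ∈ comS V E :=
  ⟨v⁻¹ * e v, Subgroup.subset_closure ⟨v, e, he, rfl⟩, rfl⟩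

theorem comm_of_sq {G : Type*} [Group G] {a b : G} (ha : a ^ 2 = 1) (hb : b ^ 2 = 1) (hab : (a * b) ^ 2 = 1) :
    a * b = b * a := by
  rw [pow_two] at *
  have h1 : a⁻¹ = a := inv_eq_of_mul_eq_one_left ha
  have h2 : b⁻¹ = b := inv_eq_of_mul_eq_one_left hb
  have h3 : (a * b)⁻¹ = a * b := inv_eq_of_mul_eq_one_left hab
  rw [mul_inv_rev, h1, h2] at h3
  exact h3.symm

section conf

variable {F : FusionSystem S} {K : Type} [Field K] [Fintype K] {V T : Subgroup Ω} {x : Ω} (c : Conf F K V T x)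

include c

theorem V_le_T : V ≤ T := by
  intro v hv
  rw [← c.nor]
  exact ⟨c.V_le hv, Subgroup.le_normalizer hv⟩

theorem T_le_S : T ≤ S := by
  rw [← c.nor]
  exact inf_le_left

theorem T_le_N : T ≤ Subgroup.normalizer (V : Set Ω) := by
  rw [← c.nor]
  exact inf_le_right

theorem conj_T {t : Ω} (ht : t ∈ T) : x * t * x⁻¹ ∈ T := (Subgroup.mem_normalizer_iff.1 c.x_nor t).1 ht

theorem conj_inv_T {t : Ω} (ht : t ∈ T) : x⁻¹ * t * x ∈ T := by
  have h1 := (Subgroup.mem_normalizer_iff.1 (_root_.InvMemClass.inv_mem c.x_nor) t).1 ht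
  rwa [inv_inv] at h1

theorem conj_V {t v : Ω} (ht : t ∈ T) (hv : v ∈ V) : t * v * t⁻¹ ∈ V :=
  (Subgroup.mem_normalizer_iff.1 (T_le_N c ht) v).1 hv

theorem conj_inv_V {t v : Ω} (ht : t ∈ T) (hv : v ∈ V) : t⁻¹ * v * t ∈ V := by
  have := conj_V c (T.inv_mem ht) hv
  rwa [inv_inv] at this

theorem V'_le_T : cj x V ≤ T := by
  intro y hy
  have h1 := conj_T c (V_le_T c (mem_cj.1 hy))
  have e : x * (x⁻¹ * y * x) * x⁻¹ = y := by group
  rwa [e] at h1

/-- `x` maps `V'` to `V` -/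
theorem conj_V' {g : Ω} (hg : g ∈ cj x V) : x * g * x⁻¹ ∈ V := by
  have h1 := conj_V c c.x_sq (mem_cj.1 hg)
  have e : x ^ 2 * (x⁻¹ * g * x) * (x ^ 2)⁻¹ = x * g * x⁻¹ := by rw [pow_two]; group
  rwa [e] at h1

/-- `x⁻¹` maps `V` to `V'` -/
theorem conj_inv_mem_V' {v : Ω} (hv : v ∈ V) : x⁻¹ * v * x ∈ cj x V := by
  rw [mem_cj]
  have h1 := conj_inv_V c c.x_sq hv
  have e : (x ^ 2)⁻¹ * v * x ^ 2 = x⁻¹ * (x⁻¹ * v * x) * x := by rw [pow_two]; group
  rwa [e] at h1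

theorem conj_V'_T {t g : Ω} (ht : t ∈ T) (hg : g ∈ cj x V) : t * g * t⁻¹ ∈ cj x V := by
  rw [mem_cj] at *
  have h1 := conj_V c (conj_inv_T c ht) hg
  have e : x⁻¹ * t * x * (x⁻¹ * g * x) * (x⁻¹ * t * x)⁻¹ = x⁻¹ * (t * g * t⁻¹) * x := by group
  rwa [e] at h1

theorem comm_V {v w : Ω} (hv : v ∈ V) (hw : w ∈ V) : v * w = w * v :=
  comm_of_sq (c.el v hv) (c.el w hw) (c.el _ (V.mul_mem hv hw))

theorem sq_V' {g : Ω} (hg : g ∈ cj x V) : g ^ 2 = 1 := by
  have h1 := c.el _ (mem_cj.1 hg)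
  have e : (x⁻¹ * g * x) ^ 2 = x⁻¹ * g ^ 2 * x := by rw [pow_two, pow_two]; group
  rw [e] at h1
  have h2 : x * (x⁻¹ * g ^ 2 * x) * x⁻¹ = x * 1 * x⁻¹ := by rw [h1]
  have e2 : x * (x⁻¹ * g ^ 2 * x) * x⁻¹ = g ^ 2 := by group
  rw [e2] at h2
  rw [h2]
  group

theorem comm_V' {v w : Ω} (hv : v ∈ cj x V) (hw : w ∈ cj x V) : v * w = w * v :=
  comm_of_sq (sq_V' c hv) (sq_V' c hw) (sq_V' c ((cj x V).mul_mem hv hw))

theorem mem_V_of_comm {s : Ω} (hs : s ∈ S) (h : ∀ v ∈ V, v * s = s * v) : s ∈ V := by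
  rw [← c.cent]
  exact ⟨hs, Subgroup.mem_centralizer_iff.2 h⟩

theorem mem_V'_of_comm {s : Ω} (hs : s ∈ S) (h : ∀ v ∈ cj x V, v * s = s * v) : s ∈ cj x V := by
  rw [mem_cj]
  apply mem_V_of_comm c (S.mul_mem (S.mul_mem (S.inv_mem c.x_mem) hs) c.x_mem)
  intro v hv
  have h1 := h _ (conj_mem_cj hv)
  calc v * (x⁻¹ * s * x) = x⁻¹ * (x * v * x⁻¹ * s) * x := by group
    _ = x⁻¹ * (s * (x * v * x⁻¹)) * x := by rw [h1]
    _ = x⁻¹ * s * x * v := by group

/-- conjugation by `g ∈ V'` is in `E` -/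
theorem exists_E {g : Ω} (hg : g ∈ cj x V) : ∃ e ∈ autInducedBy (cj x V) V, e ∈ c.E ∧
    ∀ v : V, ((e v : V) : Ω) = g * v * g⁻¹ := by
  obtain ⟨α, hα⟩ := exists_conjAut (T_le_N c (V'_le_T c hg))
  have h1 : α ∈ autInducedBy (cj x V) V := (mem_autInducedBy_iff _ _ _).2 ⟨g, hg, hα⟩
  exact ⟨α, h1, c.A_le h1, hα⟩

theorem D_le : fixS V c.E ≤ V ⊓ cj x V := by
  intro d hd
  have hdV := fixS_le V c.E hd
  refine ⟨hdV, mem_V'_of_comm c (c.V_le hdV) ?_⟩
  intro g hg
  obtain ⟨e, -, he, h1⟩ := exists_E c hg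
  have h2 := (mem_fixS hdV).1 hd e he
  have h3 := h1 ⟨d, hdV⟩
  rw [h2] at h3
  have h4 : d = g * d * g⁻¹ := h3
  calc g * d = g * d * g⁻¹ * g := by group
    _ = d * g := by rw [← h4]

theorem card_V' : Fintype.card K * Nat.card ↥(V ⊓ cj x V) = Nat.card V := by
  have h1 := card_autInducedBy_mul (cj x V) V
  have h2 : centralizerIn (cj x V) V = V ⊓ cj x V := by
    apply le_antisymm
    · intro g hg
      exact ⟨mem_V_of_comm c (T_le_S c (V'_le_T c hg.1)) (Subgroup.mem_centralizer_iff.1 hg.2), hg.1⟩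
    · intro g hg
      exact ⟨hg.2, Subgroup.mem_centralizer_iff.2 fun v hv => comm_V c hv hg.1⟩
  have h3 : normalizerIn (cj x V) V = cj x V :=
    inf_eq_left.2 ((V'_le_T c).trans (T_le_N c))
  rw [h2, h3, c.A_card, card_cj] at h1
  exact h1

end conf

end Cfsg.Agent.H55.HM
end

-- part: H55/HM/ConfCoord
section
/-!
# S5175: coordinates for the configuration `Conf` (helper55)
-/

set_option autoImplicit false

namespace Cfsg.Agent.H55.HM

open Cfsg Cfsg.FusionSystem Cfsg.Agent.H756.HM Cfsg.Agent.H802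
open Matrix

variable {Ω : Type*} [Group Ω] {S : Subgroup Ω}

/-- a matrix of `SL₂` taking a nonzero vector to the first basis vector -/
theorem exists_sl_vec {K : Type*} [Field K] (u : Fin 2 → K) (hu : u ≠ 0) :
    ∃ M : Matrix.SpecialLinearGroup (Fin 2) K, (M : Matrix (Fin 2) (Fin 2) K).mulVec u = ![1, 0] := by
  by_cases h0 : u 0 = 0
  · have h1 : u 1 ≠ 0 := by
      intro h1
      apply hu
      funext i
      fin_cases i
      · exact h0
      · exact h1
    refine ⟨⟨!![0, (u 1)⁻¹; -(u 1), 0], ?_⟩, ?_⟩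
    · rw [Matrix.det_fin_two_of]
      field_simp
      ring
    · show (!![0, (u 1)⁻¹; -(u 1), 0] : Matrix (Fin 2) (Fin 2) K).mulVec u = _
      funext i
      fin_cases i
      · simp [Matrix.mulVec, dotProduct, Fin.sum_univ_two, h1]
      · simp [Matrix.mulVec, dotProduct, Fin.sum_univ_two, h0]
  · refine ⟨⟨!![(u 0)⁻¹, 0; -(u 1), u 0], ?_⟩, ?_⟩
    · rw [Matrix.det_fin_two_of]
      field_simp
      ring
    · show (!![(u 0)⁻¹, 0; -(u 1), u 0] : Matrix (Fin 2) (Fin 2) K).mulVec u = _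
      funext i
      fin_cases i
      · simp [Matrix.mulVec, dotProduct, Fin.sum_univ_two, h0]
      · simp only [Matrix.mulVec, dotProduct, Fin.sum_univ_two, _root_.Fin.isValue, _root_.Fin.mk_one, _root_.Matrix.of_apply, _root_.Matrix.cons_val', _root_.Matrix.cons_val_fin_one, _root_.Matrix.cons_val_one, _root_.Matrix.cons_val_zero, _root_.neg_mul, _root_.Nat.succ_eq_add_one, _root_.Nat.reduceAdd]
        ring

/-- additive coordinate of a hom to `K²` -/
def coordHom {G K : Type*} [Group G] [Field K] (ψ : G →* Multiplicative (Fin 2 → K)) (i : Fin 2) :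
    G →* Multiplicative K where
  toFun v := Multiplicative.ofAdd (Multiplicative.toAdd (ψ v) i)
  map_one' := by rw [map_one]; rfl
  map_mul' a b := by rw [map_mul]; rfl

/-- The coordinates of a configuration -/
structure Coord {F : FusionSystem S} {K : Type} [Field K] [Fintype K] {V T : Subgroup Ω} {x : Ω}
    (c : Conf F K V T x) where
  ρ : c.E ≃* Matrix.SpecialLinearGroup (Fin 2) K
  ψ : V →* Multiplicative (Fin 2 → K)
  ψ_surj : Function.Surjective ψ
  ψ_ker : ∀ v : V, ψ v = 1 ↔ (v : Ω) ∈ fixS V c.E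
  ψ_eq : ∀ (e : c.E) (v : V), Multiplicative.toAdd (ψ ((e : MulAut V) v)) =
    ((ρ e : Matrix.SpecialLinearGroup (Fin 2) K) : Matrix (Fin 2) (Fin 2) K).mulVec (Multiplicative.toAdd (ψ v))
  mem_V' : ∀ v : V, (v : Ω) ∈ cj x V ↔ Multiplicative.toAdd (ψ v) 1 = 0
  mem_A : ∀ e : c.E, (e : MulAut V) ∈ autInducedBy (cj x V) V ↔
    (ρ e : Matrix (Fin 2) (Fin 2) K) 0 0 = 1 ∧ (ρ e : Matrix (Fin 2) (Fin 2) K) 1 0 = 0

section conf

variable {F : FusionSystem S} {K : Type} [Field K] [Fintype K] {V T : Subgroup Ω} {x : Ω} (c : Conf F K V T x)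

theorem two_le_card (K : Type) [Field K] [Fintype K] : 2 ≤ Fintype.card K := Fintype.one_lt_card

include c

theorem finite_V [Finite S] : Finite V := finite_of_le c.V_le

theorem card_fix_mul : Fintype.card K ^ 2 * Nat.card (fixS V c.E) = Nat.card V := by
  have h1 : c.ψ.ker = (fixS V c.E).subgroupOf V := by
    ext v
    rw [MonoidHom.mem_ker, c.ψ_ker v, Subgroup.mem_subgroupOf]
  have h2 := c.ψ.ker.card_mul_index
  rw [Subgroup.index_ker, MonoidHom.range_eq_top.2 c.ψ_surj, h1] at h2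
  have h3 : Nat.card ((fixS V c.E).subgroupOf V) = Nat.card (fixS V c.E) :=
    Nat.card_congr (Subgroup.subgroupOfEquivOfLe (fixS_le V c.E)).toEquiv
  have h4 : Nat.card (⊤ : Subgroup (Multiplicative (Fin 2 → K))) = Fintype.card K ^ 2 := by
    rw [Subgroup.card_top]
    have h5 : Nat.card (Multiplicative (Fin 2 → K)) = Nat.card (Fin 2 → K) := rfl
    rw [h5, Nat.card_eq_fintype_card, Fintype.card_fun, Fintype.card_fin]
  rw [h3, h4] at h2
  rw [← h2, mul_comm]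

theorem exists_Z_not_fix [Finite S] : ∃ z : V, (z : Ω) ∈ cj x V ∧ (z : Ω) ∉ fixS V c.E := by
  by_contra hcon
  push Not at hcon
  have h1 : V ⊓ cj x V = fixS V c.E := by
    apply le_antisymm
    · intro z hz
      exact hcon ⟨z, hz.1⟩ hz.2
    · exact D_le c
  have h2 := card_V' c
  rw [h1, ← card_fix_mul c] at h2
  have := finite_V c
  have : Finite (fixS V c.E) := Finite.of_injective _ (Subgroup.inclusion_injective (fixS_le V c.E))
  have h3 : Fintype.card K = Fintype.card K ^ 2 := Nat.eq_of_mul_eq_mul_right Nat.card_pos h2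
  have h4 := two_le_card K
  nlinarith only [h3, h4]

theorem exists_coord [Finite S] : Nonempty (Coord c) := by
  have := finite_V c
  obtain ⟨z, hz, hzD⟩ := exists_Z_not_fix c
  have hu : Multiplicative.toAdd (c.ψ z) ≠ 0 := by
    intro h
    exact hzD ((c.ψ_ker z).1 h)
  obtain ⟨M, hM⟩ := exists_sl_vec _ hu
  -- the new ψ
  let ψ' : V →* Multiplicative (Fin 2 → K) :=
    { toFun := fun v => Multiplicative.ofAdd ((M : Matrix (Fin 2) (Fin 2) K).mulVec (Multiplicative.toAdd (c.ψ v)))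
      map_one' := by
        rw [map_one]
        show Multiplicative.ofAdd ((M : Matrix (Fin 2) (Fin 2) K).mulVec 0) = 1
        rw [Matrix.mulVec_zero]
        rfl
      map_mul' := by
        intro a b
        rw [map_mul]
        show Multiplicative.ofAdd ((M : Matrix (Fin 2) (Fin 2) K).mulVec
          (Multiplicative.toAdd (c.ψ a) + Multiplicative.toAdd (c.ψ b))) = _
        rw [Matrix.mulVec_add]
        rfl }
  have hψ' : ∀ v, Multiplicative.toAdd (ψ' v) = (M : Matrix (Fin 2) (Fin 2) K).mulVec (Multiplicative.toAdd (c.ψ v)) :=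
    fun _ => rfl
  let ρ' : c.E ≃* Matrix.SpecialLinearGroup (Fin 2) K := c.ρ.trans (MulAut.conj M)
  have hρ' : ∀ e, ρ' e = M * c.ρ e * M⁻¹ := fun _ => rfl
  have hinvM : ((M⁻¹ : Matrix.SpecialLinearGroup (Fin 2) K) : Matrix (Fin 2) (Fin 2) K) * (M : Matrix (Fin 2) (Fin 2) K) = 1 := by
    rw [← Matrix.SpecialLinearGroup.coe_mul, inv_mul_cancel]
    rfl
  have hMinv : (M : Matrix (Fin 2) (Fin 2) K) * ((M⁻¹ : Matrix.SpecialLinearGroup (Fin 2) K) : Matrix (Fin 2) (Fin 2) K) = 1 := by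
    rw [← Matrix.SpecialLinearGroup.coe_mul, mul_inv_cancel]
    rfl
  have hsurj : Function.Surjective ψ' := by
    intro y
    obtain ⟨v, hv⟩ := c.ψ_surj (Multiplicative.ofAdd
      (((M⁻¹ : Matrix.SpecialLinearGroup (Fin 2) K) : Matrix (Fin 2) (Fin 2) K).mulVec (Multiplicative.toAdd y)))
    refine ⟨v, ?_⟩
    have h1 : Multiplicative.toAdd (ψ' v) = Multiplicative.toAdd y := by
      rw [hψ', hv]
      show (M : Matrix (Fin 2) (Fin 2) K).mulVec
        (((M⁻¹ : Matrix.SpecialLinearGroup (Fin 2) K) : Matrix (Fin 2) (Fin 2) K).mulVec (Multiplicative.toAdd y)) = _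
      rw [Matrix.mulVec_mulVec, hMinv, Matrix.one_mulVec]
    exact h1
  have hker : ∀ v : V, ψ' v = 1 ↔ (v : Ω) ∈ fixS V c.E := by
    intro v
    rw [← c.ψ_ker v]
    constructor
    · intro h
      have h1 : (M : Matrix (Fin 2) (Fin 2) K).mulVec (Multiplicative.toAdd (c.ψ v)) = 0 := h
      have h2 : ((M⁻¹ : Matrix.SpecialLinearGroup (Fin 2) K) : Matrix (Fin 2) (Fin 2) K).mulVec
          ((M : Matrix (Fin 2) (Fin 2) K).mulVec (Multiplicative.toAdd (c.ψ v))) = 0 := by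
        rw [h1, Matrix.mulVec_zero]
      rw [Matrix.mulVec_mulVec, hinvM, Matrix.one_mulVec] at h2
      exact h2
    · intro h
      show Multiplicative.ofAdd ((M : Matrix (Fin 2) (Fin 2) K).mulVec (Multiplicative.toAdd (c.ψ v))) = 1
      rw [h]
      show Multiplicative.ofAdd ((M : Matrix (Fin 2) (Fin 2) K).mulVec 0) = 1
      rw [Matrix.mulVec_zero]
      rfl
  have heq : ∀ (e : c.E) (v : V), Multiplicative.toAdd (ψ' ((e : MulAut V) v)) =
      ((ρ' e : Matrix.SpecialLinearGroup (Fin 2) K) : Matrix (Fin 2) (Fin 2) K).mulVec (Multiplicative.toAdd (ψ' v)) := by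
    intro e v
    rw [hψ', hψ', c.ψ_eq, hρ', Matrix.mulVec_mulVec, Matrix.mulVec_mulVec, Matrix.SpecialLinearGroup.coe_mul,
      Matrix.SpecialLinearGroup.coe_mul, Matrix.mul_assoc, hinvM, Matrix.mul_one]
  have hz' : Multiplicative.toAdd (ψ' z) = ![1, 0] := by rw [hψ', hM]
  -- elements of `A`
  have hfix : ∀ e : c.E, (e : MulAut V) ∈ autInducedBy (cj x V) V → ∀ w : V, (w : Ω) ∈ cj x V →
      (e : MulAut V) w = w := by
    intro e he w hw
    obtain ⟨g, hg, h1⟩ := (mem_autInducedBy_iff _ _ _).1 he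
    apply Subtype.ext
    rw [h1 w, comm_V' c hg hw]
    group
  have hA1 : ∀ e : c.E, (e : MulAut V) ∈ autInducedBy (cj x V) V →
      (ρ' e : Matrix (Fin 2) (Fin 2) K) 0 0 = 1 ∧ (ρ' e : Matrix (Fin 2) (Fin 2) K) 1 0 = 0 := by
    intro e he
    have h1 := heq e z
    rw [hfix e he z hz, hz'] at h1
    have h2 := congrFun h1 0
    have h3 := congrFun h1 1
    simp only [Matrix.mulVec, dotProduct, Fin.sum_univ_two, _root_.Nat.succ_eq_add_one, _root_.Nat.reduceAdd, _root_.Fin.isValue, _root_.Matrix.cons_val_zero, _root_.mul_one, _root_.Matrix.cons_val_one, _root_.Matrix.cons_val_fin_one, _root_.MulZeroClass.mul_zero, _root_.add_zero] at h2 h3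
    exact ⟨h2.symm, h3.symm⟩
  have hcard2 := two_le_card K
  -- a nontrivial element of `A`
  have hAe : ∃ e : c.E, (e : MulAut V) ∈ autInducedBy (cj x V) V ∧ e ≠ 1 := by
    have h1 : 1 < Nat.card (autInducedBy (cj x V) V) := by rw [c.A_card]; omega
    have : Finite (autInducedBy (cj x V) V) := Nat.finite_of_card_ne_zero (by omega)
    have hnt : Nontrivial (autInducedBy (cj x V) V) := Finite.one_lt_card_iff_nontrivial.1 h1
    obtain ⟨a, ha⟩ := exists_ne (1 : autInducedBy (cj x V) V)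
    refine ⟨⟨a, c.A_le a.2⟩, a.2, ?_⟩
    intro h
    apply ha
    apply Subtype.ext
    have h2 : ((⟨a, c.A_le a.2⟩ : c.E) : MulAut V) = ((1 : c.E) : MulAut V) := by rw [h]
    exact h2
  obtain ⟨e₀, he₀, he₀1⟩ := hAe
  have hb : (ρ' e₀ : Matrix (Fin 2) (Fin 2) K) 0 1 ≠ 0 := by
    intro h01
    apply he₀1
    obtain ⟨h00, h10⟩ := hA1 e₀ he₀
    have hdet := (ρ' e₀).2
    rw [Matrix.det_fin_two] at hdet
    have h11 : (ρ' e₀ : Matrix (Fin 2) (Fin 2) K) 1 1 = 1 := by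
      have : (ρ' e₀ : Matrix (Fin 2) (Fin 2) K) 0 0 * (ρ' e₀ : Matrix (Fin 2) (Fin 2) K) 1 1 -
        (ρ' e₀ : Matrix (Fin 2) (Fin 2) K) 0 1 * (ρ' e₀ : Matrix (Fin 2) (Fin 2) K) 1 0 = 1 := hdet
      rw [h00, h10] at this
      simpa only [_root_.Fin.isValue, _root_.one_mul, _root_.MulZeroClass.mul_zero, _root_.sub_zero] using this
    have h1 : ρ' e₀ = 1 := by
      ext i j
      fin_cases i <;> fin_cases j
      · exact h00
      · exact h01
      · exact h10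
      · exact h11
    exact ρ'.injective (h1.trans (map_one ρ').symm)
  have hZ1 : ∀ v : V, (v : Ω) ∈ cj x V → Multiplicative.toAdd (ψ' v) 1 = 0 := by
    intro v hv
    have h1 := heq e₀ v
    rw [hfix e₀ he₀ v hv] at h1
    have h2 := congrFun h1 0
    obtain ⟨h00, h10⟩ := hA1 e₀ he₀
    simp only [Matrix.mulVec, dotProduct, Fin.sum_univ_two, h00, one_mul] at h2
    have h3 : (ρ' e₀ : Matrix (Fin 2) (Fin 2) K) 0 1 * Multiplicative.toAdd (ψ' v) 1 = 0 := by
      have h4 : Multiplicative.toAdd (ψ' v) 0 + 0 = Multiplicative.toAdd (ψ' v) 0 +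
        (ρ' e₀ : Matrix (Fin 2) (Fin 2) K) 0 1 * Multiplicative.toAdd (ψ' v) 1 := by rw [add_zero]; exact h2
      exact (add_left_cancel h4).symm
    exact (mul_eq_zero.1 h3).resolve_left hb
  -- the kernel of the second coordinate
  have hcsurj : Function.Surjective (coordHom ψ' 1) := by
    intro y
    obtain ⟨v, hv⟩ := hsurj (Multiplicative.ofAdd ![0, Multiplicative.toAdd y])
    refine ⟨v, ?_⟩
    show Multiplicative.ofAdd (Multiplicative.toAdd (ψ' v) 1) = y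
    rw [hv]
    rfl
  have hkc : Nat.card (coordHom ψ' 1).ker * Fintype.card K = Nat.card V := by
    have h2 := (coordHom ψ' 1).ker.card_mul_index
    rw [Subgroup.index_ker, MonoidHom.range_eq_top.2 hcsurj, Subgroup.card_top] at h2
    have h3 : Nat.card (Multiplicative K) = Fintype.card K := by
      rw [← Nat.card_eq_fintype_card]
      rfl
    rw [h3] at h2
    exact h2
  have hZle : (V ⊓ cj x V).subgroupOf V ≤ (coordHom ψ' 1).ker := by
    intro v hv
    rw [MonoidHom.mem_ker]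
    have := hZ1 v hv.2
    show Multiplicative.ofAdd (Multiplicative.toAdd (ψ' v) 1) = 1
    rw [this]
    rfl
  have hZcard : Nat.card ((V ⊓ cj x V).subgroupOf V) = Nat.card (coordHom ψ' 1).ker := by
    have h3 : Nat.card ((V ⊓ cj x V).subgroupOf V) = Nat.card ↥(V ⊓ cj x V) :=
      Nat.card_congr (Subgroup.subgroupOfEquivOfLe inf_le_left).toEquiv
    have h4 := card_V' c
    rw [h3]
    apply Nat.eq_of_mul_eq_mul_left (show 0 < Fintype.card K by omega)
    rw [h4, ← hkc, mul_comm]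
  have hZeq : (V ⊓ cj x V).subgroupOf V = (coordHom ψ' 1).ker :=
    Subgroup.eq_of_le_of_card_ge hZle hZcard.ge
  refine ⟨⟨ρ', ψ', hsurj, hker, heq, ?_, ?_⟩⟩
  · intro v
    refine ⟨hZ1 v, fun h => ?_⟩
    have h1 : v ∈ (coordHom ψ' 1).ker := by
      rw [MonoidHom.mem_ker]
      show Multiplicative.ofAdd (Multiplicative.toAdd (ψ' v) 1) = 1
      rw [h]
      rfl
    rw [← hZeq] at h1
    exact (Subgroup.mem_subgroupOf.1 h1).2
  · intro e
    refine ⟨hA1 e, ?_⟩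
    rintro ⟨h00, h10⟩
    -- counting
    let f : {e : c.E // (ρ' e : Matrix (Fin 2) (Fin 2) K) 0 0 = 1 ∧ (ρ' e : Matrix (Fin 2) (Fin 2) K) 1 0 = 0} → K :=
      fun e => (ρ' e.1 : Matrix (Fin 2) (Fin 2) K) 0 1
    have hf : Function.Injective f := by
      rintro ⟨e₁, h1, h2⟩ ⟨e₂, h3, h4⟩ h5
      have h5' : (ρ' e₁ : Matrix (Fin 2) (Fin 2) K) 0 1 = (ρ' e₂ : Matrix (Fin 2) (Fin 2) K) 0 1 := h5
      apply Subtype.ext
      show e₁ = e₂
      apply ρ'.injective
      have hd : ∀ e : c.E, (ρ' e : Matrix (Fin 2) (Fin 2) K) 0 0 = 1 → (ρ' e : Matrix (Fin 2) (Fin 2) K) 1 0 = 0 →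
          (ρ' e : Matrix (Fin 2) (Fin 2) K) 1 1 = 1 := by
        intro e ha hb
        have hdet := (ρ' e).2
        rw [Matrix.det_fin_two] at hdet
        have : (ρ' e : Matrix (Fin 2) (Fin 2) K) 0 0 * (ρ' e : Matrix (Fin 2) (Fin 2) K) 1 1 -
          (ρ' e : Matrix (Fin 2) (Fin 2) K) 0 1 * (ρ' e : Matrix (Fin 2) (Fin 2) K) 1 0 = 1 := hdet
        rw [ha, hb] at this
        simpa only [_root_.Fin.isValue, _root_.one_mul, _root_.MulZeroClass.mul_zero, _root_.sub_zero] using this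
      ext i j
      fin_cases i <;> fin_cases j
      · exact h1.trans h3.symm
      · exact h5'
      · exact h2.trans h4.symm
      · exact (hd e₁ h1 h2).trans (hd e₂ h3 h4).symm
    let g : autInducedBy (cj x V) V →
        {e : c.E // (ρ' e : Matrix (Fin 2) (Fin 2) K) 0 0 = 1 ∧ (ρ' e : Matrix (Fin 2) (Fin 2) K) 1 0 = 0} :=
      fun a => ⟨⟨a, c.A_le a.2⟩, hA1 _ a.2⟩
    have hg : Function.Injective g := by
      intro a b hab
      exact Subtype.ext (congrArg (fun y => ((y.1 : c.E) : MulAut V)) hab)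
    have hfg : Function.Bijective (f ∘ g) := by
      have : Finite (autInducedBy (cj x V) V) := Nat.finite_of_card_ne_zero (by rw [c.A_card]; omega)
      rw [Nat.bijective_iff_injective_and_card]
      refine ⟨hf.comp hg, ?_⟩
      rw [c.A_card, Nat.card_eq_fintype_card]
    obtain ⟨a, ha⟩ := hfg.2 (f ⟨e, h00, h10⟩)
    have h1 : g a = ⟨e, h00, h10⟩ := hf ha
    have h2 : ((a : MulAut V)) = (e : MulAut V) := congrArg (fun y => ((y.1 : c.E) : MulAut V)) h1
    rw [← h2]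
    exact a.2

end conf

end Cfsg.Agent.H55.HM
end

-- part: H55/HM/ConfTyp
section
/-!
# S5175, T9: `StTyp` (helper55)
-/

set_option autoImplicit false

namespace Cfsg.Agent.H55.HM

open Cfsg Cfsg.FusionSystem Cfsg.Agent.H756.HM Cfsg.Agent.H802
open Matrix

variable {Ω : Type*} [Group Ω] {S : Subgroup Ω}

theorem sl_upper {K : Type*} [Field K] {M : Matrix.SpecialLinearGroup (Fin 2) K}
    (h00 : (M : Matrix (Fin 2) (Fin 2) K) 0 0 = 1) (h10 : (M : Matrix (Fin 2) (Fin 2) K) 1 0 = 0) :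
    (M : Matrix (Fin 2) (Fin 2) K) 1 1 = 1 := by
  have hdet := M.2
  rw [Matrix.det_fin_two] at hdet
  have : (M : Matrix (Fin 2) (Fin 2) K) 0 0 * (M : Matrix (Fin 2) (Fin 2) K) 1 1 -
    (M : Matrix (Fin 2) (Fin 2) K) 0 1 * (M : Matrix (Fin 2) (Fin 2) K) 1 0 = 1 := hdet
  rw [h00, h10] at this
  simpa using this

theorem sl_upper_eq_one {K : Type*} [Field K] {M : Matrix.SpecialLinearGroup (Fin 2) K}
    (h00 : (M : Matrix (Fin 2) (Fin 2) K) 0 0 = 1) (h10 : (M : Matrix (Fin 2) (Fin 2) K) 1 0 = 0)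
    (h01 : (M : Matrix (Fin 2) (Fin 2) K) 0 1 = 0) : M = 1 := by
  have h11 := sl_upper h00 h10
  ext i j
  fin_cases i <;> fin_cases j
  · exact h00
  · exact h01
  · exact h10
  · exact h11

/-- the diagonal matrix -/
def dg {K : Type*} [Field K] (t : K) (ht : t ≠ 0) : Matrix.SpecialLinearGroup (Fin 2) K :=
  ⟨!![t, 0; 0, t⁻¹], by rw [Matrix.det_fin_two_of]; field_simp; ring⟩

section conf

variable {F : FusionSystem S} {K : Type} [Field K] [Fintype K] {V T : Subgroup Ω} {x : Ω} {c : Conf F K V T x}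

/-- elements of `V` commuting with an element of `V' \ V` are in `V'` -/
theorem mem_V'_of_comm_one (k : Coord c) {g v : Ω} (hg : g ∈ cj x V) (hgV : g ∉ V) (hv : v ∈ V)
    (h : v * g = g * v) : v ∈ cj x V := by
  obtain ⟨e, heA, heE, he⟩ := exists_E c hg
  obtain ⟨h00, h10⟩ := (k.mem_A ⟨e, heE⟩).1 heA
  have h01 : (k.ρ ⟨e, heE⟩ : Matrix (Fin 2) (Fin 2) K) 0 1 ≠ 0 := by
    intro h01
    apply hgV
    have h1 := sl_upper_eq_one h00 h10 h01
    have h2 : (⟨e, heE⟩ : c.E) = 1 := k.ρ.injective (h1.trans (map_one k.ρ).symm)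
    have h3 : e = 1 := congrArg Subtype.val h2
    apply mem_V_of_comm c (T_le_S c (V'_le_T c hg))
    intro w hw
    have h4 := he ⟨w, hw⟩
    rw [h3] at h4
    have h5 : w = g * w * g⁻¹ := h4
    calc w * g = g * w * g⁻¹ * g := by rw [← h5]
      _ = g * w := by group
  have h1 : e ⟨v, hv⟩ = ⟨v, hv⟩ := by
    apply Subtype.ext
    rw [he]
    show g * v * g⁻¹ = v
    rw [← h]
    group
  have h2 := k.ψ_eq ⟨e, heE⟩ ⟨v, hv⟩
  have h2' : ((⟨e, heE⟩ : c.E) : MulAut V) ⟨v, hv⟩ = ⟨v, hv⟩ := h1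
  rw [h2'] at h2
  have h3 := congrFun h2 0
  simp only [Matrix.mulVec, dotProduct, Fin.sum_univ_two, h00, one_mul] at h3
  have h4 : (k.ρ ⟨e, heE⟩ : Matrix (Fin 2) (Fin 2) K) 0 1 * Multiplicative.toAdd (k.ψ ⟨v, hv⟩) 1 = 0 := by
    have h5 : Multiplicative.toAdd (k.ψ ⟨v, hv⟩) 0 + 0 = Multiplicative.toAdd (k.ψ ⟨v, hv⟩) 0 +
      (k.ρ ⟨e, heE⟩ : Matrix (Fin 2) (Fin 2) K) 0 1 * Multiplicative.toAdd (k.ψ ⟨v, hv⟩) 1 := by
      rw [add_zero]; exact h3
    exact (add_left_cancel h5).symm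
  exact (k.mem_V' ⟨v, hv⟩).2 ((mul_eq_zero.1 h4).resolve_left h01)

/-- a torus element of `E` together with its extension to `V V'` -/
structure Hat (k : Coord c) (t : K) where
  e : c.E
  χ : ↥(V ⊔ cj x V) →* Ω
  mem : χ ∈ F.Hom (V ⊔ cj x V)
  eq_e : ∀ v : V, χ (Subgroup.inclusion le_sup_left v) = (((e : MulAut V) v : V) : Ω)
  V' : ∀ (g : Ω) (hg : g ∈ cj x V), χ ⟨g, (le_sup_right : cj x V ≤ V ⊔ cj x V) hg⟩ ∈ cj x V
  c0 : ∀ v : V, Multiplicative.toAdd (k.ψ ((e : MulAut V) v)) 0 = t * Multiplicative.toAdd (k.ψ v) 0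
  c1 : ∀ v : V, Multiplicative.toAdd (k.ψ ((e : MulAut V) v)) 1 = t⁻¹ * Multiplicative.toAdd (k.ψ v) 1

theorem exists_hat [Finite S] (hS : IsPGroup 2 S) (hF : F.IsSaturated 2) (k : Coord c) (t : K) (ht : t ≠ 0) :
    Nonempty (Hat k t) := by
  have h2p : Fact (Nat.Prime 2) := ⟨Nat.prime_two⟩
  have hfinV := finite_V c
  set e : c.E := k.ρ.symm (dg t ht) with he_def
  have hρe : k.ρ e = dg t ht := by rw [he_def, MulEquiv.apply_symm_apply]
  have hc0 : ∀ v : V, Multiplicative.toAdd (k.ψ ((e : MulAut V) v)) 0 = t * Multiplicative.toAdd (k.ψ v) 0 := by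
    intro v
    rw [k.ψ_eq e v, hρe]
    simp [dg, Matrix.mulVec, dotProduct, Fin.sum_univ_two]
  have hc1 : ∀ v : V, Multiplicative.toAdd (k.ψ ((e : MulAut V) v)) 1 = t⁻¹ * Multiplicative.toAdd (k.ψ v) 1 := by
    intro v
    rw [k.ψ_eq e v, hρe]
    simp only [dg, Matrix.mulVec, dotProduct, Fin.sum_univ_two, _root_.Fin.isValue, _root_.Matrix.of_apply, _root_.Matrix.cons_val', _root_.Matrix.cons_val_fin_one, _root_.Matrix.cons_val_one, _root_.Matrix.cons_val_zero, _root_.MulZeroClass.zero_mul, _root_.zero_add]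
  set φ : V →* Ω := V.subtype.comp (e : MulAut V).toMonoidHom with hφ_def
  have hφe : ∀ v : V, φ v = (((e : MulAut V) v : V) : Ω) := fun _ => rfl
  have hφ : φ ∈ F.Hom V := (mem_autGroup_iff F c.V_le _).1 (c.E_le e.2)
  have hφr : φ.range = V := by
    apply range_eq_of_mapsTo hφ
    intro v
    exact (((e : MulAut V) v)).2
  have hrec : F.IsReceptive V := isReceptive_of_isFullyNormalized hS hF c.fn
  obtain ⟨ψ₀, hψ₀, hψ₀e⟩ := hrec.2 V φ hφ hφr
  -- conjugation by elements of `V'`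
  have hconj : ∀ g ∈ cj x V, ∃ g' ∈ cj x V, ∀ (w : V) (hw : g * (w : Ω) * g⁻¹ ∈ V),
      φ ⟨g * w * g⁻¹, hw⟩ = g' * φ w * g'⁻¹ := by
    intro g hg
    obtain ⟨a, haA, haE, ha⟩ := exists_E c hg
    obtain ⟨h00, h10⟩ := (k.mem_A ⟨a, haE⟩).1 haA
    have h1 : ((e * ⟨a, haE⟩ * e⁻¹ : c.E) : MulAut V) ∈ autInducedBy (cj x V) V := by
      rw [k.mem_A, map_mul, map_mul, map_inv, hρe]
      have hmat : ((dg t ht * k.ρ ⟨a, haE⟩ * (dg t ht)⁻¹ : Matrix.SpecialLinearGroup (Fin 2) K) :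
          Matrix (Fin 2) (Fin 2) K) =
          !![t, 0; 0, t⁻¹] * (k.ρ ⟨a, haE⟩ : Matrix (Fin 2) (Fin 2) K) * !![t⁻¹, 0; 0, t] := by
        rw [Matrix.SpecialLinearGroup.coe_mul, Matrix.SpecialLinearGroup.coe_mul,
          Matrix.SpecialLinearGroup.coe_inv]
        congr 1
        show Matrix.adjugate !![t, 0; 0, t⁻¹] = _
        rw [Matrix.adjugate_fin_two_of]
        simp
      rw [hmat]
      simp only [Matrix.mul_apply, Matrix.vecMul, dotProduct, Fin.sum_univ_two, h00, h10, ht, _root_.Matrix.cons_mul, _root_.Nat.succ_eq_add_one, _root_.Nat.reduceAdd, _root_.Matrix.empty_mul, _root_.Equiv.symm_apply_apply, _root_.Fin.isValue, _root_.Matrix.of_apply, _root_.Matrix.cons_val', _root_.Matrix.cons_val_zero, _root_.Matrix.cons_val_one, _root_.Matrix.cons_val_fin_one, _root_.MulZeroClass.zero_mul, _root_.add_zero, _root_.zero_add, _root_.mul_one, _root_.ne_eq, _root_.not_false_eq_true, _root_.mul_inv_cancel₀, _root_.MulZeroClass.mul_zero,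 _root_.and_self]
    obtain ⟨g', hg', h2⟩ := (mem_autInducedBy_iff _ _ _).1 h1
    refine ⟨g', hg', fun w hw => ?_⟩
    have h3 : a w = ⟨g * w * g⁻¹, hw⟩ := Subtype.ext (ha w)
    rw [← h3, hφe, hφe]
    have h4 := h2 ((e : MulAut V) w)
    rw [← h4]
    show _ = ((((e : MulAut V) * a * (e : MulAut V)⁻¹) ((e : MulAut V) w) : V) : Ω)
    rw [MulAut.mul_apply, MulAut.mul_apply, MulAut.inv_apply_self]
  have hVext : V ≤ extender S V φ := le_extender c.V_le (fun v => c.V_le ((((e : MulAut V) v)).2))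
  have hV'ext : cj x V ≤ extender S V φ := by
    intro g hg
    rw [mem_extender_iff]
    refine ⟨T_le_S c (V'_le_T c hg), T_le_N c (V'_le_T c hg), ?_⟩
    obtain ⟨g', hg', h1⟩ := hconj g hg
    exact ⟨g', T_le_S c (V'_le_T c hg'), h1⟩
  have hle : V ⊔ cj x V ≤ extender S V φ := sup_le hVext hV'ext
  set χ : ↥(V ⊔ cj x V) →* Ω := ψ₀.comp (Subgroup.inclusion hle) with hχ_def
  have hχ : χ ∈ F.Hom (V ⊔ cj x V) := restrict_mem hψ₀ hle
  have hχe : ∀ v : V, χ (Subgroup.inclusion le_sup_left v) = (((e : MulAut V) v : V) : Ω) := by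
    intro v
    rw [← hφe]
    exact hψ₀e v v.2 (hVext v.2)
  refine ⟨⟨e, χ, hχ, hχe, ?_, hc0, hc1⟩⟩
  intro g hg
  by_cases hgV : g ∈ V
  · -- `g ∈ Z`
    have h1 := hχe ⟨g, hgV⟩
    have h2 : (Subgroup.inclusion (le_sup_left : V ≤ V ⊔ cj x V) ⟨g, hgV⟩ : ↥(V ⊔ cj x V)) =
      ⟨g, (le_sup_right : cj x V ≤ V ⊔ cj x V) hg⟩ := rfl
    rw [h2] at h1
    rw [h1, k.mem_V', hc1, (k.mem_V' ⟨g, hgV⟩).1 hg, mul_zero]
  · obtain ⟨g', hg', h1⟩ := hconj g hg
    set y := χ ⟨g, (le_sup_right : cj x V ≤ V ⊔ cj x V) hg⟩ with hy_def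
    have hyS : y ∈ S := hom_apply_mem hχ _
    -- `y` acts as `g'` on `V`
    have hact : ∀ w ∈ V, y * w * y⁻¹ = g' * w * g'⁻¹ := by
      intro w hw
      obtain ⟨w₀, hw₀⟩ : ∃ w₀ : V, (e : MulAut V) w₀ = ⟨w, hw⟩ := (e : MulAut V).surjective _
      have hgw : g * (w₀ : Ω) * g⁻¹ ∈ V := conj_V c (V'_le_T c hg) w₀.2
      have h2 := h1 w₀ hgw
      have h3 : φ w₀ = w := by rw [hφe, hw₀]
      rw [h3] at h2
      rw [← h2]
      have h4 := hχe w₀
      rw [hw₀] at h4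
      have h4' : χ (Subgroup.inclusion le_sup_left w₀) = w := h4
      have h5 := hχe ⟨g * w₀ * g⁻¹, hgw⟩
      rw [← hφe] at h5
      rw [← h5]
      have h6 : (Subgroup.inclusion (le_sup_left : V ≤ V ⊔ cj x V) ⟨g * w₀ * g⁻¹, hgw⟩ : ↥(V ⊔ cj x V)) =
        ⟨g, (le_sup_right : cj x V ≤ V ⊔ cj x V) hg⟩ * Subgroup.inclusion le_sup_left w₀ *
          ⟨g, (le_sup_right : cj x V ≤ V ⊔ cj x V) hg⟩⁻¹ := rfl
      rw [h6, map_mul, map_mul, map_inv, h4']
    -- so `y = g' w`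
    have hw : g'⁻¹ * y ∈ V := by
      apply mem_V_of_comm c (S.mul_mem (S.inv_mem (T_le_S c (V'_le_T c hg'))) hyS)
      intro v hv
      have h2 := hact v hv
      calc v * (g'⁻¹ * y) = g'⁻¹ * (g' * v * g'⁻¹) * y := by group
        _ = g'⁻¹ * (y * v * y⁻¹) * y := by rw [h2]
        _ = g'⁻¹ * y * v := by group
    have hy2 : y * y = 1 := by
      rw [hy_def, ← map_mul]
      have h3 : (⟨g, (le_sup_right : cj x V ≤ V ⊔ cj x V) hg⟩ : ↥(V ⊔ cj x V)) *
        ⟨g, (le_sup_right : cj x V ≤ V ⊔ cj x V) hg⟩ = 1 := by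
        apply Subtype.ext
        show g * g = 1
        rw [← pow_two]
        exact sq_V' c hg
      rw [h3, map_one]
    -- `g' ∉ V`
    have hg'V : g' ∉ V := by
      intro hg'V
      apply hgV
      apply mem_V_of_comm c (T_le_S c (V'_le_T c hg))
      intro v hv
      have hgw : g * v * g⁻¹ ∈ V := conj_V c (V'_le_T c hg) hv
      have h2 := h1 ⟨v, hv⟩ hgw
      have h3 : g' * φ ⟨v, hv⟩ * g'⁻¹ = φ ⟨v, hv⟩ := by
        rw [comm_V c hg'V (show φ ⟨v, hv⟩ ∈ V from ((e : MulAut V) ⟨v, hv⟩).2)]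
        group
      rw [h3] at h2
      have h4 := F.injective_of_mem hφ h2
      have h5 : g * v * g⁻¹ = v := congrArg Subtype.val h4
      calc v * g = g * v * g⁻¹ * g := by rw [h5]
        _ = g * v := by group
    set w := g'⁻¹ * y with hw_def
    have hyw : y = g' * w := by rw [hw_def]; group
    have hg'2 : g' * g' = 1 := by rw [← pow_two]; exact sq_V' c hg'
    have hw2 : w * w = 1 := by rw [← pow_two]; exact c.el w hw
    have hcomm : g' * w = w * g' := by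
      apply comm_of_sq
      · rw [pow_two, hg'2]
      · rw [pow_two, hw2]
      · rw [pow_two, ← hyw, hy2]
    have hwV' : w ∈ cj x V := mem_V'_of_comm_one k hg' hg'V hw hcomm.symm
    rw [hyw]
    exact (cj x V).mul_mem hg' hwV'

/-- Invariance of `N^x` -/
theorem Hat.inv [Finite S] {k : Coord c} {t : K} (h : Hat k t) {N : Subgroup Ω} (hNV : N ≤ V)
    (hN : ∀ α ∈ F.autGroup V, ∀ (v : Ω) (hv : v ∈ N), ((α ⟨v, hNV hv⟩ : V) : Ω) ∈ N)
    {g : Ω} (hg : g ∈ cj x N) (hgV : g ∈ V) : (((h.e : MulAut V) ⟨g, hgV⟩ : V) : Ω) ∈ cj x N := by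
  have hfin := finite_V c
  have h1 : conjHom V x ∈ F.Hom V := F.conj_mem c.V_le c.x_mem
  have h1v : ∀ v : V, conjHom V x v = x * v * x⁻¹ := fun _ => rfl
  obtain ⟨χ₁, hχ₁, e₁⟩ := exists_comp h1 h.mem (fun v => (le_sup_right : cj x V ≤ V ⊔ cj x V) (conj_mem_cj v.2))
  have h2 : ∀ v : V, χ₁ v ∈ cj x V := by
    intro v
    rw [e₁]
    exact h.V' _ (conj_mem_cj v.2)
  have hV'S : cj x V ≤ S := (V'_le_T c).trans (T_le_S c)
  have h3 : conjHom (cj x V) x⁻¹ ∈ F.Hom (cj x V) := F.conj_mem hV'S (S.inv_mem c.x_mem)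
  obtain ⟨χ₂, hχ₂, e₂⟩ := exists_comp hχ₁ h3 h2
  have h4 : ∀ v : V, χ₂ v = x⁻¹ * χ₁ v * x := by
    intro v
    rw [e₂]
    show x⁻¹ * χ₁ v * x⁻¹⁻¹ = _
    rw [inv_inv]
  have h5 : χ₂.range = V := by
    apply range_eq_of_mapsTo hχ₂
    intro v
    rw [h4]
    exact mem_cj.1 (h2 v)
  obtain ⟨α, hα, h6⟩ := exists_aut hχ₂ h5
  have h7 := hN α hα _ (mem_cj.1 hg)
  rw [h6, h4, e₁] at h7
  rw [mem_cj]
  have h8 : (⟨conjHom V x ⟨x⁻¹ * g * x, hNV (mem_cj.1 hg)⟩,
      (le_sup_right : cj x V ≤ V ⊔ cj x V) (conj_mem_cj (hNV (mem_cj.1 hg)))⟩ : ↥(V ⊔ cj x V)) =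
      Subgroup.inclusion le_sup_left ⟨g, hgV⟩ := by
    apply Subtype.ext
    show x * (x⁻¹ * g * x) * x⁻¹ = g
    group
  rw [h8, h.eq_e] at h7
  exact h7

/-- dichotomy -/
theorem dich (k : Coord c) (H : ∀ t : K, t ≠ 0 → Hat k t) {N : Subgroup Ω} (hNV : N ≤ V) (hNV' : N ≤ cj x V)
    (hN : ∀ (t : K) (ht : t ≠ 0) (v : Ω) (hv : v ∈ N), ((((H t ht).e : MulAut V) ⟨v, hNV hv⟩ : V) : Ω) ∈ N) :
    N ≤ fixS V c.E ∨ ∀ y : K, ∃ z : V, (z : Ω) ∈ N ∧ Multiplicative.toAdd (k.ψ z) 0 = y := by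
  by_cases hcon : N ≤ fixS V c.E
  · exact Or.inl hcon
  · right
    obtain ⟨z, hz, hzD⟩ := SetLike.not_le_iff_exists.1 hcon
    have h1 : Multiplicative.toAdd (k.ψ ⟨z, hNV hz⟩) 0 ≠ 0 := by
      intro h0
      apply hzD
      have h2 := (k.mem_V' ⟨z, hNV hz⟩).1 (hNV' hz)
      apply (k.ψ_ker ⟨z, hNV hz⟩).1
      have h3 : Multiplicative.toAdd (k.ψ ⟨z, hNV hz⟩) = 0 := by
        funext i
        fin_cases i
        · exact h0
        · exact h2
      exact h3
    intro y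
    by_cases hy : y = 0
    · refine ⟨1, N.one_mem, ?_⟩
      rw [map_one, hy]
      rfl
    · have ht : y / Multiplicative.toAdd (k.ψ ⟨z, hNV hz⟩) 0 ≠ 0 := div_ne_zero hy h1
      refine ⟨((H _ ht).e : MulAut V) ⟨z, hNV hz⟩, hN _ ht z hz, ?_⟩
      rw [(H _ ht).c0]
      exact div_mul_cancel₀ _ h1

end conf

end Cfsg.Agent.H55.HM
end

-- part: H55/HM/ConfTyp2
section
/-!
# S5175, T9: `StTyp` (helper55), final part
-/

set_option autoImplicit false

namespace Cfsg.Agent.H55.HM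

open Cfsg Cfsg.FusionSystem Cfsg.Agent.H756.HM Cfsg.Agent.H802
open Matrix

universe u

section conf

variable {Ω : Type*} [Group Ω] {S : Subgroup Ω}
variable {F : FusionSystem S} {K : Type} [Field K] [Fintype K] {V T : Subgroup Ω} {x : Ω}

theorem fixS_inv (c : Conf F K V T x) (hEn : ∀ a ∈ F.autGroup V, ∀ e ∈ c.E, a * e * a⁻¹ ∈ c.E) :
    ∀ α ∈ F.autGroup V, ∀ (v : Ω) (hv : v ∈ fixS V c.E), ((α ⟨v, fixS_le V c.E hv⟩ : V) : Ω) ∈ fixS V c.E := by
  intro α hα v hv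
  rw [mem_fixS (α _).2]
  intro e he
  have h1 := hEn α⁻¹ ((F.autGroup V).inv_mem hα) e he
  rw [inv_inv] at h1
  have h2 := (mem_fixS (fixS_le V c.E hv)).1 hv _ h1
  have h3 : α ((α⁻¹ * e * α) ⟨v, fixS_le V c.E hv⟩) = e (α ⟨v, fixS_le V c.E hv⟩) := by
    rw [MulAut.mul_apply, MulAut.mul_apply, MulAut.apply_inv_self]
  rw [h2] at h3
  exact h3.symm

theorem comS_inv (c : Conf F K V T x) (hEn : ∀ a ∈ F.autGroup V, ∀ e ∈ c.E, a * e * a⁻¹ ∈ c.E) :
    ∀ α ∈ F.autGroup V, ∀ (v : Ω) (hv : v ∈ comS V c.E), ((α ⟨v, comS_le V c.E hv⟩ : V) : Ω) ∈ comS V c.E := by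
  intro α hα v hv
  obtain ⟨w, hw, rfl⟩ := hv
  refine ⟨α w, ?_, rfl⟩
  have h1 : Subgroup.map α.toMonoidHom (Subgroup.closure {y : V | ∃ v : V, ∃ e ∈ c.E, y = v⁻¹ * e v}) ≤
      Subgroup.closure {y : V | ∃ v : V, ∃ e ∈ c.E, y = v⁻¹ * e v} := by
    rw [MonoidHom.map_closure, Subgroup.closure_le]
    rintro _ ⟨_, ⟨v, e, he, rfl⟩, rfl⟩
    apply Subgroup.subset_closure
    refine ⟨α v, α * e * α⁻¹, hEn α hα e he, ?_⟩
    show α (v⁻¹ * e v) = _
    rw [MulAut.mul_apply, MulAut.mul_apply, MulAut.inv_apply_self, map_mul, map_inv]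
  exact h1 ⟨w, hw, rfl⟩

theorem cj_mono (x : Ω) {A B : Subgroup Ω} (h : A ≤ B) : cj x A ≤ cj x B := Subgroup.map_mono h

theorem cj_eq_bot {x : Ω} {A : Subgroup Ω} (h : cj x A ≤ ⊥) : A = ⊥ := by
  rw [eq_bot_iff]
  intro a ha
  have h1 : x * a * x⁻¹ ∈ (⊥ : Subgroup Ω) := h (conj_mem_cj ha)
  rw [Subgroup.mem_bot] at *
  have h2 : a = x⁻¹ * (x * a * x⁻¹) * x := by group
  rw [h2, h1]
  group

/-- every element of `V` is a product of an element of `[V,E]` and one of `C_V(E)` -/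
theorem exists_comS_mul {c : Conf F K V T x} (k : Coord c) (v : V) :
    ∃ w : V, (w : Ω) ∈ comS V c.E ∧ ((w⁻¹ * v : V) : Ω) ∈ fixS V c.E := by
  -- first coordinate
  have h1 : ∀ b : K, ∃ w : V, (w : Ω) ∈ comS V c.E ∧ Multiplicative.toAdd (k.ψ w) = ![b, 0] := by
    intro b
    obtain ⟨v₀, hv₀⟩ := k.ψ_surj (Multiplicative.ofAdd ![0, 1])
    have hdet : (!![1, b; 0, 1] : Matrix (Fin 2) (Fin 2) K).det = 1 := by
      rw [Matrix.det_fin_two_of]; ring
    set M : Matrix.SpecialLinearGroup (Fin 2) K := ⟨!![1, b; 0, 1], hdet⟩ with hM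
    set e : c.E := k.ρ.symm M with he
    have hρ : k.ρ e = M := by rw [he, MulEquiv.apply_symm_apply]
    refine ⟨v₀⁻¹ * (e : MulAut V) v₀, mem_comS v₀ e.2, ?_⟩
    rw [map_mul, map_inv]
    show -Multiplicative.toAdd (k.ψ v₀) + Multiplicative.toAdd (k.ψ ((e : MulAut V) v₀)) = _
    rw [k.ψ_eq, hρ, hv₀, hM]
    funext i
    fin_cases i
    · simp
    · simp
  have h2 : ∀ b : K, ∃ w : V, (w : Ω) ∈ comS V c.E ∧ Multiplicative.toAdd (k.ψ w) = ![0, b] := by
    intro b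
    obtain ⟨v₀, hv₀⟩ := k.ψ_surj (Multiplicative.ofAdd ![1, 0])
    have hdet : (!![1, 0; b, 1] : Matrix (Fin 2) (Fin 2) K).det = 1 := by
      rw [Matrix.det_fin_two_of]; ring
    set M : Matrix.SpecialLinearGroup (Fin 2) K := ⟨!![1, 0; b, 1], hdet⟩ with hM
    set e : c.E := k.ρ.symm M with he
    have hρ : k.ρ e = M := by rw [he, MulEquiv.apply_symm_apply]
    refine ⟨v₀⁻¹ * (e : MulAut V) v₀, mem_comS v₀ e.2, ?_⟩
    rw [map_mul, map_inv]
    show -Multiplicative.toAdd (k.ψ v₀) + Multiplicative.toAdd (k.ψ ((e : MulAut V) v₀)) = _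
    rw [k.ψ_eq, hρ, hv₀, hM]
    funext i
    fin_cases i
    · simp
    · simp
  obtain ⟨w₁, hw₁, e₁⟩ := h1 (Multiplicative.toAdd (k.ψ v) 0)
  obtain ⟨w₂, hw₂, e₂⟩ := h2 (Multiplicative.toAdd (k.ψ v) 1)
  refine ⟨w₁ * w₂, (comS V c.E).mul_mem hw₁ hw₂, ?_⟩
  apply (k.ψ_ker _).1
  rw [map_mul, map_inv, map_mul]
  show -(Multiplicative.toAdd (k.ψ w₁) + Multiplicative.toAdd (k.ψ w₂)) + Multiplicative.toAdd (k.ψ v) = (0 : Fin 2 → K)
  rw [e₁, e₂]
  funext i
  fin_cases i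
  · simp
  · simp

theorem typ_aux [Finite S] (hS : IsPGroup 2 S) (hF : F.IsSaturated 2) (c : Conf F K V T x)
    (hq : 4 ≤ Fintype.card K) (hEn : ∀ a ∈ F.autGroup V, ∀ e ∈ c.E, a * e * a⁻¹ ∈ c.E) :
    fixS V c.E = ⊥ ∨ (Nat.card (fixS V c.E) = Fintype.card K ∧ comS V c.E = V) := by
  have hfinV := finite_V c
  obtain ⟨k⟩ := exists_coord c
  have H : ∀ t : K, t ≠ 0 → Hat k t := fun t ht => Classical.choice (exists_hat hS hF k t ht)
  have hDV : fixS V c.E ≤ V := fixS_le V c.E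
  have hDV' : fixS V c.E ≤ cj x V := (D_le c).trans inf_le_right
  have hDinv := fixS_inv c hEn
  have hWinv := comS_inv c hEn
  have hNV : cj x (fixS V c.E) ≤ V := by
    rintro _ ⟨d, hd, rfl⟩
    exact conj_V' c (hDV' hd)
  have hNV' : cj x (fixS V c.E) ≤ cj x V := cj_mono x hDV
  have hDD := c.DD
  -- equality of coordinates
  have hcoord : ∀ z z' : V, (z : Ω) ∈ cj x V → (z' : Ω) ∈ cj x V →
      Multiplicative.toAdd (k.ψ z) 0 = Multiplicative.toAdd (k.ψ z') 0 → ((z * z'⁻¹ : V) : Ω) ∈ fixS V c.E := by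
    intro z z' hz hz' h0
    apply (k.ψ_ker _).1
    rw [map_mul, map_inv]
    show Multiplicative.toAdd (k.ψ z) + -Multiplicative.toAdd (k.ψ z') = (0 : Fin 2 → K)
    have h1 := (k.mem_V' z).1 hz
    have h2 := (k.mem_V' z').1 hz'
    funext i
    fin_cases i
    · show Multiplicative.toAdd (k.ψ z) 0 + -Multiplicative.toAdd (k.ψ z') 0 = 0
      rw [h0]
      ring
    · show Multiplicative.toAdd (k.ψ z) 1 + -Multiplicative.toAdd (k.ψ z') 1 = 0
      rw [h1, h2]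
      ring
  rcases dich k H hNV hNV' (fun t ht v hv => (H t ht).inv hDV hDinv hv (hNV hv)) with h | hsurj
  · left
    apply cj_eq_bot (x := x)
    rw [← hDD]
    exact le_inf h le_rfl
  · right
    -- injectivity on `D^x`
    have hinj : ∀ z z' : V, (z : Ω) ∈ cj x (fixS V c.E) → (z' : Ω) ∈ cj x (fixS V c.E) →
        Multiplicative.toAdd (k.ψ z) 0 = Multiplicative.toAdd (k.ψ z') 0 → z = z' := by
      intro z z' hz hz' h0
      have h1 := hcoord z z' (hNV' hz) (hNV' hz') h0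
      have h2 : ((z * z'⁻¹ : V) : Ω) ∈ fixS V c.E ⊓ cj x (fixS V c.E) :=
        ⟨h1, (cj x (fixS V c.E)).mul_mem hz ((cj x (fixS V c.E)).inv_mem hz')⟩
      rw [hDD, Subgroup.mem_bot] at h2
      have h3 : z * z'⁻¹ = 1 := Subtype.ext h2
      exact mul_inv_eq_one.1 h3
    have hcardD : Nat.card (fixS V c.E) = Fintype.card K := by
      rw [← card_cj x (fixS V c.E), ← Nat.card_eq_fintype_card]
      apply Nat.card_congr
      refine Equiv.ofBijective (fun z => Multiplicative.toAdd (k.ψ ⟨z, hNV z.2⟩) 0) ⟨?_, ?_⟩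
      · intro z z' hzz
        have := hinj ⟨z, hNV z.2⟩ ⟨z', hNV z'.2⟩ z.2 z'.2 hzz
        exact Subtype.ext (congrArg (Subtype.val : V → Ω) this)
      · intro y
        obtain ⟨z, hz, hy⟩ := hsurj y
        exact ⟨⟨z, hz⟩, hy⟩
    refine ⟨hcardD, ?_⟩
    have hWV : comS V c.E ≤ V := comS_le V c.E
    -- `Z = D D^x`
    have hZ : ∀ z : V, (z : Ω) ∈ cj x V → ∃ d : V, (d : Ω) ∈ cj x (fixS V c.E) ∧ ((z * d⁻¹ : V) : Ω) ∈ fixS V c.E := by
      intro z hz
      obtain ⟨d, hd, h1⟩ := hsurj (Multiplicative.toAdd (k.ψ z) 0)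
      exact ⟨d, hd, hcoord z d hz (hNV' hd) h1.symm⟩
    -- invariance of `(W ∩ D)^x`
    have hWDV : comS V c.E ⊓ fixS V c.E ≤ V := inf_le_left.trans hWV
    have hWDinv : ∀ α ∈ F.autGroup V, ∀ (v : Ω) (hv : v ∈ comS V c.E ⊓ fixS V c.E),
        ((α ⟨v, hWDV hv⟩ : V) : Ω) ∈ comS V c.E ⊓ fixS V c.E := fun α hα v hv =>
      ⟨hWinv α hα v hv.1, hDinv α hα v hv.2⟩
    have hN₁ : cj x (comS V c.E ⊓ fixS V c.E) ≤ cj x (fixS V c.E) := cj_mono x inf_le_right
    rcases dich k H (hN₁.trans hNV) (hN₁.trans hNV')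
      (fun t ht v hv => (H t ht).inv hWDV hWDinv hv ((hN₁.trans hNV) hv)) with h | hsurj₁
    · exfalso
      have hWD : comS V c.E ⊓ fixS V c.E = ⊥ := by
        apply cj_eq_bot (x := x)
        rw [← hDD]
        exact le_inf h hN₁
      -- choose `t ≠ 0, 1`
      obtain ⟨t, ht0, ht1⟩ : ∃ t : K, t ≠ 0 ∧ t ≠ 1 := by
        classical
        by_contra hcon
        push Not at hcon
        have h1 : (Finset.univ : Finset K) ⊆ {0, 1} := by
          intro t _
          by_cases ht : t = 0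
          · simp only [ht, _root_.Finset.mem_insert, _root_.Finset.mem_singleton, _root_.zero_ne_one, _root_.or_false]
          · simp only [hcon t ht, _root_.Finset.mem_insert, _root_.one_ne_zero, _root_.Finset.mem_singleton, _root_.or_true]
        have h2 := Finset.card_le_card h1
        have h3 : ({0, 1} : Finset K).card ≤ 2 := Finset.card_le_two
        rw [Finset.card_univ] at h2
        omega
      set h := H t ht0 with hh_def
      -- `W ∩ V' ≤ D^x`
      have hN₂ : comS V c.E ⊓ cj x V ≤ cj x (fixS V c.E) := by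
        have he : ∀ w : V, (w : Ω) ∈ comS V c.E ⊓ cj x V →
            ((((h.e : MulAut V) w * w⁻¹ : V)) : Ω) ∈ comS V c.E ⊓ cj x V := by
          intro w hw
          have h1 : (((h.e : MulAut V) w : V) : Ω) ∈ comS V c.E := hWinv _ (c.E_le h.e.2) w hw.1
          have h2 : (((h.e : MulAut V) w : V) : Ω) ∈ cj x V := by
            rw [k.mem_V', h.c1, (k.mem_V' w).1 hw.2, mul_zero]
          exact ⟨(comS V c.E).mul_mem h1 ((comS V c.E).inv_mem hw.1),
            (cj x V).mul_mem h2 ((cj x V).inv_mem hw.2)⟩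
        let f : ↥(comS V c.E ⊓ cj x V) → ↥(comS V c.E ⊓ cj x V) := fun w =>
          ⟨((h.e : MulAut V) ⟨w, hWV w.2.1⟩ * (⟨w, hWV w.2.1⟩ : V)⁻¹ : V), he ⟨w, hWV w.2.1⟩ w.2⟩
        have hf : Function.Injective f := by
          intro w w' hww
          have h1 : (h.e : MulAut V) ⟨w, hWV w.2.1⟩ * (⟨w, hWV w.2.1⟩ : V)⁻¹ =
              (h.e : MulAut V) ⟨w', hWV w'.2.1⟩ * (⟨w', hWV w'.2.1⟩ : V)⁻¹ :=
            Subtype.ext (congrArg (Subtype.val : ↥(comS V c.E ⊓ cj x V) → Ω) hww)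
          set a : V := ⟨w, hWV w.2.1⟩ with ha
          set b : V := ⟨w', hWV w'.2.1⟩ with hb
          have h2 := congrArg (fun y => Multiplicative.toAdd (k.ψ y) 0) h1
          simp only [map_mul, map_inv] at h2
          have h3 : Multiplicative.toAdd (k.ψ ((h.e : MulAut V) a)) 0 + -Multiplicative.toAdd (k.ψ a) 0 =
            Multiplicative.toAdd (k.ψ ((h.e : MulAut V) b)) 0 + -Multiplicative.toAdd (k.ψ b) 0 := h2
          rw [h.c0, h.c0] at h3
          have h4 : (t - 1) * Multiplicative.toAdd (k.ψ a) 0 = (t - 1) * Multiplicative.toAdd (k.ψ b) 0 := by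
            linear_combination h3
          have h5 : Multiplicative.toAdd (k.ψ a) 0 = Multiplicative.toAdd (k.ψ b) 0 :=
            mul_left_cancel₀ (sub_ne_zero.2 ht1) h4
          have h6 := hcoord a b w.2.2 w'.2.2 h5
          have h7 : ((a * b⁻¹ : V) : Ω) ∈ comS V c.E ⊓ fixS V c.E :=
            ⟨(comS V c.E).mul_mem w.2.1 ((comS V c.E).inv_mem w'.2.1), h6⟩
          rw [hWD, Subgroup.mem_bot] at h7
          have h8 : a * b⁻¹ = 1 := Subtype.ext h7
          have h9 := mul_inv_eq_one.1 h8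
          exact Subtype.ext (congrArg (Subtype.val : V → Ω) h9)
        have hfin2 : Finite ↥(comS V c.E ⊓ cj x V) :=
          Finite.of_injective _ (Subgroup.inclusion_injective ((inf_le_left : comS V c.E ⊓ cj x V ≤ _).trans hWV))
        have hfs : Function.Surjective f := Finite.surjective_of_injective hf
        intro w₂ hw₂
        obtain ⟨w, hw⟩ := hfs ⟨w₂, hw₂⟩
        have hw' : (((h.e : MulAut V) ⟨w, hWV w.2.1⟩ * (⟨w, hWV w.2.1⟩ : V)⁻¹ : V) : Ω) = w₂ :=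
          congrArg Subtype.val hw
        rw [← hw']
        set a : V := ⟨w, hWV w.2.1⟩ with ha
        obtain ⟨d, hd, hzd⟩ := hZ a w.2.2
        -- `e (a d⁻¹) = a d⁻¹`
        have h1 : (h.e : MulAut V) (a * d⁻¹) = a * d⁻¹ := (mem_fixS (a * d⁻¹).2).1 hzd _ h.e.2
        rw [map_mul, map_inv] at h1
        have h2 : (h.e : MulAut V) a * a⁻¹ = (h.e : MulAut V) d * d⁻¹ := by
          have h3 : (h.e : MulAut V) a = a * d⁻¹ * (h.e : MulAut V) d := by
            rw [← h1]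
            group
          have hc1 : ∀ y z : V, y * z = z * y := fun y z => Subtype.ext (comm_V c y.2 z.2)
          rw [h3]
          calc a * d⁻¹ * (h.e : MulAut V) d * a⁻¹ = a⁻¹ * (a * d⁻¹ * (h.e : MulAut V) d) := hc1 _ _
            _ = d⁻¹ * (h.e : MulAut V) d := by group
            _ = (h.e : MulAut V) d * d⁻¹ := hc1 _ _
        rw [h2]
        have h3 : (((h.e : MulAut V) d : V) : Ω) ∈ cj x (fixS V c.E) := h.inv hDV hDinv hd d.2
        exact (cj x (fixS V c.E)).mul_mem h3 ((cj x (fixS V c.E)).inv_mem hd)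
      -- commutators
      have hcom : ∀ v ∈ V, ∀ g ∈ cj x V, v * g * v⁻¹ * g⁻¹ ∈ cj x (fixS V c.E) := by
        intro v hv g hg
        apply hN₂
        constructor
        · obtain ⟨e, -, heE, he⟩ := exists_E c hg
          have h1 := mem_comS (⟨v, hv⟩ : V)⁻¹ heE
          rw [inv_inv] at h1
          have h2 : (((⟨v, hv⟩ : V) * e (⟨v, hv⟩ : V)⁻¹ : V) : Ω) = v * g * v⁻¹ * g⁻¹ := by
            show v * ((e (⟨v, hv⟩ : V)⁻¹ : V) : Ω) = _
            rw [he]
            show v * (g * v⁻¹ * g⁻¹) = _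
            group
          rw [h2] at h1
          exact h1
        · exact (cj x V).mul_mem (conj_V'_T c (V_le_T c hv) hg) ((cj x V).inv_mem hg)
      have hcom2 : ∀ v ∈ V, ∀ g ∈ cj x V, v * g * v⁻¹ * g⁻¹ ∈ fixS V c.E := by
        intro v hv g hg
        have h1 := hcom _ (mem_cj.1 hg) _ (conj_inv_mem_V' c hv)
        have h2 := mem_cj.1 h1
        have h3 := (fixS V c.E).inv_mem h2
        have h4 : (x⁻¹ * (x⁻¹ * g * x * (x⁻¹ * v * x) * (x⁻¹ * g * x)⁻¹ * (x⁻¹ * v * x)⁻¹) * x)⁻¹ =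
          (x ^ 2)⁻¹ * (v * g * v⁻¹ * g⁻¹) * x ^ 2 := by
          simp only [pow_two, _root_.mul_inv_rev, inv_inv, mul_assoc, mul_inv_cancel_left]
        rw [h4] at h3
        obtain ⟨α, hα⟩ := exists_conjAut (T_le_N c c.x_sq)
        have h5 : α ∈ F.autGroup V := autInducedBy_le_autGroup F c.V_le
          ((mem_autInducedBy_iff _ _ _).2 ⟨x ^ 2, T_le_S c c.x_sq, hα⟩)
        have h6 := hDinv α h5 _ h3
        rw [hα] at h6
        have h7 : x ^ 2 * ((⟨(x ^ 2)⁻¹ * (v * g * v⁻¹ * g⁻¹) * x ^ 2, hDV h3⟩ : V) : Ω) * (x ^ 2)⁻¹ =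
            v * g * v⁻¹ * g⁻¹ := by
          show x ^ 2 * ((x ^ 2)⁻¹ * (v * g * v⁻¹ * g⁻¹) * x ^ 2) * (x ^ 2)⁻¹ = _
          group
        rw [h7] at h6
        exact h6
      have hV'V : cj x V ≤ V := by
        intro g hg
        apply mem_V_of_comm c (T_le_S c (V'_le_T c hg))
        intro v hv
        have h1 : v * g * v⁻¹ * g⁻¹ ∈ fixS V c.E ⊓ cj x (fixS V c.E) := ⟨hcom2 v hv g hg, hcom v hv g hg⟩
        rw [hDD, Subgroup.mem_bot] at h1
        calc v * g = (v * g * v⁻¹ * g⁻¹) * (g * v) := by group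
          _ = g * v := by rw [h1, one_mul]
      have h1 := card_V' c
      rw [inf_eq_right.2 hV'V, card_cj] at h1
      have h2 : 0 < Nat.card V := Nat.card_pos
      have h3 : Fintype.card K = 1 := by
        have h4 : Fintype.card K * Nat.card V = 1 * Nat.card V := by rw [h1, one_mul]
        exact Nat.eq_of_mul_eq_mul_right h2 h4
      omega
    · -- `D ≤ W`
      have hDW : fixS V c.E ≤ comS V c.E := by
        intro d hd
        have h1 : x * d * x⁻¹ ∈ cj x (fixS V c.E) := conj_mem_cj hd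
        obtain ⟨z, hz, hz1⟩ := hsurj₁ (Multiplicative.toAdd (k.ψ ⟨x * d * x⁻¹, hNV h1⟩) 0)
        have h2 := hinj z ⟨x * d * x⁻¹, hNV h1⟩ (hN₁ hz) h1 hz1
        have h3 : (z : Ω) = x * d * x⁻¹ := congrArg Subtype.val h2
        rw [h3] at hz
        have h4 := mem_cj.1 hz
        have h5 : x⁻¹ * (x * d * x⁻¹) * x = d := by group
        rw [h5] at h4
        exact h4.1
      apply le_antisymm hWV
      intro v hv
      obtain ⟨w, hw, hwv⟩ := exists_comS_mul k ⟨v, hv⟩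
      have h1 : v = w * ((w⁻¹ * ⟨v, hv⟩ : V) : Ω) := by
        show v = (w : Ω) * ((w : Ω)⁻¹ * v)
        group
      rw [h1]
      exact (comS V c.E).mul_mem hw (hDW hwv)

end conf

/-- **T9.** -/
theorem stTyp : StTyp.{u} := by
  intro Ω _ S _ hS F hF K _ _ V T x c hq hEn
  exact typ_aux hS hF c hq hEn

end Cfsg.Agent.H55.HM
end

private theorem dce_3cae05d5f9bd : _root_.True := by
  try have : _root_.True := by simp only [_root_.Cfsg.Agent.H880.HM.sm.eq_1]
  try have : _root_.True := by simp only [_root_.Cfsg.Agent.H880.HM.uu.eq_1]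
  try have : _root_.True := by simp only [_root_.Cfsg.Agent.H55.HM.dg.eq_1]
  try have : _root_.True := by simp only [_root_.Cfsg.Agent.H880.HM.WW.eq_1]
  exact _root_.True.intro
end

-- part: H35/HM/Chain
section
set_option linter.all false
open scoped Cfsg.Agent.FastGrp

/-!
# S5175, T2: chains of strongly closed subgroups in local subsystems (helper35)
-/

set_option autoImplicit false

namespace Cfsg.Agent.H35.HM

open Cfsg Cfsg.FusionSystem Cfsg.Agent.H752 Cfsg.Agent.H756.HM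
open scoped commutatorElement

universe u

theorem chainN : StChainN.{u} := by
  intro Ω _ S _ hS F hF hmin U hU hne
  have : Fact (Nat.Prime 2) := ⟨Nat.prime_two⟩
  have hE := H781.isNormalizerSystem_normSys F U hU.1
  have hfin : Finite (normalizerIn S U) := H802.finite_of_le inf_le_left
  have hsat : (H781.normSys F U hU.1).IsSaturated 2 := H802.normalizerSystem_isSaturated hS hF hU hE
  have hNp : IsPGroup 2 (normalizerIn S U) := hS.to_le inf_le_left
  obtain ⟨n, c, h0, hn, hsc, hmono, hc⟩ := H759.hasChain_of_isSolvableSystem hNp hsat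
    (hmin U hne hU _ hE) ⊥ H759.StronglyClosed.bot
  refine ⟨n, c, h0, hn, monotone_nat_of_le_succ hmono, hc, fun i P hP φ hφ x => ?_⟩
  exact (hsc i).2 P hP φ hφ x

theorem chain : StChain.{u} := by
  intro Ω _ S _ hS F hF hmin U hUS hne
  have : Fact (Nat.Prime 2) := ⟨Nat.prime_two⟩
  obtain ⟨U', ⟨φ, hφ, hφr⟩, hU'⟩ := H802.exists_isFullyNormalized hS hF hUS
  obtain ⟨β, hβ, ψ, hψ, h1, h2⟩ := H802.exists_extension_normalizer hS hF hφ hφr hU'
  have hne' : U' ≠ ⊥ := by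
    intro h
    apply hne
    have h3 : Nat.card U = 1 := by
      rw [H802.isConj_card_eq ⟨φ, hφ, hφr⟩, h, Subgroup.card_bot]
    exact Subgroup.card_eq_one.1 h3
  obtain ⟨n, c, h0, hn, hmono, hc, hcl⟩ := chainN hS F hF hmin U' hU' hne'
  -- the map `f : N_S(U) → N_S(U')`
  set f : Ω → Ω := ex ψ with hf
  have hfM : Mp F (normalizerIn S U) f := mp_ex hψ
  have hfψ : ∀ x : normalizerIn S U, ψ x = f x := fun x => (ex_coe (ψ : normalizerIn S U → Ω) x).symm
  have hfN : ∀ x ∈ normalizerIn S U, f x ∈ normalizerIn S U' := fun x hx => by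
    rw [← hfψ ⟨x, hx⟩]; exact h2 _
  have hUN : U ≤ normalizerIn S U := H802.le_normalizerIn hUS
  have hCN : centralizerIn S U ≤ normalizerIn S U :=
    inf_le_inf_left _ (Subgroup.centralizer_le_normalizer _)
  have hφm : ∀ x : U, φ x ∈ U' := fun x => hφr.le ⟨x, rfl⟩
  have hfU : ∀ x ∈ U, f x ∈ U' := by
    intro x hx
    rw [← hfψ ⟨x, hUN hx⟩, h1 ⟨x, hx⟩ (hφm _)]
    exact (β _).2
  have hfinU' : Finite U' := H802.finite_of_le hU'.1
  -- the image of `U` is `U'`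
  have hfU' : ∀ y ∈ U', ∃ x ∈ U, f x = y := by
    obtain ⟨T, hT, -, hTc⟩ := hfM.exists_image hUN
    have hTU : T ≤ U' := by
      intro y hy
      obtain ⟨x, hx, rfl⟩ := (hT y).1 hy
      exact hfU x hx
    have hTe : T = U' := Subgroup.eq_of_le_of_card_ge hTU
      (by rw [hTc, H802.isConj_card_eq ⟨φ, hφ, hφr⟩])
    intro y hy
    rw [← hTe] at hy
    exact (hT y).1 hy
  -- the chain
  let C : ℕ → Subgroup Ω := fun i => ((c i).comap ψ).map (normalizerIn S U).subtype ⊓ centralizerIn S U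
  have hC : ∀ i x, x ∈ C i ↔ x ∈ centralizerIn S U ∧ f x ∈ c i := by
    intro i x
    constructor
    · rintro ⟨⟨y, hy, rfl⟩, hx⟩
      refine ⟨hx, ?_⟩
      show f (y : Ω) ∈ c i
      rw [← hfψ y]
      exact hy
    · rintro ⟨hx, hy⟩
      refine ⟨⟨⟨x, hCN hx⟩, ?_, rfl⟩, hx⟩
      show ψ ⟨x, hCN hx⟩ ∈ c i
      rw [hfψ]
      exact hy
  refine ⟨n, C, ?_, ?_, ?_, ?_, ?_⟩
  · rw [eq_bot_iff]
    intro x hx
    rw [hC, h0, Subgroup.mem_bot] at hx
    exact Subgroup.mem_bot.2 (hfM.inj (hCN hx.1) (one_mem _) (by rw [hx.2, hfM.one]))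
  · ext x
    rw [hC, hn]
    exact ⟨fun h => h.1, fun h => ⟨h, hfN x (hCN h)⟩⟩
  · intro i j hij x hx
    rw [hC] at hx ⊢
    exact ⟨hx.1, hmono hij hx.2⟩
  · intro i
    rw [Subgroup.commutator_le]
    intro x hx y hy
    rw [hC] at hx hy ⊢
    have hxN := hCN hx.1
    have hyN := hCN hy.1
    refine ⟨mul_mem (mul_mem (mul_mem hx.1 hy.1) (inv_mem hx.1)) (inv_mem hy.1), ?_⟩
    rw [commutatorElement_def, hfM.mul (mul_mem (mul_mem hxN hyN) (inv_mem hxN)) (inv_mem hyN),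
      hfM.mul (mul_mem hxN hyN) (inv_mem hxN), hfM.mul hxN hyN, hfM.inv hxN, hfM.inv hyN,
      ← commutatorElement_def]
    exact hc i (Subgroup.commutator_mem_commutator hx.2 hy.2)
  · intro i P hP χ hχ x
    obtain ⟨hχF, hPC, hχC, ω, hω, hω1, hω2⟩ := hχ
    rw [hC]
    refine ⟨hχC x, ?_⟩
    -- `P ⊔ U ≤ N_S(U)`
    have hPN : P ≤ normalizerIn S U := hPC.trans hCN
    have hPUN : P ⊔ U ≤ normalizerIn S U := sup_le hPN hUN
    set g : Ω → Ω := ex ω with hg
    have hgM : Mp F (P ⊔ U) g := mp_ex hω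
    have hg1 : ∀ x (hx : x ∈ P), g x = χ ⟨x, hx⟩ := by
      intro x hx
      rw [← hω1 ⟨x, hx⟩]
      exact ex_apply (ω : (P ⊔ U : Subgroup Ω) → Ω) (Subgroup.mem_sup_left hx)
    have hg2 : ∀ x ∈ U, g x = x := by
      intro x hx
      have h3 := hω2 ⟨x, hx⟩
      rw [hg, ex_apply (ω : (P ⊔ U : Subgroup Ω) → Ω) (Subgroup.mem_sup_right hx)]
      exact h3
    have hgN : ∀ x ∈ P ⊔ U, g x ∈ normalizerIn S U :=
      hgM.mem_sup (fun x hx => by rw [hg1 x hx]; exact hCN (hχC _)) (fun x hx => by rw [hg2 x hx]; exact hUN hx)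
    -- images
    obtain ⟨P', hP', -, -⟩ := hfM.exists_image hPN
    obtain ⟨R, hR, -, -⟩ := hfM.exists_image hPUN
    have hRe : R = P' ⊔ U' := by
      apply le_antisymm
      · intro y hy
        obtain ⟨x, hx, rfl⟩ := (hR y).1 hy
        refine (hfM.res hPUN).mem_sup (fun x hx => ?_) (fun x hx => ?_) x hx
        · exact Subgroup.mem_sup_left ((hP' _).2 ⟨x, hx, rfl⟩)
        · exact Subgroup.mem_sup_right (hfU x hx)
      · rw [sup_le_iff]
        constructor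
        · intro y hy
          obtain ⟨x, hx, rfl⟩ := (hP' y).1 hy
          exact (hR _).2 ⟨x, Subgroup.mem_sup_left hx, rfl⟩
        · intro y hy
          obtain ⟨x, hx, rfl⟩ := hfU' y hy
          exact (hR _).2 ⟨x, Subgroup.mem_sup_right hx, rfl⟩
    obtain ⟨k, hk, hk1, hk2⟩ := hfM.exists_symm hPUN hR
    -- the transported map `f ∘ g ∘ k` on `P' ⊔ U'`
    have hM : Mp F R (fun y => f (g (k y))) :=
      (hk.comp hgM fun y hy => (hk2 y hy).1).comp hfM fun y hy => hgN _ (hk2 y hy).1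
    rw [hRe] at hM
    obtain ⟨τ, hτ, hτe'⟩ := hM
    have hτe : ∀ (x : Ω) (hx : x ∈ P' ⊔ U'), τ ⟨x, hx⟩ = f (g (k x)) := hτe'
    have hfx : f x ∈ P' := (hP' _).2 ⟨x, x.2, rfl⟩
    have hmem : τ.comp (Subgroup.inclusion (le_sup_left : P' ≤ P' ⊔ U')) ∈ F.normalizerHom U' P' := by
      have hval : ∀ (x : Ω) (hx : x ∈ P) (hx' : f x ∈ P'),
          (τ.comp (Subgroup.inclusion (le_sup_left : P' ≤ P' ⊔ U'))) ⟨f x, hx'⟩ = f (χ ⟨x, hx⟩) := by
        intro x hx hx'
        show τ ⟨f x, _⟩ = _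
        rw [hτe, hk1 x (Subgroup.mem_sup_left hx), hg1 x hx]
      refine ⟨H802.restrict_mem hτ _, ?_, ?_, τ, hτ, fun _ => rfl, ?_⟩
      · intro y hy
        obtain ⟨x, hx, rfl⟩ := (hP' y).1 hy
        exact hfN x (hPN hx)
      · rintro ⟨y, hy⟩
        obtain ⟨x, hx, rfl⟩ := (hP' y).1 hy
        rw [hval x hx hy]
        exact hfN _ (hCN (hχC _))
      · have hval2 : ∀ (x : Ω) (hx : x ∈ U) (hx' : f x ∈ P' ⊔ U'), τ ⟨f x, hx'⟩ = f x := by
          intro x hx hx'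
          rw [hτe, hk1 x (Subgroup.mem_sup_right hx), hg2 x hx]
        ext y
        constructor
        · rintro ⟨⟨z, hz'⟩, hz, rfl⟩
          obtain ⟨x, hx, rfl⟩ := hfU' z hz
          rw [hval2 x hx hz']
          exact hz
        · intro hy
          obtain ⟨x, hx, rfl⟩ := hfU' y hy
          exact ⟨⟨f x, Subgroup.mem_sup_right hy⟩, hy, hval2 x hx _⟩
    have hP'c : P' ≤ c i := by
      intro y hy
      obtain ⟨x, hx, rfl⟩ := (hP' y).1 hy
      exact ((hC i x).1 (hP hx)).2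
    have h3 := hcl i P' hP'c _ hmem ⟨f x, hfx⟩
    have h4 : (τ.comp (Subgroup.inclusion (le_sup_left : P' ≤ P' ⊔ U'))) ⟨f x, hfx⟩ = f (χ x) := by
      show τ ⟨f x, _⟩ = _
      rw [hτe, hk1 x (Subgroup.mem_sup_left x.2), hg1 x x.2]
    rwa [h4] at h3

end Cfsg.Agent.H35.HM
end

-- part: H124/SP/BigTF
section
prune_inst 0x802002000900020000180010400020244800000200600801d1e0070202427322200328000c200d100802a800000000600054005000000000000004000000012080a05204b308010426000f803004000000000000000000000000000000041000000000000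
set_option linter.all false
open scoped Cfsg.Agent.FastGrp

-- part: H124/SP/TF
section
/-!
# S5175, SP: the two elementary abelian subgroups of `T` (helper124)
-/

set_option autoImplicit false

namespace Cfsg.Agent.H124.SP

open Cfsg Cfsg.FusionSystem Cfsg.Agent.H756.HM Cfsg.Agent.H802
open scoped commutatorElement

/-- the group theoretic situation -/
structure TF {Ω : Type*} [Group Ω] (S T V : Subgroup Ω) (x : Ω) : Prop where
  sup : T = V ⊔ cj x V
  el : ∀ v ∈ V, v ^ 2 = 1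
  nor : normalizerIn S V = T
  cent : centralizerIn S V = V
  x_mem : x ∈ S
  x_nor : x ∈ Subgroup.normalizer (T : Set Ω)
  x_not : x ∉ T
  x_sq : x ^ 2 ∈ T
  cen : ∀ v ∈ V, ∀ w ∈ cj x V, v * w = w * v → v ∈ cj x V ∨ w ∈ V
  idx : T.relIndex S = 2
  card : 4 * Nat.card (V ⊓ cj x V : Subgroup Ω) ≤ Nat.card V

namespace TF

variable {Ω : Type*} [Group Ω] {S T V : Subgroup Ω} {x : Ω}

theorem mem_cj {g : Ω} : g ∈ cj x V ↔ x⁻¹ * g * x ∈ V := by
  constructor
  · rintro ⟨v, hv, rfl⟩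
    have : x⁻¹ * ((MulAut.conj x).toMonoidHom v) * x = v := by
      show x⁻¹ * (x * v * x⁻¹) * x = v
      group
    rw [this]; exact hv
  · intro h
    refine ⟨_, h, ?_⟩
    show x * (x⁻¹ * g * x) * x⁻¹ = g
    group

theorem conj_mem_cj {v : Ω} (hv : v ∈ V) : x * v * x⁻¹ ∈ cj x V := ⟨v, hv, rfl⟩

theorem card_cj : Nat.card (cj x V) = Nat.card V := by
  exact Subgroup.card_map_of_injective (MulAut.conj x).injective

variable (h : TF S T V x)
include h

theorem T_le : T ≤ S := by rw [← h.nor]; exact inf_le_left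

theorem V_le : V ≤ T := by
  rw [h.sup]; exact le_sup_left

theorem W_le : cj x V ≤ T := by
  conv_rhs => rw [h.sup]
  exact le_sup_right

theorem T_norm : T ≤ Subgroup.normalizer (V : Set Ω) := by
  rw [← h.nor]; exact inf_le_right

theorem el' : ∀ v ∈ V, v * v = 1 := fun v hv => by rw [← sq]; exact h.el v hv

theorem inv_eq {v : Ω} (hv : v ∈ V) : v⁻¹ = v := inv_eq_of_mul_eq_one_left (h.el' v hv)

theorem comm {v w : Ω} (hv : v ∈ V) (hw : w ∈ V) : v * w = w * v := by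
  have h1 := h.el' _ (V.mul_mem hv hw)
  have h2 := h.el' v hv
  have h3 := h.el' w hw
  calc v * w = v * w * (v * w) * (v * w)⁻¹ := by group
    _ = (v * w)⁻¹ := by rw [h1, one_mul]
    _ = w⁻¹ * v⁻¹ := by group
    _ = w * v := by rw [h.inv_eq hv, h.inv_eq hw]

theorem el_W {w : Ω} (hw : w ∈ cj x V) : w * w = 1 := by
  obtain ⟨v, hv, rfl⟩ := hw
  show (x * v * x⁻¹) * (x * v * x⁻¹) = 1
  have : (x * v * x⁻¹) * (x * v * x⁻¹) = x * (v * v) * x⁻¹ := by group
  rw [this, h.el' v hv]; group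

theorem comm_W {v w : Ω} (hv : v ∈ cj x V) (hw : w ∈ cj x V) : v * w = w * v := by
  obtain ⟨v, hv, rfl⟩ := hv
  obtain ⟨w, hw, rfl⟩ := hw
  show (x * v * x⁻¹) * (x * w * x⁻¹) = (x * w * x⁻¹) * (x * v * x⁻¹)
  have : (x * v * x⁻¹) * (x * w * x⁻¹) = x * (v * w) * x⁻¹ := by group
  rw [this, h.comm hv hw]; group

theorem conj_x_T {t : Ω} (ht : t ∈ T) : x * t * x⁻¹ ∈ T := (Subgroup.mem_normalizer_iff.1 h.x_nor t).1 ht

theorem conj_x_T' {t : Ω} (ht : t ∈ T) : x⁻¹ * t * x ∈ T := by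
  have := (Subgroup.mem_normalizer_iff.1 ((Subgroup.normalizer (T : Set Ω)).inv_mem h.x_nor) t).1 ht
  simpa using this

theorem T_norm_W : T ≤ Subgroup.normalizer (cj x V : Set Ω) := by
  intro t ht
  rw [Subgroup.mem_normalizer_iff]
  intro g
  have h1 := (Subgroup.mem_normalizer_iff.1 (h.T_norm (h.conj_x_T' ht)) (x⁻¹ * g * x))
  have e1 : x⁻¹ * t * x * (x⁻¹ * g * x) * (x⁻¹ * t * x)⁻¹ = x⁻¹ * (t * g * t⁻¹) * x := by group
  rw [e1] at h1
  show g ∈ cj x V ↔ t * g * t⁻¹ ∈ cj x V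
  rw [mem_cj, mem_cj]
  exact h1

theorem ne : cj x V ≠ V := by
  intro he
  apply h.x_not
  rw [← h.nor]
  refine ⟨h.x_mem, ?_⟩
  refine Subgroup.mem_normalizer_iff.2 ?_
  have key : ∀ g, g ∈ V ↔ x⁻¹ * g * x ∈ V := fun g => by
    conv_lhs => rw [← he]
    exact mem_cj
  intro g
  constructor
  · intro hg
    rw [key]
    have : x⁻¹ * (x * g * x⁻¹) * x = g := by group
    rw [this]; exact hg
  · intro hg
    rw [key] at hg
    have : x⁻¹ * (x * g * x⁻¹) * x = g := by group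
    rw [this] at hg; exact hg

/-- `x` swaps the two subgroups -/
theorem cj_cj : cj x (cj x V) = V := by
  apply le_antisymm
  · rintro _ ⟨_, ⟨v, hv, rfl⟩, rfl⟩
    show x * (x * v * x⁻¹) * x⁻¹ ∈ V
    have e : x * (x * v * x⁻¹) * x⁻¹ = x ^ 2 * v * (x ^ 2)⁻¹ := by rw [sq]; group
    rw [e]
    exact (Subgroup.mem_normalizer_iff.1 (h.T_norm h.x_sq) v).1 hv
  · intro v hv
    rw [mem_cj, mem_cj]
    have e : x⁻¹ * (x⁻¹ * v * x) * x = (x ^ 2)⁻¹ * v * (x ^ 2)⁻¹⁻¹ := by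
      rw [sq, inv_inv, mul_inv_rev]
      simp only [mul_assoc]
    rw [e]
    exact (Subgroup.mem_normalizer_iff.1 (h.T_norm (T.inv_mem h.x_sq)) v).1 hv

theorem conj_mem_V {w : Ω} (hw : w ∈ cj x V) : x * w * x⁻¹ ∈ V := by
  have : x * w * x⁻¹ ∈ cj x (cj x V) := ⟨w, hw, rfl⟩
  rwa [h.cj_cj] at this

theorem cent_W : centralizerIn S (cj x V) = cj x V := by
  apply le_antisymm
  · rintro s ⟨hs, hc⟩
    rw [mem_cj, ← h.cent]
    refine ⟨S.mul_mem (S.mul_mem (S.inv_mem h.x_mem) hs) h.x_mem, ?_⟩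
    refine Subgroup.mem_centralizer_iff.2 ?_
    intro v hv
    have h1 := Subgroup.mem_centralizer_iff.1 hc _ (conj_mem_cj (x := x) hv)
    have h2 : x⁻¹ * (x * v * x⁻¹ * s) * x = x⁻¹ * (s * (x * v * x⁻¹)) * x := by rw [h1]
    calc v * (x⁻¹ * s * x) = x⁻¹ * (x * v * x⁻¹ * s) * x := by group
      _ = x⁻¹ * (s * (x * v * x⁻¹)) * x := h2
      _ = x⁻¹ * s * x * v := by group
  · intro w hw
    refine ⟨h.T_le (h.W_le hw), Subgroup.mem_centralizer_iff.2 fun w' hw' => h.comm_W hw' hw⟩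

theorem nor_W : normalizerIn S (cj x V) = T := by
  apply le_antisymm
  · rintro s ⟨hs, hn⟩
    have h1 : x⁻¹ * s * x ∈ T := by
      rw [← h.nor]
      refine ⟨S.mul_mem (S.mul_mem (S.inv_mem h.x_mem) hs) h.x_mem, ?_⟩
      refine Subgroup.mem_normalizer_iff.2 ?_
      intro v
      have h2 : (x * v * x⁻¹) ∈ cj x V ↔ s * (x * v * x⁻¹) * s⁻¹ ∈ cj x V :=
        Subgroup.mem_normalizer_iff.1 hn (x * v * x⁻¹)
      rw [mem_cj, mem_cj] at h2
      have e1 : x⁻¹ * (x * v * x⁻¹) * x = v := by group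
      have e2 : x⁻¹ * (s * (x * v * x⁻¹) * s⁻¹) * x = x⁻¹ * s * x * v * (x⁻¹ * s * x)⁻¹ := by group
      rw [e1, e2] at h2
      exact h2
    have h2 := h.conj_x_T h1
    have e : x * (x⁻¹ * s * x) * x⁻¹ = s := by group
    rwa [e] at h2
  · intro t ht
    exact ⟨h.T_le ht, h.T_norm_W ht⟩

/-- every element of `T` is a product -/
theorem exists_mul {t : Ω} (ht : t ∈ T) : ∃ v ∈ V, ∃ w ∈ cj x V, t = v * w := by
  have h1 : V ≤ Subgroup.normalizer (cj x V : Set Ω) := h.V_le.trans h.T_norm_W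
  have h2 : t ∈ V ⊔ cj x V := by rw [← h.sup]; exact ht
  have h3 : t ∈ ((V ⊔ cj x V : Subgroup Ω) : Set Ω) := h2
  rw [Subgroup.coe_mul_of_left_le_normalizer_right V (cj x V) h1] at h3
  obtain ⟨v, hv, w, hw, rfl⟩ := Set.mem_mul.1 h3
  exact ⟨v, hv, w, hw, rfl⟩

/-- involutions of `T` -/
theorem mem_or {t : Ω} (ht : t ∈ T) (h2 : t * t = 1) : t ∈ V ∨ t ∈ cj x V := by
  obtain ⟨v, hv, w, hw, rfl⟩ := h.exists_mul ht
  have h3 : v * w = w * v := by
    have hv1 := h.inv_eq hv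
    have hw1 : w⁻¹ = w := inv_eq_of_mul_eq_one_left (h.el_W hw)
    calc v * w = v * w * (v * w) * (v * w)⁻¹ := by group
      _ = (v * w)⁻¹ := by rw [h2, one_mul]
      _ = w⁻¹ * v⁻¹ := by group
      _ = w * v := by rw [hv1, hw1]
  rcases h.cen v hv w hw h3 with h4 | h4
  · exact Or.inr ((cj x V).mul_mem h4 hw)
  · exact Or.inl (V.mul_mem hv h4)

/-- elementary abelian subgroups of `T` -/
theorem le_or {B : Subgroup Ω} (hB : B ≤ T) (h2 : ∀ b ∈ B, b * b = 1) : B ≤ V ∨ B ≤ cj x V := by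
  by_contra hcon
  push Not at hcon
  obtain ⟨h3, h4⟩ := hcon
  rw [SetLike.not_le_iff_exists] at h3 h4
  obtain ⟨a, ha, haV⟩ := h3
  obtain ⟨b, hb, hbW⟩ := h4
  have ha' := (h.mem_or (hB ha) (h2 a ha)).resolve_left haV
  have hb' := (h.mem_or (hB hb) (h2 b hb)).resolve_right hbW
  rcases h.mem_or (hB (B.mul_mem ha hb)) (h2 _ (B.mul_mem ha hb)) with h5 | h5
  · exact haV ((Subgroup.mul_mem_cancel_right V hb').1 h5)
  · exact hbW ((Subgroup.mul_mem_cancel_left (cj x V) ha').1 h5)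

/-- elements of `S` outside `T` swap the two subgroups -/
theorem eq_mul {s : Ω} (hs : s ∈ S) (hsT : s ∉ T) : ∃ t ∈ T, s = x * t := by
  have h1 := h.idx
  rw [Subgroup.relIndex, Subgroup.index_eq_two_iff_exists_notMem_and] at h1
  have h2 : Subgroup.index (T.subgroupOf S) = 2 := h.idx
  have h3 := Subgroup.mul_mem_iff_of_index_two h2 (a := (⟨x⁻¹, S.inv_mem h.x_mem⟩ : S)) (b := (⟨s, hs⟩ : S))
  rw [Subgroup.mem_subgroupOf, Subgroup.mem_subgroupOf, Subgroup.mem_subgroupOf] at h3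
  have h4 : x⁻¹ ∉ T := fun h5 => h.x_not ((Subgroup.inv_mem_iff T).1 h5)
  have h5 : x⁻¹ * s ∈ T := h3.2 (by simp only [h4, hsT])
  exact ⟨x⁻¹ * s, h5, by group⟩

theorem conj_swap {s : Ω} (hs : s ∈ S) (hsT : s ∉ T) {v : Ω} (hv : v ∈ V) : s * v * s⁻¹ ∈ cj x V := by
  obtain ⟨t, ht, rfl⟩ := h.eq_mul hs hsT
  have h1 : t * v * t⁻¹ ∈ V := (Subgroup.mem_normalizer_iff.1 (h.T_norm ht) v).1 hv
  have e : x * t * v * (x * t)⁻¹ = x * (t * v * t⁻¹) * x⁻¹ := by group
  rw [e]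
  exact conj_mem_cj h1

theorem conj_swap' {s : Ω} (hs : s ∈ S) (hsT : s ∉ T) {v : Ω} (hv : v ∈ cj x V) : s * v * s⁻¹ ∈ V := by
  obtain ⟨t, ht, rfl⟩ := h.eq_mul hs hsT
  have h1 : t * v * t⁻¹ ∈ cj x V := (Subgroup.mem_normalizer_iff.1 (h.T_norm_W ht) v).1 hv
  have e : x * t * v * (x * t)⁻¹ = x * (t * v * t⁻¹) * x⁻¹ := by group
  rw [e]
  exact h.conj_mem_V h1

/-- elementary abelian subgroups of `S` of order `|V|` -/
theorem eq_or [Finite S] {B : Subgroup Ω} (hB : B ≤ S) (h2 : ∀ b ∈ B, b * b = 1) (hc : Nat.card B = Nat.card V) :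
    B = V ∨ B = cj x V := by
  have hfT : Finite T := finite_of_le h.T_le
  have hfV : Finite V := finite_of_le (h.V_le.trans h.T_le)
  have hfW : Finite (cj x V) := finite_of_le (h.W_le.trans h.T_le)
  by_cases hBT : B ≤ T
  · rcases h.le_or hBT h2 with h3 | h3
    · exact Or.inl (Subgroup.eq_of_le_of_card_ge h3 hc.ge)
    · exact Or.inr (Subgroup.eq_of_le_of_card_ge h3 (by rw [hc]; exact (card_cj (x := x) (V := V)).le))
  · exfalso
    rw [SetLike.not_le_iff_exists] at hBT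
    obtain ⟨b, hb, hbT⟩ := hBT
    have hcomm : ∀ a ∈ B, b * a * b⁻¹ = a := by
      intro a ha
      have e1 : (b * a) * (b * a) = 1 := h2 _ (B.mul_mem hb ha)
      have e2 : a⁻¹ = a := inv_eq_of_mul_eq_one_left (h2 a ha)
      have e3 : b⁻¹ = b := inv_eq_of_mul_eq_one_left (h2 b hb)
      calc b * a * b⁻¹ = b * a * b := by rw [e3]
        _ = (b * a) * (b * a) * a⁻¹ := by group
        _ = a := by rw [e1, one_mul, e2]
    have hZ : B ⊓ T ≤ V ⊓ cj x V := by
      intro a ha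
      rcases h.mem_or ha.2 (h2 a ha.1) with h3 | h3
      · refine ⟨h3, ?_⟩
        rw [← hcomm a ha.1]
        exact h.conj_swap (hB hb) hbT h3
      · refine ⟨?_, h3⟩
        rw [← hcomm a ha.1]
        exact h.conj_swap' (hB hb) hbT h3
    have hfZ : Finite (V ⊓ cj x V : Subgroup Ω) := finite_of_le (inf_le_left.trans (h.V_le.trans h.T_le))
    have h3 : Nat.card (B ⊓ T : Subgroup Ω) ≤ Nat.card (V ⊓ cj x V : Subgroup Ω) :=
      Subgroup.card_le_of_le hZ
    have h4 : T.relIndex B ≤ 2 := by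
      have h5 := Subgroup.relIndex_le_of_le_right (H := T) (K := B) (L := S) hB (by rw [h.idx]; norm_num)
      rwa [h.idx] at h5
    have h5 : Nat.card (B ⊓ T : Subgroup Ω) * T.relIndex B = Nat.card B := by
      have h6 := Subgroup.relIndex_mul_relIndex ⊥ (B ⊓ T) B bot_le inf_le_left
      rwa [Subgroup.relIndex_bot_left, Subgroup.relIndex_bot_left, Subgroup.inf_relIndex_left] at h6
    have h6 := h.card
    have h7 : 0 < Nat.card V := Nat.card_pos
    have h8 : 0 < Nat.card (V ⊓ cj x V : Subgroup Ω) := Nat.card_pos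
    nlinarith

end TF

end Cfsg.Agent.H124.SP
end

-- part: H124/SP/Uniq
section
/-!
# S5175, SP: the fusion system is determined by `Aut_F(V)` and `Aut_F(S)` (helper124)
-/

set_option autoImplicit false

namespace Cfsg.Agent.H124.SP

open Cfsg Cfsg.FusionSystem Cfsg.Agent.H756.HM Cfsg.Agent.H802
open scoped commutatorElement

theorem mem_normalizer_of_forall {Ω : Type*} [Group Ω] {V : Subgroup Ω} [Finite V] {g : Ω}
    (h : ∀ v ∈ V, g * v * g⁻¹ ∈ V) : g ∈ Subgroup.normalizer (V : Set Ω) := by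
  have h1 : V.map (MulAut.conj g).toMonoidHom = V := by
    apply Subgroup.eq_of_le_of_card_ge
    · rintro _ ⟨v, hv, rfl⟩
      exact h v hv
    · rw [Subgroup.card_map_of_injective (MulAut.conj g).injective]
  rw [Subgroup.mem_normalizer_iff]
  intro v
  refine ⟨h v, fun hv => ?_⟩
  rw [← h1] at hv
  obtain ⟨u, hu, hue⟩ := hv
  have h2 : g * u * g⁻¹ = g * v * g⁻¹ := hue
  rw [← mul_left_cancel (mul_right_cancel h2)]
  exact hu

namespace TF

variable {Ω : Type*} [Group Ω] {S T V : Subgroup Ω} {x : Ω}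

/-- conjugates of `V` -/
theorem conj_eq_or [Finite S] (h : TF S T V x) {F : FusionSystem S} {P Q : Subgroup Ω} (hP : P = V ∨ P = cj x V)
    (hc : F.IsConj P Q) : Q = V ∨ Q = cj x V := by
  have hcard : Nat.card P = Nat.card V := by
    rcases hP with rfl | rfl
    · rfl
    · exact card_cj
  have hsq : ∀ p ∈ P, p * p = 1 := by
    rcases hP with rfl | rfl
    · exact h.el'
    · intro p hp; exact h.el_W hp
  have hQ : Q ≤ S := isConj_le_right hc
  obtain ⟨φ, hφ, rfl⟩ := hc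
  refine h.eq_or hQ ?_ ?_
  · rintro _ ⟨p, rfl⟩
    rw [← map_mul]
    have : p * p = 1 := Subtype.ext (hsq p p.2)
    rw [this, map_one]
  · rw [← hcard]
    exact (isConj_card_eq (isConj_range hφ)).symm

theorem card_nor (h : TF S T V x) {Q : Subgroup Ω} (hQ : Q = V ∨ Q = cj x V) : normalizerIn S Q = T := by
  rcases hQ with rfl | rfl
  · exact h.nor
  · exact h.nor_W

theorem isFullyNormalized [Finite S] (h : TF S T V x) (F : FusionSystem S) {P : Subgroup Ω}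
    (hP : P = V ∨ P = cj x V) : F.IsFullyNormalized P := by
  refine ⟨?_, fun Q hQ => ?_⟩
  · rcases hP with rfl | rfl
    · exact h.V_le.trans h.T_le
    · exact h.W_le.trans h.T_le
  · rw [h.card_nor hP, h.card_nor (h.conj_eq_or hP hQ)]

/-- `Aut_F(V^x)` is determined by `Aut_F(V)` -/
theorem autGroup_W_le (h : TF S T V x) {F F' : FusionSystem S} (hV : F.autGroup V ≤ F'.autGroup V) :
    F.autGroup (cj x V) ≤ F'.autGroup (cj x V) := by
  have hVS : V ≤ S := h.V_le.trans h.T_le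
  have hWS : cj x V ≤ S := h.W_le.trans h.T_le
  intro α hα
  rw [mem_autGroup_iff _ hWS] at hα ⊢
  -- the conjugate automorphism of `V`
  set e : V ≃* cj x V := V.equivMapOfInjective (MulAut.conj x).toMonoidHom (MulAut.conj x).injective with he
  have hev : ∀ v : V, ((e v : cj x V) : Ω) = x * v * x⁻¹ := fun v => rfl
  have hes : ∀ w : cj x V, ((e.symm w : V) : Ω) = x⁻¹ * w * x := by
    intro w
    have h1 := hev (e.symm w)
    rw [MulEquiv.apply_symm_apply] at h1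
    rw [h1]; group
  set β : MulAut V := (e.trans α).trans e.symm with hβ
  have hβv : ∀ v : V, ((β v : V) : Ω) = x⁻¹ * (α (e v) : cj x V) * x := fun v => hes _
  have h1 : β ∈ F.autGroup V := by
    rw [mem_autGroup_iff _ hVS]
    have c1 : conjHom V x ∈ F.Hom V := F.conj_mem hVS h.x_mem
    have c2 : (cj x V).subtype.comp α.toMonoidHom ∈ F.Hom (cj x V) := hα
    have hm1 : ∀ v : V, conjHom V x v ∈ cj x V := fun v => ⟨v, v.2, rfl⟩
    have c3 := F.comp_mem c1 c2 hm1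
    have c4 : conjHom (cj x V) x⁻¹ ∈ F.Hom (cj x V) := F.conj_mem hWS (S.inv_mem h.x_mem)
    have hm2 : ∀ v : V, (((cj x V).subtype.comp α.toMonoidHom).comp ((conjHom V x).codRestrict (cj x V) hm1)) v ∈ cj x V :=
      fun v => (α _).2
    have c5 := F.comp_mem c3 c4 hm2
    refine mem_of_apply_eq c5 (fun v => ?_)
    show ((β v : V) : Ω) = x⁻¹ * ((α _ : cj x V) : Ω) * x⁻¹⁻¹
    rw [hβv, inv_inv]
    rfl
  have h2 := hV h1
  rw [mem_autGroup_iff _ hVS] at h2
  have c1 : conjHom (cj x V) x⁻¹ ∈ F'.Hom (cj x V) := F'.conj_mem hWS (S.inv_mem h.x_mem)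
  have hm1 : ∀ w : cj x V, conjHom (cj x V) x⁻¹ w ∈ V := by
    intro w
    show x⁻¹ * w * x⁻¹⁻¹ ∈ V
    rw [inv_inv]
    exact mem_cj.1 w.2
  have c3 := F'.comp_mem c1 h2 hm1
  have c4 : conjHom V x ∈ F'.Hom V := F'.conj_mem hVS h.x_mem
  have hm2 : ∀ w : cj x V, ((V.subtype.comp β.toMonoidHom).comp ((conjHom (cj x V) x⁻¹).codRestrict V hm1)) w ∈ V :=
    fun w => (β _).2
  have c5 := F'.comp_mem c3 c4 hm2
  refine mem_of_apply_eq c5 (fun w => ?_)
  show ((α w : cj x V) : Ω) = x * ((β _ : V) : Ω) * x⁻¹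
  rw [hβv]
  have e1 : e ((conjHom (cj x V) x⁻¹).codRestrict V hm1 w) = w := by
    apply Subtype.ext
    rw [hev]
    show x * (x⁻¹ * w * x⁻¹⁻¹) * x⁻¹ = w
    group
  rw [e1]; group

theorem autGroup_W_eq (h : TF S T V x) {F F' : FusionSystem S} (hV : F.autGroup V = F'.autGroup V) :
    F.autGroup (cj x V) = F'.autGroup (cj x V) :=
  le_antisymm (h.autGroup_W_le hV.le) (h.autGroup_W_le hV.ge)

/-- an automorphism of `T` preserving `V` preserves `V^x` -/
theorem map_W [Finite S] (h : TF S T V x) {γ : MulAut T} (hγ : ∀ v : T, (v : Ω) ∈ V → ((γ v : T) : Ω) ∈ V) :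
    ∀ w : T, (w : Ω) ∈ cj x V → ((γ w : T) : Ω) ∈ cj x V := by
  have hfT : Finite T := finite_of_le h.T_le
  have hfV : Finite V := finite_of_le (h.V_le.trans h.T_le)
  -- `γ` is onto on `V`
  have honto : ∀ v : T, ((γ v : T) : Ω) ∈ V → (v : Ω) ∈ V := by
    let f : V → V := fun v => ⟨(γ ⟨v, h.V_le v.2⟩ : T), hγ _ v.2⟩
    have hf : Function.Injective f := by
      intro a b hab
      have h1 : ((γ ⟨a, h.V_le a.2⟩ : T) : Ω) = (γ ⟨b, h.V_le b.2⟩ : T) := congrArg (fun z : V => (z : Ω)) hab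
      have h2 := γ.injective (Subtype.ext h1)
      exact Subtype.ext (Subtype.mk.inj h2)
    intro v hv
    obtain ⟨u, hu⟩ := Finite.surjective_of_injective hf ⟨_, hv⟩
    have h1 : ((γ ⟨u, h.V_le u.2⟩ : T) : Ω) = (γ v : T) := congrArg (fun z : V => (z : Ω)) hu
    have h2 := γ.injective (Subtype.ext h1)
    rw [← h2]; exact u.2
  have key : ∀ w : T, (w : Ω) ∈ cj x V → (w : Ω) ∉ V → ((γ w : T) : Ω) ∈ cj x V := by
    intro w hw hwV
    have h2 : w * w = 1 := Subtype.ext (h.el_W hw)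
    have h1 : ((γ w : T) : Ω) * (γ w : T) = 1 := by
      have := congrArg (fun z : T => (z : Ω)) (congrArg γ h2)
      simpa using this
    exact (h.mem_or (γ w).2 h1).resolve_left (fun h3 => hwV (honto w h3))
  have hex : ∃ w0 ∈ cj x V, w0 ∉ V := by
    by_contra hcon
    push Not at hcon
    exact h.ne (Subgroup.eq_of_le_of_card_ge (H := cj x V) (K := V) hcon card_cj.ge)
  obtain ⟨w0, hw0, hw0V⟩ := hex
  intro w hw
  by_cases hwV : (w : Ω) ∈ V
  · have h1 := key ⟨w0, h.W_le hw0⟩ hw0 hw0V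
    have h2 := key (⟨w0, h.W_le hw0⟩ * w) ((cj x V).mul_mem hw0 hw) (fun h3 => hw0V
      ((Subgroup.mul_mem_cancel_right V hwV).1 h3))
    rw [map_mul] at h2
    exact (Subgroup.mul_mem_cancel_left (cj x V) h1).1 h2
  · exact key w hw hwV

/-- the restriction of an automorphism in `F` to an invariant subgroup -/
theorem exists_restr [Finite S] {F : FusionSystem S} {P R : Subgroup Ω} (hP : P ≤ S) (hRP : R ≤ P) {β : MulAut P}
    (hβ : β ∈ F.autGroup P) (hR : ∀ r : P, (r : Ω) ∈ R → ((β r : P) : Ω) ∈ R) :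
    ∃ α ∈ F.autGroup R, ∀ r : R, ((α r : R) : Ω) = (β ⟨r, hRP r.2⟩ : P) := by
  have hfR : Finite R := finite_of_le (hRP.trans hP)
  set ψ : R →* Ω := (P.subtype.comp β.toMonoidHom).comp (Subgroup.inclusion hRP) with hψ
  have h1 : ψ ∈ F.Hom R := aut_restrict_mem hP hβ hRP (fun x hx => rfl)
  obtain ⟨α, hα, hαe⟩ := exists_aut h1 (range_eq_of_mapsTo h1 (fun r => hR _ r.2))
  exact ⟨α, hα, fun r => by rw [hαe]; rfl⟩

theorem aux [Finite S] (hS : IsPGroup 2 S) (h : TF S T V x) {F F' : FusionSystem S} (hF : F.IsSaturated 2)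
    (hF' : F'.IsSaturated 2) (hV : F.autGroup V = F'.autGroup V) {β : MulAut T} (hβ : β ∈ F.autGroup T)
    (hβV : ∀ v : T, (v : Ω) ∈ V → ((β v : T) : Ω) ∈ V) : β ∈ F'.autGroup T := by
  have hfT : Finite T := finite_of_le h.T_le
  have hfV : Finite V := finite_of_le (h.V_le.trans h.T_le)
  have hfW : Finite (cj x V) := finite_of_le (h.W_le.trans h.T_le)
  have hVS : V ≤ S := h.V_le.trans h.T_le
  have hWS : cj x V ≤ S := h.W_le.trans h.T_le
  -- extend the restriction to `V` inside `F'`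
  obtain ⟨α, hα, hαe⟩ := exists_restr h.T_le h.V_le hβ hβV
  have hα' : α ∈ F'.autGroup V := by rw [← hV]; exact hα
  have hφ : V.subtype.comp α.toMonoidHom ∈ F'.Hom V := (mem_autGroup_iff F' hVS α).1 hα'
  set φ : V →* Ω := V.subtype.comp α.toMonoidHom with hφdef
  have hφr : φ.range = V := range_eq_of_mapsTo hφ (fun v => (α v).2)
  obtain ⟨ψ, hψ, hψe⟩ := (isReceptive_of_isFullyNormalized hS hF' (h.isFullyNormalized F' (Or.inl rfl))).2 V φ hφ hφr
  have hTle : T ≤ extender S V φ :=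
    le_extender_of_extends (ψ := T.subtype.comp β.toMonoidHom) h.V_le h.T_le h.T_norm
      (fun t => h.T_le (β t).2) (fun v hv => (hαe ⟨v, hv⟩).symm)
  have hψT : ψ.comp (Subgroup.inclusion hTle) ∈ F'.Hom T := restrict_mem hψ hTle
  set ψT : T →* Ω := ψ.comp (Subgroup.inclusion hTle) with hψTdef
  have hψv : ∀ v : V, ψT ⟨v, h.V_le v.2⟩ = ((β ⟨v, h.V_le v.2⟩ : T) : Ω) := by
    intro v
    rw [← hαe]
    exact hψe v v.2 (hTle (h.V_le v.2))
  have hmaps : ∀ t : T, ψT t ∈ T := by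
    intro t
    have h1 : ψT t ∈ normalizerIn S V := by
      refine ⟨hom_apply_mem hψT t, ?_⟩
      have h2 : ∀ v : V, ψT t * (φ v) * (ψT t)⁻¹ ∈ V := by
        intro v
        have h3 : (t : Ω) * v * (t : Ω)⁻¹ ∈ V := (Subgroup.mem_normalizer_iff.1 (h.T_norm t.2) v).1 v.2
        have h4 : ψT (t * ⟨v, h.V_le v.2⟩ * t⁻¹) = ψT ⟨_, h.V_le h3⟩ := rfl
        rw [map_mul, map_mul, map_inv, hψv v, hψv ⟨_, h3⟩, ← hαe, ← hαe] at h4
        show ψT t * ((α v : V) : Ω) * (ψT t)⁻¹ ∈ V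
        rw [h4]
        exact (α _).2
      have h3 : ∀ v ∈ V, ψT t * v * (ψT t)⁻¹ ∈ V := by
        intro v hv
        have h4 : v ∈ φ.range := by rw [hφr]; exact hv
        obtain ⟨u, rfl⟩ := h4
        exact h2 u
      exact mem_normalizer_of_forall h3
    rwa [h.nor] at h1
  obtain ⟨β', hβ', hβ'e⟩ := exists_aut hψT (range_eq_of_mapsTo hψT hmaps)
  have hββ : ∀ v : T, (v : Ω) ∈ V → β' v = β v := by
    intro v hv
    apply Subtype.ext
    rw [hβ'e]
    exact hψv ⟨v, hv⟩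
  have hβ'V : ∀ v : T, (v : Ω) ∈ V → ((β' v : T) : Ω) ∈ V := fun v hv => by rw [hββ v hv]; exact hβV v hv
  have hWβ := h.map_W hβV
  have hWβ' := h.map_W hβ'V
  -- the difference
  set δ : MulAut T := β'⁻¹ * β with hδ
  have hδV : ∀ v : T, (v : Ω) ∈ V → δ v = v := by
    intro v hv
    show β'.symm (β v) = v
    rw [← hββ v hv, MulEquiv.symm_apply_apply]
  have hδV' : ∀ v : T, (v : Ω) ∈ V → ((δ v : T) : Ω) ∈ V := fun v hv => by rw [hδV v hv]; exact hv
  have hδW := h.map_W hδV'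
  have hδd : ∀ w : T, (w : Ω)⁻¹ * (δ w : T) ∈ V := by
    intro w
    rw [← h.cent]
    refine ⟨S.mul_mem (S.inv_mem (h.T_le w.2)) (h.T_le (δ w).2), ?_⟩
    refine Subgroup.mem_centralizer_iff.2 ?_
    intro v hv
    have h3 : (w : Ω) * v * (w : Ω)⁻¹ ∈ V := (Subgroup.mem_normalizer_iff.1 (h.T_norm w.2) v).1 hv
    have h4 : δ (w * ⟨v, h.V_le hv⟩ * w⁻¹) = w * ⟨v, h.V_le hv⟩ * w⁻¹ := hδV _ h3
    rw [map_mul, map_mul, map_inv, hδV ⟨v, _⟩ hv] at h4
    have h5 : ((δ w : T) : Ω) * v * ((δ w : T) : Ω)⁻¹ = w * v * (w : Ω)⁻¹ := congrArg Subtype.val h4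
    calc v * ((w : Ω)⁻¹ * (δ w : T)) = (w : Ω)⁻¹ * (w * v * (w : Ω)⁻¹) * (δ w : T) := by group
      _ = (w : Ω)⁻¹ * (((δ w : T) : Ω) * v * ((δ w : T) : Ω)⁻¹) * (δ w : T) := by rw [h5]
      _ = (w : Ω)⁻¹ * (δ w : T) * v := by group
  -- on `V^x`
  obtain ⟨αW, hαW, hαWe⟩ := exists_restr h.T_le h.W_le hβ hWβ
  obtain ⟨αW', hαW', hαWe'⟩ := exists_restr h.T_le h.W_le hβ' hWβ'
  rw [← h.autGroup_W_eq hV] at hαW'
  set A := F.autGroup (cj x V) with hA
  set δW : MulAut (cj x V) := αW'⁻¹ * αW with hδWdef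
  have hδWA : δW ∈ A := A.mul_mem (A.inv_mem hαW') hαW
  have hδWe : ∀ w : cj x V, ((δW w : cj x V) : Ω) = (δ ⟨w, h.W_le w.2⟩ : T) := by
    intro w
    have h1 : αW' (δW w) = αW w := αW'.apply_symm_apply _
    have h2 : ((αW' (δW w) : cj x V) : Ω) = (αW w : cj x V) := by rw [h1]
    rw [hαWe, hαWe'] at h2
    have h3 : β' ⟨(δW w : cj x V), h.W_le (δW w).2⟩ = β ⟨w, h.W_le w.2⟩ := Subtype.ext h2
    have h4 : (⟨(δW w : cj x V), h.W_le (δW w).2⟩ : T) = δ ⟨w, h.W_le w.2⟩ := by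
      show _ = β'.symm (β _)
      rw [← h3, MulEquiv.symm_apply_apply]
    exact congrArg Subtype.val h4
  -- the 2-group `C`
  let C : Subgroup (MulAut (cj x V)) :=
    { carrier := {γ | (∀ w : cj x V, (w : Ω) ∈ V → γ w = w) ∧ ∀ w : cj x V, (w : Ω)⁻¹ * (γ w : cj x V) ∈ V}
      one_mem' := ⟨fun w _ => rfl, fun w => by simp⟩
      mul_mem' := by
        rintro a b ⟨ha1, ha2⟩ ⟨hb1, hb2⟩
        refine ⟨fun w hw => ?_, fun w => ?_⟩
        · rw [MulAut.mul_apply, hb1 w hw, ha1 w hw]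
        · rw [MulAut.mul_apply]
          have h1 := ha2 (b w)
          have h2 := hb2 w
          have e : (w : Ω)⁻¹ * (a (b w) : cj x V) = ((w : Ω)⁻¹ * (b w : cj x V)) * ((b w : cj x V) : Ω)⁻¹ * (a (b w) : cj x V) := by
            group
          rw [e, mul_assoc]
          exact V.mul_mem h2 h1
      inv_mem' := by
        rintro a ⟨ha1, ha2⟩
        refine ⟨fun w hw => ?_, fun w => ?_⟩
        · show a.symm w = w
          rw [MulEquiv.symm_apply_eq, ha1 w hw]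
        · have h1 := ha2 (a.symm w)
          rw [MulEquiv.apply_symm_apply] at h1
          have h2 := V.inv_mem h1
          have e : (((a.symm w : cj x V) : Ω)⁻¹ * w)⁻¹ = (w : Ω)⁻¹ * (a.symm w : cj x V) := by group
          rw [e] at h2
          exact h2 }
  have hCp : IsPGroup 2 C := by
    rintro ⟨γ, hγ1, hγ2⟩
    refine ⟨1, ?_⟩
    apply Subtype.ext
    apply MulEquiv.ext
    intro w
    show (γ ^ 2 ^ 1) w = w
    rw [pow_one, sq, MulAut.mul_apply]
    have h1 : γ w = w * (w⁻¹ * γ w) := by group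
    have h2 : γ (w⁻¹ * γ w) = w⁻¹ * γ w := hγ1 _ (hγ2 w)
    have h3 : γ (γ w) = γ w * (w⁻¹ * γ w) := by
      conv_lhs => rw [h1]
      rw [map_mul, h2]
    rw [h3]
    apply Subtype.ext
    have h4 : ((γ w : cj x V) : Ω) * (w : Ω)⁻¹ = (w : Ω)⁻¹ * (γ w : cj x V) :=
      h.comm_W (γ w).2 ((cj x V).inv_mem w.2)
    show ((γ w : cj x V) : Ω) * ((w : Ω)⁻¹ * (γ w : cj x V)) = w
    rw [← h4, ← mul_assoc, h.el_W (γ w).2, one_mul]
    exact inv_eq_of_mul_eq_one_left (h.el_W w.2)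
  have hAS : autInducedBy S (cj x V) ≤ C := by
    intro γ hγ
    obtain ⟨s, hs, hse⟩ := (mem_autInducedBy_iff S _ γ).1 hγ
    have hsT : s ∈ T := by
      rw [← h.nor_W]
      exact ⟨hs, mem_normalizer_of_aut hse⟩
    obtain ⟨v, hv, w', hw', rfl⟩ := h.exists_mul hsT
    have hse' : ∀ w : cj x V, ((γ w : cj x V) : Ω) = v * w * v⁻¹ := by
      intro w
      rw [hse w]
      have : w' * w * w'⁻¹ = w := by rw [h.comm_W hw' w.2]; group
      calc v * w' * w * (v * w')⁻¹ = v * (w' * w * w'⁻¹) * v⁻¹ := by group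
        _ = v * w * v⁻¹ := by rw [this]
    refine ⟨fun w hw => Subtype.ext ?_, fun w => ?_⟩
    · rw [hse' w, h.comm hv hw]; group
    · rw [hse' w]
      have h1 : (w : Ω)⁻¹ * v * (w : Ω)⁻¹⁻¹ ∈ V :=
        (Subgroup.mem_normalizer_iff.1 (h.T_norm (T.inv_mem (h.W_le w.2))) v).1 hv
      have e : (w : Ω)⁻¹ * (v * w * v⁻¹) = ((w : Ω)⁻¹ * v * (w : Ω)⁻¹⁻¹) * v⁻¹ := by group
      rw [e]
      exact V.mul_mem h1 (V.inv_mem hv)
  have hδC : δW ∈ C := by
    refine ⟨fun w hw => Subtype.ext ?_, fun w => ?_⟩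
    · rw [hδWe, hδV _ hw]
    · rw [hδWe]
      exact hδd ⟨w, h.W_le w.2⟩
  obtain ⟨R, hR⟩ := (isFullyAutomized_of_isFullyNormalized hS hF (h.isFullyNormalized F (Or.inr rfl))).2
  have hmax : (C.subgroupOf A) = R := by
    refine R.is_maximal' ?_ ?_
    · exact IsPGroup.comap_of_injective (H := C) hCp A.subtype A.subtype_injective
    · rw [hR]
      intro γ hγ
      exact hAS hγ
  have h5 : (⟨δW, hδWA⟩ : A) ∈ (R : Subgroup A) := by
    rw [← hmax]; exact hδC
  rw [hR] at h5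
  obtain ⟨s, hs, hse⟩ := (mem_autInducedBy_iff S _ δW).1 h5
  have hsT : s ∈ T := by
    rw [← h.nor_W]
    exact ⟨hs, mem_normalizer_of_aut hse⟩
  obtain ⟨v, hv, w', hw', rfl⟩ := h.exists_mul hsT
  have hfin : δ = MulAut.conj (⟨v, h.V_le hv⟩ : T) := by
    apply MulEquiv.ext
    intro t
    obtain ⟨u, hu, w, hw, htuw⟩ := h.exists_mul t.2
    have h1 : t = ⟨u, h.V_le hu⟩ * ⟨w, h.W_le hw⟩ := Subtype.ext htuw
    rw [h1, map_mul, map_mul, hδV _ hu]
    congr 1
    · apply Subtype.ext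
      show u = v * u * v⁻¹
      rw [h.comm hv hu]; group
    · apply Subtype.ext
      rw [← hδWe ⟨w, hw⟩, hse]
      show v * w' * w * (v * w')⁻¹ = v * w * v⁻¹
      have : w' * w * w'⁻¹ = w := by rw [h.comm_W hw' hw]; group
      calc v * w' * w * (v * w')⁻¹ = v * (w' * w * w'⁻¹) * v⁻¹ := by group
        _ = v * w * v⁻¹ := by rw [this]
  have hβeq : β = β' * δ := by rw [hδ]; group
  rw [hβeq]
  refine (F'.autGroup T).mul_mem hβ' (inn_le_autGroup F' h.T_le ?_)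
  rw [hfin]
  exact ⟨_, rfl⟩

/-- the automorphism of `T` induced by `x` -/
theorem exists_conjx (h : TF S T V x) : ∃ γ : MulAut T, (∀ t : T, ((γ t : T) : Ω) = x * t * x⁻¹) ∧
    ∀ F : FusionSystem S, γ ∈ F.autGroup T := by
  obtain ⟨γ, hγ⟩ := exists_conjAut h.x_nor
  refine ⟨γ, hγ, fun F => autInducedBy_le_autGroup F h.T_le ?_⟩
  rw [mem_autInducedBy_iff]
  exact ⟨x, h.x_mem, hγ⟩

/-- the image of `V` under an automorphism of `T` -/
theorem map_V_or (h : TF S T V x) (β : MulAut T) :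
    (∀ v : T, (v : Ω) ∈ V → ((β v : T) : Ω) ∈ V) ∨ (∀ v : T, (v : Ω) ∈ V → ((β v : T) : Ω) ∈ cj x V) := by
  have h1 : ((V.subgroupOf T).map (T.subtype.comp β.toMonoidHom)) ≤ T := by
    rintro _ ⟨v, -, rfl⟩
    exact (β v).2
  have h2 : ∀ b ∈ ((V.subgroupOf T).map (T.subtype.comp β.toMonoidHom)), b * b = 1 := by
    rintro _ ⟨v, hv, rfl⟩
    rw [← map_mul]
    have : v * v = 1 := Subtype.ext (h.el' v hv)
    rw [this, map_one]
  rcases h.le_or h1 h2 with h3 | h3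
  · exact Or.inl fun v hv => h3 ⟨v, hv, rfl⟩
  · exact Or.inr fun v hv => h3 ⟨v, hv, rfl⟩

theorem autGroup_T_le [Finite S] (hS : IsPGroup 2 S) (h : TF S T V x) {F F' : FusionSystem S} (hF : F.IsSaturated 2)
    (hF' : F'.IsSaturated 2) (hV : F.autGroup V = F'.autGroup V) : F.autGroup T ≤ F'.autGroup T := by
  intro β hβ
  rcases h.map_V_or β with h1 | h1
  · exact aux hS h hF hF' hV hβ h1
  · obtain ⟨γ, hγ, hγF⟩ := h.exists_conjx
    have h2 : γ * β ∈ F'.autGroup T := by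
      refine aux hS h hF hF' hV ((F.autGroup T).mul_mem (hγF F) hβ) (fun v hv => ?_)
      rw [MulAut.mul_apply, hγ]
      exact h.conj_mem_V (h1 v hv)
    have h3 := (F'.autGroup T).mul_mem ((F'.autGroup T).inv_mem (hγF F')) h2
    rwa [inv_mul_cancel_left] at h3

/-- **Uniqueness**: `F ≤ F'`. -/
theorem le_of_autGroup [Finite S] (hS : IsPGroup 2 S) (h : TF S T V x) {F F' : FusionSystem S} (hF : F.IsSaturated 2)
    (hF' : F'.IsSaturated 2) (hV : F.autGroup V = F'.autGroup V) (htop : F.autGroup S ≤ F'.autGroup S)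
    (hess : ∀ R, F.IsEssential 2 R → R = V ∨ R = cj x V ∨ R = T) (P : Subgroup Ω) : F.Hom P ⊆ F'.Hom P := by
  refine le_of_essential hS hF F' htop (fun Q hQ _ => ?_) P
  rcases hess Q hQ with rfl | rfl | rfl
  · exact hV.le
  · exact h.autGroup_W_le hV.le
  · exact autGroup_T_le hS h hF hF' hV

/-- automorphisms of `S` in `F` are in `F'`, if `H¹(S/T, Z(T))` vanishes -/
theorem autGroup_S_le [Finite S] (hS : IsPGroup 2 S) (h : TF S T V x) {F F' : FusionSystem S} (hF : F.IsSaturated 2)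
    (hF' : F'.IsSaturated 2) (hV : F.autGroup V = F'.autGroup V)
    (hfree : ∀ z ∈ V ⊓ cj x V, z * (x * z * x⁻¹) = 1 → ∃ d ∈ V ⊓ cj x V, z = d * (x * d * x⁻¹)⁻¹) :
    F.autGroup S ≤ F'.autGroup S := by
  have hfT : Finite T := finite_of_le h.T_le
  -- reduction to automorphisms preserving `V`
  suffices hmain : ∀ α : MulAut S, α ∈ F.autGroup S → (∀ v : S, (v : Ω) ∈ V → ((α v : S) : Ω) ∈ V) →
      α ∈ F'.autGroup S by
    intro α hα
    have h1 : ((V.subgroupOf S).map (S.subtype.comp α.toMonoidHom)) ≤ S := by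
      rintro _ ⟨v, -, rfl⟩
      exact (α v).2
    have h2 : ∀ b ∈ ((V.subgroupOf S).map (S.subtype.comp α.toMonoidHom)), b * b = 1 := by
      rintro _ ⟨v, hv, rfl⟩
      rw [← map_mul]
      have : v * v = 1 := Subtype.ext (h.el' v hv)
      rw [this, map_one]
    have h3 : Nat.card ((V.subgroupOf S).map (S.subtype.comp α.toMonoidHom)) = Nat.card V := by
      rw [Subgroup.card_map_of_injective (f := S.subtype.comp α.toMonoidHom)
        (fun a b hab => α.injective (Subtype.ext hab))]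
      exact Nat.card_congr (Subgroup.subgroupOfEquivOfLe (h.V_le.trans h.T_le)).toEquiv
    rcases h.eq_or h1 h2 h3 with h4 | h4
    · exact hmain α hα (fun v hv => by rw [← h4]; exact ⟨v, hv, rfl⟩)
    · obtain ⟨γ, hγ⟩ : ∃ γ : MulAut S, ∀ s : S, ((γ s : S) : Ω) = x * s * x⁻¹ :=
        ⟨MulAut.conj ⟨x, h.x_mem⟩, fun s => rfl⟩
      have hγF : ∀ F : FusionSystem S, γ ∈ F.autGroup S := fun F => by
        refine autInducedBy_le_autGroup F le_rfl ?_
        rw [mem_autInducedBy_iff]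
        exact ⟨x, h.x_mem, hγ⟩
      have h5 : γ * α ∈ F'.autGroup S := by
        refine hmain _ ((F.autGroup S).mul_mem (hγF F) hα) (fun v hv => ?_)
        rw [MulAut.mul_apply, hγ]
        refine h.conj_mem_V ?_
        rw [← h4]; exact ⟨v, hv, rfl⟩
      have h6 := (F'.autGroup S).mul_mem ((F'.autGroup S).inv_mem (hγF F')) h5
      rwa [inv_mul_cancel_left] at h6
  intro α hα hαV
  have hfV : Finite V := finite_of_le (h.V_le.trans h.T_le)
  -- `α` preserves `T`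
  have hontoV : ∀ v ∈ V, ∃ u : S, (u : Ω) ∈ V ∧ ((α u : S) : Ω) = v := by
    let f : V → V := fun v => ⟨(α ⟨v, h.T_le (h.V_le v.2)⟩ : S), hαV _ v.2⟩
    have hf : Function.Injective f := by
      intro a b hab
      have h1 : ((α ⟨a, h.T_le (h.V_le a.2)⟩ : S) : Ω) = (α ⟨b, h.T_le (h.V_le b.2)⟩ : S) :=
        congrArg (fun z : V => (z : Ω)) hab
      exact Subtype.ext (Subtype.mk.inj (α.injective (Subtype.ext h1)))
    intro v hv
    obtain ⟨u, hu⟩ := Finite.surjective_of_injective hf ⟨v, hv⟩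
    exact ⟨⟨u, h.T_le (h.V_le u.2)⟩, u.2, congrArg (fun z : V => (z : Ω)) hu⟩
  have hαT : ∀ t : S, (t : Ω) ∈ T → ((α t : S) : Ω) ∈ T := by
    intro t ht
    have h1 : ((α t : S) : Ω) ∈ normalizerIn S V := by
      refine ⟨(α t).2, mem_normalizer_of_forall (fun v hv => ?_)⟩
      obtain ⟨u, hu, rfl⟩ := hontoV v hv
      have h3 : (t : Ω) * u * (t : Ω)⁻¹ ∈ V := (Subgroup.mem_normalizer_iff.1 (h.T_norm ht) u).1 hu
      have h4 := hαV (t * u * t⁻¹) h3
      rw [map_mul, map_mul, map_inv] at h4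
      exact h4
    rwa [h.nor] at h1
  obtain ⟨β, hβ, hβe⟩ := exists_restr le_rfl h.T_le hα hαT
  have hβ' := autGroup_T_le hS h hF hF' hV hβ
  -- extend `β` in `F'`
  have hTn : S ≤ Subgroup.normalizer (T : Set Ω) := by
    intro s hs
    by_cases hsT : s ∈ T
    · exact Subgroup.le_normalizer hsT
    · obtain ⟨t, ht, rfl⟩ := h.eq_mul hs hsT
      exact Subgroup.mul_mem _ h.x_nor (Subgroup.le_normalizer ht)
  have hTfn : F'.IsFullyNormalized T := by
    refine ⟨h.T_le, fun Q hQ => ?_⟩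
    have h1 : normalizerIn S T = S := le_antisymm inf_le_left (le_inf le_rfl hTn)
    rw [h1]
    exact Subgroup.card_le_of_le inf_le_left
  have hφ : T.subtype.comp β.toMonoidHom ∈ F'.Hom T := (mem_autGroup_iff F' h.T_le β).1 hβ'
  set φ : T →* Ω := T.subtype.comp β.toMonoidHom with hφdef
  have hφr : φ.range = T := range_eq_of_mapsTo hφ (fun v => (β v).2)
  obtain ⟨ψ, hψ, hψe⟩ := (isReceptive_of_isFullyNormalized hS hF' hTfn).2 T φ hφ hφr
  have hSle : S ≤ extender S T φ :=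
    le_extender_of_extends (ψ := S.subtype.comp α.toMonoidHom) h.T_le le_rfl hTn
      (fun t => (α t).2) (fun v hv => (hβe ⟨v, hv⟩).symm)
  have hψS : ψ.comp (Subgroup.inclusion hSle) ∈ F'.Hom S := restrict_mem hψ hSle
  obtain ⟨α', hα', hα'e⟩ := exists_aut hψS (range_eq_of_mapsTo hψS (fun s => hom_apply_mem hψS s))
  have hαα : ∀ t : S, (t : Ω) ∈ T → α' t = α t := by
    intro t ht
    apply Subtype.ext
    rw [hα'e]
    refine (hψe t ht (hSle (h.T_le ht))).trans ?_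
    exact hβe ⟨t, ht⟩
  set δ : MulAut S := α'⁻¹ * α with hδ
  have hδT : ∀ t : S, (t : Ω) ∈ T → δ t = t := by
    intro t ht
    show α'.symm (α t) = t
    rw [← hαα t ht, MulEquiv.symm_apply_apply]
  set X : S := ⟨x, h.x_mem⟩ with hX
  set z : Ω := (δ X : S) * x⁻¹ with hz
  have hδx : ((δ X : S) : Ω) = z * x := by rw [hz]; group
  have hzc : ∀ t ∈ T, z * t = t * z := by
    intro t ht
    have h1 : x⁻¹ * t * x ∈ T := h.conj_x_T' ht
    have h2 : δ (X * ⟨_, h.T_le h1⟩ * X⁻¹) = X * ⟨_, h.T_le h1⟩ * X⁻¹ := by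
      refine hδT _ ?_
      show x * (x⁻¹ * t * x) * x⁻¹ ∈ T
      have : x * (x⁻¹ * t * x) * x⁻¹ = t := by group
      rw [this]; exact ht
    rw [map_mul, map_mul, map_inv, hδT ⟨x⁻¹ * t * x, _⟩ h1] at h2
    have h3 : (δ X : S) * (x⁻¹ * t * x) * ((δ X : S) : Ω)⁻¹ = x * (x⁻¹ * t * x) * x⁻¹ := congrArg Subtype.val h2
    rw [hδx] at h3
    have h4 : z * t * z⁻¹ = t := by
      calc z * t * z⁻¹ = z * x * (x⁻¹ * t * x) * (z * x)⁻¹ := by group
        _ = x * (x⁻¹ * t * x) * x⁻¹ := h3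
        _ = t := by group
    calc z * t = z * t * z⁻¹ * z := by group
      _ = t * z := by rw [h4]
  have hzS : z ∈ S := S.mul_mem (δ X).2 (S.inv_mem h.x_mem)
  have hzV : z ∈ V := by
    rw [← h.cent]
    exact ⟨hzS, Subgroup.mem_centralizer_iff.2 fun v hv => (hzc v (h.V_le hv)).symm⟩
  have hzW : z ∈ cj x V := by
    rw [← h.cent_W]
    exact ⟨hzS, Subgroup.mem_centralizer_iff.2 fun v hv => (hzc v (h.W_le hv)).symm⟩
  have hzz : z * (x * z * x⁻¹) = 1 := by
    have h1 : δ (X * X) = X * X := by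
      refine hδT _ ?_
      show x * x ∈ T
      rw [← sq]; exact h.x_sq
    rw [map_mul] at h1
    have h2 : ((δ X : S) : Ω) * (δ X : S) = x * x := congrArg Subtype.val h1
    rw [hδx] at h2
    calc z * (x * z * x⁻¹) = z * x * (z * x) * (x * x)⁻¹ := by group
      _ = 1 := by rw [h2]; group
  obtain ⟨d, hd, hdz⟩ := hfree z ⟨hzV, hzW⟩ hzz
  have hdT : d ∈ T := h.V_le hd.1
  have hdc : ∀ t ∈ T, d * t = t * d := by
    intro t ht
    obtain ⟨v, hv, w, hw, rfl⟩ := h.exists_mul ht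
    have h1 := h.comm hd.1 hv
    have h2 := h.comm_W hd.2 hw
    calc d * (v * w) = (d * v) * w := by group
      _ = v * (d * w) := by rw [h1]; group
      _ = v * w * d := by rw [h2]; group
  have hfin : δ = MulAut.conj (⟨d, h.T_le hdT⟩ : S) := by
    have hT1 : ∀ t : S, (t : Ω) ∈ T → δ t = MulAut.conj (⟨d, h.T_le hdT⟩ : S) t := by
      intro t ht
      rw [hδT t ht]
      apply Subtype.ext
      show (t : Ω) = d * t * d⁻¹
      rw [hdc t ht]; group
    have hX1 : δ X = MulAut.conj (⟨d, h.T_le hdT⟩ : S) X := by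
      apply Subtype.ext
      rw [hδx]
      show z * x = d * x * d⁻¹
      rw [hdz]; group
    apply MulEquiv.ext
    intro s
    by_cases hsT : (s : Ω) ∈ T
    · exact hT1 s hsT
    · obtain ⟨t, ht, hst⟩ := h.eq_mul s.2 hsT
      have h1 : s = X * ⟨t, h.T_le ht⟩ := Subtype.ext hst
      rw [h1, map_mul, map_mul, hT1 ⟨t, _⟩ ht, hX1]
  have hαeq : α = α' * δ := by rw [hδ]; group
  rw [hαeq]
  refine (F'.autGroup S).mul_mem hα' (inn_le_autGroup F' le_rfl ?_)
  rw [hfin]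
  exact ⟨_, rfl⟩

end TF

end Cfsg.Agent.H124.SP
end

-- part: H124/SP/BigTF
section
/-!
# S5175, SP: uniqueness for systems of type `Big` (helper124)
-/

set_option autoImplicit false

namespace Cfsg.Agent.H124.SP

open Cfsg Cfsg.FusionSystem Cfsg.Agent.H756.HM Cfsg.Agent.H802
open scoped commutatorElement

variable {Ω : Type*} [Group Ω] {S : Subgroup Ω} {F : FusionSystem S} {K : Type} [Field K] [Fintype K]
  {V T : Subgroup Ω} {x : Ω}

theorem tf_of_conf [Finite S] (c : Conf F K V T x) (hq : 4 ≤ Fintype.card K) (hT : T = V ⊔ cj x V)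
    (hidx : T.relIndex S = 2) : TF S T V x where
  sup := hT
  el := c.el
  nor := c.nor
  cent := c.cent
  x_mem := c.x_mem
  x_nor := c.x_nor
  x_not := c.x_not
  x_sq := c.x_sq
  cen := by
    intro v hv w hw hvw
    obtain ⟨mu, lam, zet, h⟩ := H456.HM.exists_crd c
    have h1 := h.zet_com v hv w hw
    have h2 : v * w * v⁻¹ * w⁻¹ = 1 := by rw [hvw]; group
    have h3 : zet 1 = 0 := (h.zet_zero 1 (Subgroup.one_mem _)).2 (Subgroup.one_mem _)
    rw [h2, h3] at h1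
    rcases mul_eq_zero.1 h1.symm with h4 | h4
    · exact Or.inl ((h.mu_zero v hv).1 h4)
    · exact Or.inr ((h.lam_zero w hw).1 h4)
  idx := hidx
  card := by
    have h1 := H456.HM.card_rel c
    rw [← h1]
    exact Nat.mul_le_mul_right _ hq

theorem tf_of_big [Finite S] (b : Big F K V T x) : TF S T V x :=
  tf_of_conf b.toConf b.q4 b.T_eq b.S_idx

/-- transport of the configuration to another fusion system with the same `Aut(V)` -/
def bigTransport [Finite S] (b : Big F K V T x) (F' : FusionSystem S) (hV : F.autGroup V = F'.autGroup V) :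
    Big F' K V T x where
  n := b.n
  hn := b.hn
  hK := b.hK
  V_le := b.V_le
  fn := (tf_of_big b).isFullyNormalized F' (Or.inl rfl)
  nor := b.nor
  cent := b.cent
  el := b.el
  x_mem := b.x_mem
  x_nor := b.x_nor
  x_not := b.x_not
  x_sq := b.x_sq
  E := b.E
  E_le := by rw [← hV]; exact b.E_le
  ρ := b.ρ
  ψ := b.ψ
  ψ_surj := b.ψ_surj
  ψ_ker := b.ψ_ker
  ψ_eq := b.ψ_eq
  A_le := b.A_le
  A_card := b.A_card
  T_nor := b.T_nor
  DD := b.DD
  q4 := b.q4
  T_eq := b.T_eq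
  S_idx := b.S_idx
  E_nor := by rw [← hV]; exact b.E_nor
  typ := b.typ

universe u

/-- **Uniqueness.** -/
theorem eq_of_big (hEssT : StEssT.{u}) {Ω : Type u} [Group Ω] {S : Subgroup Ω} [Finite S] (hS : IsPGroup 2 S)
    {F F' : FusionSystem S} (hF : F.IsSaturated 2) (hF' : F'.IsSaturated 2) {K : Type} [Field K] [Fintype K]
    {V T : Subgroup Ω} {x : Ω} (b : Big F K V T x) (hV : F.autGroup V = F'.autGroup V)
    (hess : ∀ R : Subgroup Ω, F.IsEssential 2 R → R ≤ T) (hess' : ∀ R : Subgroup Ω, F'.IsEssential 2 R → R ≤ T)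
    (htop : F.autGroup S = F'.autGroup S) : F = F' := by
  have h := tf_of_big b
  refine H781.ext_of_le (fun P => ?_) (fun P => ?_)
  · exact h.le_of_autGroup hS hF hF' hV htop.le (fun R hR => hEssT hS F hF K V T x b R hR (hess R hR)) P
  · exact h.le_of_autGroup hS hF' hF hV.symm htop.ge
      (fun R hR => hEssT hS F' hF' K V T x (bigTransport b F' hV) R hR (hess' R hR)) P

/-- **Uniqueness**, if automorphisms of `S` trivial on `T` are inner. -/
theorem eq_of_big_free (hEssT : StEssT.{u}) {Ω : Type u} [Group Ω] {S : Subgroup Ω} [Finite S] (hS : IsPGroup 2 S)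
    {F F' : FusionSystem S} (hF : F.IsSaturated 2) (hF' : F'.IsSaturated 2) {K : Type} [Field K] [Fintype K]
    {V T : Subgroup Ω} {x : Ω} (b : Big F K V T x) (hV : F.autGroup V = F'.autGroup V)
    (hess : ∀ R : Subgroup Ω, F.IsEssential 2 R → R ≤ T) (hess' : ∀ R : Subgroup Ω, F'.IsEssential 2 R → R ≤ T)
    (hfree : ∀ z ∈ V ⊓ cj x V, z * (x * z * x⁻¹) = 1 → ∃ d ∈ V ⊓ cj x V, z = d * (x * d * x⁻¹)⁻¹) : F = F' :=
  eq_of_big hEssT hS hF hF' b hV hess hess' (le_antisymm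
    ((tf_of_big b).autGroup_S_le hS hF hF' hV hfree) ((tf_of_big b).autGroup_S_le hS hF' hF hV.symm hfree))

/-- for `q ≥ 8` all essential subgroups are in `T` -/
theorem ess_le (hEss : StEss.{u}) {Ω : Type u} [Group Ω] {S : Subgroup Ω} [Finite S] (hS : IsPGroup 2 S)
    {F : FusionSystem S} (hF : F.IsSaturated 2) {K : Type} [Field K] [Fintype K]
    {V T : Subgroup Ω} {x : Ω} (b : Big F K V T x) (hq : Fintype.card K ≠ 4) (R : Subgroup Ω)
    (hR : F.IsEssential 2 R) : R ≤ T := by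
  by_contra h
  exact hq (hEss hS F hF K V T x b R hR h).1

end Cfsg.Agent.H124.SP
end
end

-- part: H780/HL/Comp
section
prune_inst 0xc0300200000000000000000040003c46da00000000280801c000080004802f0000000021b4a000000002a00420380040014400500000000000000000011c0080002012061000a000000000000004000000000000000000000000000000000000000000000
set_option linter.all false
open scoped Cfsg.Agent.FastGrp

-- part: H780/HL/Model
section
/-!
# The model of `N_F(T)` for a centric subgroup `T` normalized by `S` (helper780)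
-/

set_option autoImplicit false

namespace Cfsg.Agent.H780.HL

open Cfsg Cfsg.FusionSystem Cfsg.Agent.H752

universe u

variable {Ω : Type u} [Group Ω] {S : Subgroup Ω}

/-- properties of the model -/
structure MdT (F : FusionSystem S) (T : Subgroup Ω) (L : Type*) [Group L] (ι : S →* L) (p : ℕ) : Prop where
  inj : Function.Injective ι
  syl : ∃ P : Sylow p L, (P : Subgroup L) = ι.range
  nor : ((T.subgroupOf S).map ι).Normal
  cen : Subgroup.centralizer (((T.subgroupOf S).map ι : Subgroup L) : Set L) ≤ (T.subgroupOf S).map ι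
  to_L : ∀ (P : Subgroup Ω) (f : Ω → Ω), Mp F P f → T ≤ P → (∀ x ∈ T, f x ∈ T) →
    ∃ l : L, ∀ (x : Ω) (_ : x ∈ P) (hxS : x ∈ S), ∃ hfx : f x ∈ S, ι ⟨f x, hfx⟩ = l * ι ⟨x, hxS⟩ * l⁻¹
  of_L : ∀ (P : Subgroup Ω) (hP : P ≤ S) (l : L), (∀ x : P, ∃ n : S, ι n = l * ι ⟨x, hP x.2⟩ * l⁻¹) →
    ∃ f, Mp F P f ∧ ∀ (x : Ω) (hx : x ∈ P), ∃ hfx : f x ∈ S, ι ⟨f x, hfx⟩ = l * ι ⟨x, hP hx⟩ * l⁻¹

theorem exists_modelT [Finite S] {p : ℕ} [Fact p.Prime] (hS : IsPGroup p S) {F : FusionSystem S} (hF : F.IsSaturated p)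
    {T : Subgroup Ω} (hTS : T ≤ S) (hN : normalizerIn S T = S) (hTc : F.IsCentric T) :
    ∃ (L : Type u) (_ : Group L) (_ : Finite L) (ι : S →* L), MdT F T L ι p := by
  have hST : S ≤ Subgroup.normalizer (T : Set Ω) := by
    intro s hs
    rw [← hN] at hs
    exact hs.2
  have hfn : F.IsFullyNormalized T := H771.isFullyNormalized_of_le_normalizer hTS hST
  obtain ⟨E₀, hE₀⟩ := H802.exists_normalizerSystem F hTS
  have hsat₀ : E₀.IsSaturated p := Cfsg.Agent.S5098.result p hS F hF T hfn E₀ hE₀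
  have hnor₀ : E₀.IsNormal T := H753.isNormal_normalizerSystem hTS hE₀
  have hcen₀ : E₀.IsCentric T := H753.isCentric_normalizerSystem hE₀ hTc
  have hmp₀ : ∀ (P : Subgroup Ω) (f : Ω → Ω), Mp E₀ P f ↔ Mp F P f ∧ P ≤ normalizerIn S T ∧ (∀ x ∈ P, f x ∈ normalizerIn S T) ∧
      ∃ g, Mp F (P ⊔ T) g ∧ (∀ x ∈ P, g x = f x) ∧ (∀ x ∈ T, g x ∈ T) ∧
        ∀ y ∈ T, ∃ x ∈ T, g x = y := fun P f => H753.mp_normalizerSystem_iff hE₀
  obtain ⟨E, hsat, hnor, hcen, hmp⟩ : ∃ E : FusionSystem S, E.IsSaturated p ∧ E.IsNormal T ∧ E.IsCentric T ∧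
      ∀ (P : Subgroup Ω) (f : Ω → Ω), Mp E P f ↔ Mp F P f ∧ P ≤ S ∧ (∀ x ∈ P, f x ∈ S) ∧
      ∃ g, Mp F (P ⊔ T) g ∧ (∀ x ∈ P, g x = f x) ∧ (∀ x ∈ T, g x ∈ T) ∧
        ∀ y ∈ T, ∃ x ∈ T, g x = y := by
    clear hE₀
    revert E₀
    generalize normalizerIn S T = S' at *
    subst hN
    intro E₀ h1 h2 h3 h4
    exact ⟨E₀, h1, h2, h3, h4⟩
  obtain ⟨L, hL, ι, hM, hLn, hLc⟩ := H771.exists_model hS hsat hnor hcen
  obtain ⟨hfin, hreal, hsyl, -⟩ := hM
  have : Finite T := H802.finite_of_le hTS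
  refine ⟨L, hL, hfin, ι, hreal.1, hsyl, hLn, hLc, ?_, ?_⟩
  · intro P f hf hTP hfT
    have h1 : Mp E P f := (hmp P f).2 ⟨hf, hf.le, fun x hx => hf.mem hx, f, by rwa [sup_eq_left.2 hTP], fun x _ => rfl, hfT,
      fun y hy => (hf.res hTP).surj hfT hy⟩
    obtain ⟨l, hl⟩ := H753.exists_conj_of_mp hreal h1
    exact ⟨l, hl⟩
  · intro P hP l hl
    obtain ⟨f, hf, h1⟩ := H753.exists_mp_of_conj hreal hP l hl
    exact ⟨f, ((hmp P f).1 hf).1, h1⟩

end Cfsg.Agent.H780.HL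
end

-- part: H780/HL/Split
section
/-!
# S5175 [L]: splitting of the model of `N_F(T)` (helper780)

`L` contains a normal copy `j(Hs K)` of the Heisenberg group with `C_L(j) ≤ j`, acts on it by inner automorphisms times
diagonal-field-graph automorphisms, and contains an element acting as a diagonal automorphism without fixed points.
Then `L = j(Hs K) ⋊ Y` with `Y` acting by diagonal-field-graph automorphisms.
-/

set_option autoImplicit false

namespace Cfsg.Agent.H780.HL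

open Hs

variable {K : Type*} [Field K]

/-- the data of the model -/
structure SD (K : Type*) [Field K] (L : Type*) [Group L] where
  act : L →* MulAut (Hs K)
  j : Hs K →* L
  inj : Function.Injective j
  hj : ∀ l t, l * j t * l⁻¹ = j (act l t)
  ker : ∀ l, act l = 1 → ∃ t, l = j t
  form : ∀ l, ∃ t, ∃ δ ∈ DDh K, act l = MulAut.conj t * δ
  h : L
  ν : Kˣ
  ν' : Kˣ
  hν : ν ≠ 1
  hν' : ν' ≠ 1
  hνν' : ν * ν' ≠ 1
  act_h : act h = del ν ν' (RingEquiv.refl K)

/-- diagonal automorphism -/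
abbrev dt (ν ν' : Kˣ) : MulAut (Hs K) := del ν ν' (RingEquiv.refl K)

theorem dt_mul_dt (ν ν' μ μ' : Kˣ) : (dt ν ν' : MulAut (Hs K)) * dt μ μ' = dt (ν * μ) (ν' * μ') := by
  rw [dt, dt, del_mul_del]
  congr 1

theorem dt_inv (ν ν' : Kˣ) : (dt ν ν' : MulAut (Hs K))⁻¹ = dt ν⁻¹ ν'⁻¹ := by
  rw [inv_eq_iff_mul_eq_one, dt_mul_dt, mul_inv_cancel, mul_inv_cancel]
  exact del_one

theorem dt_apply (ν ν' : Kˣ) (t : Hs K) : dt ν ν' t = ⟨(ν : K) * t.a, (ν' : K) * t.b, (ν : K) * ν' * t.c⟩ := rfl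

/-- fixed points of diagonal automorphisms -/
theorem dt_fix {ν ν' : Kˣ} (h1 : ν ≠ 1) (h2 : ν' ≠ 1) (h3 : ν * ν' ≠ 1) {t : Hs K} (h : dt ν ν' t = t) : t = 1 := by
  rw [dt_apply] at h
  have ha := congrArg Hs.a h
  have hb := congrArg Hs.b h
  have hc := congrArg Hs.c h
  simp only at ha hb hc
  have key : ∀ (u : Kˣ) (x : K), u ≠ 1 → (u : K) * x = x → x = 0 := by
    intro u x hu hx
    by_contra h0
    apply hu
    apply Units.ext
    exact mul_right_cancel₀ h0 (by rw [hx]; simp)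
  refine Hs.ext (key ν _ h1 ha) (key ν' _ h2 hb) (key (ν * ν') _ h3 ?_)
  rw [Units.val_mul]; exact hc

theorem conj_central {t : Hs K} (h1 : t.a = 0) (h2 : t.b = 0) : MulAut.conj t = (1 : MulAut (Hs K)) := by
  ext1 s
  rw [conj_apply, h1, h2]
  ext <;> simp

/-- conjugating a diagonal automorphism -/
theorem dd_dt {δ : MulAut (Hs K)} (hδ : δ ∈ DDh K) (ν ν' : Kˣ) : ∃ μ μ', δ * dt ν ν' = dt μ μ' * δ ∧
    (ν ≠ 1 → ν' ≠ 1 → ν * ν' ≠ 1 → μ ≠ 1 ∧ μ' ≠ 1 ∧ μ * μ' ≠ 1) := by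
  obtain ⟨κ, κ', σ, rfl | rfl⟩ := hδ
  · refine ⟨Units.map (σ : K →* K) ν, Units.map (σ : K →* K) ν', ?_, fun h1 h2 h3 => ⟨?_, ?_, ?_⟩⟩
    · rw [dt, dt, del_mul_del, del_mul_del]
      congr 1
      · rw [mul_comm]; rfl
      · rw [mul_comm]; rfl
    · intro h; apply h1; ext; have := congrArg Units.val h; simpa using this
    · intro h; apply h2; ext; have := congrArg Units.val h; simpa using this
    · intro h
      apply h3
      ext
      have := congrArg Units.val h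
      rw [← map_mul] at this
      exact (map_eq_one_iff σ σ.injective).1 this
  · refine ⟨Units.map (σ : K →* K) ν', Units.map (σ : K →* K) ν, ?_, fun h1 h2 h3 => ⟨?_, ?_, ?_⟩⟩
    · rw [mul_assoc, dt, dt, gam_mul_del, ← mul_assoc, ← mul_assoc, del_mul_del, del_mul_del]
      congr 2
      · rw [mul_comm]; rfl
      · rw [mul_comm]; rfl
    · intro h; apply h2; ext; have := congrArg Units.val h; simpa using this
    · intro h; apply h1; ext; have := congrArg Units.val h; simpa using this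
    · intro h
      apply h3
      rw [mul_comm]
      ext
      have := congrArg Units.val h
      rw [← map_mul] at this
      exact (map_eq_one_iff σ σ.injective).1 this

namespace SD

variable {L : Type*} [Group L] (d : SD K L)

theorem act_j (t : Hs K) : d.act (d.j t) = MulAut.conj t := by
  ext1 s
  apply d.inj
  rw [← d.hj, MulAut.conj_apply, map_mul, map_mul, map_inv]

/-- for `l` acting as a diagonal automorphism and `g` acting as a diagonal automorphism without fixed points, a central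
modification of `l` commutes with `g`. -/
theorem exists_z {l g : L} {μ μ' κ κ' : Kˣ} (hg : d.act g = dt μ μ') (hl : d.act l = dt κ κ') (hμ : μ * μ' ≠ 1) :
    ∃ t : Hs K, t.a = 0 ∧ t.b = 0 ∧ (d.j t * l) * g = g * (d.j t * l) := by
  obtain ⟨s, hs⟩ := d.ker (l * g * l⁻¹ * g⁻¹) (by
    rw [map_mul, map_mul, map_mul, map_inv, map_inv, hg, hl, dt_inv, dt_inv, dt_mul_dt, dt_mul_dt, dt_mul_dt]
    rw [show κ * μ * κ⁻¹ * μ⁻¹ = 1 by rw [mul_comm κ]; group, show κ' * μ' * κ'⁻¹ * μ'⁻¹ = 1 by rw [mul_comm κ']; group]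
    exact del_one)
  have hs1 : MulAut.conj s = 1 := by
    rw [← d.act_j, ← hs, map_mul, map_mul, map_mul, map_inv, map_inv, hg, hl, dt_inv, dt_inv, dt_mul_dt, dt_mul_dt, dt_mul_dt]
    rw [show κ * μ * κ⁻¹ * μ⁻¹ = 1 by rw [mul_comm κ]; group, show κ' * μ' * κ'⁻¹ * μ'⁻¹ = 1 by rw [mul_comm κ']; group]
    exact del_one
  obtain ⟨hsa, hsb, -⟩ := conj_del_inj (t := s) (ν := 1) (ν' := 1) (μ := 1) (μ' := 1) (σ := RingEquiv.refl K)
    (τ := RingEquiv.refl K) (by rw [hs1, one_mul])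
  have hlg : l * g = d.j s * g * l := by
    have : l * g * l⁻¹ * g⁻¹ * g * l = d.j s * g * l := by rw [hs]
    rw [← this]; group
  have hne : (μ : K) * μ' - 1 ≠ 0 := by
    intro h
    apply hμ
    apply Units.ext
    rw [Units.val_mul, Units.val_one]
    exact sub_eq_zero.1 h
  refine ⟨⟨0, 0, s.c / ((μ : K) * μ' - 1)⟩, rfl, rfl, ?_⟩
  have h1 : g * d.j ⟨0, 0, s.c / ((μ : K) * μ' - 1)⟩ = d.j ⟨0, 0, (μ : K) * μ' * (s.c / ((μ : K) * μ' - 1))⟩ * g := by
    have := d.hj g ⟨0, 0, s.c / ((μ : K) * μ' - 1)⟩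
    rw [hg, dt_apply, mul_zero, mul_zero] at this
    rw [← this]; group
  rw [mul_assoc, hlg, ← mul_assoc g, h1, ← mul_assoc, ← mul_assoc, ← map_mul]
  congr 3
  ext
  · simp [hsa]
  · simp [hsb]
  · simp only [mul_c]
    field_simp
    ring

/-- the centralizer of `h` in the group of elements acting as diagonal automorphisms -/
def H1 : Subgroup L where
  carrier := {l | (∃ κ κ', d.act l = dt κ κ') ∧ l * d.h = d.h * l}
  one_mem' := ⟨⟨1, 1, by rw [map_one]; exact del_one.symm⟩, by simp⟩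
  mul_mem' := by
    rintro a b ⟨⟨κ, κ', ha⟩, ha2⟩ ⟨⟨μ, μ', hb⟩, hb2⟩
    exact ⟨⟨_, _, by rw [map_mul, ha, hb, dt_mul_dt]⟩, by rw [mul_assoc, hb2, ← mul_assoc, ha2, mul_assoc]⟩
  inv_mem' := by
    rintro a ⟨⟨κ, κ', ha⟩, ha2⟩
    exact ⟨⟨_, _, by rw [map_inv, ha, dt_inv]⟩, by
      rw [inv_mul_eq_iff_eq_mul, ← mul_assoc, ha2, mul_inv_cancel_right]⟩

/-- an element of `j` commuting with an element acting without fixed points is trivial -/
theorem j_comm {g : L} {μ μ' : Kˣ} (hg : d.act g = dt μ μ') (h1 : μ ≠ 1) (h2 : μ' ≠ 1) (h3 : μ * μ' ≠ 1) {t : Hs K}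
    (h : d.j t * g = g * d.j t) : t = 1 := by
  apply dt_fix h1 h2 h3
  apply d.inj
  rw [← hg, ← d.hj, ← h, mul_inv_cancel_right]

theorem j_mem_H1 {t : Hs K} (h : d.j t ∈ d.H1) : t = 1 := d.j_comm d.act_h d.hν d.hν' d.hνν' h.2

/-- `H1` is abelian -/
theorem H1_comm {l m : L} (hl : l ∈ d.H1) (hm : m ∈ d.H1) : l * m = m * l := by
  obtain ⟨⟨κ, κ', h1⟩, -⟩ := id hl
  obtain ⟨⟨μ, μ', h2⟩, -⟩ := id hm
  obtain ⟨s, hs⟩ := d.ker (l * m * l⁻¹ * m⁻¹) (by
    rw [map_mul, map_mul, map_mul, map_inv, map_inv, h1, h2, dt_inv, dt_inv, dt_mul_dt, dt_mul_dt, dt_mul_dt]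
    rw [show κ * μ * κ⁻¹ * μ⁻¹ = 1 by rw [mul_comm κ]; group, show κ' * μ' * κ'⁻¹ * μ'⁻¹ = 1 by rw [mul_comm κ']; group]
    exact del_one)
  have h3 : d.j s ∈ d.H1 := by
    rw [← hs]
    exact mul_mem (mul_mem (mul_mem hl hm) (inv_mem hl)) (inv_mem hm)
  rw [d.j_mem_H1 h3, map_one] at hs
  calc l * m = (l * m * l⁻¹ * m⁻¹) * (m * l) := by group
    _ = m * l := by rw [hs, one_mul]

/-- Any element of `L` is, up to `j`, in the normalizer of `H1`, and then acts in `DDh`. -/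
theorem exists_norm (l : L) : ∃ t : Hs K, d.j t * l ∈ Subgroup.normalizer (d.H1 : Set L) ∧ d.act (d.j t * l) ∈ DDh K := by
  obtain ⟨t, δ, hδ, hl⟩ := d.form l
  have hl' : d.act (d.j t⁻¹ * l) = δ := by
    rw [map_mul, d.act_j, hl, map_inv, inv_mul_cancel_left]
  obtain ⟨l', hl'e⟩ : ∃ l', l' = d.j t⁻¹ * l := ⟨_, rfl⟩
  rw [← hl'e] at hl'
  -- the image of an element of `H1`
  have himg : ∀ (m : L) (δ' : MulAut (Hs K)), δ' ∈ DDh K → d.act m = δ' → ∀ κ κ' : Kˣ, ∀ g : L, d.act g = dt κ κ' →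
      ∃ μ μ', d.act (m * g * m⁻¹) = dt μ μ' ∧ (κ ≠ 1 → κ' ≠ 1 → κ * κ' ≠ 1 → μ ≠ 1 ∧ μ' ≠ 1 ∧ μ * μ' ≠ 1) := by
    intro m δ' hδ' hm κ κ' g hg
    obtain ⟨μ, μ', h1, h2⟩ := dd_dt hδ' κ κ'
    refine ⟨μ, μ', ?_, h2⟩
    rw [map_mul, map_mul, map_inv, hm, hg, h1, mul_inv_cancel_right]
  obtain ⟨μ, μ', hμ1, hμ2⟩ := himg l' δ hδ hl' d.ν d.ν' d.h d.act_h
  obtain ⟨hμ3, hμ4, hμ5⟩ := hμ2 d.hν d.hν' d.hνν'
  -- `l' h l'⁻¹ = j(z)⁻¹ h'`
  obtain ⟨z, hza, hzb, hz⟩ := d.exists_z d.act_h hμ1 d.hνν'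
  obtain ⟨h', hh'⟩ : ∃ h', h' = d.j z * (l' * d.h * l'⁻¹) := ⟨_, rfl⟩
  rw [← hh'] at hz
  have hacth' : d.act h' = dt μ μ' := by
    rw [hh', map_mul, d.act_j, conj_central hza hzb, one_mul, hμ1]
  have hh'H : h' ∈ d.H1 := ⟨⟨_, _, hacth'⟩, hz⟩
  -- find `w` central with `j w * l'` conjugating `h` to `h'`
  have hne : (μ : K) * μ' - 1 ≠ 0 := by
    intro h
    apply hμ5
    apply Units.ext
    rw [Units.val_mul, Units.val_one]
    exact sub_eq_zero.1 h
  obtain ⟨w, hwa, hwb, hw⟩ : ∃ w : Hs K, w.a = 0 ∧ w.b = 0 ∧ (d.j w * l') * d.h * (d.j w * l')⁻¹ = h' := by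
    refine ⟨⟨0, 0, -(z.c / ((μ : K) * μ' - 1))⟩, rfl, rfl, ?_⟩
    set w : Hs K := ⟨0, 0, -(z.c / ((μ : K) * μ' - 1))⟩ with hw
    have e1 : l' * d.h * l'⁻¹ = d.j z⁻¹ * h' := by rw [hh', map_inv, inv_mul_cancel_left]
    have e2 : h' * d.j w⁻¹ = d.j (dt μ μ' w⁻¹) * h' := by
      rw [← hacth', ← d.hj]; group
    calc d.j w * l' * d.h * (d.j w * l')⁻¹ = d.j w * (l' * d.h * l'⁻¹) * d.j w⁻¹ := by
          rw [map_inv]; group
      _ = d.j (w * z⁻¹) * (h' * d.j w⁻¹) := by rw [e1, map_mul]; group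
      _ = d.j (w * z⁻¹ * dt μ μ' w⁻¹) * h' := by rw [e2, map_mul _ (w * z⁻¹)]; group
      _ = h' := by
          have e3 : w * z⁻¹ * dt μ μ' w⁻¹ = 1 := by
            rw [dt_apply, hw]
            ext
            · simp only [hza, _root_.Cfsg.Agent.H780.HL.Hs.inv_a, _root_.neg_zero, _root_.MulZeroClass.mul_zero, _root_.Cfsg.Agent.H780.HL.Hs.inv_b, _root_.Cfsg.Agent.H780.HL.Hs.inv_c, _root_.neg_neg, _root_.add_zero, _root_.Cfsg.Agent.H780.HL.Hs.mul_a, _root_.Cfsg.Agent.H780.HL.Hs.one_a]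
            · simp only [hzb, _root_.Cfsg.Agent.H780.HL.Hs.inv_a, _root_.neg_zero, _root_.MulZeroClass.mul_zero, _root_.Cfsg.Agent.H780.HL.Hs.inv_b, _root_.Cfsg.Agent.H780.HL.Hs.inv_c, _root_.neg_neg, _root_.add_zero, _root_.Cfsg.Agent.H780.HL.Hs.mul_b, _root_.Cfsg.Agent.H780.HL.Hs.one_b]
            · simp only [mul_c, inv_c, inv_a, one_c, hza, hzb, mul_zero, add_zero, neg_zero]
              field_simp
              ring
          rw [e3, map_one, one_mul]
  obtain ⟨m, hm⟩ : ∃ m, m = d.j w * l' := ⟨_, rfl⟩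
  rw [← hm] at hw
  have hactm : d.act m = δ := by
    rw [hm, map_mul, d.act_j, conj_central hwa hwb, one_mul, hl']
  -- `H1` is the centralizer of `h'`
  have hC : ∀ g : L, (∃ κ κ', d.act g = dt κ κ') → g * h' = h' * g → g ∈ d.H1 := by
    rintro g ⟨κ, κ', hg⟩ hgh
    obtain ⟨s, hsa, hsb, hs⟩ := d.exists_z d.act_h hg d.hνν'
    have hsg : d.j s * g ∈ d.H1 := ⟨⟨κ, κ', by rw [map_mul, d.act_j, conj_central hsa hsb, one_mul, hg]⟩, hs⟩
    have hs1 : d.j s * h' = h' * d.j s := by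
      have e1 := d.H1_comm hsg hh'H
      rw [mul_assoc, hgh, ← mul_assoc, ← mul_assoc] at e1
      exact mul_right_cancel e1
    rw [d.j_comm hacth' hμ3 hμ4 hμ5 hs1, map_one, one_mul] at hsg
    exact hsg
  have hsub : ∀ g ∈ d.H1, m * g * m⁻¹ ∈ d.H1 := by
    intro g hg
    obtain ⟨⟨κ, κ', hg1⟩, hg2⟩ := id hg
    obtain ⟨μ1, μ1', e1, -⟩ := himg m δ hδ hactm κ κ' g hg1
    refine hC _ ⟨_, _, e1⟩ ?_
    rw [← hw]
    calc m * g * m⁻¹ * (m * d.h * m⁻¹) = m * (g * d.h) * m⁻¹ := by group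
      _ = m * (d.h * g) * m⁻¹ := by rw [hg2]
      _ = _ := by group
  have hsub' : ∀ g ∈ d.H1, m⁻¹ * g * m ∈ d.H1 := by
    intro g hg
    obtain ⟨⟨κ, κ', hg1⟩, hg2⟩ := id hg
    obtain ⟨μ1, μ1', e1, -⟩ := himg m⁻¹ δ⁻¹ (inv_mem hδ) (by rw [map_inv, hactm]) κ κ' g hg1
    rw [inv_inv] at e1
    refine ⟨⟨_, _, e1⟩, ?_⟩
    have e2 : d.h = m⁻¹ * h' * m := by rw [← hw]; group
    have e3 : g * h' = h' * g := d.H1_comm hg hh'H
    rw [e2]
    calc m⁻¹ * g * m * (m⁻¹ * h' * m) = m⁻¹ * (g * h') * m := by group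
      _ = m⁻¹ * (h' * g) * m := by rw [e3]
      _ = _ := by group
  refine ⟨w * t⁻¹, ?_, ?_⟩
  · have e1 : d.j (w * t⁻¹) * l = m := by rw [hm, hl'e, map_mul, mul_assoc]
    rw [e1, Subgroup.mem_normalizer_iff]
    intro g
    constructor
    · exact hsub g
    · intro hg
      have := hsub' _ hg
      have e4 : m⁻¹ * (m * g * m⁻¹) * m = g := by group
      rwa [e4] at this
  · have e1 : d.j (w * t⁻¹) * l = m := by rw [hm, hl'e, map_mul, mul_assoc]
    rw [e1, hactm]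
    exact hδ

/-- the complement -/
def Y : Subgroup L := Subgroup.normalizer (d.H1 : Set L)

theorem j_mem_Y {t : Hs K} (h : d.j t ∈ d.Y) : t = 1 := by
  have hh : d.h ∈ d.H1 := ⟨⟨_, _, d.act_h⟩, rfl⟩
  have h1 : d.j t * d.h * (d.j t)⁻¹ ∈ d.H1 := (Subgroup.mem_normalizer_iff.1 h _).1 hh
  have h2 : d.j t * d.h * (d.j t)⁻¹ * d.h⁻¹ ∈ d.H1 := mul_mem h1 (inv_mem hh)
  have h3 : d.j t * d.h * (d.j t)⁻¹ * d.h⁻¹ = d.j (t * d.act d.h t⁻¹) := by
    rw [map_mul, ← d.hj, map_inv]; group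
  rw [h3] at h2
  have h4 := d.j_mem_H1 h2
  rw [h4, map_one] at h3
  have h5 : d.j t * d.h = d.h * d.j t := by
    calc d.j t * d.h = (d.j t * d.h * (d.j t)⁻¹ * d.h⁻¹) * (d.h * d.j t) := by group
      _ = _ := by rw [h3, one_mul]
  exact d.j_comm d.act_h d.hν d.hν' d.hνν' h5

theorem act_Y {y : L} (hy : y ∈ d.Y) : d.act y ∈ DDh K := by
  obtain ⟨t, h1, h2⟩ := d.exists_norm y
  have h3 : d.j t ∈ d.Y := by
    have := mul_mem (S := Subgroup L) h1 (inv_mem hy)
    rwa [mul_inv_cancel_right] at this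
  rw [d.j_mem_Y h3, map_one, one_mul] at h2
  exact h2

theorem exists_eq (l : L) : ∃ t : Hs K, ∃ y ∈ d.Y, l = d.j t * y := by
  obtain ⟨t, h1, -⟩ := d.exists_norm l
  exact ⟨t⁻¹, _, h1, by rw [map_inv, inv_mul_cancel_left]⟩

/-- elements acting as diagonal automorphisms are in `Y` up to central elements -/
theorem mem_Y_of_H1 {l : L} (h : l ∈ d.H1) : l ∈ d.Y := Subgroup.le_normalizer h

end SD

end Cfsg.Agent.H780.HL
end

-- part: H780/HL/Phi
section
/-!
# S5175 [L]: embedding of the model of `N_F(T)` in `Aut(SL₃(K))` (helper780)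
-/

set_option autoImplicit false

namespace Cfsg.Agent.H780.HL

open Hs

/-- A total, functional, multiplicative relation is a homomorphism. -/
theorem exists_hom_of_rel {G H : Type*} [Group G] [Group H] (R : G → H → Prop) (tot : ∀ g, ∃ h, R g h)
    (fn : ∀ g h h', R g h → R g h' → h = h') (mul : ∀ g h g' h', R g h → R g' h' → R (g * g') (h * h')) :
    ∃ φ : G →* H, ∀ g h, R g h → φ g = h := by
  choose f hf using tot
  refine ⟨MonoidHom.mk' f fun g g' => fn _ _ _ (hf _) (mul _ _ _ _ (hf g) (hf g')), fun g h hr => fn _ _ _ (hf g) hr⟩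

variable {K : Type} [Field K]

theorem exists_ext {δ : MulAut (Hs K)} (h : δ ∈ DDh K) : ∃ ε ∈ DD K, ∀ t, ε (emb t) = emb (δ t) := by
  obtain ⟨ν, ν', σ, rfl | rfl⟩ := h
  · exact ⟨dg ν ν' σ, ⟨_, _, _, Or.inl rfl⟩, dg_emb ν ν' σ⟩
  · exact ⟨dg ν ν' σ * gr, ⟨_, _, _, Or.inr rfl⟩, fun t => by rw [MulAut.mul_apply, gr_emb, dg_emb]; rfl⟩

theorem gam_gam (t : Hs K) : gam (gam t) = t := by
  rw [← MulAut.mul_apply, gam_mul_gam]; rfl

theorem ext_unique {ε ε' : MulAut (SL3 K)} (h1 : ε ∈ DD K) (h2 : ε' ∈ DD K) (h : ∀ t, ε (emb t) = ε' (emb t)) : ε = ε' := by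
  have key : ∀ (ν ν' μ μ' : Kˣ) (σ τ : K ≃+* K), (∀ t, dg ν ν' σ (emb t) = dg μ μ' τ (emb t)) → dg ν ν' σ = dg μ μ' τ := by
    intro ν ν' μ μ' σ τ h
    have e : MulAut.conj (1 : Hs K) * del ν ν' σ = del μ μ' τ := by
      rw [map_one, one_mul]
      ext1 t
      apply emb_injective
      rw [← dg_emb, ← dg_emb, h]
    obtain ⟨-, -, rfl, rfl, rfl⟩ := conj_del_inj e
    rfl
  have key2 : ∀ (ν ν' μ μ' : Kˣ) (σ τ : K ≃+* K), (∀ t, dg ν ν' σ (emb t) = (dg μ μ' τ * gr : MulAut (SL3 K)) (emb t)) → False := by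
    intro ν ν' μ μ' σ τ h
    have e := h ⟨1, 0, 0⟩
    rw [MulAut.mul_apply, gr_emb, dg_emb, dg_emb] at e
    have e2 := congrArg Hs.a (emb_injective e)
    simp only [del_apply, gam_apply, _root_.map_one, _root_.mul_one, _root_.map_zero, _root_.MulZeroClass.mul_zero, _root_.neg_zero, _root_.add_zero, _root_.RingEquiv.map_neg_one, _root_.mul_neg, _root_.Units.ne_zero] at e2
  obtain ⟨ν, ν', σ, rfl | rfl⟩ := h1
  · obtain ⟨μ, μ', τ, rfl | rfl⟩ := h2
    · exact key _ _ _ _ _ _ h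
    · exact (key2 _ _ _ _ _ _ h).elim
  · obtain ⟨μ, μ', τ, rfl | rfl⟩ := h2
    · exact (key2 _ _ _ _ _ _ fun t => (h t).symm).elim
    · have e0 : dg ν ν' σ = dg μ μ' τ := by
        refine key _ _ _ _ _ _ fun t => ?_
        have e := h (gam t)
        rw [MulAut.mul_apply, MulAut.mul_apply, gr_emb, gam_gam] at e
        exact e
      rw [e0]

/-- only the trivial unitriangular matrix is central -/
theorem conj_um {t : Hs K} (h : MulAut.conj (emb t) = 1) : t = 1 := by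
  let g : SL3 K := ⟨!![1, 0, 0; 0, 1, 0; 1, 0, 1], by simp [Matrix.det_fin_three]⟩
  have h1 : emb t * g = g * emb t := by
    have := congrArg (fun α : MulAut (SL3 K) => α g) h
    simp only [MulAut.conj_apply, MulAut.one_apply] at this
    exact mul_inv_eq_iff_eq_mul.1 this
  have h2 := fun i j => congrFun (congrFun (congrArg Subtype.val h1) i) j
  have e1 := h2 0 0
  have e2 := h2 1 0
  have e3 := h2 2 1
  rw [val_mul_apply, val_mul_apply] at e1 e2 e3
  simp [g, emb_apply, um] at e1 e2 e3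
  exact Hs.ext e2 e3.symm e1

namespace SD

variable {L : Type*} [Group L] (d : SD K L)

theorem exists_Phi : ∃ Φ : L →* MulAut (SL3 K), (∀ t, Φ (d.j t) = MulAut.conj (emb t)) ∧ (∀ y ∈ d.Y, Φ y ∈ DD K) ∧
    (∀ l s, Φ l (emb s) = emb (d.act l s)) ∧ Function.Injective Φ := by
  obtain ⟨R, hR⟩ : ∃ R : L → MulAut (SL3 K) → Prop, R = fun l α => ∃ t, ∃ y ∈ d.Y, ∃ ε ∈ DD K,
      (∀ s, ε (emb s) = emb (d.act y s)) ∧ l = d.j t * y ∧ α = MulAut.conj (emb t) * ε := ⟨_, rfl⟩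
  have tot : ∀ l, ∃ α, R l α := by
    intro l
    obtain ⟨t, y, hy, rfl⟩ := d.exists_eq l
    obtain ⟨ε, hε1, hε2⟩ := exists_ext (d.act_Y hy)
    rw [hR]
    exact ⟨_, t, y, hy, ε, hε1, hε2, rfl, rfl⟩
  have fn : ∀ l α α', R l α → R l α' → α = α' := by
    rw [hR]
    rintro l _ _ ⟨t, y, hy, ε, hε1, hε2, h1, rfl⟩ ⟨t', y', hy', ε', hε1', hε2', h1', rfl⟩
    have h2 : d.j (t'⁻¹ * t) = y' * y⁻¹ := by
      rw [map_mul, map_inv, inv_mul_eq_iff_eq_mul, ← mul_assoc, ← h1', h1, mul_inv_cancel_right]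
    have h3 : t'⁻¹ * t = 1 := d.j_mem_Y (by rw [h2]; exact mul_mem hy' (inv_mem hy))
    have h4 : t' = t := inv_mul_eq_one.1 h3
    subst h4
    have h5 : y = y' := by
      rw [h1] at h1'
      exact mul_left_cancel h1'
    subst h5
    rw [ext_unique hε1 hε1' fun s => by rw [hε2, hε2']]
  have mul : ∀ l α l' α', R l α → R l' α' → R (l * l') (α * α') := by
    rw [hR]
    rintro l _ l' _ ⟨t, y, hy, ε, hε1, hε2, h1, rfl⟩ ⟨t', y', hy', ε', hε1', hε2', h1', rfl⟩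
    refine ⟨t * d.act y t', y * y', mul_mem hy hy', ε * ε', mul_mem hε1 hε1', fun s => ?_, ?_, ?_⟩
    · rw [MulAut.mul_apply, hε2', hε2, map_mul]; rfl
    · rw [h1, h1', map_mul, ← d.hj]; group
    · rw [map_mul, map_mul, ← hε2]
      rw [mul_assoc, mul_assoc, ← mul_assoc ε, Hs.mul_conj, mul_assoc]
  obtain ⟨Φ, hΦ⟩ := exists_hom_of_rel R tot fn mul
  rw [hR] at hΦ
  have h1 : ∀ t, Φ (d.j t) = MulAut.conj (emb t) := fun t =>
    hΦ _ _ ⟨t, 1, one_mem _, 1, one_mem _, fun s => by rw [map_one]; rfl, by rw [mul_one], by rw [mul_one]⟩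
  have h2 : ∀ y ∈ d.Y, Φ y ∈ DD K ∧ ∀ s, Φ y (emb s) = emb (d.act y s) := by
    intro y hy
    obtain ⟨ε, hε1, hε2⟩ := exists_ext (d.act_Y hy)
    have := hΦ y ε ⟨1, y, hy, ε, hε1, hε2, by rw [map_one, one_mul], by rw [map_one, map_one, one_mul]⟩
    rw [this]
    exact ⟨hε1, hε2⟩
  have h3 : ∀ l s, Φ l (emb s) = emb (d.act l s) := by
    intro l s
    obtain ⟨t, y, hy, rfl⟩ := d.exists_eq l
    rw [map_mul, MulAut.mul_apply, (h2 y hy).2, h1, map_mul, MulAut.mul_apply, d.act_j, MulAut.conj_apply,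
      MulAut.conj_apply, map_mul, map_mul, map_inv]
  refine ⟨Φ, h1, fun y hy => (h2 y hy).1, h3, ?_⟩
  rw [injective_iff_map_eq_one]
  intro l hl
  have h4 : d.act l = 1 := by
    ext1 s
    apply emb_injective
    rw [← h3, hl]; rfl
  obtain ⟨t, rfl⟩ := d.ker l h4
  rw [h1] at hl
  rw [conj_um hl, map_one]

theorem card_L [Finite K] : Nat.card L = Nat.card K ^ 3 * Nat.card d.Y := by
  have e1 : Nat.card (Hs K) = Nat.card K ^ 3 := by
    have e : Hs K ≃ K × K × K :=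
      { toFun := fun t => (t.a, t.b, t.c)
        invFun := fun v => ⟨v.1, v.2.1, v.2.2⟩
        left_inv := fun t => rfl
        right_inv := fun v => rfl }
    rw [Nat.card_congr e, Nat.card_prod, Nat.card_prod]; ring
  rw [← e1, ← Nat.card_prod]
  refine (Nat.card_congr (Equiv.ofBijective (fun p : Hs K × d.Y => d.j p.1 * (p.2 : L)) ⟨?_, ?_⟩)).symm
  · rintro ⟨t, y⟩ ⟨t', y'⟩ h
    simp only at h
    have h2 : d.j (t'⁻¹ * t) = y' * (y : L)⁻¹ := by
      rw [map_mul, map_inv, inv_mul_eq_iff_eq_mul, ← mul_assoc, ← h, mul_inv_cancel_right]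
    have h3 : t'⁻¹ * t = 1 := d.j_mem_Y (by rw [h2]; exact mul_mem y'.2 (inv_mem y.2))
    have h4 : t' = t := inv_mul_eq_one.1 h3
    subst h4
    rw [Prod.mk.injEq]
    exact ⟨rfl, Subtype.ext (mul_left_cancel h)⟩
  · intro l
    obtain ⟨t, y, hy, rfl⟩ := d.exists_eq l
    exact ⟨⟨t, y, hy⟩, rfl⟩

theorem dconj_mem [Finite K] {Φ : L →* MulAut (SL3 K)} (hΦ1 : ∀ y ∈ d.Y, Φ y ∈ DD K)
    (hΦ2 : ∀ l s, Φ l (emb s) = emb (d.act l s)) {ν ν' : Kˣ} {l : L} {t : Hs K} (hl : d.act l = MulAut.conj t * dt ν ν') :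
    dg ν ν' (RingEquiv.refl K) ∈ d.Y.map Φ := by
  have h1 : d.act (d.j t⁻¹ * l) = dt ν ν' := by
    rw [map_mul, d.act_j, hl, map_inv, inv_mul_cancel_left]
  obtain ⟨z, hza, hzb, hz⟩ := d.exists_z d.act_h h1 d.hνν'
  have h2 : d.act (d.j z * (d.j t⁻¹ * l)) = dt ν ν' := by
    rw [map_mul, d.act_j, conj_central hza hzb, one_mul, h1]
  have h3 : d.j z * (d.j t⁻¹ * l) ∈ d.Y := d.mem_Y_of_H1 ⟨⟨_, _, h2⟩, hz⟩
  refine ⟨_, h3, ?_⟩
  refine ext_unique (hΦ1 _ h3) ⟨_, _, _, Or.inl rfl⟩ fun s => ?_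
  rw [hΦ2, h2, dg_emb]

/-- **`Φ(Y)` satisfies the hypotheses of the group side.** -/
theorem gy [Fintype K] (q4 : 4 ≤ Fintype.card K) (char2 : ∃ n : ℕ, Fintype.card K = 2 ^ n)
    (hd1 : ∀ lam : Kˣ, ∃ l t, d.act l = MulAut.conj t * dt lam⁻¹ (lam ^ 2))
    (hd2 : ∀ lam : Kˣ, ∃ l t, d.act l = MulAut.conj t * dt (lam ^ 2) lam⁻¹)
    (hcard : ∃ m, Odd m ∧ Nat.card L = 2 * Fintype.card K ^ 3 * m)
    (hx : ∃ (l : L) (t : Hs K), t.b = 0 ∧ (d.act l t).b ≠ 0)
    {Φ : L →* MulAut (SL3 K)} (hΦ1 : ∀ y ∈ d.Y, Φ y ∈ DD K)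
    (hΦ2 : ∀ l s, Φ l (emb s) = emb (d.act l s)) (hinj : Function.Injective Φ) : GY (d.Y.map Φ) where
  q4 := q4
  char2 := char2
  le := by
    rintro _ ⟨y, hy, rfl⟩
    exact hΦ1 y hy
  tor := by
    intro w hw
    have h1 : dg (w 1 * (w 2)⁻¹) (w 0 * (w 1)⁻¹) (RingEquiv.refl K) = dconj w := by
      ext1 g
      refine ext3 fun i j => ?_
      rw [dg_apply, dconj_apply]
      (revert i j; simp only [wv, _root_.Fin.forall_fin_succ, Fin.isValue, _root_.mul_inv_mul_mul_cancel, _root_.RingEquiv.refl_apply, _root_.Units.val_inv_eq_inv_val, _root_.Matrix.cons_val_zero, _root_.Units.val_mul, _root_.mul_inv_rev, _root_.inv_inv, _root_.Matrix.cons_val_succ, _root_.Fin.succ_zero_eq_one, _root_.Matrix.cons_val_fin_one, _root_.Units.val_one, _root_.inv_one, _root_.mul_one, _root_.Fin.succ_one_eq_two, _root_.IsEmpty.forall_iff, _root_.and_true, _root_.one_mul]) <;> (repeat' with_reducible apply And.intro) <;> field_simp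
    rw [← h1]
    obtain ⟨l1, t1, h2⟩ := hd1 (w 0)
    obtain ⟨l2, t2, h3⟩ := hd2 (w 2)⁻¹
    have h4 : d.act (l1 * l2) = MulAut.conj (t1 * dt (w 0)⁻¹ (w 0 ^ 2) t2) *
        dt ((w 0)⁻¹ * ((w 2)⁻¹) ^ 2) (w 0 ^ 2 * ((w 2)⁻¹)⁻¹) := by
      rw [map_mul, h2, h3, map_mul, mul_assoc, ← mul_assoc (dt (w 0)⁻¹ (w 0 ^ 2)), Hs.mul_conj, mul_assoc, dt_mul_dt,
        mul_assoc]
    have e1 : (w 0)⁻¹ * ((w 2)⁻¹) ^ 2 = w 1 * (w 2)⁻¹ := by
      have : w 1 = (w 0)⁻¹ * (w 2)⁻¹ := by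
        rw [← mul_inv, eq_inv_iff_mul_eq_one, ← hw]
        rw [mul_comm (w 1), mul_assoc, mul_comm (w 2), ← mul_assoc]
      rw [this, pow_two, mul_assoc]
    have e2 : w 0 ^ 2 * ((w 2)⁻¹)⁻¹ = w 0 * (w 1)⁻¹ := by
      have : (w 1)⁻¹ = w 0 * w 2 := by
        rw [inv_eq_iff_mul_eq_one, ← hw]
        rw [← mul_assoc, mul_comm (w 1)]
      rw [this, inv_inv, pow_two, mul_assoc]
    rw [e1, e2] at h4
    exact d.dconj_mem hΦ1 hΦ2 h4
  card := by
    obtain ⟨m, hm, hc⟩ := hcard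
    refine ⟨m, hm, ?_⟩
    have e1 : Nat.card (d.Y.map Φ) = Nat.card d.Y := (Nat.card_congr (d.Y.equivMapOfInjective Φ hinj).toEquiv).symm
    rw [e1]
    have e2 := d.card_L
    rw [hc, Nat.card_eq_fintype_card] at e2
    have e3 : 0 < Fintype.card K ^ 3 := by positivity
    apply Nat.eq_of_mul_eq_mul_left e3
    rw [← e2]; ring
  nle := by
    intro hle
    obtain ⟨l, t, ht, hlt⟩ := hx
    obtain ⟨s, y, hy, rfl⟩ := d.exists_eq l
    obtain ⟨ν, ν', σ, h1⟩ := hle ⟨y, hy, rfl⟩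
    have h2 : d.act y t = del ν ν' σ t := by
      apply emb_injective
      rw [← hΦ2, h1, dg_emb]
    apply hlt
    rw [map_mul, MulAut.mul_apply, h2, d.act_j, conj_apply, del_apply]
    simp [ht]

end SD

end Cfsg.Agent.H780.HL
end

-- part: H780/HL/Data
section
/-!
# S5175 [L]: the model of `N_F(T)` in coordinates (helper780)
-/

set_option autoImplicit false
set_option linter.unusedSectionVars false

namespace Cfsg.Agent.H780.HL

open Cfsg Cfsg.FusionSystem Cfsg.Agent.H756.HM Cfsg.Agent.H752 Hs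

universe u

variable {Ω : Type u} [Group Ω] {S : Subgroup Ω} {F : FusionSystem S} {K : Type} [Field K] [Fintype K]
  {V T : Subgroup Ω} {x : Ω}

/-- `V` is receptive, so automorphisms of `V` normalizing `Aut_T(V)` extend to `T`. -/
theorem ext_T [Finite S] (hS : IsPGroup 2 S) (hF : F.IsSaturated 2) (b : Big F K V T x) {α : MulAut V}
    (hα : α ∈ F.autGroup V)
    (h : ∀ t ∈ T, ∃ t' ∈ T, ∀ v v' : V, (v' : Ω) = t * v * t⁻¹ → ((α v' : V) : Ω) = t' * (α v : V) * t'⁻¹) :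
    ∃ f, Mp F T f ∧ (∀ t ∈ T, f t ∈ T) ∧ ∀ (v : Ω) (hv : v ∈ V), f v = (α ⟨v, hv⟩ : V) := by
  have : Fact (Nat.Prime 2) := ⟨Nat.prime_two⟩
  have : Finite V := H802.finite_of_le b.V_le
  have hrec := H802.isReceptive_of_isFullyNormalized hS hF b.fn
  have hφ : V.subtype.comp α.toMonoidHom ∈ F.Hom V := (H802.mem_autGroup_iff F b.V_le α).1 hα
  obtain ⟨ψ, hψ, h1⟩ := hrec.2 V _ hφ (by
    ext v
    constructor
    · rintro ⟨w, rfl⟩
      exact (α w).2
    · intro hv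
      exact ⟨α⁻¹ ⟨v, hv⟩, by
        show ((α (α⁻¹ ⟨v, hv⟩) : V) : Ω) = v
        rw [MulAut.apply_inv_self]⟩)
  have hTN : ∀ t ∈ T, t ∈ Subgroup.normalizer (V : Set Ω) := by
    intro t ht
    rw [← b.nor] at ht
    exact ht.2
  have hTe : T ≤ extender S V (V.subtype.comp α.toMonoidHom) := by
    intro t ht
    refine Subgroup.subset_closure ⟨T_le b ht, hTN t ht, ?_⟩
    obtain ⟨t', ht', h2⟩ := h t ht
    exact ⟨t', T_le b ht', fun v hv => h2 v ⟨_, hv⟩ rfl⟩
  have hm : Mp F T (ex ψ) := (mp_ex hψ).res hTe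
  have hfV : ∀ (v : Ω) (hv : v ∈ V), ex ψ v = (α ⟨v, hv⟩ : V) := by
    intro v hv
    rw [ex_apply _ (hTe (V_le_T b hv))]
    exact h1 v hv _
  refine ⟨ex ψ, hm, fun t ht => ?_, hfV⟩
  rw [← b.nor]
  refine ⟨hm.mem ht, ?_⟩
  obtain ⟨γ, hγ⟩ := H802.exists_conjAut (hTN t ht)
  refine H802.mem_normalizer_of_aut (α := α * γ * α⁻¹) fun v => ?_
  have e1 : (v : Ω) = ex ψ ((α⁻¹ v : V) : Ω) := by
    rw [hfV _ (α⁻¹ v).2]
    simp
  rw [MulAut.mul_apply, MulAut.mul_apply]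
  rw [e1]
  have e2 : ((γ (α⁻¹ v) : V) : Ω) = t * ((α⁻¹ v : V) : Ω) * t⁻¹ := hγ _
  have h3 : ex ψ ((γ (α⁻¹ v) : V) : Ω) = ((α (γ (α⁻¹ v)) : V) : Ω) := hfV _ (γ (α⁻¹ v)).2
  have hvT : ((α⁻¹ v : V) : Ω) ∈ T := V_le_T b (α⁻¹ v).2
  rw [← h3, e2, hm.mul (mul_mem ht hvT) (_root_.InvMemClass.inv_mem ht), hm.mul ht hvT, hm.inv ht]

section Kap

variable {b : Big F K V T x} (c : LC b)

/-- conjugation in coordinates -/
theorem kap_conj (t s : Hs K) : kap c t * kap c s * (kap c t)⁻¹ = kap c ⟨s.a, s.b, s.c + (t.b * s.a - s.b * t.a)⟩ := by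
  rw [← map_inv, ← map_mul, ← map_mul, conj_eq]

/-- the Cartan elements of `E` extend to `T`. -/
theorem exists_cartan [Finite S] (hS : IsPGroup 2 S) (hF : F.IsSaturated 2) (lam : Kˣ) :
    ∃ f, Mp F T f ∧ (∀ t ∈ T, f t ∈ T) ∧ ∀ a d : K, f (kap c ⟨a, 0, d⟩) = kap c ⟨((lam⁻¹ : Kˣ) : K) * a, 0, (lam : K) * d⟩ := by
  obtain ⟨e, he, hE⟩ := c.E2 ⟨!![(lam : K), 0; 0, ((lam⁻¹ : Kˣ) : K)], by simp [Matrix.det_fin_two]⟩
  have hE' : ∀ (a d : K) (h : kap c ⟨a, 0, d⟩ ∈ V), ((e ⟨kap c ⟨a, 0, d⟩, h⟩ : V) : Ω) =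
      kap c ⟨((lam⁻¹ : Kˣ) : K) * a, 0, (lam : K) * d⟩ := by
    intro a d h
    have := hE a d h
    simp only [Matrix.of_apply, Matrix.cons_val', Matrix.cons_val_zero, Matrix.cons_val_one, Matrix.cons_val_fin_one,
      zero_mul, zero_add, add_zero] at this
    exact this
  obtain ⟨f, hf, hfT, hfV⟩ := ext_T hS hF b (b.E_le he) (by
    intro t ht
    obtain ⟨s, rfl⟩ := kap_surj c ht
    refine ⟨kap c ⟨0, (lam : K) ^ 2 * s.b, 0⟩, kap_mem c _, fun v v' hvv' => ?_⟩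
    obtain ⟨r, hr⟩ := kap_surj c (V_le_T b v.2)
    have hrb : r.b = 0 := by rw [← kap_V c, hr]; exact v.2
    obtain ⟨a, b', d⟩ := r
    simp only at hrb
    subst hrb
    have hv : v = ⟨kap c ⟨a, 0, d⟩, by rw [hr]; exact v.2⟩ := Subtype.ext hr.symm
    have h2 : (v' : Ω) = kap c ⟨a, 0, d + s.b * a⟩ := by
      rw [hvv', ← hr, kap_conj]
      congr 2
      simp
    have hv' : v' = ⟨kap c ⟨a, 0, d + s.b * a⟩, by rw [← h2]; exact v'.2⟩ := Subtype.ext h2
    rw [hv', hE', hv, hE', kap_conj]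
    congr 2
    have : (lam : K) * ((lam⁻¹ : Kˣ) : K) = 1 := by simp
    simp only [zero_mul, sub_zero]
    linear_combination (-(lam : K) * s.b * a) * this)
  exact ⟨f, hf, hfT, fun a d => by rw [hfV _ ((kap_V c _).2 rfl), hE']⟩

theorem del_gam_dt (κ κ' : Kˣ) (σ : K ≃+* K) (ν ν' : Kˣ) :
    (del κ κ' σ * gam) * dt ν ν' = dt (Units.map (σ : K →* K) ν') (Units.map (σ : K →* K) ν) * (del κ κ' σ * gam) := by
  rw [mul_assoc, dt, dt, gam_mul_del, ← mul_assoc, ← mul_assoc, del_mul_del, del_mul_del]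
  congr 2
  · rw [mul_comm]; rfl
  · rw [mul_comm]; rfl

theorem conj_swap {ξ : MulAut (Hs K)} {s : Hs K} (t : Hs K) {κ κ' : Kˣ} {σ : K ≃+* K} (ν ν' : Kˣ)
    (h : ξ = MulAut.conj s * (del κ κ' σ * gam)) : ξ * (MulAut.conj t * dt ν ν') * ξ⁻¹ =
      MulAut.conj (ξ t * s * dt (Units.map (σ : K →* K) ν') (Units.map (σ : K →* K) ν) s⁻¹) *
        dt (Units.map (σ : K →* K) ν') (Units.map (σ : K →* K) ν) := by
  obtain ⟨D, hD⟩ : ∃ D, D = dt (K := K) (Units.map (σ : K →* K) ν') (Units.map (σ : K →* K) ν) := ⟨_, rfl⟩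
  rw [← hD]
  have e0 : del κ κ' σ * gam = MulAut.conj s⁻¹ * ξ := by rw [h, map_inv, inv_mul_cancel_left]
  have e1 : ξ * dt ν ν' = MulAut.conj s * (D * (MulAut.conj s⁻¹ * ξ)) := by
    nth_rw 1 [h]
    rw [mul_assoc, del_gam_dt, ← hD, e0]
  rw [← mul_assoc ξ, Hs.mul_conj, mul_assoc (MulAut.conj (ξ t)), e1, ← mul_assoc D, Hs.mul_conj, mul_inv_eq_iff_eq_mul,
    map_mul, map_mul]
  simp only [mul_assoc]

/-- **The model in coordinates.** -/
theorem exists_SD [Finite S] (hS : IsPGroup 2 S) (hF : F.IsSaturated 2) {L : Type*} [Group L] [Finite L]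
    {ι : S →* L} (hM : MdT F T L ι 2) :
    ∃ d : SD K L, (∀ (t : Hs K) (h : kap c t ∈ S), d.j t = ι ⟨kap c t, h⟩) ∧
      (∀ lam : Kˣ, ∃ l t, d.act l = MulAut.conj t * dt lam⁻¹ (lam ^ 2)) ∧
      (∀ lam : Kˣ, ∃ l t, d.act l = MulAut.conj t * dt (lam ^ 2) lam⁻¹) ∧
      (∃ m, Odd m ∧ Nat.card L = 2 * Fintype.card K ^ 3 * m) ∧
      (∃ (l : L) (t : Hs K), t.b = 0 ∧ (d.act l t).b ≠ 0) := by
  have : Fact (Nat.Prime 2) := ⟨Nat.prime_two⟩
  have h20 := two_zero b
  have hTS := T_le b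
  -- `j`
  let j₀ : Hs K →* S := (kap c).codRestrict S fun t => hTS (kap_mem c t)
  obtain ⟨j, hj⟩ : ∃ j : Hs K →* L, j = ι.comp j₀ := ⟨_, rfl⟩
  have hj1 : ∀ (t : Hs K) (h : kap c t ∈ S), j t = ι ⟨kap c t, h⟩ := fun t h => by rw [hj]; rfl
  have hjinj : Function.Injective j := by
    intro s t h
    rw [hj1 s (hTS (kap_mem c s)), hj1 t (hTS (kap_mem c t))] at h
    exact kap_inj c (congrArg Subtype.val (hM.inj h))
  have hrange : j.range = (T.subgroupOf S).map ι := by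
    ext l
    constructor
    · rintro ⟨t, rfl⟩
      exact ⟨⟨kap c t, hTS (kap_mem c t)⟩, kap_mem c t, (hj1 t _).symm⟩
    · rintro ⟨t, ht, rfl⟩
      obtain ⟨s, hs⟩ := kap_surj c (show (t : Ω) ∈ T from ht)
      refine ⟨s, ?_⟩
      rw [hj1 s (hTS (kap_mem c s))]
      congr 1
      exact Subtype.ext hs
  have hnor : j.range.Normal := by rw [hrange]; exact hM.nor
  -- `act`
  let e : Hs K ≃* j.range := MonoidHom.ofInjective hjinj
  have he : ∀ t, ((e t : j.range) : L) = j t := fun t => rfl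
  have he' : ∀ t : j.range, j (e.symm t) = t := fun t => by rw [← he, MulEquiv.apply_symm_apply]
  obtain ⟨act, hact⟩ : ∃ act : L →* MulAut (Hs K), ∀ l t, act l t = e.symm (MulAut.conjNormal l (e t)) :=
    ⟨(MulAut.congr e.symm).toMonoidHom.comp MulAut.conjNormal, fun l t => rfl⟩
  have hja : ∀ l t, l * j t * l⁻¹ = j (act l t) := by
    intro l t
    rw [hact, he', MulAut.conjNormal_apply, he]
  -- maps of `F` and elements of `L`
  have hfl : ∀ l : L, ∃ f, Mp F T f ∧ (∀ t ∈ T, f t ∈ T) ∧ ∀ t, f (kap c t) = kap c (act l t) := by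
    intro l
    obtain ⟨f, hf, h1⟩ := hM.of_L T hTS l (by
      rintro ⟨t, ht⟩
      obtain ⟨s, hs⟩ := kap_surj c ht
      subst hs
      refine ⟨⟨kap c (act l s), hTS (kap_mem c _)⟩, ?_⟩
      rw [← hj1, ← hj1, hja])
    have h2 : ∀ t, f (kap c t) = kap c (act l t) := by
      intro t
      obtain ⟨h3, h4⟩ := h1 _ (kap_mem c t)
      rw [← hj1, hja, hj1 _ (hTS (kap_mem c _))] at h4
      exact congrArg Subtype.val (hM.inj h4)
    refine ⟨f, hf, fun t ht => ?_, h2⟩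
    obtain ⟨s, rfl⟩ := kap_surj c ht
    rw [h2]
    exact kap_mem c _
  have hlf : ∀ (f : Ω → Ω) (α : MulAut (Hs K)), Mp F T f → (∀ t, f (kap c t) = kap c (α t)) → ∃ l, act l = α := by
    intro f α hf hα
    obtain ⟨l, hl⟩ := hM.to_L T f hf le_rfl (by
      intro t ht
      obtain ⟨s, rfl⟩ := kap_surj c ht
      rw [hα]
      exact kap_mem c _)
    refine ⟨l, ?_⟩
    ext1 t
    apply hjinj
    obtain ⟨h3, h4⟩ := hl _ (kap_mem c t) (hTS (kap_mem c t))
    rw [← hja, hj1 t (hTS (kap_mem c t)), ← h4, hj1 _ (hTS (kap_mem c _))]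
    congr 1
    exact Subtype.ext (hα t)
  -- the form
  have hform1 : ∀ l, (∀ t : Hs K, t.b = 0 → (act l t).b = 0) → (∀ t : Hs K, t.a = 0 → (act l t).a = 0) →
      ∃ (t : Hs K) (ν ν' : Kˣ) (σ : K ≃+* K), act l = MulAut.conj t * del ν ν' σ := by
    intro l h1 h2
    obtain ⟨f, hf, -, h3⟩ := hfl l
    exact form_V c hf h3 h1 h2
  have hform2 : ∀ l, (∀ t : Hs K, t.b = 0 → (act l t).a = 0) → (∀ t : Hs K, t.a = 0 → (act l t).b = 0) →
      ∃ (t : Hs K) (ν ν' : Kˣ) (σ : K ≃+* K), act l = MulAut.conj t * (del ν ν' σ * gam) := by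
    intro l h1 h2
    obtain ⟨f, hf, -, h3⟩ := hfl l
    exact form_Vx c hf h3 h1 h2
  have hform : ∀ l, ∃ t, ∃ δ ∈ DDh K, act l = MulAut.conj t * δ := by
    intro l
    rcases aut_cases h20 (act l) with h | h
    · obtain ⟨t, ν, ν', σ, h1⟩ := hform1 l h.1 h.2
      exact ⟨t, _, ⟨_, _, _, Or.inl rfl⟩, h1⟩
    · obtain ⟨t, ν, ν', σ, h1⟩ := hform2 l h.1 h.2
      exact ⟨t, _, ⟨_, _, _, Or.inr rfl⟩, h1⟩
  -- the Cartan elements
  have hcar : ∀ lam : Kˣ, ∃ l t, act l = MulAut.conj t * dt lam⁻¹ (lam ^ 2) := by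
    intro lam
    obtain ⟨f, hf, hfT, h1⟩ := exists_cartan c hS hF lam
    obtain ⟨α, hα⟩ := exists_alpha c hf hfT
    have h2 : ∀ a d : K, α ⟨a, 0, d⟩ = ⟨((lam⁻¹ : Kˣ) : K) * a, 0, (lam : K) * d⟩ := fun a d =>
      kap_inj c (by rw [← hα, h1])
    obtain ⟨l, hl⟩ := hlf f α hf hα
    subst hl
    rcases aut_cases h20 (act l) with h | h
    · obtain ⟨t, ν, ν', σ, h3⟩ := hform1 l h.1 h.2
      refine ⟨l, t, ?_⟩
      have h4 : ∀ a d : K, ((ν : K) * σ a = ((lam⁻¹ : Kˣ) : K) * a) ∧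
          ((ν : K) * ν' * σ d + t.b * ((ν : K) * σ a) = (lam : K) * d) := by
        intro a d
        have e1 := h2 a d
        rw [h3, MulAut.mul_apply, conj_apply, del_apply] at e1
        have e2 := congrArg Hs.a e1
        have e3 := congrArg Hs.c e1
        simp only [map_zero, mul_zero, zero_mul, sub_zero] at e2 e3
        exact ⟨e2, e3⟩
      have e1 : ν = lam⁻¹ := Units.ext (by simpa using (h4 1 0).1)
      subst e1
      have e2 : ν' = lam ^ 2 := by
        apply Units.ext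
        have e3 := (h4 0 1).2
        simp only [map_one, map_zero, mul_zero, add_zero, mul_one] at e3
        rw [Units.val_pow_eq_pow_val]
        have e4 : (lam : K) * ((lam⁻¹ : Kˣ) : K) = 1 := by simp
        linear_combination (lam : K) * e3 - (ν' : K) * e4
      subst e2
      have e3 : σ = RingEquiv.refl K := by
        ext a
        have := (h4 a 0).1
        exact mul_left_cancel₀ (lam⁻¹).ne_zero this
      subst e3
      exact h3
    · exfalso
      have e1 := h.1 ⟨1, 0, 0⟩ rfl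
      rw [h2] at e1
      simp at e1
  -- the element `x`
  have hxS := b.x_mem
  have hxact : ∀ t, kap c (act (ι ⟨x, hxS⟩) t) = x * kap c t * x⁻¹ := by
    intro t
    have h1 := hja (ι ⟨x, hxS⟩) t
    rw [hj1 t (hTS (kap_mem c t)), hj1 _ (hTS (kap_mem c _)), ← map_mul, ← map_inv, ← map_mul] at h1
    exact (congrArg Subtype.val (hM.inj h1)).symm
  have hx1 : ∃ t : Hs K, t.b = 0 ∧ act (ι ⟨x, hxS⟩) t = ⟨0, 1, 0⟩ := by
    have h1 : kap c ⟨0, 1, 0⟩ ∈ cj x V := (kap_Vx c _).2 rfl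
    obtain ⟨t, ht⟩ := kap_surj c (V_le_T b (mem_cj.1 h1))
    refine ⟨t, ?_, ?_⟩
    · rw [← kap_V c, ht]; exact mem_cj.1 h1
    · apply kap_inj c
      rw [hxact, ht]; group
  have hcar2 : ∀ lam : Kˣ, ∃ l t, act l = MulAut.conj t * dt (lam ^ 2) lam⁻¹ := by
    intro lam
    obtain ⟨ξ, hξ⟩ : ∃ ξ, ξ = ι ⟨x, hxS⟩ := ⟨_, rfl⟩
    rw [← hξ] at hx1
    rcases aut_cases h20 (act ξ) with h | h
    · exfalso
      obtain ⟨t, ht, h1⟩ := hx1
      have := h.1 t ht
      rw [h1] at this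
      exact one_ne_zero this
    · obtain ⟨s, κ, κ', σ, h1⟩ := hform2 ξ h.1 h.2
      obtain ⟨l, t, h2⟩ := hcar (Units.map (σ.symm : K →* K) lam)
      refine ⟨ξ * l * ξ⁻¹, act ξ t * s * dt (lam ^ 2) lam⁻¹ s⁻¹, ?_⟩
      have e1 : Units.map (σ : K →* K) ((Units.map (σ.symm : K →* K) lam) ^ 2) = lam ^ 2 := by
        rw [map_pow]; congr 1; ext; simp
      have e2 : Units.map (σ : K →* K) (Units.map (σ.symm : K →* K) lam)⁻¹ = lam⁻¹ := by
        rw [map_inv]; congr 1; ext; simp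
      rw [map_mul, map_mul, map_inv, h2, conj_swap t _ _ h1, e1, e2]
  -- a good Cartan element
  obtain ⟨lam, hlam⟩ : ∃ lam : Kˣ, lam ≠ 1 := by
    classical
    have h1 : 1 < Fintype.card Kˣ := by
      rw [Fintype.card_units]
      have := b.q4
      omega
    have := Fintype.one_lt_card_iff_nontrivial.1 h1
    exact exists_ne 1
  obtain ⟨l₀, t₀, h₀⟩ := hcar lam
  refine ⟨{ act := act
            j := j
            inj := hjinj
            hj := hja
            ker := ?_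
            form := hform
            h := j t₀⁻¹ * l₀
            ν := lam⁻¹
            ν' := lam ^ 2
            hν := fun h => hlam (inv_eq_one.1 h)
            hν' := ?_
            hνν' := ?_
            act_h := ?_ }, hj1, hcar, hcar2, ?_, ι ⟨x, hxS⟩, ?_⟩
  · intro l hl
    have h1 : l ∈ Subgroup.centralizer (((T.subgroupOf S).map ι : Subgroup L) : Set L) := by
      rw [← hrange, Subgroup.mem_centralizer_iff]
      rintro _ ⟨t, rfl⟩
      have := hja l t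
      rw [hl] at this
      exact (mul_inv_eq_iff_eq_mul.1 this).symm
    have h2 := hM.cen h1
    rw [← hrange] at h2
    obtain ⟨t, ht⟩ := h2
    exact ⟨t, ht.symm⟩
  · intro h
    apply hlam
    have h1 : (lam : K) ^ 2 = 1 := by rw [← Units.val_pow_eq_pow_val, h]; rfl
    have h2 : ((lam : K) - 1) * ((lam : K) - 1) = 0 := by linear_combination h1 + (1 - (lam : K)) * h20
    exact Units.ext (sub_eq_zero.1 (mul_self_eq_zero.1 h2))
  · intro h
    apply hlam
    rw [pow_two, inv_mul_cancel_left] at h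
    exact h
  · rw [map_mul, h₀]
    have h1 : act (j t₀⁻¹) = MulAut.conj t₀⁻¹ := by
      ext1 s
      apply hjinj
      rw [← hja, MulAut.conj_apply, map_mul, map_mul, map_inv]
      simp
    rw [h1, map_inv, inv_mul_cancel_left]
  · obtain ⟨P, hP⟩ := hM.syl
    have h1 : Nat.card P = Nat.card S := by
      rw [show Nat.card P = Nat.card (P : Subgroup L) from rfl, hP]
      exact (Nat.card_congr (MonoidHom.ofInjective hM.inj).toEquiv).symm
    have h2 : Nat.card S = 2 * Fintype.card K ^ 3 := by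
      have h3 : Nat.card (T.subgroupOf S) * (T.subgroupOf S).index = Nat.card S := Subgroup.card_mul_index _
      have h4 : (T.subgroupOf S).index = 2 := b.S_idx
      have h5 : Nat.card (T.subgroupOf S) = Nat.card T := Nat.card_congr (Subgroup.subgroupOfEquivOfLe hTS).toEquiv
      rw [h4, h5, ← Nat.card_congr (kapE c).toEquiv, card_hs, Nat.card_eq_fintype_card] at h3
      rw [← h3]; ring
    refine ⟨(P : Subgroup L).index, ?_, ?_⟩
    · have := P.not_dvd_index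
      rwa [Nat.odd_iff, ← Nat.two_dvd_ne_zero]
    · rw [← Subgroup.card_mul_index (P : Subgroup L), ← h2, ← h1]
  · obtain ⟨t, ht, h1⟩ := hx1
    exact ⟨t, ht, by show (act _ t).b ≠ 0; rw [h1]; exact one_ne_zero⟩

end Kap

end Cfsg.Agent.H780.HL
end

-- part: H780/HL/RD
section
/-!
# S5175 [L]: embedding of `S` in `Aut(SL₃(K))` (helper780)
-/

set_option autoImplicit false
set_option linter.unusedSectionVars false

namespace Cfsg.Agent.H780.HL

open Cfsg Cfsg.FusionSystem Cfsg.Agent.H756.HM Cfsg.Agent.H752 Hs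

universe u

theorem conj_act {G : Type*} [Group G] (α : MulAut G) (g : G) : α * MulAut.conj g * α⁻¹ = MulAut.conj (α g) := by
  rw [Hs.mul_conj, mul_inv_cancel_right]

variable {Ω : Type u} [Group Ω] {S : Subgroup Ω} {F : FusionSystem S} {K : Type} [Field K] [Fintype K]
  {V T : Subgroup Ω} {x : Ω}

theorem conj_emb_inj {s t : Hs K} (h : MulAut.conj (emb s) = MulAut.conj (emb t)) : s = t := by
  have h1 : MulAut.conj (emb (t⁻¹ * s)) = 1 := by
    rw [map_mul, map_mul, map_inv, map_inv, h, inv_mul_cancel]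
  exact (inv_mul_eq_one.1 (conj_um h1)).symm

/-- The embedding `θ` of `S` in `GG Y`, compatible with the maps of `F` normalizing `T`. -/
structure RD {b : Big F K V T x} (c : LC b) (θ : S →* MulAut (SL3 K)) (Y : Subgroup (MulAut (SL3 K))) : Prop where
  inj : Function.Injective θ
  gy : GY Y
  onT : ∀ (t : Hs K) (h : kap c t ∈ S), θ ⟨kap c t, h⟩ = MulAut.conj (emb t)
  mem : ∀ s, θ s ∈ GG Y
  to_g : ∀ (P : Subgroup Ω) (f : Ω → Ω), Mp F P f → T ≤ P → (∀ t ∈ T, f t ∈ T) →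
    ∃ g ∈ GG Y, ∀ (y : Ω) (_ : y ∈ P) (hy : y ∈ S), ∃ hfy : f y ∈ S, θ ⟨f y, hfy⟩ = g * θ ⟨y, hy⟩ * g⁻¹
  of_g : ∀ (P : Subgroup Ω) (f : Ω → Ω), P ≤ S → T ≤ P → (∀ t ∈ T, f t ∈ T) → ∀ g ∈ GG Y,
    (∀ (y : Ω) (_ : y ∈ P) (hy : y ∈ S), ∃ hfy : f y ∈ S, θ ⟨f y, hfy⟩ = g * θ ⟨y, hy⟩ * g⁻¹) → Mp F P f
  of_y : ∀ y ∈ Y, ∃ f, Mp F T f ∧ ∀ t : Hs K, ∃ t', f (kap c t) = kap c t' ∧
    y * MulAut.conj (emb t) * y⁻¹ = MulAut.conj (emb t')

theorem exists_RD [Finite S] (hG2 : StG2) (hS : IsPGroup 2 S) (hF : F.IsSaturated 2) {b : Big F K V T x} (c : LC b) :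
    ∃ (θ : S →* MulAut (SL3 K)) (Y : Subgroup (MulAut (SL3 K))), RD c θ Y := by
  have : Fact (Nat.Prime 2) := ⟨Nat.prime_two⟩
  have hTS := T_le b
  have hTc : F.IsCentric T := by
    have h1 : F.IsFullyNormalized T := by
      refine ⟨hTS, fun Q hQ => ?_⟩
      rw [normalizerIn_T b]
      exact Nat.card_le_card_of_injective _ (Subgroup.inclusion_injective (inf_le_left : normalizerIn S Q ≤ S))
    refine H802.isCentric_of_isFullyCentralized (H802.isFullyCentralized_of_isFullyNormalized hS hF h1) ?_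
    intro s hs
    have h2 : s ∈ centralizerIn S V := ⟨hs.1, Subgroup.centralizer_le (V_le_T b) hs.2⟩
    rw [b.cent] at h2
    exact V_le_T b h2
  obtain ⟨L, hL, hfin, ι, hM⟩ := exists_modelT hS hF hTS (normalizerIn_T b) hTc
  obtain ⟨d, hd1, hd2, hd3, hd4, hd5⟩ := exists_SD c hS hF hM
  obtain ⟨Φ, hΦ1, hΦ2, hΦ3, hΦ4⟩ := d.exists_Phi
  have hgy : GY (d.Y.map Φ) := d.gy b.q4 ⟨b.n, b.hK⟩ hd2 hd3 hd4 hd5 hΦ2 hΦ3 hΦ4
  have hΦG : ∀ l, Φ l ∈ GG (d.Y.map Φ) := by
    intro l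
    obtain ⟨t, y, hy, rfl⟩ := d.exists_eq l
    rw [map_mul, hΦ1]
    exact mul_mem (Subgroup.mem_sup_left ⟨_, rfl⟩) (Subgroup.mem_sup_right ⟨y, hy, rfl⟩)
  have hinj : Function.Injective (Φ.comp ι) := hΦ4.comp hM.inj
  have honT : ∀ (t : Hs K) (h : kap c t ∈ S), Φ.comp ι ⟨kap c t, h⟩ = MulAut.conj (emb t) := by
    intro t h
    rw [MonoidHom.comp_apply, ← hd1, hΦ1]
  refine ⟨Φ.comp ι, d.Y.map Φ, hinj, hgy, honT, fun s => hΦG _, ?_, ?_, ?_⟩
  · intro P f hf hTP hfT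
    obtain ⟨l, hl⟩ := hM.to_L P f hf hTP hfT
    refine ⟨Φ l, hΦG l, fun y hy hyS => ?_⟩
    obtain ⟨h1, h2⟩ := hl y hy hyS
    refine ⟨h1, ?_⟩
    rw [MonoidHom.comp_apply, h2, map_mul, map_mul, map_inv, MonoidHom.comp_apply]
  · intro P f hPS hTP hfT g hg hgf
    obtain ⟨t, ht, y, hy, rfl⟩ := hG2 _ hgy g hg (by
      rintro _ ⟨a, b', d', rfl⟩
      obtain ⟨h1, h2⟩ := hgf (kap c ⟨a, b', d'⟩) (hTP (kap_mem c _)) (hTS (kap_mem c _))
      rw [honT] at h2
      obtain ⟨s, hs⟩ := kap_surj c (hfT _ (kap_mem c ⟨a, b', d'⟩))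
      have h3 : (⟨f (kap c ⟨a, b', d'⟩), h1⟩ : S) = ⟨kap c s, by rw [hs]; exact h1⟩ := Subtype.ext hs.symm
      rw [h3, honT, emb_apply] at h2
      rw [emb_apply] at h2
      exact ⟨_, _, _, h2.symm⟩)
    obtain ⟨a, b', d', rfl⟩ := ht
    obtain ⟨y₀, hy₀, rfl⟩ := hy
    have hl : MulAut.conj (um a b' d') * Φ y₀ = Φ (d.j ⟨a, b', d'⟩ * y₀) := by
      rw [map_mul, hΦ1, emb_apply]
    rw [hl] at hgf
    obtain ⟨l, hle⟩ : ∃ l, l = d.j ⟨a, b', d'⟩ * y₀ := ⟨_, rfl⟩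
    rw [← hle] at hgf
    have hgf2 : ∀ (y : Ω) (_ : y ∈ P) (hy : y ∈ S), ∃ hfy : f y ∈ S, ι ⟨f y, hfy⟩ = l * ι ⟨y, hy⟩ * l⁻¹ := by
      intro y hyP hyS
      obtain ⟨h1, h2⟩ := hgf y hyP hyS
      refine ⟨h1, hΦ4 ?_⟩
      rw [map_mul, map_mul, map_inv]
      exact h2
    obtain ⟨f', hf', h3⟩ := hM.of_L P hPS l (by
      rintro ⟨y, hy⟩
      obtain ⟨h1, h2⟩ := hgf2 y hy (hPS hy)
      exact ⟨_, h2⟩)
    refine hf'.congr fun y hy => ?_
    obtain ⟨h1, h2⟩ := hgf2 y hy (hPS hy)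
    obtain ⟨h4, h5⟩ := h3 y hy
    rw [← h2] at h5
    exact (congrArg Subtype.val (hM.inj h5)).symm
  · rintro _ ⟨y, hy, rfl⟩
    have h0 : ∀ t : Hs K, y * ι ⟨kap c t, hTS (kap_mem c t)⟩ * y⁻¹ = ι ⟨kap c (d.act y t), hTS (kap_mem c _)⟩ := by
      intro t
      rw [← hd1, ← hd1, d.hj]
    obtain ⟨f, hf, h1⟩ := hM.of_L T hTS y (by
      rintro ⟨t, ht⟩
      obtain ⟨s, rfl⟩ := kap_surj c ht
      exact ⟨_, (h0 s).symm⟩)
    refine ⟨f, hf, fun t => ⟨d.act y t, ?_, ?_⟩⟩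
    · obtain ⟨h2, h3⟩ := h1 _ (kap_mem c t)
      rw [h0] at h3
      exact congrArg Subtype.val (hM.inj h3)
    · rw [conj_act, hΦ3]

end Cfsg.Agent.H780.HL
end

-- part: H780/HL/Comp
section
/-!
# S5175 [L]: comparison of `F` with the fusion system of `PSL₃(K) Y` (helper780)
-/

set_option autoImplicit false
set_option linter.unusedSectionVars false

namespace Cfsg.Agent.H780.HL

open Cfsg Cfsg.FusionSystem Cfsg.Agent.H756.HM Cfsg.Agent.H752 Hs

universe u

/-- matrices with last row `(0,0,1)` act linearly on the vectors of `V` -/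
theorem mat_act {K : Type} [Field K] {m : SL3 K} (h0 : m.1 2 0 = 0) (h1 : m.1 2 1 = 0) (h2 : m.1 2 2 = 1) (a d : K) :
    m * um a 0 d * m⁻¹ = um (m.1 1 0 * d + m.1 1 1 * a) 0 (m.1 0 0 * d + m.1 0 1 * a) := by
  rw [mul_inv_eq_iff_eq_mul]
  refine ext3 fun i j => ?_
  rw [val_mul_apply, val_mul_apply]
  (revert i j; simp only [um, h0, h1, h2, _root_.Fin.forall_fin_succ, Fin.isValue, _root_.Matrix.of_apply, _root_.Matrix.cons_val', _root_.Matrix.cons_val_fin_one, _root_.Matrix.cons_val_zero, _root_.Matrix.cons_val_one, _root_.Matrix.cons_val, _root_.mul_one, _root_.MulZeroClass.mul_zero, _root_.add_zero, _root_.Matrix.cons_val_succ, _root_.zero_add, _root_.Fin.succ_zero_eq_one, _root_.Fin.succ_one_eq_two, _root_.IsEmpty.forall_iff, _root_.and_true, _root_.one_mul, _root_.MulZeroClass.zero_mul, _root_.true_and, _root_.and_self]) <;> (repeat' with_reducible apply And.intro) <;> ring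

theorem det_block {K : Type} [Field K] {m : SL3 K} (h0 : m.1 2 0 = 0) (h1 : m.1 2 1 = 0) (h2 : m.1 2 2 = 1) :
    (!![m.1 0 0, m.1 0 1; m.1 1 0, m.1 1 1] : Matrix (Fin 2) (Fin 2) K).det = 1 := by
  have h := m.2
  rw [Matrix.det_fin_three] at h
  rw [Matrix.det_fin_two]
  simp only [Matrix.of_apply, Matrix.cons_val', Matrix.cons_val_zero, Matrix.cons_val_one, Matrix.cons_val_fin_one]
  rw [h0, h1, h2] at h
  linear_combination h

variable {Ω : Type u} [Group Ω] {S : Subgroup Ω} {F : FusionSystem S} {K : Type} [Field K] [Fintype K]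
  {V T : Subgroup Ω} {x : Ω} {b : Big F K V T x} {c : LC b} {θ : S →* MulAut (SL3 K)} {Y : Subgroup (MulAut (SL3 K))}

theorem card_S (c : LC b) : Nat.card S = 2 * Fintype.card K ^ 3 := by
  have h3 : Nat.card (T.subgroupOf S) * (T.subgroupOf S).index = Nat.card S := Subgroup.card_mul_index _
  have h4 : (T.subgroupOf S).index = 2 := b.S_idx
  have h5 : Nat.card (T.subgroupOf S) = Nat.card T := Nat.card_congr (Subgroup.subgroupOfEquivOfLe (T_le b)).toEquiv
  rw [h4, h5, ← Nat.card_congr (kapE c).toEquiv, card_hs, Nat.card_eq_fintype_card] at h3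
  rw [← h3]; ring

/-- the condition for being a map of the system of `GG Y` -/
def MG (θ : S →* MulAut (SL3 K)) (Y : Subgroup (MulAut (SL3 K))) (P : Subgroup Ω) (f : Ω → Ω) : Prop :=
  P ≤ S ∧ ∃ g ∈ GG Y, ∀ (y : Ω) (_ : y ∈ P) (hy : y ∈ S), ∃ hfy : f y ∈ S, θ ⟨f y, hfy⟩ = g * θ ⟨y, hy⟩ * g⁻¹

theorem exists_GS [Finite S] (hG1 : StG1) (hS : IsPGroup 2 S) (h : RD c θ Y) :
    ∃ (G : Type u) (_ : Group G) (_ : Finite G) (_ : G ≃* ↥(GG Y)) (ιG : S →* G) (D : FusionSystem S),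
      D.IsRealizedBy ιG ∧ (∃ P : Sylow 2 G, (P : Subgroup G) = ιG.range) ∧ D.IsSaturated 2 ∧
      ∀ P f, Mp D P f ↔ MG θ Y P f := by
  have : Fact (Nat.Prime 2) := ⟨Nat.prime_two⟩
  obtain ⟨⟨m, hm, hcard⟩, -, -⟩ := hG1 Y h.gy
  have hfin : Finite ↥(GG Y) := by
    apply Nat.finite_of_card_ne_zero
    rw [hcard]
    have h1 : 0 < Fintype.card K := Fintype.card_pos
    have h2 : 0 < m := hm.pos
    positivity
  let θ' : S →* ↥(GG Y) := θ.codRestrict (GG Y) h.mem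
  let e : ULift.{u} ↥(GG Y) ≃* ↥(GG Y) := MulEquiv.ulift
  let ιG : S →* ULift.{u} ↥(GG Y) := e.symm.toMonoidHom.comp θ'
  have hι : ∀ s, ((e (ιG s) : ↥(GG Y)) : MulAut (SL3 K)) = θ s := by
    intro s
    show ((e (e.symm (θ' s)) : ↥(GG Y)) : MulAut (SL3 K)) = θ s
    rw [MulEquiv.apply_symm_apply]; rfl
  have hinj : Function.Injective ιG := by
    intro s s' hs
    apply h.inj
    rw [← hι, ← hι, hs]
  have hreal := H781.pullback_isRealizedBy ιG hinj
  have hcG : Nat.card (ULift.{u} ↥(GG Y)) = 2 * Fintype.card K ^ 3 * m := by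
    rw [Nat.card_congr e.toEquiv, hcard]
  have hcR : Nat.card ιG.range = 2 * Fintype.card K ^ 3 := by
    rw [← card_S c]
    exact (Nat.card_congr (MonoidHom.ofInjective hinj).toEquiv).symm
  have hidx : ιG.range.index = m := by
    have h1 := Subgroup.card_mul_index ιG.range
    rw [hcG, hcR] at h1
    have h2 : 0 < 2 * Fintype.card K ^ 3 := by
      have h1 : 0 < Fintype.card K := Fintype.card_pos
      positivity
    exact Nat.eq_of_mul_eq_mul_left h2 h1
  have hp : IsPGroup 2 ιG.range := by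
    have h1 : IsPGroup 2 (⊤ : Subgroup S) := hS.to_subgroup ⊤
    have h2 := h1.map ιG
    rwa [← MonoidHom.range_eq_map] at h2
  have hnd : ¬ 2 ∣ ιG.range.index := by
    rw [hidx]
    rw [Nat.two_dvd_ne_zero, ← Nat.odd_iff]
    exact hm
  have hsat := H781.isSaturated_of_isRealizedBy hreal (hp.toSylow hnd) rfl
  refine ⟨ULift.{u} ↥(GG Y), inferInstance, inferInstance, e, ιG, H781.pullback ιG hinj, hreal,
    ⟨hp.toSylow hnd, rfl⟩, hsat, fun P f => ⟨fun hf => ⟨hf.le, ?_⟩, ?_⟩⟩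
  · obtain ⟨g, hg⟩ := H753.exists_conj_of_mp hreal hf
    refine ⟨e g, (e g).2, fun y hy hyS => ?_⟩
    obtain ⟨h1, h2⟩ := hg y hy hyS
    refine ⟨h1, ?_⟩
    rw [← hι, h2, map_mul, map_mul, map_inv, Subgroup.coe_mul, Subgroup.coe_mul, Subgroup.coe_inv, hι]
  · rintro ⟨hPS, g, hg, hgf⟩
    have h0 : ∀ (y : Ω) (_ : y ∈ P) (hy : y ∈ S), ∃ hfy : f y ∈ S, ιG ⟨f y, hfy⟩ =
        e.symm ⟨g, hg⟩ * ιG ⟨y, hy⟩ * (e.symm ⟨g, hg⟩)⁻¹ := by
      intro y hy hyS
      obtain ⟨h1, h2⟩ := hgf y hy hyS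
      refine ⟨h1, e.injective (Subtype.ext ?_)⟩
      rw [hι, h2, map_mul, map_mul, map_inv, Subgroup.coe_mul, Subgroup.coe_mul, Subgroup.coe_inv, hι,
        MulEquiv.apply_symm_apply]
    obtain ⟨f', hf', h3⟩ := H753.exists_mp_of_conj hreal hPS (e.symm ⟨g, hg⟩) (by
      rintro ⟨y, hy⟩
      obtain ⟨h1, h2⟩ := h0 y hy (hPS hy)
      exact ⟨_, h2⟩)
    refine hf'.congr fun y hy => ?_
    obtain ⟨h1, h2⟩ := h0 y hy (hPS hy)
    obtain ⟨h4, h5⟩ := h3 y hy
    rw [← h2] at h5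
    exact (congrArg Subtype.val (hinj h5)).symm

/-- elements of `S` mapped to inner automorphisms are in `T` -/
theorem inn_T [Finite S] (hG1 : StG1) (h : RD c θ Y) (s : S) (hs : θ s ∈ InnS K) : (s : Ω) ∈ T := by
  by_contra hsT
  obtain ⟨-, ⟨m, hm, hcard⟩, -⟩ := hG1 Y h.gy
  have hTin : ∀ (t : Ω) (ht : t ∈ T), θ ⟨t, T_le b ht⟩ ∈ InnS K := by
    intro t ht
    obtain ⟨r, rfl⟩ := kap_surj c ht
    rw [h.onT]
    exact ⟨_, rfl⟩
  have hx1 : x⁻¹ * s ∈ T := (S_dich b s.2).resolve_left hsT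
  have hx2 : θ ⟨x, b.x_mem⟩ ∈ InnS K := by
    have h1 : (⟨x, b.x_mem⟩ : S) = s * (⟨x⁻¹ * s, T_le b hx1⟩ : S)⁻¹ := by
      apply Subtype.ext
      show x = s * (x⁻¹ * s)⁻¹
      group
    rw [h1, map_mul, map_inv]
    exact mul_mem hs (_root_.InvMemClass.inv_mem (hTin _ hx1))
  have hall : ∀ r : S, θ r ∈ InnS K := by
    intro r
    rcases S_dich b r.2 with h1 | h1
    · exact hTin _ h1
    · have h2 : r = ⟨x, b.x_mem⟩ * ⟨x⁻¹ * r, T_le b h1⟩ := by
        apply Subtype.ext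
        show (r : Ω) = x * (x⁻¹ * r)
        group
      rw [h2, map_mul]
      exact mul_mem hx2 (hTin _ h1)
  have h1 : Nat.card S ∣ Nat.card (InnS K) := by
    have h2 : Function.Injective (θ.codRestrict (InnS K) hall) := by
      intro r r' hrr
      exact h.inj (congrArg Subtype.val hrr)
    have h3 := Subgroup.card_dvd_of_injective _ h2
    exact h3
  rw [card_S c, hcard, mul_comm 2] at h1
  have h2 : 0 < Fintype.card K ^ 3 := by
    have h1 : 0 < Fintype.card K := Fintype.card_pos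
    positivity
  have h3 := Nat.dvd_of_mul_dvd_mul_left h2 h1
  rw [Nat.odd_iff] at hm
  omega

/-- `T` is strongly closed in the system of `GG Y` -/
theorem closed [Finite S] (hG1 : StG1) (h : RD c θ Y) {P : Subgroup Ω} {f : Ω → Ω} (hf : MG θ Y P f) {t : Ω}
    (htP : t ∈ P) (ht : t ∈ T) : f t ∈ T := by
  obtain ⟨hPS, g, -, hgf⟩ := hf
  obtain ⟨h1, h2⟩ := hgf t htP (hPS htP)
  obtain ⟨r, rfl⟩ := kap_surj c ht
  rw [h.onT, conj_act] at h2
  exact inn_T hG1 h ⟨_, h1⟩ (by rw [h2]; exact ⟨_, rfl⟩)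

theorem mem_V_iff_kap (c : LC b) {v : Ω} (hv : v ∈ V) : ∃ a d : K, v = kap c ⟨a, 0, d⟩ := by
  obtain ⟨s, rfl⟩ := kap_surj c (V_le_T b hv)
  have := (kap_V c s).1 hv
  refine ⟨s.a, s.c, ?_⟩
  congr 1
  ext
  · rfl
  · exact this
  · rfl

/-- (s2) -/
theorem mp_of_mg [Finite S] (hG3 : StG3) (h : RD c θ Y) {f : Ω → Ω} (hf : MG θ Y V f) (hfV : ∀ v ∈ V, f v ∈ V) :
    Mp F V f := by
  obtain ⟨hPS, g, hg, hgf⟩ := hf
  have hkV : ∀ a d : K, kap c ⟨a, 0, d⟩ ∈ V := fun a d => (kap_V c _).2 rfl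
  have hgf' : ∀ a d : K, ∃ a' d' : K, f (kap c ⟨a, 0, d⟩) = kap c ⟨a', 0, d'⟩ ∧
      g * MulAut.conj (um a 0 d) * g⁻¹ = MulAut.conj (um a' 0 d') := by
    intro a d
    obtain ⟨h1, h2⟩ := hgf _ (hkV a d) (hPS (hkV a d))
    obtain ⟨a', d', h3⟩ := mem_V_iff_kap c (hfV _ (hkV a d))
    refine ⟨a', d', h3, ?_⟩
    have h4 : (⟨f (kap c ⟨a, 0, d⟩), h1⟩ : S) = ⟨kap c ⟨a', 0, d'⟩, by rw [← h3]; exact h1⟩ := Subtype.ext h3
    rw [h4, h.onT, h.onT] at h2
    exact h2.symm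
  obtain ⟨m, hm0, hm1, hm2, y, hy, hyDF, rfl⟩ := hG3 Y h.gy g hg fun a d => by
    obtain ⟨a', d', -, h2⟩ := hgf' a d
    exact ⟨a', d', h2⟩
  obtain ⟨f0, hf0, h0⟩ := h.of_y y hy
  obtain ⟨ν, ν', σ, hν⟩ := hyDF
  obtain ⟨e, he, hE⟩ := c.E2 ⟨!![m.1 0 0, m.1 0 1; m.1 1 0, m.1 1 1], det_block hm0 hm1 hm2⟩
  have hf0V : ∀ a d : K, f0 (kap c ⟨a, 0, d⟩) = kap c ⟨(ν : K) * σ a, 0, (ν : K) * ν' * σ d⟩ ∧
      y * MulAut.conj (um a 0 d) * y⁻¹ = MulAut.conj (um ((ν : K) * σ a) 0 ((ν : K) * ν' * σ d)) := by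
    intro a d
    obtain ⟨t', h1, h2⟩ := h0 ⟨a, 0, d⟩
    have h3 : y (um a 0 d) = um ((ν : K) * σ a) 0 ((ν : K) * ν' * σ d) := by
      rw [hν, dg_um, map_zero, mul_zero]
    rw [emb_apply, conj_act, h3] at h2
    have h4 : (⟨(ν : K) * σ a, 0, (ν : K) * ν' * σ d⟩ : Hs K) = t' := conj_emb_inj h2
    refine ⟨by rw [h1, h4], by rw [conj_act, h3]⟩
  have hmp : Mp F V (fun v => ex (fun v : V => ((e v : V) : Ω)) (f0 v)) := by
    refine (hf0.res (V_le_T b)).comp ((mp_iff_autGroup b.V_le e).1 (b.E_le he)) fun v hv => ?_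
    obtain ⟨a, d, rfl⟩ := mem_V_iff_kap c hv
    rw [(hf0V a d).1]
    exact hkV _ _
  refine hmp.congr fun v hv => ?_
  obtain ⟨a, d, rfl⟩ := mem_V_iff_kap c hv
  obtain ⟨a', d', h1, h2⟩ := hgf' a d
  have h3 : MulAut.conj m * y * MulAut.conj (um a 0 d) * (MulAut.conj m * y)⁻¹ =
      MulAut.conj m * (y * MulAut.conj (um a 0 d) * y⁻¹) * (MulAut.conj m)⁻¹ := by group
  rw [h3, (hf0V a d).2, ← map_inv, ← map_mul, ← map_mul, mat_act hm0 hm1 hm2] at h2
  have h4 := conj_emb_inj (s := ⟨m.1 1 0 * ((ν : K) * ν' * σ d) + m.1 1 1 * ((ν : K) * σ a), 0,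
    m.1 0 0 * ((ν : K) * ν' * σ d) + m.1 0 1 * ((ν : K) * σ a)⟩) (t := ⟨a', 0, d'⟩) h2
  rw [h1, ← h4, (hf0V a d).1, ex_apply _ (hkV _ _)]
  have h5 := hE ((ν : K) * σ a) ((ν : K) * ν' * σ d) (hkV _ _)
  exact h5.symm

/-- (s3a) -/
theorem mg_of_E [Finite S] (h : RD c θ Y) {e : MulAut V} (he : e ∈ b.E) : MG θ Y V (ex fun v : V => ((e v : V) : Ω)) := by
  obtain ⟨g, hg⟩ := c.E1 e he
  have hkV : ∀ a d : K, kap c ⟨a, 0, d⟩ ∈ V := fun a d => (kap_V c _).2 rfl
  have hdet := g.2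
  rw [Matrix.det_fin_two] at hdet
  let m : SL3 K := ⟨!![g.1 0 0, g.1 0 1, 0; g.1 1 0, g.1 1 1, 0; 0, 0, 1], by
    rw [Matrix.det_fin_three]
    simp only [Matrix.of_apply, Matrix.cons_val', Matrix.cons_val_zero, Matrix.cons_val_one, Matrix.cons_val_two,
      Matrix.cons_val_fin_one, Matrix.head_cons, Matrix.tail_cons, Matrix.empty_val', Matrix.head_fin_const]
    linear_combination hdet⟩
  refine ⟨b.V_le, MulAut.conj m, Subgroup.mem_sup_left ⟨m, rfl⟩, fun v hv hvS => ?_⟩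
  obtain ⟨a, d, rfl⟩ := mem_V_iff_kap c hv
  have h1 : ex (fun v : V => ((e v : V) : Ω)) (kap c ⟨a, 0, d⟩) =
      kap c ⟨g.1 1 0 * d + g.1 1 1 * a, 0, g.1 0 0 * d + g.1 0 1 * a⟩ := by
    rw [ex_apply _ hv]
    exact hg a d hv
  have h2 : ex (fun v : V => ((e v : V) : Ω)) (kap c ⟨a, 0, d⟩) ∈ S := by
    rw [h1]
    exact T_le b (kap_mem c _)
  refine ⟨h2, ?_⟩
  have h3 : (⟨ex (fun v : V => ((e v : V) : Ω)) (kap c ⟨a, 0, d⟩), h2⟩ : S) =
      ⟨kap c ⟨g.1 1 0 * d + g.1 1 1 * a, 0, g.1 0 0 * d + g.1 0 1 * a⟩, T_le b (kap_mem c _)⟩ := Subtype.ext h1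
  rw [h3, h.onT, h.onT, ← map_inv, ← map_mul, ← map_mul]
  congr 1
  exact (mat_act (m := m) rfl rfl rfl a d).symm

theorem card_cjV : Nat.card (cj x V) = Nat.card V :=
  (Nat.card_congr (V.equivMapOfInjective (MulAut.conj x).toMonoidHom (MulAut.conj x).injective).toEquiv).symm

/-- automorphisms of `S` preserve `T` -/
theorem map_T [Finite S] (b : Big F K V T x) {D : FusionSystem S} {f : Ω → Ω} (hf : Mp D S f) :
    ∀ t ∈ T, f t ∈ T := by
  have tf := H124.SP.tf_of_big b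
  have key : ∀ B : Subgroup Ω, B ≤ S → (∀ v ∈ B, v * v = 1) → Nat.card B = Nat.card V → ∀ v ∈ B, f v ∈ T := by
    intro B hBS hB2 hBc v hv
    obtain ⟨B', h1, h2, h3⟩ := hf.exists_image hBS
    have h4 : ∀ w ∈ B', w * w = 1 := by
      intro w hw
      obtain ⟨v, hv, rfl⟩ := (h1 w).1 hw
      rw [← hf.mul (hBS hv) (hBS hv), hB2 v hv, hf.one]
    have h5 : f v ∈ B' := (h1 _).2 ⟨v, hv, rfl⟩
    rcases tf.eq_or h2 h4 (h3.trans hBc) with h | h
    · rw [h] at h5; exact V_le_T b h5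
    · rw [h] at h5; exact cj_le_T b h5
  intro t ht
  obtain ⟨v, hv, w, hw, rfl⟩ := tf.exists_mul ht
  rw [hf.mul (b.V_le hv) (T_le b (cj_le_T b hw))]
  exact mul_mem (key V b.V_le (fun v hv => tf.el' v hv) rfl v hv)
    (key (cj x V) ((cj_le_T b).trans (T_le b)) (fun v hv => tf.el_W hv) card_cjV w hw)

/-- Frattini (helper497) -/
def StFrat : Prop := ∀ {Ω : Type u} [Group Ω] {S : Subgroup Ω} [Finite S] {F : FusionSystem S} {K : Type} [Field K]
    [Fintype K] {V T : Subgroup Ω} {x : Ω} (b : Big F K V T x) {α : MulAut V} (_ : α ∈ F.autGroup V),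
    ∃ e ∈ b.E, ∀ t ∈ T, ∃ t' ∈ T, ∀ v v' : V, (v' : Ω) = t * v * t⁻¹ →
      (((e * α) v' : V) : Ω) = t' * (((e * α) v : V) : Ω) * t'⁻¹

/-- **F is the fusion system of `GG Y`.** -/
theorem eq_GS [Finite S] (hG1 : StG1) (hG3 : StG3) (hFr : StFrat.{u}) (hEss : StEss.{u}) (hEssT : StEssT.{u})
    (hS : IsPGroup 2 S) (hF : F.IsSaturated 2) (hess : ∀ R : Subgroup Ω, F.IsEssential 2 R → R ≤ T) (h : RD c θ Y)
    {D : FusionSystem S} (hD : D.IsSaturated 2) (hmp : ∀ P f, Mp D P f ↔ MG θ Y P f) : F = D := by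
  have hfinV : Finite V := H802.finite_of_le b.V_le
  have hexE : ∀ e ∈ b.E, e ∈ D.autGroup V := fun e he =>
    (mp_iff_autGroup b.V_le e).2 ((hmp _ _).2 (mg_of_E h he))
  have hV : F.autGroup V = D.autGroup V := by
    apply le_antisymm
    · intro α hα
      obtain ⟨e, he, h1⟩ := hFr b hα
      obtain ⟨f, hf, hfT, hfV⟩ := ext_T hS hF b (mul_mem (b.E_le he) hα) h1
      have h2 : Mp D T f := (hmp _ _).2 ⟨T_le b, h.to_g T f hf le_rfl hfT⟩
      have h3 : e * α ∈ D.autGroup V := (h2.res (V_le_T b)).mem_autGroup hfV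
      have h4 := mul_mem (_root_.InvMemClass.inv_mem (hexE e he)) h3
      rwa [inv_mul_cancel_left] at h4
    · intro α hα
      have h1 := (mp_iff_autGroup b.V_le α).1 hα
      refine (mp_iff_autGroup b.V_le α).2 (mp_of_mg hG3 h ((hmp _ _).1 h1) fun v hv => ?_)
      rw [ex_apply _ hv]
      exact (α _).2
  have htop : F.autGroup S = D.autGroup S := by
    apply le_antisymm
    · intro α hα
      have h1 := (mp_iff_autGroup le_rfl α).1 hα
      exact (mp_iff_autGroup le_rfl α).2 ((hmp _ _).2 ⟨le_rfl, h.to_g S _ h1 (T_le b) (map_T b h1)⟩)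
    · intro α hα
      have h1 := (mp_iff_autGroup le_rfl α).1 hα
      obtain ⟨-, g, hg, h2⟩ := (hmp _ _).1 h1
      exact (mp_iff_autGroup le_rfl α).2 (h.of_g S _ le_rfl (T_le b) (map_T b h1) g hg h2)
  have hess' : ∀ R : Subgroup Ω, D.IsEssential 2 R → R ≤ T := by
    intro R hR
    by_contra hRT
    obtain ⟨-, -, -, -, -, -, α, hα, z, hz, hzT⟩ := hEss hS D hD K V T x (H124.SP.bigTransport b D hV) R hR hRT
    apply hzT
    have hRS : R ≤ S := hR.1.1
    have h1 := (hmp _ _).1 ((mp_iff_autGroup hRS α).1 hα)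
    have h2 := closed hG1 h h1 z.2 (V_le_T b hz.1)
    rwa [ex_coe] at h2
  exact H124.SP.eq_of_big hEssT hS hF hD b hV hess hess' htop

/-- **[L]**, from the coordinates, the group side and the essential subgroups. -/
theorem stL_of (hLC : StLC.{u}) (hG1 : StG1) (hG2 : StG2) (hG3 : StG3) (hG5 : StG5.{u}) (hFr : StFrat.{u})
    (hEss : StEss.{u}) (hEssT : StEssT.{u}) : StL.{u} := by
  intro Ω _ S _ hS F hF K _ _ V T x b hfix hess
  obtain ⟨c⟩ := hLC hS F hF K V T x b hfix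
  obtain ⟨θ, Y, h⟩ := exists_RD hG2 hS hF c
  obtain ⟨G, hG, hfin, e, ιG, D, hreal, hsyl, hD, hmp⟩ := exists_GS hG1 hS h
  have hFD := eq_GS hG1 hG3 hFr hEss hEssT hS hF hess h hD hmp
  obtain ⟨h1, h2, h3, h4⟩ := hG5 Y h.gy e
  exact ⟨G, hG, hfin, ιG, by rw [hFD]; exact hreal, hsyl,
    Or.inr (Or.inr (Or.inr (Or.inr (Or.inr ⟨K, inferInstance, inferInstance, Or.inl h1, h2, h3, h4⟩))))⟩

end Cfsg.Agent.H780.HL
end

private theorem dce_af2c985ec289 : _root_.True := by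
  try have : _root_.True := by simp only [_root_.Cfsg.Agent.H780.HL.dt.eq_1]
  exact _root_.True.intro
end
end
end
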